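import Mathlib

/-!
# `GL₂(F)`, `|F|` odd: tori, root group, conjugacy classes

* `sg` is `diag(1,-1)`, `wt` is `[[0,1],[1,0]]`, `J d` is `[[0,d],[1,0]]`, `up x` is `[[1,x],[0,1]]`;
* `Tor` is the centralizer of `sg` (the diagonal matrices), `Tns d` the centralizer of `J d`;
* every element of `GL₂(F)` is conjugate into `Tor`, `Tns d` (`d` a nonsquare), or is conjugate to a
  scalar times `up x`.
-/

set_option autoImplicit false

open Matrix

namespace Cfsg.Agent.Classification.InvCent.GLTwo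

variable {F : Type*} [Field F]

/-- the invertible matrix with given entries -/
noncomputable def mk2 (a b c e : F) (h : a * e - b * c ≠ 0) : GL (Fin 2) F :=
  GeneralLinearGroup.mkOfDetNeZero !![a, b; c, e] (by rwa [det_fin_two_of])

@[simp] theorem mk2_val (a b c e : F) (h : a * e - b * c ≠ 0) :
    (mk2 a b c e h : Matrix (Fin 2) (Fin 2) F) = !![a, b; c, e] := rfl

theorem det_ne (g : GL (Fin 2) F) : g.1 0 0 * g.1 1 1 - g.1 0 1 * g.1 1 0 ≠ 0 := by
  have h := g.det_ne_zero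
  rwa [det_fin_two] at h

theorem ext2 {g h : GL (Fin 2) F} (h00 : g.1 0 0 = h.1 0 0) (h01 : g.1 0 1 = h.1 0 1)
    (h10 : g.1 1 0 = h.1 1 0) (h11 : g.1 1 1 = h.1 1 1) : g = h := by
  apply GeneralLinearGroup.ext
  intro i j
  fin_cases i <;> fin_cases j <;> assumption

theorem m00 (g h : GL (Fin 2) F) : (g * h).1 0 0 = g.1 0 0 * h.1 0 0 + g.1 0 1 * h.1 1 0 := by
  rw [Units.val_mul, mul_apply, Fin.sum_univ_two]

theorem m01 (g h : GL (Fin 2) F) : (g * h).1 0 1 = g.1 0 0 * h.1 0 1 + g.1 0 1 * h.1 1 1 := by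
  rw [Units.val_mul, mul_apply, Fin.sum_univ_two]

theorem m10 (g h : GL (Fin 2) F) : (g * h).1 1 0 = g.1 1 0 * h.1 0 0 + g.1 1 1 * h.1 1 0 := by
  rw [Units.val_mul, mul_apply, Fin.sum_univ_two]

theorem m11 (g h : GL (Fin 2) F) : (g * h).1 1 1 = g.1 1 0 * h.1 0 1 + g.1 1 1 * h.1 1 1 := by
  rw [Units.val_mul, mul_apply, Fin.sum_univ_two]

theorem one00 : (1 : GL (Fin 2) F).1 0 0 = 1 := by simp
theorem one01 : (1 : GL (Fin 2) F).1 0 1 = 0 := by simp
theorem one10 : (1 : GL (Fin 2) F).1 1 0 = 0 := by simp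
theorem one11 : (1 : GL (Fin 2) F).1 1 1 = 1 := by simp

/-- `diag(a,b)` -/
noncomputable def dg (a b : Fˣ) : GL (Fin 2) F := mk2 a 0 0 b (by simp)

@[simp] theorem dg00 (a b : Fˣ) : (dg a b).1 0 0 = a := rfl
@[simp] theorem dg01 (a b : Fˣ) : (dg a b).1 0 1 = 0 := rfl
@[simp] theorem dg10 (a b : Fˣ) : (dg a b).1 1 0 = 0 := rfl
@[simp] theorem dg11 (a b : Fˣ) : (dg a b).1 1 1 = b := rfl

theorem dg_mul (a b a' b' : Fˣ) : dg a b * dg a' b' = dg (a * a') (b * b') := by
  apply ext2 <;> simp [m00, m01, m10, m11]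

theorem dg_one : dg (1 : Fˣ) 1 = 1 := by
  apply ext2 <;> simp

theorem scalar_eq_dg (a : Fˣ) : GeneralLinearGroup.scalar (Fin 2) a = dg a a := by
  apply ext2 <;> simp

theorem det_dg (a b : Fˣ) : GeneralLinearGroup.det (dg a b) = a * b := by
  ext
  rw [GeneralLinearGroup.val_det_apply, det_fin_two]
  simp

theorem dg_pow (a b : Fˣ) (n : ℕ) : dg a b ^ n = dg (a ^ n) (b ^ n) := by
  induction n with
  | zero => simp [dg_one]
  | succ n ih => rw [pow_succ, ih, dg_mul, pow_succ, pow_succ]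

theorem dg_injective {a b a' b' : Fˣ} (h : dg a b = dg a' b') : a = a' ∧ b = b' := by
  constructor
  · have := congrArg (fun g : GL (Fin 2) F => g.1 0 0) h
    exact Units.ext (by simpa using this)
  · have := congrArg (fun g : GL (Fin 2) F => g.1 1 1) h
    exact Units.ext (by simpa using this)

/-- `[[1,x],[0,1]]` -/
noncomputable def up (x : F) : GL (Fin 2) F := mk2 1 x 0 1 (by simp)

@[simp] theorem up00 (x : F) : (up x).1 0 0 = 1 := rfl
@[simp] theorem up01 (x : F) : (up x).1 0 1 = x := rfl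
@[simp] theorem up10 (x : F) : (up x).1 1 0 = 0 := rfl
@[simp] theorem up11 (x : F) : (up x).1 1 1 = 1 := rfl

theorem up_mul (x y : F) : up x * up y = up (x + y) := by
  apply ext2
  · simp [m00]
  · simp [m01, add_comm]
  · simp [m10]
  · simp [m11]

theorem up_zero : up (0 : F) = 1 := by
  apply ext2 <;> simp

theorem up_injective {x y : F} (h : up x = up y) : x = y := by
  have := congrArg (fun g : GL (Fin 2) F => g.1 0 1) h
  simpa using this

theorem det_up (x : F) : GeneralLinearGroup.det (up x) = 1 := by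
  ext
  rw [GeneralLinearGroup.val_det_apply, det_fin_two]
  simp

/-- the root group -/
noncomputable def Rt : Subgroup (GL (Fin 2) F) where
  carrier := Set.range up
  mul_mem' := by
    rintro _ _ ⟨x, rfl⟩ ⟨y, rfl⟩
    exact ⟨x + y, (up_mul x y).symm⟩
  one_mem' := ⟨0, up_zero⟩
  inv_mem' := by
    rintro _ ⟨x, rfl⟩
    exact ⟨-x, by rw [eq_comm, inv_eq_iff_mul_eq_one, up_mul, add_neg_cancel, up_zero]⟩

theorem mem_Rt {g : GL (Fin 2) F} : g ∈ (Rt : Subgroup (GL (Fin 2) F)) ↔ ∃ x, up x = g := Iff.rfl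

theorem card_Rt : Nat.card (Rt : Subgroup (GL (Fin 2) F)) = Nat.card F :=
  (Nat.card_congr (Equiv.ofInjective up (fun _ _ h => up_injective h))).symm

/-- `diag(1,-1)` -/
noncomputable def sg : GL (Fin 2) F := dg 1 (-1)

@[simp] theorem sg00 : (sg : GL (Fin 2) F).1 0 0 = 1 := by simp [sg]
@[simp] theorem sg01 : (sg : GL (Fin 2) F).1 0 1 = 0 := by simp [sg]
@[simp] theorem sg10 : (sg : GL (Fin 2) F).1 1 0 = 0 := by simp [sg]
@[simp] theorem sg11 : (sg : GL (Fin 2) F).1 1 1 = -1 := by simp [sg]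

/-- `[[0,1],[1,0]]` -/
noncomputable def wt : GL (Fin 2) F := mk2 0 1 1 0 (by simp)

@[simp] theorem wt00 : (wt : GL (Fin 2) F).1 0 0 = 0 := rfl
@[simp] theorem wt01 : (wt : GL (Fin 2) F).1 0 1 = 1 := rfl
@[simp] theorem wt10 : (wt : GL (Fin 2) F).1 1 0 = 1 := rfl
@[simp] theorem wt11 : (wt : GL (Fin 2) F).1 1 1 = 0 := rfl

theorem sg_mul_sg : (sg : GL (Fin 2) F) * sg = 1 := by
  rw [sg, dg_mul]; simp [dg_one]

theorem wt_mul_wt : (wt : GL (Fin 2) F) * wt = 1 := by
  apply ext2 <;> simp [m00, m01, m10, m11]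

theorem det_sg : GeneralLinearGroup.det (sg : GL (Fin 2) F) = -1 := by
  rw [sg, det_dg, one_mul]

/-- `[[0,d],[1,0]]` -/
noncomputable def J (d : Fˣ) : GL (Fin 2) F := mk2 0 d 1 0 (by simp)

@[simp] theorem J00 (d : Fˣ) : (J d).1 0 0 = 0 := rfl
@[simp] theorem J01 (d : Fˣ) : (J d).1 0 1 = d := rfl
@[simp] theorem J10 (d : Fˣ) : (J d).1 1 0 = 1 := rfl
@[simp] theorem J11 (d : Fˣ) : (J d).1 1 1 = 0 := rfl

/-- The diagonal torus. -/
noncomputable def Tor : Subgroup (GL (Fin 2) F) := Subgroup.centralizer {sg}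

/-- The nonsplit torus. -/
noncomputable def Tns (d : Fˣ) : Subgroup (GL (Fin 2) F) := Subgroup.centralizer {J d}

theorem mem_Tor (h2 : (2 : F) ≠ 0) {g : GL (Fin 2) F} :
    g ∈ (Tor : Subgroup (GL (Fin 2) F)) ↔ g.1 0 1 = 0 ∧ g.1 1 0 = 0 := by
  rw [Tor, Subgroup.mem_centralizer_singleton_iff]
  constructor
  · intro h
    have h1 := congrArg (fun g : GL (Fin 2) F => g.1 0 1) h
    have h3 := congrArg (fun g : GL (Fin 2) F => g.1 1 0) h
    simp only [m01, m10, sg00, sg01, sg10, sg11] at h1 h3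
    constructor
    · apply (mul_right_inj' h2).mp
      linear_combination (-1 : F) * h1
    · apply (mul_right_inj' h2).mp
      linear_combination h3
  · rintro ⟨h1, h3⟩
    apply ext2 <;> simp [m00, m01, m10, m11, h1, h3]

theorem mem_Tns (d : Fˣ) {g : GL (Fin 2) F} :
    g ∈ Tns d ↔ g.1 0 0 = g.1 1 1 ∧ g.1 0 1 = d * g.1 1 0 := by
  rw [Tns, Subgroup.mem_centralizer_singleton_iff]
  constructor
  · intro h
    have h1 := congrArg (fun g : GL (Fin 2) F => g.1 0 0) h
    have h3 := congrArg (fun g : GL (Fin 2) F => g.1 1 0) h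
    simp only [m00, m10, J00, J01, J10, J11, mul_zero, mul_one, zero_mul, one_mul, zero_add,
      add_zero] at h1 h3
    exact ⟨h3.symm, h1⟩
  · rintro ⟨h1, h3⟩
    apply ext2 <;> simp [m00, m01, m10, m11, h1, h3, mul_comm]

theorem mem_center {g : GL (Fin 2) F} :
    g ∈ Subgroup.center (GL (Fin 2) F) ↔ g.1 0 1 = 0 ∧ g.1 1 0 = 0 ∧ g.1 0 0 = g.1 1 1 := by
  rw [GeneralLinearGroup.center_eq_range_scalar]
  constructor
  · rintro ⟨a, rfl⟩
    rw [scalar_eq_dg]
    simp
  · rintro ⟨h1, h2, h3⟩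
    have hd := det_ne g
    rw [h1, zero_mul, sub_zero] at hd
    refine ⟨Units.mk0 (g.1 0 0) (left_ne_zero_of_mul hd), ?_⟩
    rw [scalar_eq_dg]
    apply ext2 <;> simp [h1, h2, h3]

theorem exists_dg (h2 : (2 : F) ≠ 0) {g : GL (Fin 2) F} (h : g ∈ (Tor : Subgroup (GL (Fin 2) F))) :
    ∃ a b : Fˣ, g = dg a b := by
  obtain ⟨h1, h3⟩ := (mem_Tor h2).mp h
  have hd := det_ne g
  rw [h1, zero_mul, sub_zero] at hd
  refine ⟨Units.mk0 (g.1 0 0) (left_ne_zero_of_mul hd), Units.mk0 (g.1 1 1)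
    (right_ne_zero_of_mul hd), ?_⟩
  apply ext2 <;> simp [h1, h3]

theorem dg_mem_Tor (h2 : (2 : F) ≠ 0) (a b : Fˣ) : dg a b ∈ (Tor : Subgroup (GL (Fin 2) F)) := by
  rw [mem_Tor h2]; simp

theorem dg_mem_center {a b : Fˣ} : dg a b ∈ Subgroup.center (GL (Fin 2) F) ↔ a = b := by
  rw [mem_center]; simp [Units.ext_iff]

theorem center_le_Tor : Subgroup.center (GL (Fin 2) F) ≤ Tor := Subgroup.center_le_centralizer _

theorem center_le_Tns (d : Fˣ) : Subgroup.center (GL (Fin 2) F) ≤ Tns d :=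
  Subgroup.center_le_centralizer _

/-- Centralizers of nonscalar diagonal matrices. -/
theorem mem_Tor_of_comm (h2 : (2 : F) ≠ 0) {x c : GL (Fin 2) F}
    (hx : x ∈ (Tor : Subgroup (GL (Fin 2) F)))
    (hxz : x ∉ Subgroup.center (GL (Fin 2) F)) (h : c * x = x * c) :
    c ∈ (Tor : Subgroup (GL (Fin 2) F)) := by
  obtain ⟨a, b, rfl⟩ := exists_dg h2 hx
  rw [dg_mem_center] at hxz
  have hab : (a : F) - b ≠ 0 := by
    intro h0
    exact hxz (Units.ext (sub_eq_zero.mp h0))
  have h1 := congrArg (fun g : GL (Fin 2) F => g.1 0 1) h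
  have h3 := congrArg (fun g : GL (Fin 2) F => g.1 1 0) h
  simp only [m01, m10, dg00, dg01, dg10, dg11] at h1 h3
  rw [mem_Tor h2]
  constructor
  · apply (mul_right_inj' hab).mp
    linear_combination (-1 : F) * h1
  · apply (mul_right_inj' hab).mp
    linear_combination h3

/-- Centralizers of nonscalar elements of the nonsplit torus. -/
theorem mem_Tns_of_comm (d : Fˣ) {x c : GL (Fin 2) F} (hx : x ∈ Tns d)
    (hxz : x ∉ Subgroup.center (GL (Fin 2) F)) (h : c * x = x * c) : c ∈ Tns d := by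
  rw [mem_Tns] at hx ⊢
  obtain ⟨hx1, hx2⟩ := hx
  have hb : x.1 1 0 ≠ 0 := by
    intro h0
    apply hxz
    rw [mem_center]
    exact ⟨by rw [hx2, h0, mul_zero], h0, hx1⟩
  have h1 := congrArg (fun g : GL (Fin 2) F => g.1 0 0) h
  have h3 := congrArg (fun g : GL (Fin 2) F => g.1 1 0) h
  simp only [m00, m10, hx1, hx2] at h1 h3
  constructor
  · apply (mul_right_inj' hb).mp
    linear_combination -h3
  · apply (mul_right_inj' hb).mp
    linear_combination h1

/-- Centralizers of unipotent elements. -/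
theorem exists_of_comm_up {x : F} (hx : x ≠ 0) {c : GL (Fin 2) F} (h : c * up x = up x * c) :
    ∃ z ∈ Subgroup.center (GL (Fin 2) F), ∃ y, c = z * up y := by
  have h1 := congrArg (fun g : GL (Fin 2) F => g.1 0 0) h
  have h3 := congrArg (fun g : GL (Fin 2) F => g.1 0 1) h
  simp only [m00, m01, up00, up01, up10, up11] at h1 h3
  have h10 : c.1 1 0 = 0 := by
    apply (mul_right_inj' hx).mp
    linear_combination -h1
  have h11 : c.1 1 1 = c.1 0 0 := by
    apply (mul_right_inj' hx).mp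
    linear_combination -h3
  have hd := det_ne c
  rw [h10, mul_zero, sub_zero] at hd
  have h00 := left_ne_zero_of_mul hd
  refine ⟨dg (Units.mk0 _ h00) (Units.mk0 _ h00), dg_mem_center.mpr rfl, c.1 0 1 / c.1 0 0, ?_⟩
  apply ext2
  · simp [m00]
  · simp [m01, mul_div_cancel₀, h00]
  · simp [m10, h10]
  · simp [m11, h11]

/-- Conjugation by `wt`. -/
theorem wt_conj (a b : Fˣ) : wt * dg a b * wt⁻¹ = dg b a := by
  rw [mul_inv_eq_iff_eq_mul]
  apply ext2 <;> simp [m00, m01, m10, m11]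

theorem sg_conj_mem (d : Fˣ) {x : GL (Fin 2) F} (hx : x ∈ Tns d) : sg * x * sg⁻¹ ∈ Tns d := by
  have hs : (sg : GL (Fin 2) F)⁻¹ = sg := inv_eq_of_mul_eq_one_left sg_mul_sg
  rw [hs]
  rw [mem_Tns] at hx ⊢
  simp [m00, m01, m10, m11, hx.1, hx.2]

/-- The norm from `Tns d`: `x * x^sg = det x`. -/
theorem mul_sg_conj (d : Fˣ) {x : GL (Fin 2) F} (hx : x ∈ Tns d) :
    x * (sg * x * sg⁻¹) =
      dg (GeneralLinearGroup.det x) (GeneralLinearGroup.det x) := by
  have hs : (sg : GL (Fin 2) F)⁻¹ = sg := inv_eq_of_mul_eq_one_left sg_mul_sg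
  rw [hs]
  rw [mem_Tns] at hx
  have hd : ((GeneralLinearGroup.det x : Fˣ) : F) = x.1 0 0 * x.1 1 1 - x.1 0 1 * x.1 1 0 := by
    rw [GeneralLinearGroup.val_det_apply, det_fin_two]
  apply ext2
  · simp only [m00, m10, m01, m11, sg00, sg01, sg10, sg11, dg00, hd, hx.1, hx.2]
    ring
  · simp only [m00, m10, m01, m11, sg00, sg01, sg10, sg11, dg01, hx.1, hx.2]
    ring
  · simp only [m00, m10, m01, m11, sg00, sg01, sg10, sg11, dg10, hx.1, hx.2]
    ring
  · simp only [m00, m10, m01, m11, sg00, sg01, sg10, sg11, dg11, hd, hx.1, hx.2]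
    ring

/-- Fusion in the diagonal torus. -/
theorem fus_Tor (h2 : (2 : F) ≠ 0) {x c : GL (Fin 2) F} (hx : x ∈ (Tor : Subgroup (GL (Fin 2) F)))
    (hxz : x ∉ Subgroup.center (GL (Fin 2) F)) (h : c * x * c⁻¹ ∈ (Tor : Subgroup (GL (Fin 2) F))) :
    c ∈ (Tor : Subgroup (GL (Fin 2) F)) ∨ wt * c ∈ (Tor : Subgroup (GL (Fin 2) F)) := by
  obtain ⟨a, b, rfl⟩ := exists_dg h2 hx
  obtain ⟨a', b', hy⟩ := exists_dg h2 h
  rw [mul_inv_eq_iff_eq_mul] at hy
  rw [dg_mem_center] at hxz
  have hab : (b : F) - a ≠ 0 := by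
    intro h0
    exact hxz (Units.ext (sub_eq_zero.mp h0)).symm
  have e00 := congrArg (fun g : GL (Fin 2) F => g.1 0 0) hy
  have e01 := congrArg (fun g : GL (Fin 2) F => g.1 0 1) hy
  have e10 := congrArg (fun g : GL (Fin 2) F => g.1 1 0) hy
  have e11 := congrArg (fun g : GL (Fin 2) F => g.1 1 1) hy
  simp only [m00, m01, m10, m11, dg00, dg01, dg10, dg11, mul_zero, zero_mul, add_zero,
    zero_add] at e00 e01 e10 e11
  by_cases hp : c.1 0 0 = 0
  · right
    have hd := det_ne c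
    rw [hp, zero_mul, zero_sub, neg_ne_zero] at hd
    have h01 := left_ne_zero_of_mul hd
    have h10 := right_ne_zero_of_mul hd
    have ea : (b' : F) = a := by
      apply (mul_right_inj' h10).mp
      linear_combination -e10
    have hs : c.1 1 1 = 0 := by
      apply (mul_right_inj' hab).mp
      rw [ea] at e11
      linear_combination e11
    rw [mem_Tor h2]
    simp [m01, m10, hp, hs]
  · left
    have ea : (a' : F) = a := by
      apply (mul_right_inj' hp).mp
      linear_combination -e00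
    have hq : c.1 0 1 = 0 := by
      apply (mul_right_inj' hab).mp
      rw [ea] at e01
      linear_combination e01
    have hd := det_ne c
    rw [hq, zero_mul, sub_zero] at hd
    have h11 := right_ne_zero_of_mul hd
    have eb : (b' : F) = b := by
      apply (mul_right_inj' h11).mp
      linear_combination -e11
    have hr : c.1 1 0 = 0 := by
      apply (mul_right_inj' hab).mp
      rw [eb] at e10
      linear_combination -e10
    rw [mem_Tor h2]
    exact ⟨hq, hr⟩

/-- Fusion in the nonsplit torus. -/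
theorem fus_Tns (h2 : (2 : F) ≠ 0) (d : Fˣ) {x c : GL (Fin 2) F} (hx : x ∈ Tns d)
    (hxz : x ∉ Subgroup.center (GL (Fin 2) F)) (h : c * x * c⁻¹ ∈ Tns d) :
    c ∈ Tns d ∨ sg * c ∈ Tns d := by
  -- trace and determinant are preserved
  set y := c * x * c⁻¹ with hy
  have hval : y.1 = c.1 * x.1 * (c⁻¹).1 := rfl
  have htr : y.1.trace = x.1.trace := by
    rw [hval, Matrix.trace_mul_comm, ← Matrix.mul_assoc, ← Units.val_mul, inv_mul_cancel,
      Units.val_one, one_mul]
  have hdet : y.1.det = x.1.det := by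
    have := congrArg (fun g : Fˣ => (g : F))
      (show GeneralLinearGroup.det y = GeneralLinearGroup.det x by
        rw [hy, map_mul, map_mul, map_inv, mul_comm, ← mul_assoc, inv_mul_cancel, one_mul])
    simpa using this
  rw [trace_fin_two, trace_fin_two] at htr
  rw [det_fin_two, det_fin_two] at hdet
  have hx' := (mem_Tns d).mp hx
  have hy' := (mem_Tns d).mp h
  have h11 : y.1 1 1 = x.1 1 1 := by
    apply (mul_right_inj' h2).mp
    rw [hx'.1, hy'.1] at htr
    linear_combination htr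
  have hsq : (y.1 1 0 - x.1 1 0) * (y.1 1 0 + x.1 1 0) = 0 := by
    apply (mul_right_inj' d.ne_zero).mp
    rw [hx'.1, hy'.1, hx'.2, hy'.2, h11] at hdet
    linear_combination -hdet
  rcases mul_eq_zero.mp hsq with h0 | h0
  · left
    apply mem_Tns_of_comm d hx hxz
    have hyx : y = x := by
      have h10 : y.1 1 0 = x.1 1 0 := sub_eq_zero.mp h0
      apply ext2
      · rw [hx'.1, hy'.1, h11]
      · rw [hx'.2, hy'.2, h10]
      · exact h10
      · exact h11
    rw [← hyx]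
    nth_rewrite 1 [hyx]
    rw [hy]; group
  · right
    apply mem_Tns_of_comm d hx hxz
    have hyx : sg * y * sg⁻¹ = x := by
      have hs : (sg : GL (Fin 2) F)⁻¹ = sg := inv_eq_of_mul_eq_one_left sg_mul_sg
      have h10 : y.1 1 0 = -x.1 1 0 := eq_neg_of_add_eq_zero_left h0
      rw [hs]
      apply ext2
      · simp [m00, m01, hx'.1, hy'.1, h11]
      · simp [m00, m01, hx'.2, hy'.2, h10]
      · simp [m10, m11, h10]
      · simp [m10, m11, h11]
    rw [hy] at hyx
    nth_rewrite 2 [← hyx]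
    group

/-- Conjugation of root elements. -/
theorem dg_conj_up (a b : Fˣ) (x : F) : dg a b * up x * (dg a b)⁻¹ = up (a * x * (b⁻¹ : Fˣ)) := by
  rw [mul_inv_eq_iff_eq_mul]
  apply ext2 <;> simp [m00, m01, m10, m11]

/-! ### Conjugacy -/

theorem conj_eq {P g h : GL (Fin 2) F} (e : g * P = P * h) : P⁻¹ * g * (P⁻¹)⁻¹ = h := by
  rw [inv_inv, mul_assoc, e, inv_mul_cancel_left]

/-- Upper triangular matrices are conjugate to diagonal ones or scalar multiples of `up x`. -/
theorem exhaust_upper (h2 : (2 : F) ≠ 0) {g : GL (Fin 2) F} (h10 : g.1 1 0 = 0) :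
    ∃ c : GL (Fin 2) F, c * g * c⁻¹ ∈ (Tor : Subgroup (GL (Fin 2) F)) ∨
      ∃ z ∈ Subgroup.center (GL (Fin 2) F), ∃ y, c * g * c⁻¹ = z * up y := by
  by_cases hab : g.1 0 0 = g.1 1 1
  · refine ⟨1, Or.inr ?_⟩
    have hd := det_ne g
    rw [h10, mul_zero, sub_zero] at hd
    have h00 := left_ne_zero_of_mul hd
    refine ⟨dg (Units.mk0 _ h00) (Units.mk0 _ h00), dg_mem_center.mpr rfl, g.1 0 1 / g.1 0 0, ?_⟩
    rw [one_mul, inv_one, mul_one]
    apply ext2
    · simp [m00]
    · simp [m01, mul_div_cancel₀, h00]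
    · simp [m10, h10]
    · simp [m11, ← hab]
  · -- conjugate by `up y` with `y = b / (e - a)`
    have hne : g.1 1 1 - g.1 0 0 ≠ 0 := sub_ne_zero.mpr (Ne.symm hab)
    refine ⟨(up (g.1 0 1 / (g.1 1 1 - g.1 0 0)))⁻¹, Or.inl ?_⟩
    have hd := det_ne g
    rw [h10, mul_zero, sub_zero] at hd
    rw [conj_eq (h := dg (Units.mk0 _ (left_ne_zero_of_mul hd))
      (Units.mk0 _ (right_ne_zero_of_mul hd)))]
    · exact dg_mem_Tor h2 _ _
    · apply ext2
      · simp [m00]
      · simp only [m01, up00, up01, up11, dg01, dg11, Units.val_mk0]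
        field_simp
        ring
      · simp [m10, h10]
      · simp [m11, h10]

/-- Every element of `GL₂(F)` is conjugate to an element of the diagonal torus, of the nonsplit
torus or to a scalar multiple of `up y`. -/
theorem exhaust [Fintype F] (h2 : (2 : F) ≠ 0) (d : Fˣ) (hd : ¬ IsSquare (d : F))
    (g : GL (Fin 2) F) :
    ∃ c : GL (Fin 2) F, c * g * c⁻¹ ∈ (Tor : Subgroup (GL (Fin 2) F)) ∨ c * g * c⁻¹ ∈ Tns d ∨
      ∃ z ∈ Subgroup.center (GL (Fin 2) F), ∃ y, c * g * c⁻¹ = z * up y := by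
  by_cases h10 : g.1 1 0 = 0
  · obtain ⟨c, h | h⟩ := exhaust_upper h2 h10
    · exact ⟨c, Or.inl h⟩
    · exact ⟨c, Or.inr (Or.inr h)⟩
  obtain ⟨D, hD⟩ : ∃ D : F, D = (g.1 0 0 - g.1 1 1) ^ 2 + 4 * (g.1 0 1 * g.1 1 0) := ⟨_, rfl⟩
  by_cases hsq : IsSquare D
  · obtain ⟨e, he⟩ := hsq
    -- eigenvalues `l = (a + e' + e)/2`, `m = (a + e' - e)/2`; eigenvector `(a - m, c)`
    obtain ⟨m, hm⟩ : ∃ m : F, m = (g.1 0 0 + g.1 1 1 - e) / 2 := ⟨_, rfl⟩
    obtain ⟨l, hl⟩ : ∃ l : F, l = (g.1 0 0 + g.1 1 1 + e) / 2 := ⟨_, rfl⟩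
    have hlm : l + m = g.1 0 0 + g.1 1 1 := by rw [hl, hm]; field_simp; ring
    have hlm2 : l * m = g.1 0 0 * g.1 1 1 - g.1 0 1 * g.1 1 0 := by
      rw [hl, hm]
      field_simp
      rw [hD] at he
      linear_combination he
    clear hm hl
    have hP : (g.1 0 0 - m) * 0 - 1 * g.1 1 0 ≠ 0 := by
      rw [mul_zero, one_mul, zero_sub, neg_ne_zero]; exact h10
    obtain ⟨P, hPdef⟩ : ∃ P : GL (Fin 2) F, P = mk2 (g.1 0 0 - m) 1 (g.1 1 0) 0 hP := ⟨_, rfl⟩
    have hlow : (P⁻¹ * g * (P⁻¹)⁻¹).1 1 0 = 0 := by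
      have hdetR : l * m - 1 * 0 ≠ 0 := by
        rw [hlm2, mul_zero, sub_zero]; exact det_ne g
      rw [conj_eq (h := mk2 l 1 0 m hdetR)]
      · simp
      · apply ext2
        · simp only [m00, hPdef, mk2_val, of_apply, cons_val', cons_val_zero, cons_val_one,
            empty_val', cons_val_fin_one]
          linear_combination (-g.1 0 0) * hlm + hlm2
        · simp only [m01, hPdef, mk2_val, of_apply, cons_val', cons_val_zero, cons_val_one,
            empty_val', cons_val_fin_one]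
          ring
        · simp only [m10, hPdef, mk2_val, of_apply, cons_val', cons_val_zero, cons_val_one,
            empty_val', cons_val_fin_one]
          linear_combination -(g.1 1 0) * hlm
        · simp only [m11, hPdef, mk2_val, of_apply, cons_val', cons_val_zero, cons_val_one,
            empty_val', cons_val_fin_one]
          ring
    obtain ⟨c, h | h⟩ := exhaust_upper h2 hlow
    · refine ⟨c * P⁻¹, Or.inl ?_⟩
      convert h using 1
      group
    · refine ⟨c * P⁻¹, Or.inr (Or.inr ?_)⟩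
      obtain ⟨z, hz, y, hy⟩ := h
      refine ⟨z, hz, y, ?_⟩
      rw [← hy]
      group
  · classical
    -- `D = d f ^ 2`
    have hqD := quadraticChar_neg_one_iff_not_isSquare.mpr hsq
    have hqd := quadraticChar_neg_one_iff_not_isSquare.mpr hd
    have hD0 : D ≠ 0 := by
      rintro rfl
      exact hsq (IsSquare.zero)
    obtain ⟨f, hf⟩ : IsSquare (D * d) := by
      rw [← quadraticChar_one_iff_isSquare (mul_ne_zero hD0 d.ne_zero), map_mul, hqD, hqd]
      norm_num
    obtain ⟨b, hb⟩ : ∃ b : F, b = f / (2 * d) := ⟨_, rfl⟩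
    obtain ⟨a0, ha0⟩ : ∃ a0 : F, a0 = (g.1 0 0 + g.1 1 1) / 2 := ⟨_, rfl⟩
    have hd0 : (d : F) ≠ 0 := d.ne_zero
    have h4 : 4 * (d * b ^ 2) = D := by
      rw [hb]
      field_simp
      linear_combination (-4 : F) * hf
    have hb0 : b ≠ 0 := by
      rintro h0
      rw [h0] at h4
      apply hD0
      rw [← h4]
      ring
    have ha : 2 * a0 = g.1 0 0 + g.1 1 1 := by rw [ha0]; field_simp
    have h22 : (4 : F) ≠ 0 := by
      have : (4 : F) = 2 * 2 := by norm_num
      rw [this]; exact mul_ne_zero h2 h2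
    have hdb : d * b ^ 2 = (g.1 0 0 - a0) ^ 2 + g.1 0 1 * g.1 1 0 := by
      apply (mul_right_inj' h22).mp
      rw [h4, hD]
      linear_combination (3 * g.1 0 0 - g.1 1 1 - 2 * a0) * ha
    have hdet : a0 * a0 - (d * b) * b ≠ 0 := by
      have : a0 * a0 - (d * b) * b = g.1 0 0 * g.1 1 1 - g.1 0 1 * g.1 1 0 := by
        linear_combination (-1 : F) * hdb + (g.1 0 0) * ha
      rw [this]
      exact det_ne g
    have hP : b * g.1 1 0 - (g.1 0 0 - a0) * 0 ≠ 0 := by
      rw [mul_zero, sub_zero]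
      exact mul_ne_zero hb0 h10
    obtain ⟨P, hPdef⟩ : ∃ P : GL (Fin 2) F, P = mk2 b (g.1 0 0 - a0) 0 (g.1 1 0) hP := ⟨_, rfl⟩
    refine ⟨P⁻¹, Or.inr (Or.inl ?_)⟩
    rw [conj_eq (h := mk2 a0 (d * b) b a0 hdet)]
    · rw [mem_Tns]
      simp
    · apply ext2
      · simp only [m00, hPdef, mk2_val, of_apply, cons_val', cons_val_zero, cons_val_one,
          empty_val', cons_val_fin_one]
        ring
      · simp only [m01, hPdef, mk2_val, of_apply, cons_val', cons_val_zero, cons_val_one,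
          empty_val', cons_val_fin_one]
        linear_combination (-1 : F) * hdb
      · simp only [m10, hPdef, mk2_val, of_apply, cons_val', cons_val_zero, cons_val_one,
          empty_val', cons_val_fin_one]
        ring
      · simp only [m11, hPdef, mk2_val, of_apply, cons_val', cons_val_zero, cons_val_one,
          empty_val', cons_val_fin_one]
        linear_combination -(g.1 1 0) * ha

/-! ### Orders -/

theorem card_units [Fintype F] : Nat.card Fˣ = Nat.card F - 1 := by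
  classical
  rw [Nat.card_eq_fintype_card, Nat.card_eq_fintype_card, Fintype.card_units]

theorem card_center : Nat.card (Subgroup.center (GL (Fin 2) F)) = Nat.card Fˣ := by
  rw [GeneralLinearGroup.center_eq_range_scalar]
  refine (Nat.card_congr (MonoidHom.ofInjective (f := GeneralLinearGroup.scalar (Fin 2)) ?_).toEquiv).symm
  intro a b h
  rw [scalar_eq_dg, scalar_eq_dg] at h
  exact (dg_injective h).1

theorem card_Tor (h2 : (2 : F) ≠ 0) :
    Nat.card (Tor : Subgroup (GL (Fin 2) F)) = Nat.card Fˣ * Nat.card Fˣ := by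
  rw [← Nat.card_prod]
  refine (Nat.card_congr (Equiv.ofBijective (fun p : Fˣ × Fˣ =>
    (⟨dg p.1 p.2, dg_mem_Tor h2 _ _⟩ : (Tor : Subgroup (GL (Fin 2) F)))) ⟨?_, ?_⟩)).symm
  · rintro ⟨a, b⟩ ⟨a', b'⟩ h
    have := dg_injective (congrArg Subtype.val h)
    exact Prod.ext this.1 this.2
  · rintro ⟨g, hg⟩
    obtain ⟨a, b, rfl⟩ := exists_dg h2 hg
    exact ⟨(a, b), rfl⟩

theorem nonsq_ne {d : Fˣ} (hd : ¬ IsSquare (d : F)) {a b : F} (h : (a, b) ≠ 0) :
    a * a - (d * b) * b ≠ 0 := by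
  intro h0
  by_cases hb : b = 0
  · apply h
    rw [hb] at h0 ⊢
    have : a = 0 := by simpa using h0
    rw [this]; rfl
  · apply hd
    refine ⟨a / b, ?_⟩
    field_simp
    linear_combination -h0

/-- element of the nonsplit torus -/
noncomputable def ns {d : Fˣ} (hd : ¬ IsSquare (d : F)) (p : {p : F × F // p ≠ 0}) :
    GL (Fin 2) F := mk2 p.1.1 (d * p.1.2) p.1.2 p.1.1 (nonsq_ne hd p.2)

theorem ns_mem {d : Fˣ} (hd : ¬ IsSquare (d : F)) (p : {p : F × F // p ≠ 0}) :
    ns hd p ∈ Tns d := by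
  rw [mem_Tns]
  simp [ns]

theorem card_Tns [Fintype F] {d : Fˣ} (hd : ¬ IsSquare (d : F)) :
    Nat.card (Tns d) = Nat.card F ^ 2 - 1 := by
  classical
  have h1 : Nat.card {p : F × F // p ≠ 0} = Nat.card F ^ 2 - 1 := by
    rw [Nat.card_eq_fintype_card, Fintype.card_subtype_compl, Fintype.card_prod,
      Nat.card_eq_fintype_card, sq]
    simp
  rw [← h1]
  refine (Nat.card_congr (Equiv.ofBijective (fun p : {p : F × F // p ≠ 0} =>
    (⟨ns hd p, ns_mem hd p⟩ : Tns d)) ⟨?_, ?_⟩)).symm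
  · rintro ⟨⟨a, b⟩, hp⟩ ⟨⟨a', b'⟩, hp'⟩ h
    have h' := congrArg Subtype.val h
    have e1 := congrArg (fun g : GL (Fin 2) F => g.1 0 0) h'
    have e2 := congrArg (fun g : GL (Fin 2) F => g.1 1 0) h'
    simp only [ns, mk2_val, of_apply, cons_val', cons_val_zero, cons_val_one,
      empty_val', cons_val_fin_one] at e1 e2
    exact Subtype.ext (Prod.ext e1 e2)
  · rintro ⟨g, hg⟩
    have hg' := (mem_Tns d).mp hg
    have hne : ((g.1 0 0, g.1 1 0) : F × F) ≠ 0 := by
      intro h0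
      have e1 : g.1 0 0 = 0 := congrArg Prod.fst h0
      have e2 : g.1 1 0 = 0 := congrArg Prod.snd h0
      apply det_ne g
      rw [e1, e2]; ring
    refine ⟨⟨(g.1 0 0, g.1 1 0), hne⟩, ?_⟩
    apply Subtype.ext
    apply ext2
    · simp [ns]
    · simp [ns, hg'.2]
    · simp [ns]
    · simp [ns, hg'.1]

theorem Tns_comm {d : Fˣ} {x y : GL (Fin 2) F} (hx : x ∈ Tns d) (hy : y ∈ Tns d) :
    x * y = y * x := by
  rw [mem_Tns] at hx hy
  apply ext2
  · simp only [m00, hx.1, hx.2, hy.1, hy.2]; ring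
  · simp only [m01, hx.1, hx.2, hy.1, hy.2]; ring
  · simp only [m10, hx.1, hy.1]; ring
  · simp only [m11, hx.2, hy.2]; ring

theorem Tor_comm (h2 : (2 : F) ≠ 0) {x y : GL (Fin 2) F}
    (hx : x ∈ (Tor : Subgroup (GL (Fin 2) F))) (hy : y ∈ (Tor : Subgroup (GL (Fin 2) F))) :
    x * y = y * x := by
  obtain ⟨a, b, rfl⟩ := exists_dg h2 hx
  obtain ⟨a', b', rfl⟩ := exists_dg h2 hy
  rw [dg_mul, dg_mul, mul_comm a, mul_comm b]

/-- The nonsplit torus is cyclic. -/
theorem isCyclic_Tns [Finite F] {d : Fˣ} (hd : ¬ IsSquare (d : F)) : IsCyclic (Tns d) := by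
  -- eigenvalues in the algebraic closure
  obtain ⟨δ, hδ⟩ := IsAlgClosed.exists_pow_nat_eq (algebraMap F (AlgebraicClosure F) d)
    (n := 2) (by norm_num)
  have hδF : ∀ c : F, algebraMap F (AlgebraicClosure F) c ≠ δ := by
    intro c hc
    apply hd
    refine ⟨c, ?_⟩
    apply (algebraMap F (AlgebraicClosure F)).injective
    rw [map_mul, hc, ← sq, hδ]
  let f : Tns d →* AlgebraicClosure F :=
    { toFun := fun g => algebraMap F _ (g.1.1 0 0) + algebraMap F _ (g.1.1 1 0) * δ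
      map_one' := by
        simp
      map_mul' := by
        rintro ⟨x, hx⟩ ⟨y, hy⟩
        have hx' := (mem_Tns d).mp hx
        have hy' := (mem_Tns d).mp hy
        simp only [Subgroup.coe_mul, m00, m10, hx'.2, ← hx'.1, map_add, map_mul]
        rw [← hδ]
        ring }
  have hf : Function.Injective f := by
    rw [injective_iff_map_eq_one]
    rintro ⟨g, hg⟩ h1
    have hg' := (mem_Tns d).mp hg
    change algebraMap F _ (g.1 0 0) + algebraMap F _ (g.1 1 0) * δ = 1 at h1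
    have hb : g.1 1 0 = 0 := by
      by_contra hb
      apply hδF ((1 - g.1 0 0) / g.1 1 0)
      have hb' : algebraMap F (AlgebraicClosure F) (g.1 1 0) ≠ 0 := by
        rwa [Ne, map_eq_zero]
      rw [map_div₀, map_sub, map_one, div_eq_iff hb']
      linear_combination -h1
    rw [hb, map_zero, zero_mul, add_zero] at h1
    have ha : g.1 0 0 = 1 := by
      apply (algebraMap F (AlgebraicClosure F)).injective
      rw [h1, map_one]
    apply Subtype.ext
    apply ext2
    · simp [ha]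
    · simp [hg'.2, hb]
    · simp [hb]
    · simp [← hg'.1, ha]
  exact isCyclic_of_injective_ringHom f hf

/-- The determinant is onto on the diagonal torus. -/
theorem exists_Tor_det (h2 : (2 : F) ≠ 0) (c : Fˣ) :
    ∃ x ∈ (Tor : Subgroup (GL (Fin 2) F)), GeneralLinearGroup.det x = c :=
  ⟨dg c 1, dg_mem_Tor h2 _ _, by rw [det_dg, mul_one]⟩

/-- The determinant is onto on the nonsplit torus. -/
theorem exists_Tns_det [Fintype F] (hq : Odd (Fintype.card F)) {d : Fˣ}
    (hd : ¬ IsSquare (d : F)) (c : Fˣ) :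
    ∃ x ∈ Tns d, GeneralLinearGroup.det x = c := by
  obtain ⟨a, b, hab⟩ := FiniteField.exists_root_sum_quadratic (R := F)
    (f := Polynomial.X ^ 2 - Polynomial.C (c : F)) (g := Polynomial.C (-(d : F)) * Polynomial.X ^ 2)
    (by
      rw [Polynomial.degree_X_pow_sub_C (by norm_num)]; rfl)
    (by
      rw [Polynomial.degree_C_mul_X_pow 2 (neg_ne_zero.mpr d.ne_zero)]; rfl)
    (Nat.odd_iff.mp hq)
  simp only [Polynomial.eval_sub, Polynomial.eval_pow, Polynomial.eval_X, Polynomial.eval_C,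
    Polynomial.eval_mul] at hab
  have hne : ((a, b) : F × F) ≠ 0 := by
    intro h0
    have e1 : a = 0 := congrArg Prod.fst h0
    have e2 : b = 0 := congrArg Prod.snd h0
    rw [e1, e2] at hab
    apply c.ne_zero
    linear_combination -hab
  refine ⟨ns hd ⟨(a, b), hne⟩, ns_mem hd _, ?_⟩
  ext
  rw [GeneralLinearGroup.val_det_apply, det_fin_two]
  simp only [ns, mk2_val, of_apply, cons_val', cons_val_zero, cons_val_one,
      empty_val', cons_val_fin_one]
  linear_combination hab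

theorem card_GL [Fintype F] : Nat.card (GL (Fin 2) F) =
    Nat.card Fˣ * (Nat.card Fˣ * (Nat.card F * (Nat.card F + 1))) := by
  rw [Matrix.card_GL_field, Fin.prod_univ_two, card_units]
  obtain ⟨m, hm⟩ : ∃ m, Nat.card F = m + 1 := by
    refine Nat.exists_eq_succ_of_ne_zero ?_
    rw [Nat.card_eq_fintype_card]
    exact Fintype.card_ne_zero
  rw [Nat.card_eq_fintype_card] at hm ⊢
  rw [hm]
  simp only [Fin.val_zero, Fin.val_one, pow_zero, pow_one, Nat.add_sub_cancel]
  have e1 : (m + 1) ^ 2 - 1 = m * (m + 2) := by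
    rw [show (m + 1) ^ 2 = m * (m + 2) + 1 by ring, Nat.add_sub_cancel]
  have e2 : (m + 1) ^ 2 - (m + 1) = m * (m + 1) := by
    rw [show (m + 1) ^ 2 = m * (m + 1) + (m + 1) by ring, Nat.add_sub_cancel]
  rw [e1, e2]
  ring

end Cfsg.Agent.Classification.InvCent.GLTwo
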