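import Mathlib
import Cfsg.Agent.Classification.InvCent.Defs
import Cfsg.Agent.Classification.InvCent.GLTwo

/-!
# The instance `C = GL₂(F)/Z₀` of `CHyp` and `DetHyp`

Input: a surjective homomorphism `ψ : GL₂(F) → C` with kernel a central subgroup of odd order.
-/

set_option autoImplicit false

open Matrix

namespace Cfsg.Agent.Classification.InvCent.InstGL

open GLTwo

section General

variable {A B : Type*} [Group A] [Group B]

theorem card_map_mul (f : A →* B) (K : Subgroup A) (h : f.ker ≤ K) :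
    Nat.card f.ker * Nat.card (K.map f) = Nat.card K := by
  rw [← Subgroup.relIndex_ker, ← Subgroup.relIndex_bot_left f.ker,
    Subgroup.relIndex_mul_relIndex _ _ _ bot_le h, Subgroup.relIndex_bot_left]

theorem mem_map_iff (f : A →* B) {K : Subgroup A} (h : f.ker ≤ K) {g : A} :
    f g ∈ K.map f ↔ g ∈ K := by
  rw [← Subgroup.mem_comap, Subgroup.comap_map_eq_self h]

theorem eq_one_of_sq_of_odd {x : A} {n : ℕ} (h2 : x * x = 1) (hn : Odd n) (h : x ^ n = 1) :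
    x = 1 := by
  obtain ⟨m, rfl⟩ := hn
  rw [pow_succ, pow_mul, sq, h2, one_pow, one_mul] at h
  exact h

theorem pow_odd_of_sq {x : A} {n : ℕ} (h2 : x * x = 1) (hn : Odd n) : x ^ n = x := by
  obtain ⟨m, rfl⟩ := hn
  rw [pow_succ, pow_mul, sq, h2, one_pow, one_mul]

end General

/-- The input: `ψ : GL₂(F) → C` surjective with kernel central of odd order. -/
structure Setup {F : Type*} [Field F] [Fintype F] {G : Type*} [Group G]
    (ψ : GL (Fin 2) F →* G) : Prop where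
  odd : Odd (Fintype.card F)
  surj : Function.Surjective ψ
  ker_le : ψ.ker ≤ Subgroup.center (GL (Fin 2) F)
  odd_ker : Odd (Nat.card ψ.ker)

section

variable {F : Type*} [Field F] [Fintype F] {G : Type*} [Group G] {t : G} {ψ : GL (Fin 2) F →* G}

theorem Setup.two_ne_zero (S : Setup ψ) : (2 : F) ≠ 0 := by
  apply Ring.two_ne_zero
  intro h
  have := FiniteField.even_card_iff_char_two.mp h
  have h2 := Nat.odd_iff.mp S.odd
  omega

/-- elements of the kernel are scalar -/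
theorem Setup.exists_scalar (S : Setup ψ) {z : GL (Fin 2) F} (hz : ψ z = 1) :
    ∃ c : Fˣ, z = dg c c := by
  have h := S.ker_le (MonoidHom.mem_ker.mpr hz)
  obtain ⟨a, b, rfl⟩ := exists_dg S.two_ne_zero (center_le_Tor h)
  rw [dg_mem_center] at h
  exact ⟨a, by rw [h]⟩

theorem Setup.pow_card (_S : Setup ψ) {z : GL (Fin 2) F} (hz : ψ z = 1) :
    z ^ Nat.card ψ.ker = 1 := by
  have := pow_card_eq_one' (x := (⟨z, MonoidHom.mem_ker.mpr hz⟩ : ψ.ker))
  exact congrArg Subtype.val this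

theorem Setup.eq_one_of_det (S : Setup ψ) {z : GL (Fin 2) F} (hz : ψ z = 1)
    (hd : GeneralLinearGroup.det z = 1) : z = 1 := by
  obtain ⟨c, rfl⟩ := S.exists_scalar hz
  rw [det_dg] at hd
  apply eq_one_of_sq_of_odd _ S.odd_ker (S.pow_card hz)
  rw [dg_mul, hd, dg_one]

theorem Setup.comm_of (S : Setup ψ) {a b : GL (Fin 2) F} (h : ψ a * ψ b = ψ b * ψ a) :
    a * b = b * a := by
  have h1 : a * b * (b * a)⁻¹ = 1 := by
    apply S.eq_one_of_det
    · rw [map_mul, map_mul, map_inv, map_mul, h, mul_inv_cancel]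
    · rw [map_mul, map_mul, map_inv, map_mul, mul_comm (GeneralLinearGroup.det b),
        mul_inv_cancel]
  exact mul_inv_eq_one.mp h1

theorem Setup.eq_neg_one (S : Setup ψ) (ht : orderOf t = 2) (htc : ∀ c, c * t = t * c) :
    t = ψ (dg (-1) (-1)) := by
  have htt : t * t = 1 := by
    rw [← sq, ← ht, pow_orderOf_eq_one]
  have ht1 : t ≠ 1 := by
    intro h
    rw [h, orderOf_one] at ht
    omega
  obtain ⟨g, hg⟩ := S.surj t
  have hgc : g ∈ Subgroup.center (GL (Fin 2) F) := by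
    rw [Subgroup.mem_center_iff]
    intro h
    apply S.comm_of
    rw [hg]
    exact htc _
  obtain ⟨a, b, rfl⟩ := exists_dg S.two_ne_zero (center_le_Tor hgc)
  rw [dg_mem_center] at hgc
  subst hgc
  have h1 : t = ψ (dg (a ^ Nat.card ψ.ker) (a ^ Nat.card ψ.ker)) := by
    rw [← dg_pow, map_pow, hg, pow_odd_of_sq htt S.odd_ker]
  have h2 : (dg a a * dg a a) ^ Nat.card ψ.ker = 1 := by
    apply S.pow_card
    rw [map_mul, hg, htt]
  rw [dg_mul, dg_pow, ← dg_one] at h2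
  have h3 := (dg_injective h2).1
  rw [← sq, ← pow_mul, mul_comm, pow_mul] at h3
  have h4 : ((a ^ Nat.card ψ.ker : Fˣ) : F) * ((a ^ Nat.card ψ.ker : Fˣ) : F) = 1 := by
    rw [← sq, ← Units.val_pow_eq_pow_val, h3, Units.val_one]
  rcases mul_self_eq_one_iff.mp h4 with h | h
  · exfalso
    apply ht1
    rw [h1, Units.ext (by rw [h, Units.val_one] : ((a ^ Nat.card ψ.ker : Fˣ) : F) = (1 : Fˣ)),
      dg_one, map_one]
  · rw [h1, Units.ext (by rw [h, Units.val_neg, Units.val_one] :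
      ((a ^ Nat.card ψ.ker : Fˣ) : F) = ((-1 : Fˣ) : F))]

theorem Setup.conj_eq (_S : Setup ψ) (a b : GL (Fin 2) F) :
    ψ a * ψ b * (ψ a)⁻¹ = ψ (a * b * a⁻¹) := by
  rw [map_mul, map_mul, map_inv]

theorem Setup.card_map (_S : Setup ψ) {K : Subgroup (GL (Fin 2) F)} (h : ψ.ker ≤ K) :
    Nat.card ψ.ker * Nat.card (K.map ψ) = Nat.card K := card_map_mul ψ K h

theorem Setup.card_ker_pos (S : Setup ψ) : 0 < Nat.card ψ.ker := S.odd_ker.pos

/-- the scalars in the kernel -/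
noncomputable def D0 (ψ : GL (Fin 2) F →* G) : Subgroup Fˣ :=
  ψ.ker.comap (GeneralLinearGroup.scalar (Fin 2))

omit [Fintype F] in
theorem mem_D0 {c : Fˣ} : c ∈ D0 ψ ↔ ψ (dg c c) = 1 := by
  rw [D0, Subgroup.mem_comap, MonoidHom.mem_ker, scalar_eq_dg]

theorem Setup.card_D0 (S : Setup ψ) : Nat.card (D0 ψ) = Nat.card ψ.ker := by
  refine Nat.card_congr (Equiv.ofBijective (fun c : D0 ψ =>
    (⟨dg c.1 c.1, MonoidHom.mem_ker.mpr (mem_D0.mp c.2)⟩ : ψ.ker)) ⟨?_, ?_⟩)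
  · rintro ⟨a, ha⟩ ⟨b, hb⟩ h
    exact Subtype.ext (dg_injective (congrArg Subtype.val h)).1
  · rintro ⟨z, hz⟩
    obtain ⟨c, rfl⟩ := S.exists_scalar (MonoidHom.mem_ker.mp hz)
    exact ⟨⟨c, mem_D0.mpr (MonoidHom.mem_ker.mp hz)⟩, rfl⟩

/-- elements of `D0` have odd order -/
theorem Setup.pow_D0 (S : Setup ψ) {c : Fˣ} (hc : c ∈ D0 ψ) : c ^ Nat.card ψ.ker = 1 := by
  have h := S.pow_card (mem_D0.mp hc)
  rw [dg_pow, ← dg_one] at h
  exact (dg_injective h).1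

/-- The number of norm-one elements of a torus. -/
theorem Setup.card_norm_one (S : Setup ψ) (K : Subgroup (GL (Fin 2) F)) (hK : ψ.ker ≤ K)
    (hdet : ∀ c : Fˣ, ∃ x ∈ K, GeneralLinearGroup.det x = c) (s : G)
    (hs : ∀ g ∈ K, ψ g * (s * ψ g * s⁻¹) =
      ψ (dg (GeneralLinearGroup.det g) (GeneralLinearGroup.det g))) :
    Nat.card {x : K.map ψ // (x : G) * (s * x * s⁻¹) = 1} * Nat.card Fˣ = Nat.card K := by
  classical
  set W : Subgroup (GL (Fin 2) F) := K ⊓ (D0 ψ).comap GeneralLinearGroup.det with hW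
  have hmap : K.map (GeneralLinearGroup.det (n := Fin 2) (R := F)) = ⊤ := by
    rw [eq_top_iff]
    intro c _
    obtain ⟨x, hx, hxc⟩ := hdet c
    exact ⟨x, hx, hxc⟩
  have hidx : Nat.card W * (D0 ψ).index = Nat.card K := by
    have h1 : W.relIndex K = (D0 ψ).index := by
      rw [hW, inf_comm, Subgroup.inf_relIndex_right, Subgroup.relIndex_comap, hmap,
        Subgroup.relIndex_top_right]
    rw [← h1, ← Subgroup.relIndex_bot_left W, Subgroup.relIndex_mul_relIndex _ _ _ bot_le inf_le_left,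
      Subgroup.relIndex_bot_left]
  have hD := (D0 ψ).card_mul_index
  have hkW : ψ.ker ≤ W := by
    rw [hW, le_inf_iff]
    refine ⟨hK, ?_⟩
    intro z hz
    obtain ⟨c, rfl⟩ := S.exists_scalar (MonoidHom.mem_ker.mp hz)
    rw [Subgroup.mem_comap, det_dg]
    exact (D0 ψ).mul_mem (mem_D0.mpr (MonoidHom.mem_ker.mp hz))
      (mem_D0.mpr (MonoidHom.mem_ker.mp hz))
  have hWm := S.card_map hkW
  have hsub : Nat.card {x : K.map ψ // (x : G) * (s * x * s⁻¹) = 1} = Nat.card (W.map ψ) := by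
    refine Nat.card_congr (Equiv.ofBijective (fun x => (⟨x.1.1, ?_⟩ : W.map ψ)) ⟨?_, ?_⟩)
    · obtain ⟨⟨_, g, hg, rfl⟩, hx⟩ := x
      refine ⟨g, ⟨hg, ?_⟩, rfl⟩
      change ψ g * (s * ψ g * s⁻¹) = 1 at hx
      rw [hs g hg] at hx
      exact mem_D0.mpr hx
    · rintro ⟨⟨a, ha⟩, ha'⟩ ⟨⟨b, hb⟩, hb'⟩ h
      have : a = b := congrArg Subtype.val h
      subst this; rfl
    · rintro ⟨_, g, ⟨hg, hg2⟩, rfl⟩
      refine ⟨⟨⟨ψ g, g, hg, rfl⟩, ?_⟩, rfl⟩
      change ψ g * (s * ψ g * s⁻¹) = 1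
      rw [hs g hg]
      exact mem_D0.mp hg2
  rw [hsub]
  have hpos := S.card_ker_pos
  apply Nat.eq_of_mul_eq_mul_left hpos
  rw [← mul_assoc, hWm, ← hD, S.card_D0, ← hidx]
  ring

/-- the data -/
noncomputable def gZ (ψ : GL (Fin 2) F →* G) : Subgroup G := (Subgroup.center (GL (Fin 2) F)).map ψ
noncomputable def gT (ψ : GL (Fin 2) F →* G) : Subgroup G := Tor.map ψ
noncomputable def gT' (d : Fˣ) (ψ : GL (Fin 2) F →* G) : Subgroup G := (Tns d).map ψ
noncomputable def gU (ψ : GL (Fin 2) F →* G) : Subgroup G := Rt.map ψ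

theorem Setup.mem_gT (S : Setup ψ) {g : GL (Fin 2) F} :
    ψ g ∈ gT ψ ↔ g ∈ (Tor : Subgroup (GL (Fin 2) F)) :=
  mem_map_iff ψ (S.ker_le.trans center_le_Tor)

theorem Setup.mem_gT' (S : Setup ψ) {d : Fˣ} {g : GL (Fin 2) F} :
    ψ g ∈ gT' d ψ ↔ g ∈ Tns d :=
  mem_map_iff ψ (S.ker_le.trans (center_le_Tns d))

theorem Setup.mem_gZ (S : Setup ψ) {g : GL (Fin 2) F} :
    ψ g ∈ gZ ψ ↔ g ∈ Subgroup.center (GL (Fin 2) F) :=
  mem_map_iff ψ S.ker_le

theorem Setup.card_gZ (S : Setup ψ) :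
    Nat.card ψ.ker * Nat.card (gZ ψ) = Nat.card Fˣ := by
  rw [← card_center (F := F)]
  exact S.card_map S.ker_le

theorem card_F_eq : Nat.card F = Nat.card Fˣ + 1 := by
  rw [card_units]
  have : 0 < Nat.card F := Nat.card_pos
  omega

theorem Setup.card_gT (S : Setup ψ) :
    Nat.card (gT ψ) = Nat.card (gZ ψ) * Nat.card Fˣ := by
  apply Nat.eq_of_mul_eq_mul_left S.card_ker_pos
  rw [← mul_assoc, S.card_gZ, gT, S.card_map (S.ker_le.trans center_le_Tor),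
    card_Tor S.two_ne_zero]

theorem card_Tns' {d : Fˣ} (hd : ¬ IsSquare (d : F)) :
    Nat.card (Tns d) = Nat.card Fˣ * (Nat.card Fˣ + 2) := by
  rw [card_Tns hd, card_F_eq]
  rw [show (Nat.card Fˣ + 1) ^ 2 = Nat.card Fˣ * (Nat.card Fˣ + 2) + 1 by ring,
    Nat.add_sub_cancel]

theorem Setup.card_gT' (S : Setup ψ) {d : Fˣ} (hd : ¬ IsSquare (d : F)) :
    Nat.card (gT' d ψ) = Nat.card (gZ ψ) * (Nat.card Fˣ + 2) := by
  apply Nat.eq_of_mul_eq_mul_left S.card_ker_pos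
  rw [← mul_assoc, S.card_gZ, gT', S.card_map (S.ker_le.trans (center_le_Tns d)), card_Tns' hd]

theorem Setup.injOn_up (S : Setup ψ) {x y : F} (h : ψ (up x) = ψ (up y)) : x = y := by
  have h1 : ψ (up x * (up y)⁻¹) = 1 := by rw [map_mul, map_inv, h, mul_inv_cancel]
  have h2 := S.eq_one_of_det h1 (by rw [map_mul, map_inv, det_up, det_up, inv_one, mul_one])
  exact up_injective (mul_inv_eq_one.mp h2)

theorem Setup.card_gU (S : Setup ψ) : Nat.card (gU ψ) = Nat.card F := by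
  refine (Nat.card_congr (Equiv.ofBijective (fun x : F =>
    (⟨ψ (up x), up x, ⟨x, rfl⟩, rfl⟩ : gU ψ)) ⟨?_, ?_⟩)).symm
  · intro x y h
    exact S.injOn_up (congrArg Subtype.val h)
  · rintro ⟨_, _, ⟨x, rfl⟩, rfl⟩
    exact ⟨x, rfl⟩

theorem Setup.card_G (S : Setup ψ) :
    Nat.card G = Nat.card (gZ ψ) * (Nat.card Fˣ * (Nat.card F * (Nat.card F + 1))) := by
  apply Nat.eq_of_mul_eq_mul_left S.card_ker_pos
  rw [← mul_assoc, S.card_gZ, ← card_GL, ← Subgroup.card_top (G := G),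
    ← MonoidHom.range_eq_top.mpr S.surj, MonoidHom.range_eq_map, S.card_map le_top,
    Subgroup.card_top]

/-- the central involution -/
noncomputable def gt (ψ : GL (Fin 2) F →* G) : G := ψ (dg (-1) (-1))

theorem Setup.wt_conj_eq (S : Setup ψ) {g : GL (Fin 2) F}
    (hg : g ∈ (Tor : Subgroup (GL (Fin 2) F))) :
    ψ g * (ψ wt * ψ g * (ψ wt)⁻¹) =
      ψ (dg (GeneralLinearGroup.det g) (GeneralLinearGroup.det g)) := by
  obtain ⟨a, b, rfl⟩ := exists_dg S.two_ne_zero hg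
  rw [S.conj_eq, wt_conj, ← map_mul, dg_mul, det_dg, mul_comm b a]

theorem Setup.sg_conj_eq (S : Setup ψ) {d : Fˣ} {g : GL (Fin 2) F} (hg : g ∈ Tns d) :
    ψ g * (ψ sg * ψ g * (ψ sg)⁻¹) =
      ψ (dg (GeneralLinearGroup.det g) (GeneralLinearGroup.det g)) := by
  rw [S.conj_eq, ← map_mul, mul_sg_conj d hg]

theorem Setup.mem_gZ_scalar (S : Setup ψ) (c : Fˣ) : ψ (dg c c) ∈ gZ ψ :=
  S.mem_gZ.mpr (dg_mem_center.mpr rfl)

omit [Fintype F] in
theorem neg_one_ne (h2 : (2 : F) ≠ 0) : (1 : Fˣ) ≠ -1 := by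
  intro h
  apply h2
  have := congrArg (fun x : Fˣ => (x : F)) h
  simp only [Units.val_one, Units.val_neg] at this
  linear_combination this

omit [Fintype F] in
theorem wt_notMem (h2 : (2 : F) ≠ 0) : (wt : GL (Fin 2) F) ∉ (Tor : Subgroup (GL (Fin 2) F)) := by
  rw [mem_Tor h2]
  simp

omit [Fintype F] in
theorem sg_notMem (h2 : (2 : F) ≠ 0) (d : Fˣ) : (sg : GL (Fin 2) F) ∉ Tns d := by
  rw [mem_Tns]
  intro h
  apply h2
  have := h.1
  rw [sg00, sg11] at this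
  linear_combination this

/-- An element of square `1` in `T`. -/
theorem Setup.invol_T (S : Setup ψ) {x : G} (hx : x ∈ gT ψ) (hxx : x * x = 1) :
    x = 1 ∨ x = gt ψ ∨ x = ψ sg ∨ x = gt ψ * ψ sg := by
  obtain ⟨g, hg, rfl⟩ := hx
  obtain ⟨a, b, rfl⟩ := exists_dg S.two_ne_zero hg
  obtain ⟨n, hn⟩ : ∃ n, n = Nat.card ψ.ker := ⟨_, rfl⟩
  have hodd : Odd n := hn ▸ S.odd_ker
  have h1 : ψ (dg a b) = ψ (dg (a ^ n) (b ^ n)) := by
    rw [← dg_pow, map_pow, pow_odd_of_sq hxx hodd]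
  have h2 : (dg a b * dg a b) ^ n = 1 := by
    rw [hn]
    apply S.pow_card
    rw [map_mul, hxx]
  rw [dg_mul, dg_pow, ← dg_one] at h2
  obtain ⟨h3, h4⟩ := dg_injective h2
  have key : ∀ c : Fˣ, (c * c) ^ n = 1 → c ^ n = 1 ∨ c ^ n = -1 := by
    intro c hc
    rw [← sq, ← pow_mul, mul_comm, pow_mul] at hc
    have h4 : ((c ^ n : Fˣ) : F) * ((c ^ n : Fˣ) : F) = 1 := by
      rw [← sq, ← Units.val_pow_eq_pow_val, hc, Units.val_one]
    rcases mul_self_eq_one_iff.mp h4 with h | h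
    · left; exact Units.ext (by rw [h, Units.val_one])
    · right; exact Units.ext (by rw [h, Units.val_neg, Units.val_one])
  rw [h1]
  rcases key a h3 with ha | ha <;> rcases key b h4 with hb | hb <;> rw [ha, hb]
  · left; rw [dg_one, map_one]
  · right; right; left; rfl
  · right; right; right
    rw [gt, ← map_mul, sg, dg_mul]
    simp
  · right; left; rfl

theorem Setup.orderOf_sg (S : Setup ψ) : orderOf (ψ sg) = 2 := by
  rw [orderOf_eq_iff (by norm_num)]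
  refine ⟨by rw [sq, ← map_mul, sg_mul_sg, map_one], ?_⟩
  intro m hm hm0
  have : m = 1 := by omega
  rw [this, pow_one]
  intro h
  obtain ⟨c, hc⟩ := S.exists_scalar h
  obtain ⟨h1, h2⟩ := dg_injective hc
  exact neg_one_ne S.two_ne_zero (h1.trans h2.symm)

theorem Setup.orderOf_gt (S : Setup ψ) : orderOf (gt ψ) = 2 := by
  rw [orderOf_eq_iff (by norm_num)]
  refine ⟨by rw [sq, gt, ← map_mul, dg_mul, neg_mul_neg, one_mul, dg_one, map_one], ?_⟩
  intro m hm hm0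
  have : m = 1 := by omega
  rw [this, pow_one]
  intro h
  have h1 := S.pow_card h
  rw [pow_odd_of_sq (by rw [dg_mul, neg_mul_neg, one_mul, dg_one]) S.odd_ker, ← dg_one] at h1
  exact neg_one_ne S.two_ne_zero (dg_injective h1).1.symm

theorem Setup.cHyp (S : Setup ψ) {d : Fˣ} (hd : ¬ IsSquare (d : F)) :
    CHyp (gt ψ) (Fintype.card F) 1 (gZ ψ) (gT ψ) (gT' d ψ) (gU ψ) (ψ wt) (ψ sg) (ψ sg) where
  orderOf_t := S.orderOf_gt
  odd_q := S.odd
  one_lt_q := Fintype.one_lt_card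
  eps := Or.inl rfl
  t_mem := S.mem_gZ_scalar _
  Z_le_T := Subgroup.map_mono center_le_Tor
  Z_le_T' := Subgroup.map_mono (center_le_Tns d)
  card_Z := by
    refine ⟨Nat.card ψ.ker, S.odd_ker, ?_⟩
    have h := S.card_gZ
    have h2 := card_F_eq (F := F)
    rw [Nat.card_eq_fintype_card] at h2
    push_cast [h2, ← h]
    ring
  card_T := by
    have h2 := card_F_eq (F := F)
    rw [Nat.card_eq_fintype_card] at h2
    rw [S.card_gT, h2]
    push_cast
    ring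
  card_T' := by
    have h2 := card_F_eq (F := F)
    rw [Nat.card_eq_fintype_card] at h2
    rw [S.card_gT' hd, h2]
    push_cast
    ring
  card_U := by rw [S.card_gU, Nat.card_eq_fintype_card]
  card_C := by
    rw [S.card_G]
    have h2 := card_F_eq (F := F)
    rw [Nat.card_eq_fintype_card (α := F)] at h2 ⊢
    rw [h2, show (Nat.card Fˣ + 1) ^ 2 - 1 = Nat.card Fˣ * (Nat.card Fˣ + 2) by
      rw [show (Nat.card Fˣ + 1) ^ 2 = Nat.card Fˣ * (Nat.card Fˣ + 2) + 1 by ring,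
        Nat.add_sub_cancel]]
    ring
  Z_central := by
    rintro _ ⟨z, hz, rfl⟩ c
    obtain ⟨g, rfl⟩ := S.surj c
    rw [← map_mul, ← map_mul, Subgroup.mem_center_iff.mp hz g]
  T_comm := by
    rintro _ ⟨x, hx, rfl⟩ _ ⟨y, hy, rfl⟩
    rw [← map_mul, ← map_mul, Tor_comm S.two_ne_zero hx hy]
  T'_cyclic := by
    have := isCyclic_Tns hd
    exact isCyclic_of_surjective (ψ.subgroupMap (Tns d)) (ψ.subgroupMap_surjective (Tns d))
  cent_T := by
    rintro _ ⟨x, hx, rfl⟩ hxz c hcx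
    obtain ⟨g, rfl⟩ := S.surj c
    rw [S.mem_gZ] at hxz
    exact S.mem_gT.mpr (mem_Tor_of_comm S.two_ne_zero hx hxz (S.comm_of hcx))
  cent_T' := by
    rintro _ ⟨x, hx, rfl⟩ hxz c hcx
    obtain ⟨g, rfl⟩ := S.surj c
    rw [S.mem_gZ] at hxz
    exact S.mem_gT'.mpr (mem_Tns_of_comm d hx hxz (S.comm_of hcx))
  U_comm := by
    rintro _ ⟨_, ⟨x, rfl⟩, rfl⟩ _ ⟨_, ⟨y, rfl⟩, rfl⟩
    rw [← map_mul, ← map_mul, up_mul, up_mul, add_comm]
  cent_U := by
    rintro _ ⟨_, ⟨x, rfl⟩, rfl⟩ hx c hcx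
    obtain ⟨g, rfl⟩ := S.surj c
    have hx0 : x ≠ 0 := by
      rintro rfl
      exact hx (by rw [up_zero, map_one])
    obtain ⟨z, hz, y, hy⟩ := exists_of_comm_up hx0 (S.comm_of hcx)
    exact ⟨ψ z, ⟨z, hz, rfl⟩, ψ (up y), ⟨up y, ⟨y, rfl⟩, rfl⟩, by rw [hy, map_mul]⟩
  s_sq := by rw [← map_mul, wt_mul_wt, map_one]
  s_notMem := by
    rw [S.mem_gT]
    exact wt_notMem S.two_ne_zero
  s_conj := by
    rintro _ ⟨x, hx, rfl⟩
    obtain ⟨a, b, rfl⟩ := exists_dg S.two_ne_zero hx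
    rw [S.conj_eq, wt_conj, S.mem_gT]
    exact dg_mem_Tor S.two_ne_zero _ _
  s_norm := by
    rintro _ ⟨x, hx, rfl⟩
    rw [S.wt_conj_eq hx]
    exact S.mem_gZ_scalar _
  fus_T := by
    rintro _ ⟨x, hx, rfl⟩ hxz c hcx
    obtain ⟨g, rfl⟩ := S.surj c
    rw [S.mem_gZ] at hxz
    rw [S.conj_eq, S.mem_gT] at hcx
    rcases fus_Tor S.two_ne_zero hx hxz hcx with h | h
    · exact Or.inl (S.mem_gT.mpr h)
    · right
      rw [← map_mul]
      exact S.mem_gT.mpr h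
  card_T₀ := by
    have h := S.card_norm_one Tor (S.ker_le.trans center_le_Tor) (exists_Tor_det S.two_ne_zero)
      (ψ wt) (fun g hg => S.wt_conj_eq hg)
    rw [card_Tor S.two_ne_zero] at h
    have hpos : 0 < Nat.card Fˣ := Nat.card_pos
    have h' := Nat.eq_of_mul_eq_mul_right hpos h
    have h2 := card_F_eq (F := F)
    rw [Nat.card_eq_fintype_card (α := F)] at h2
    rw [gT, h', h2]
    push_cast
    ring
  s'_sq := by rw [← map_mul, sg_mul_sg, map_one]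
  s'_notMem := by
    rw [S.mem_gT']
    exact sg_notMem S.two_ne_zero d
  s'_conj := by
    rintro _ ⟨x, hx, rfl⟩
    rw [S.conj_eq, S.mem_gT']
    exact sg_conj_mem d hx
  s'_norm := by
    rintro _ ⟨x, hx, rfl⟩
    rw [S.sg_conj_eq hx]
    exact S.mem_gZ_scalar _
  fus_T' := by
    rintro _ ⟨x, hx, rfl⟩ hxz c hcx
    obtain ⟨g, rfl⟩ := S.surj c
    rw [S.mem_gZ] at hxz
    rw [S.conj_eq, S.mem_gT'] at hcx
    rcases fus_Tns S.two_ne_zero d hx hxz hcx with h | h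
    · exact Or.inl (S.mem_gT'.mpr h)
    · right
      rw [← map_mul]
      exact S.mem_gT'.mpr h
  card_T'₀ := by
    have h := S.card_norm_one (Tns d) (S.ker_le.trans (center_le_Tns d)) (exists_Tns_det S.odd hd)
      (ψ sg) (fun g hg => S.sg_conj_eq hg)
    rw [card_Tns' hd, mul_comm (Nat.card Fˣ)] at h
    have hpos : 0 < Nat.card Fˣ := Nat.card_pos
    have h' := Nat.eq_of_mul_eq_mul_right hpos h
    have h2 := card_F_eq (F := F)
    rw [Nat.card_eq_fintype_card (α := F)] at h2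
    rw [gT', h', h2]
    push_cast
    ring
  fus_U := by
    rintro _ ⟨_, ⟨x, rfl⟩, rfl⟩ _ ⟨_, ⟨y, rfl⟩, rfl⟩ hx hy
    have hx0 : x ≠ 0 := by
      rintro rfl
      exact hx (by rw [up_zero, map_one])
    have hy0 : y ≠ 0 := by
      rintro rfl
      exact hy (by rw [up_zero, map_one])
    refine ⟨ψ (dg (Units.mk0 _ hy0 * (Units.mk0 _ hx0)⁻¹) 1), ?_⟩
    rw [S.conj_eq, dg_conj_up]
    congr 2
    simp [hx0]
  exhaust := by
    intro c
    obtain ⟨g, rfl⟩ := S.surj c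
    obtain ⟨k, h | h | ⟨z, hz, y, h⟩⟩ := GLTwo.exhaust S.two_ne_zero d hd g
    · exact ⟨ψ k, Or.inl (by rw [S.conj_eq]; exact S.mem_gT.mpr h)⟩
    · exact ⟨ψ k, Or.inr (Or.inl (by rw [S.conj_eq]; exact S.mem_gT'.mpr h))⟩
    · exact ⟨ψ k, Or.inr (Or.inr ⟨ψ z, ⟨z, hz, rfl⟩, ψ (up y),
        ⟨up y, ⟨y, rfl⟩, rfl⟩, by rw [S.conj_eq, h, map_mul]⟩)⟩
  u_mem := S.mem_gT.mpr (dg_mem_Tor S.two_ne_zero _ _)
  orderOf_u := S.orderOf_sg
  u_ne := by
    intro h
    have h1 : ψ (sg * (dg (-1) (-1))⁻¹) = 1 := by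
      rw [map_mul, map_inv, h, gt, mul_inv_cancel]
    obtain ⟨c, hc⟩ := S.exists_scalar h1
    rw [mul_inv_eq_iff_eq_mul, dg_mul, sg] at hc
    obtain ⟨h3, h4⟩ := dg_injective hc
    exact neg_one_ne S.two_ne_zero (h3.trans h4.symm)
  s_u := by
    rw [S.conj_eq, sg, wt_conj, gt, ← map_mul, dg_mul]
    simp
  invol_T := fun x hx hxx => S.invol_T hx hxx

/-! ### The linear character -/

/-- A character `β` of `Fˣ` of order `r = (q-1)₂`. -/
theorem exists_beta (hq : Odd (Fintype.card F)) {r k : ℕ} (hk : Odd k)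
    (hrk : Nat.card Fˣ = r * k) :
    ∃ β : Fˣ →* ℂˣ, (∀ c, β c ^ r = 1) ∧ β (-1) = -1 ∧ ∃ c, orderOf (β c) = r := by
  classical
  have h2 : (2 : F) ≠ 0 := by
    apply Ring.two_ne_zero
    intro h
    have := FiniteField.even_card_iff_char_two.mp h
    have h2 := Nat.odd_iff.mp hq
    omega
  have hN : 0 < Nat.card Fˣ := Nat.card_pos
  have hr : 0 < r := by
    rcases Nat.eq_zero_or_pos r with h | h
    · rw [h, zero_mul] at hrk; omega
    · exact h
  have hdvd : r ∣ Fintype.card F - 1 := by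
    rw [← Nat.card_eq_fintype_card, ← card_units, hrk]
    exact dvd_mul_right _ _
  obtain ⟨χ, hχ⟩ := MulChar.exists_mulChar_orderOf F hdvd
    (Complex.isPrimitiveRoot_exp r hr.ne')
  obtain ⟨g, hg⟩ := IsCyclic.exists_generator (α := Fˣ)
  have h1 : ∀ c : Fˣ, MulChar.toUnitHom χ c ^ r = 1 := by
    intro c
    ext
    have h3 : (χ ^ r) c = 1 := by
      rw [← hχ, pow_orderOf_eq_one, MulChar.one_apply_coe]
    rw [MulChar.pow_apply_coe] at h3
    push_cast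
    rw [MulChar.coe_toUnitHom]
    exact h3
  have h4 : orderOf (MulChar.toUnitHom χ g) = r := by
    apply Nat.dvd_antisymm (orderOf_dvd_of_pow_eq_one (h1 g))
    rw [← hχ]
    apply orderOf_dvd_of_pow_eq_one
    obtain ⟨n, hn⟩ : ∃ n, n = orderOf (MulChar.toUnitHom χ g) := ⟨_, rfl⟩
    rw [← hn]
    ext c
    obtain ⟨j, rfl⟩ := hg c
    rw [MulChar.pow_apply_coe, MulChar.one_apply_coe]
    have h5 : MulChar.toUnitHom χ (g ^ j) ^ n = 1 := by
      rw [map_zpow, ← zpow_natCast, ← _root_.zpow_mul, mul_comm, _root_.zpow_mul, zpow_natCast, hn,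
        pow_orderOf_eq_one, _root_.one_zpow]
    have h6 := congrArg (fun x : ℂˣ => (x : ℂ)) h5
    simp only [Units.val_pow_eq_pow_val, MulChar.coe_toUnitHom, Units.val_one] at h6
    exact h6
  refine ⟨MulChar.toUnitHom χ, h1, ?_, g, h4⟩
  -- value at `-1`
  have hsq : MulChar.toUnitHom χ (-1) * MulChar.toUnitHom χ (-1) = 1 := by
    rw [← map_mul]
    simp
  have hne : MulChar.toUnitHom χ (-1) ≠ 1 := by
    intro h7
    have hker := card_map_mul (MulChar.toUnitHom χ) ⊤ le_top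
    rw [← MonoidHom.range_eq_map, Subgroup.card_top] at hker
    have hrange : (MulChar.toUnitHom χ).range = Subgroup.zpowers (MulChar.toUnitHom χ g) := by
      ext y
      constructor
      · rintro ⟨c, rfl⟩
        obtain ⟨j, rfl⟩ := hg c
        exact ⟨j, by rw [map_zpow]⟩
      · rintro ⟨j, rfl⟩
        exact ⟨g ^ j, by rw [map_zpow]⟩
    rw [hrange, Nat.card_zpowers, h4, hrk, mul_comm r k] at hker
    have hker2 := Nat.eq_of_mul_eq_mul_right hr hker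
    have h8 : (⟨-1, h7⟩ : (MulChar.toUnitHom χ).ker) ^ k = 1 := by
      rw [← hker2]
      exact pow_card_eq_one'
    have h9 : ((-1 : Fˣ)) ^ k = 1 := congrArg Subtype.val h8
    have h10 := pow_odd_of_sq (x := (-1 : Fˣ)) (by simp) hk
    rw [h10] at h9
    exact neg_one_ne h2 h9.symm
  have h11 := congrArg (fun x : ℂˣ => (x : ℂ)) hsq
  simp only [Units.val_mul, Units.val_one] at h11
  rcases mul_self_eq_one_iff.mp h11 with h | h
  · exact absurd (Units.ext (by rw [h, Units.val_one])) hne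
  · exact Units.ext (by rw [h, Units.val_neg, Units.val_one])

theorem Setup.beta_odd (S : Setup ψ) {r : ℕ} {m : ℕ} (hr : r = 2 ^ m) {β : Fˣ →* ℂˣ}
    (hβ : ∀ c, β c ^ r = 1) {c : Fˣ} (hc : c ∈ D0 ψ) : β c = 1 := by
  have h1 : β c ^ Nat.card ψ.ker = 1 := by rw [← map_pow, S.pow_D0 hc, map_one]
  rw [← orderOf_eq_one_iff]
  refine Nat.eq_one_of_dvd_coprimes ?_ (orderOf_dvd_of_pow_eq_one h1)
    (orderOf_dvd_of_pow_eq_one (hβ c))
  rw [hr]
  exact (Nat.Coprime.pow_right _ (Nat.coprime_two_right.mpr S.odd_ker))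

theorem Setup.exists_b (S : Setup ψ) {r : ℕ} {m : ℕ} (hr : r = 2 ^ m) {β : Fˣ →* ℂˣ}
    (hβ : ∀ c, β c ^ r = 1) :
    ∃ b : G →* ℂˣ, ∀ g : GL (Fin 2) F, b (ψ g) = β (GeneralLinearGroup.det g) := by
  have hker : ψ.ker ≤ (β.comp GeneralLinearGroup.det).ker := by
    intro z hz
    have hz' : ψ z = 1 := MonoidHom.mem_ker.mp hz
    rw [MonoidHom.mem_ker, MonoidHom.comp_apply]
    obtain ⟨c, rfl⟩ := S.exists_scalar hz'
    rw [det_dg, map_mul, S.beta_odd hr hβ (mem_D0.mpr hz'), mul_one]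
  refine ⟨MonoidHom.liftOfSurjective ψ S.surj ⟨_, hker⟩, ?_⟩
  intro g
  have := MonoidHom.liftOfRightInverse_comp_apply ψ
    (Function.surjInv S.surj) (Function.rightInverse_surjInv S.surj) ⟨_, hker⟩ g
  exact this

theorem Setup.detHyp (S : Setup ψ) {d : Fˣ} (hd : ¬ IsSquare (d : F)) {r k m : ℕ} (hk : Odd k)
    (hrk : Nat.card Fˣ = r * k) (hr : r = 2 ^ m) (hm : 1 ≤ m) :
    ∃ b : G →* ℂˣ,
      DetHyp (Fintype.card F) 1 (gT ψ) (gT' d ψ) (gU ψ) (ψ wt) (ψ sg) (ψ sg) r b := by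
  obtain ⟨β, hβ, hβ1, c₀, hc₀⟩ := exists_beta S.odd hk hrk
  obtain ⟨b, hb⟩ := S.exists_b hr hβ
  refine ⟨b, ⟨m, hm, hr⟩, ⟨k, by exact_mod_cast hk, ?_⟩, ?_, ?_, ?_, ?_, ?_, ?_, ?_⟩
  · have h2 := card_F_eq (F := F)
    rw [Nat.card_eq_fintype_card (α := F), hrk] at h2
    rw [h2]
    push_cast
    ring
  · intro c
    obtain ⟨g, rfl⟩ := S.surj c
    rw [hb, hβ]
  · rw [hb, det_sg, hβ1]
  · rintro _ ⟨_, ⟨x, rfl⟩, rfl⟩
    rw [hb, det_up, map_one]
  · rintro _ ⟨g, hg, rfl⟩ h1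
    rw [hb]
    rw [S.wt_conj_eq hg] at h1
    exact S.beta_odd hr hβ (mem_D0.mpr h1)
  · rintro _ ⟨g, hg, rfl⟩ h1
    rw [hb]
    rw [S.sg_conj_eq hg] at h1
    exact S.beta_odd hr hβ (mem_D0.mpr h1)
  · obtain ⟨x, hx, hxc⟩ := exists_Tor_det S.two_ne_zero c₀
    exact ⟨ψ x, ⟨x, hx, rfl⟩, by rw [hb, hxc, hc₀]⟩
  · obtain ⟨x, hx, hxc⟩ := exists_Tns_det S.odd hd c₀
    exact ⟨ψ x, ⟨x, hx, rfl⟩, by rw [hb, hxc, hc₀]⟩

theorem Setup.exists_nonsquare (S : Setup ψ) : ∃ d : Fˣ, ¬ IsSquare (d : F) := by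
  have h : ringChar F ≠ 2 := by
    intro h
    have := FiniteField.even_card_iff_char_two.mp h
    have h2 := Nat.odd_iff.mp S.odd
    omega
  obtain ⟨a, ha⟩ := FiniteField.exists_nonsquare h
  have ha0 : a ≠ 0 := by
    rintro rfl
    exact ha IsSquare.zero
  exact ⟨Units.mk0 a ha0, ha⟩

/-- The setup from an isomorphism `C = GL₂(F)/Z₀`. -/
theorem exists_setup (hF : Odd (Fintype.card F)) (Z₀ : Subgroup (GL (Fin 2) F)) [Z₀.Normal]
    (hZc : Z₀ ≤ Subgroup.center (GL (Fin 2) F)) (hZo : Odd (Nat.card Z₀))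
    (φ : G ≃* (GL (Fin 2) F ⧸ Z₀)) :
    ∃ ψ : GL (Fin 2) F →* G, Setup ψ ∧ ψ.ker = Z₀ ∧ ∀ g, φ (ψ g) = QuotientGroup.mk g := by
  let ψ : GL (Fin 2) F →* G := φ.symm.toMonoidHom.comp (QuotientGroup.mk' Z₀)
  have hψ : ∀ g, ψ g = φ.symm (QuotientGroup.mk g) := fun g => rfl
  have hker : ψ.ker = Z₀ := by
    ext g
    rw [MonoidHom.mem_ker, hψ, map_eq_one_iff _ φ.symm.injective, QuotientGroup.eq_one_iff]
  have hsurj : Function.Surjective ψ := by
    intro c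
    obtain ⟨g, hg⟩ := QuotientGroup.mk_surjective (φ c)
    refine ⟨g, ?_⟩
    rw [hψ, hg, MulEquiv.symm_apply_apply]
  refine ⟨ψ, ⟨hF, hsurj, hker ▸ hZc, by rw [hker]; exact hZo⟩, hker, ?_⟩
  intro g
  rw [hψ, MulEquiv.apply_symm_apply]

/-- **The instance.** -/
theorem Setup.exists_cHyp_detHyp (S : Setup ψ) :
    ∃ (Z T T' U : Subgroup G) (s s' u : G) (r : ℕ) (b : G →* ℂˣ),
      CHyp (gt ψ) (Fintype.card F) 1 Z T T' U s s' u ∧
      DetHyp (Fintype.card F) 1 T T' U s s' u r b := by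
  obtain ⟨d, hd⟩ := S.exists_nonsquare
  obtain ⟨m, k, hk, hmk⟩ := Nat.exists_eq_two_pow_mul_odd (n := Nat.card Fˣ) Nat.card_pos.ne'
  have hm : 1 ≤ m := by
    rcases Nat.eq_zero_or_pos m with h | h
    · exfalso
      rw [h, pow_zero, one_mul] at hmk
      have h2 := card_F_eq (F := F)
      rw [Nat.card_eq_fintype_card (α := F), hmk] at h2
      have h3 := S.odd
      rw [h2] at h3
      exact (Nat.not_even_iff_odd.mpr h3) (hk.add_odd odd_one)
    · exact h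
  obtain ⟨b, hb⟩ := S.detHyp hd hk hmk rfl hm
  exact ⟨_, _, _, _, _, _, _, _, b, S.cHyp hd, hb⟩

/-- **The instance**, for a group `C` isomorphic to `GL₂(F)/Z₀` and its central involution. -/
theorem exists_cHyp_detHyp (hF : Odd (Fintype.card F)) (Z₀ : Subgroup (GL (Fin 2) F))
    [Z₀.Normal] (hZc : Z₀ ≤ Subgroup.center (GL (Fin 2) F)) (hZo : Odd (Nat.card Z₀))
    (hC : Nonempty (G ≃* (GL (Fin 2) F ⧸ Z₀))) (ht : orderOf t = 2) (htc : ∀ c, c * t = t * c) :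
    ∃ (Z T T' U : Subgroup G) (s s' u : G) (r : ℕ) (b : G →* ℂˣ),
      CHyp t (Fintype.card F) 1 Z T T' U s s' u ∧
      DetHyp (Fintype.card F) 1 T T' U s s' u r b := by
  obtain ⟨φ⟩ := hC
  obtain ⟨ψ, S, -, -⟩ := exists_setup hF Z₀ hZc hZo φ
  have h := S.eq_neg_one ht htc
  have h2 := S.exists_cHyp_detHyp
  rw [gt, ← h] at h2
  exact h2

/-- **The instance** for `S0484`: `C = C_G(t)`. -/
theorem exists_of_centralizer (hF : Odd (Fintype.card F)) (Z₀ : Subgroup (GL (Fin 2) F))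
    [Z₀.Normal] (hZc : Z₀ ≤ Subgroup.center (GL (Fin 2) F)) (hZo : Odd (Nat.card Z₀))
    (ht : orderOf t = 2)
    (hC : Nonempty (Subgroup.centralizer ({t} : Set G) ≃* (GL (Fin 2) F ⧸ Z₀))) :
    ∃ (t' : Subgroup.centralizer ({t} : Set G))
      (Z T T' U : Subgroup (Subgroup.centralizer ({t} : Set G)))
      (s s' u : Subgroup.centralizer ({t} : Set G)) (r : ℕ)
      (b : Subgroup.centralizer ({t} : Set G) →* ℂˣ), (t' : G) = t ∧
      CHyp t' (Fintype.card F) 1 Z T T' U s s' u ∧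
      DetHyp (Fintype.card F) 1 T T' U s s' u r b := by
  have hmem : t ∈ Subgroup.centralizer ({t} : Set G) := by
    rw [Subgroup.mem_centralizer_singleton_iff]
  obtain ⟨Z, T, T', U, s, s', u, r, b, h1, h2⟩ := exists_cHyp_detHyp
    (G := Subgroup.centralizer ({t} : Set G)) (t := ⟨t, hmem⟩) hF Z₀ hZc hZo hC
    (by rw [← ht, ← Subgroup.orderOf_coe]) (by
      rintro ⟨c, hc⟩
      exact Subtype.ext (Subgroup.mem_centralizer_singleton_iff.mp hc))
  exact ⟨⟨t, hmem⟩, Z, T, T', U, s, s', u, r, b, rfl, h1, h2⟩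

end

end Cfsg.Agent.Classification.InvCent.InstGL
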