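import Mathlib
import Cfsg.Agent.Classification.InvCent.Defs
import Cfsg.Agent.Classification.InvCent.FusionCore
import Cfsg.Agent.SporRec.LyReduce

/-!
# Fusion of involutions in a simple group with centralizer of type `GL₂(q)/Z₀`, `GU₂(q)/Z₀`

`result`: all involutions are conjugate to `t₀`, and some element swaps `t₀` and `u`.
-/

set_option autoImplicit false

namespace Cfsg.Agent.Classification.InvCent.Fusion

open Cfsg.Agent.Classification.InvCent

variable {G : Type*} [Group G] [Finite G] [IsSimpleGroup G] {t₀ : G} {q : ℕ} {ε : ℤ}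
  {t : Subgroup.centralizer ({t₀} : Set G)} {Z T T' U : Subgroup (Subgroup.centralizer ({t₀} : Set G))}
  {s s' u : Subgroup.centralizer ({t₀} : Set G)}

/-- `t₀` commutes with one of its conjugates different from `t₀` (Z*-theorem). -/
theorem exists_conj_ne (ht : (t : G) = t₀) (h : CHyp t q ε Z T T' U s s' u) :
    ∃ g : G, g * t₀ * g⁻¹ ≠ t₀ ∧ Commute t₀ (g * t₀ * g⁻¹) := by
  refine Cfsg.Agent.SporRec.LyReduce.exists_conj_ne t₀ ?_ ⟨s, u, ?_⟩
  · rw [← ht, Subgroup.orderOf_coe]; exact h.orderOf_t
  · intro hsu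
    have h1 : s * u = u * s := Subtype.ext hsu
    have h2 := h.s_u
    rw [h1, mul_inv_cancel_right] at h2
    have h3 : t = 1 := by
      have : t * u = 1 * u := by rw [one_mul]; exact h2.symm
      exact mul_right_cancel this
    have h4 := h.orderOf_t
    rw [h3, orderOf_one] at h4
    omega

/-- One class of involutions. -/
theorem isConj (ht : (t : G) = t₀) (h : CHyp t q ε Z T T' U s s' u) (x : G)
    (hx : orderOf x = 2) : IsConj t₀ x :=
  FusionCore.isConj_of_orderOf ht h (exists_conj_ne ht h) hx

/-- Some element of `G` swaps `t₀` and `u`. -/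
theorem exists_swap (ht : (t : G) = t₀) (h : CHyp t q ε Z T T' U s s' u) :
    ∃ w : G, w * t₀ * w⁻¹ = u ∧ w * (u : G) * w⁻¹ = t₀ :=
  FusionCore.exists_swap ht h (exists_conj_ne ht h)

end Cfsg.Agent.Classification.InvCent.Fusion
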