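import Mathlib
import Cfsg.Prelude.Def_Characters
import Cfsg.Agent.Characters.Core
import Cfsg.Agent.Characters.Brauer
import Cfsg.Agent.Characters.Linear
import Cfsg.Agent.Classification.InvCent.Defs

/-!
# Induced functions on `C` of type `GL₂(q)/Z₀`, `GU₂(q)/Z₀`: the subgroup `Z U`

* `ssum H F` is the sum of `F` over the subgroup `H`;
* `Base` : the facts on the centre `Z` and the root group `U`;
* `Gam` : the function induced from `Z U` of `f|_Z ⊗ μ`, `μ` a nontrivial linear character of `U`.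
-/

set_option autoImplicit false
set_option linter.unusedSectionVars false

open Cfsg
open scoped ComplexConjugate

namespace Cfsg.Agent.Classification.InvCent

open Cfsg.Agent.Characters

section Sums

variable {C : Type*} [Group C] [Fintype C]

open Classical in
/-- The sum of `F` over the elements of the subgroup `H`. -/
noncomputable def ssum (H : Subgroup C) (F : C → ℂ) : ℂ := ∑ x : C, if x ∈ H then F x else 0

theorem sum_subtype_eq (H : Subgroup C) [Fintype H] (F : C → ℂ) : ∑ h : H, F h = ssum H F := by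
  classical
  unfold ssum
  rw [← Finset.sum_filter]
  symm
  exact Finset.sum_subtype _ (by simp) _

theorem ssum_congr {H : Subgroup C} {F F' : C → ℂ} (h : ∀ x ∈ H, F x = F' x) :
    ssum H F = ssum H F' := by
  classical
  unfold ssum
  refine Finset.sum_congr rfl fun x _ => ?_
  split_ifs with hx
  · exact h x hx
  · rfl

theorem ssum_add (H : Subgroup C) (F F' : C → ℂ) :
    ssum H (fun x => F x + F' x) = ssum H F + ssum H F' := by
  classical
  unfold ssum
  rw [← Finset.sum_add_distrib]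
  refine Finset.sum_congr rfl fun x _ => ?_
  split_ifs <;> simp

theorem ssum_sub (H : Subgroup C) (F F' : C → ℂ) :
    ssum H (fun x => F x - F' x) = ssum H F - ssum H F' := by
  classical
  unfold ssum
  rw [← Finset.sum_sub_distrib]
  refine Finset.sum_congr rfl fun x _ => ?_
  split_ifs <;> simp

theorem ssum_mul (H : Subgroup C) (a : ℂ) (F : C → ℂ) :
    ssum H (fun x => a * F x) = a * ssum H F := by
  classical
  unfold ssum
  rw [Finset.mul_sum]
  refine Finset.sum_congr rfl fun x _ => ?_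
  split_ifs <;> simp

theorem ssum_zero (H : Subgroup C) : ssum H (fun _ => (0 : ℂ)) = 0 := by
  classical
  unfold ssum
  exact Finset.sum_eq_zero fun x _ => by split_ifs <;> rfl

theorem ssum_const (H : Subgroup C) (a : ℂ) : ssum H (fun _ => a) = Nat.card H * a := by
  classical
  have := Fintype.ofFinite H
  rw [← sum_subtype_eq, Finset.sum_const, Finset.card_univ, nsmul_eq_mul, Nat.card_eq_fintype_card]

/-- Reindexing along a bijection of `C` preserving `H`. -/
theorem ssum_equiv {H : Subgroup C} (e : C ≃ C) (he : ∀ x, e x ∈ H ↔ x ∈ H) (F : C → ℂ) :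
    ssum H (fun x => F (e x)) = ssum H F := by
  classical
  unfold ssum
  rw [← Equiv.sum_comp e (fun x => if x ∈ H then F x else 0)]
  refine Finset.sum_congr rfl fun x _ => ?_
  simp only [he]

/-- A function vanishing off a subgroup `K ≤ H`. -/
theorem ssum_of_support {K H : Subgroup C} (hKH : K ≤ H) {F : C → ℂ}
    (hF : ∀ x ∈ H, x ∉ K → F x = 0) : ssum H F = ssum K F := by
  classical
  unfold ssum
  refine Finset.sum_congr rfl fun x _ => ?_
  by_cases hK : x ∈ K
  · rw [if_pos hK, if_pos (hKH hK)]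
  · rw [if_neg hK]
    split_ifs with hH
    · exact hF x hH hK
    · rfl

theorem conj_ssum (H : Subgroup C) (F : C → ℂ) : conj (ssum H F) = ssum H (fun x => conj (F x)) := by
  classical
  unfold ssum
  rw [map_sum]
  refine Finset.sum_congr rfl fun x _ => ?_
  split_ifs <;> simp

/-- Frobenius reciprocity. -/
theorem classInner_ind (H : Subgroup C) (f : C → ℂ) {Ψ : C → ℂ} (hΨ : IsClassFunction C Ψ) :
    classInner (indFun H (fun h : H => f h)) Ψ =
      (Nat.card H : ℂ)⁻¹ * ssum H (fun x => f x * conj (Ψ x)) := by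
  classical
  have := Fintype.ofFinite H
  rw [Brauer.classInner_indFun H _ _ Ψ hΨ, Core.classInner_def]
  congr 1
  exact sum_subtype_eq H (fun x => f x * conj (Ψ x))

theorem ext_apply (H : Subgroup C) (f : C → ℂ) (x : C) [Decidable (x ∈ H)] :
    extendByZero H (fun h : H => f h) x = if x ∈ H then f x else 0 := by
  split_ifs with h
  · rw [Core.extendByZero_of_mem _ _ h]
  · rw [Core.extendByZero_of_notMem _ _ h]

theorem ind_apply (H : Subgroup C) (f : C → ℂ) (g : C) [DecidablePred (· ∈ H)] :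
    indFun H (fun h : H => f h) g = (Nat.card H : ℂ)⁻¹ *
      ∑ c : C, if c⁻¹ * g * c ∈ H then f (c⁻¹ * g * c) else 0 := by
  rw [Core.indFun_apply]
  congr 1
  exact Finset.sum_congr rfl fun c _ => ext_apply H f _

/-- Sum over the conjugates of `x` of a function supported on a set `S` of conjugates of `x`. -/
theorem sum_conj_orbit (x : C) (S : Finset C) (hS : ∀ y ∈ S, ∃ c : C, c⁻¹ * x * c = y)
    (g : C → ℂ) (hg : ∀ c : C, c⁻¹ * x * c ∉ S → g (c⁻¹ * x * c) = 0) :
    ∑ c : C, g (c⁻¹ * x * c) =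
      (Nat.card (Subgroup.centralizer ({x} : Set C)) : ℂ) * ∑ y ∈ S, g y := by
  classical
  rw [← Finset.sum_filter_add_sum_filter_not Finset.univ (fun c : C => c⁻¹ * x * c ∈ S),
    Finset.sum_eq_zero (s := Finset.univ.filter (fun c : C => ¬ c⁻¹ * x * c ∈ S))
      (fun c hc => hg c (Finset.mem_filter.1 hc).2), add_zero,
    ← Finset.sum_fiberwise_of_maps_to (t := S) (g := fun c : C => c⁻¹ * x * c)
      (fun c hc => (Finset.mem_filter.1 hc).2), Finset.mul_sum]
  refine Finset.sum_congr rfl fun y hy => ?_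
  rw [Finset.sum_congr rfl (g := fun _ => g y) (fun c hc => by
    rw [(Finset.mem_filter.1 hc).2]), Finset.sum_const, nsmul_eq_mul]
  congr 1
  rw [Nat.cast_inj, ← Fintype.card_coe, ← Nat.card_eq_fintype_card]
  obtain ⟨c₀, hc₀⟩ := hS y hy
  refine (Nat.card_congr ?_).symm
  refine
    { toFun := fun z => ⟨z.1 * c₀, ?_⟩
      invFun := fun a => ⟨a.1 * c₀⁻¹, ?_⟩
      left_inv := fun z => by ext; simp
      right_inv := fun a => by ext; simp }
  · have hz := Subgroup.mem_centralizer_singleton_iff.mp z.2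
    have h1 : (z.1 * c₀)⁻¹ * x * (z.1 * c₀) = y := by
      rw [← hc₀]
      have : (z.1 * c₀)⁻¹ * x * (z.1 * c₀) = c₀⁻¹ * (z.1⁻¹ * (x * z.1)) * c₀ := by group
      rw [this, ← hz]; group
    simp only [Finset.mem_filter, Finset.mem_univ, true_and]
    exact ⟨by rw [h1]; exact hy, h1⟩
  · have ha := (Finset.mem_filter.1 a.2).2
    rw [Subgroup.mem_centralizer_singleton_iff]
    have key : ∀ d : C, d⁻¹ * x * d = y → d * c₀⁻¹ * x = x * (d * c₀⁻¹) := by
      intro d hd
      have h1 : x = c₀ * y * c₀⁻¹ := by rw [← hc₀]; group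
      have h2 : x * d = d * y := by rw [← hd]; group
      calc d * c₀⁻¹ * x = d * c₀⁻¹ * (c₀ * y * c₀⁻¹) := by rw [← h1]
        _ = d * y * c₀⁻¹ := by group
        _ = x * (d * c₀⁻¹) := by rw [← h2]; group
    exact key _ ha

end Sums

/-- The facts on the centre `Z` and the root group `U`. -/
structure Base {C : Type*} [Group C] (q : ℕ) (Z U : Subgroup C) : Prop where
  odd_q : Odd q
  one_lt_q : 1 < q
  coprime : (Nat.card Z).Coprime q
  card_U : Nat.card U = q
  card_C : Nat.card C = Nat.card Z * (q * (q ^ 2 - 1))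
  Z_central : ∀ z ∈ Z, ∀ c : C, c * z = z * c
  U_comm : ∀ x ∈ U, ∀ y ∈ U, x * y = y * x
  cent_U : ∀ x ∈ U, x ≠ 1 → ∀ c : C, c * x = x * c → ∃ z ∈ Z, ∃ v ∈ U, c = z * v
  fus_U : ∀ x ∈ U, ∀ y ∈ U, x ≠ 1 → y ≠ 1 → ∃ c : C, c * x * c⁻¹ = y

namespace Base

section Algebra

variable {C : Type*} [Group C] {q : ℕ} {Z U : Subgroup C}

theorem pow_card_U (h : Base q Z U) {v : C} (hv : v ∈ U) : v ^ q = 1 := by
  have h1 : (⟨v, hv⟩ : U) ^ Nat.card U = 1 := pow_card_eq_one'
  rw [h.card_U] at h1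
  exact congrArg Subtype.val h1

theorem pow_card_Z {z : C} (hz : z ∈ Z) : z ^ Nat.card Z = 1 :=
  congrArg Subtype.val (pow_card_eq_one' (x := (⟨z, hz⟩ : Z)))

/-- `Z ∩ U = 1`. -/
theorem eq_one_of_mem (h : Base q Z U) {x : C} (hz : x ∈ Z) (hu : x ∈ U) : x = 1 := by
  have h1 := orderOf_dvd_of_pow_eq_one (pow_card_Z hz)
  have h2 := orderOf_dvd_of_pow_eq_one (h.pow_card_U hu)
  exact orderOf_eq_one_iff.1 (Nat.eq_one_of_dvd_coprimes h.coprime h1 h2)

/-- The homomorphism `Z × U → C`. -/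
def hom (h : Base q Z U) : Z × U →* C where
  toFun x := x.1 * x.2
  map_one' := by simp
  map_mul' x y := by
    have h1 := h.Z_central y.1 y.1.2 (x.2 : C)
    simp only [Prod.fst_mul, Prod.snd_mul, Subgroup.coe_mul]
    rw [mul_assoc, mul_assoc, ← mul_assoc (y.1 : C), ← h1, mul_assoc]

theorem hom_apply (h : Base q Z U) (x : Z × U) : h.hom x = x.1 * x.2 := rfl

theorem hom_injective (h : Base q Z U) : Function.Injective h.hom := by
  rw [injective_iff_map_eq_one]
  rintro ⟨z, v⟩ hzv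
  have h1 : (z : C) * v = 1 := hzv
  have h2 : (z : C) = (v : C)⁻¹ := eq_inv_of_mul_eq_one_left h1
  have h3 : (z : C) = 1 := h.eq_one_of_mem z.2 (by rw [h2]; exact inv_mem v.2)
  have h4 : (v : C) = 1 := by rw [h3, one_mul] at h1; exact h1
  exact Prod.ext (Subtype.ext h3) (Subtype.ext h4)

/-- The subgroup `Z U`. -/
def ZU (h : Base q Z U) : Subgroup C := h.hom.range

theorem mem_ZU (h : Base q Z U) {x : C} : x ∈ h.ZU ↔ ∃ z ∈ Z, ∃ v ∈ U, x = z * v := by
  constructor
  · rintro ⟨⟨z, v⟩, rfl⟩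
    exact ⟨z, z.2, v, v.2, rfl⟩
  · rintro ⟨z, hz, v, hv, rfl⟩
    exact ⟨(⟨z, hz⟩, ⟨v, hv⟩), rfl⟩

theorem mul_mem_ZU (h : Base q Z U) {z v : C} (hz : z ∈ Z) (hv : v ∈ U) : z * v ∈ h.ZU :=
  h.mem_ZU.2 ⟨z, hz, v, hv, rfl⟩

/-- The isomorphism `Z × U ≃ Z U`. -/
noncomputable def equiv (h : Base q Z U) : Z × U ≃* h.ZU := MonoidHom.ofInjective h.hom_injective

theorem equiv_symm_apply (h : Base q Z U) {z v : C} (hz : z ∈ Z) (hv : v ∈ U) :
    h.equiv.symm ⟨z * v, h.mul_mem_ZU hz hv⟩ = (⟨z, hz⟩, ⟨v, hv⟩) := by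
  rw [MulEquiv.symm_apply_eq]
  rfl

theorem card_ZU (h : Base q Z U) : Nat.card h.ZU = Nat.card Z * q := by
  rw [← Nat.card_congr h.equiv.toEquiv, Nat.card_prod, h.card_U]

/-- The function `f|_Z ⊗ μ` on `Z U`. -/
noncomputable def theta (h : Base q Z U) (μ : U →* ℂˣ) (f : C → ℂ) : h.ZU → ℂ :=
  fun c => f (h.equiv.symm c).1 * (μ (h.equiv.symm c).2 : ℂ)

theorem theta_apply (h : Base q Z U) (μ : U →* ℂˣ) (f : C → ℂ) {z v : C} (hz : z ∈ Z)
    (hv : v ∈ U) : h.theta μ f ⟨z * v, h.mul_mem_ZU hz hv⟩ = f z * (μ ⟨v, hv⟩ : ℂ) := by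
  unfold theta
  rw [h.equiv_symm_apply hz hv]

/-- `z v ∈ Z U` with `v` conjugate to an element of `U`: then `v ∈ U`. -/
theorem mem_U_of_mem_ZU (h : Base q Z U) {z v : C} (hz : z ∈ Z) (hv : v ^ q = 1)
    (hzv : z * v ∈ h.ZU) : v ∈ U := by
  obtain ⟨z', hz', v', hv', he⟩ := h.mem_ZU.1 hzv
  have h1 : v = (z⁻¹ * z') * v' := by rw [mul_assoc, ← he]; group
  set a := z⁻¹ * z' with ha
  have haZ : a ∈ Z := mul_mem (inv_mem hz) hz'
  have h2 : (a * v') ^ q = a ^ q * v' ^ q :=
    (show Commute a v' from (h.Z_central a haZ v').symm).mul_pow q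
  rw [← h1, hv, h.pow_card_U hv', mul_one] at h2
  have h3 : a = 1 := by
    have h4 := orderOf_dvd_of_pow_eq_one (pow_card_Z haZ)
    have h5 := orderOf_dvd_of_pow_eq_one h2.symm
    exact orderOf_eq_one_iff.1 (Nat.eq_one_of_dvd_coprimes h.coprime h4 h5)
  rw [h1, h3, one_mul]
  exact hv'

theorem exists_ne_one (h : Base q Z U) : ∃ v ∈ U, v ≠ 1 := by
  by_contra hcon
  push Not at hcon
  have h1 : U = ⊥ := by
    rw [eq_bot_iff]
    intro x hx
    exact hcon x hx
  have h2 := h.card_U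
  rw [h1, Subgroup.card_bot] at h2
  have := h.one_lt_q
  omega

theorem exists_mu [Finite C] (h : Base q Z U) : ∃ μ : U →* ℂˣ, ∃ v : U, μ v ≠ 1 := by
  obtain ⟨v, hv, hv1⟩ := h.exists_ne_one
  let _ : CommGroup U := { (inferInstance : Group U) with
    mul_comm := fun x y => Subtype.ext (h.U_comm x x.2 y y.2) }
  have hne : (⟨v, hv⟩ : U) ≠ 1 := fun h1 => hv1 (congrArg Subtype.val h1)
  obtain ⟨φ, hφ⟩ := CommGroup.exists_apply_ne_one_of_hasEnoughRootsOfUnity U ℂ hne
  exact ⟨φ, _, hφ⟩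

end Algebra

section Gamma

variable {C : Type*} [Group C] [Fintype C] {q : ℕ} {Z U : Subgroup C}

theorem card_Z_ne (_ : Base q Z U) : (Nat.card Z : ℂ) ≠ 0 := by
  exact_mod_cast Nat.card_pos.ne'

theorem q_ne (h : Base q Z U) : (q : ℂ) ≠ 0 := by
  have := h.one_lt_q
  exact_mod_cast (by omega : q ≠ 0)

theorem card_C_cast (h : Base q Z U) : (Nat.card C : ℂ) = Nat.card Z * (q * ((q : ℂ) ^ 2 - 1)) := by
  rw [h.card_C]
  have : 1 ≤ q ^ 2 := Nat.one_le_pow _ _ (by have := h.one_lt_q; omega)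
  push_cast [this]
  ring

theorem ssum_mu {μ : U →* ℂˣ} (hμ : ∃ v : U, μ v ≠ 1) [Fintype U] : ∑ v : U, (μ v : ℂ) = 0 := by
  obtain ⟨w, hw⟩ := hμ
  have h1 : (μ w : ℂ) * ∑ v : U, (μ v : ℂ) = ∑ v : U, (μ v : ℂ) := by
    rw [Finset.mul_sum, ← Equiv.sum_comp (Equiv.mulLeft w) (fun v => (μ v : ℂ))]
    refine Finset.sum_congr rfl fun v _ => ?_
    rw [Equiv.coe_mulLeft, map_mul, Units.val_mul]
  have h2 : ((μ w : ℂ) - 1) * ∑ v : U, (μ v : ℂ) = 0 := by rw [sub_mul, h1, one_mul, sub_self]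
  refine (mul_eq_zero.1 h2).resolve_left fun h3 => hw ?_
  exact Units.ext (by rw [Units.val_one]; exact sub_eq_zero.1 h3)

/-- The function induced from `Z U` by `f|_Z ⊗ μ`. -/
noncomputable def Gam (h : Base q Z U) (μ : U →* ℂˣ) (f : C → ℂ) : C → ℂ :=
  indFun h.ZU (h.theta μ f)

theorem Gam_isClassFunction (h : Base q Z U) (μ : U →* ℂˣ) (f : C → ℂ) :
    IsClassFunction C (h.Gam μ f) := Brauer.indFun_isClassFunction _ _

theorem Gam_congr (h : Base q Z U) (μ : U →* ℂˣ) {f f' : C → ℂ} (hf : ∀ z ∈ Z, f z = f' z) :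
    h.Gam μ f = h.Gam μ f' := by
  unfold Gam
  congr 1
  funext c
  unfold theta
  rw [hf _ (h.equiv.symm c).1.2]

/-- The sum defining the induced function at an element. -/
theorem Gam_apply (h : Base q Z U) (μ : U →* ℂˣ) (f : C → ℂ) (g : C) :
    h.Gam μ f g = (Nat.card Z * q : ℂ)⁻¹ *
      ∑ c : C, extendByZero h.ZU (h.theta μ f) (c⁻¹ * g * c) := by
  rw [Gam, Core.indFun_apply, h.card_ZU]
  push_cast
  rfl

theorem Gam_of_notMem (h : Base q Z U) (μ : U →* ℂˣ) (f : C → ℂ) {g : C}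
    (hg : ∀ c : C, c⁻¹ * g * c ∉ h.ZU) : h.Gam μ f g = 0 := by
  rw [h.Gam_apply, Finset.sum_eq_zero (fun c _ => Core.extendByZero_of_notMem _ _ (hg c)), mul_zero]

theorem Gam_Z (h : Base q Z U) (μ : U →* ℂˣ) (f : C → ℂ) {z : C} (hz : z ∈ Z) :
    h.Gam μ f z = ((q : ℂ) ^ 2 - 1) * f z := by
  have h1 : ∀ c : C, extendByZero h.ZU (h.theta μ f) (c⁻¹ * z * c) = f z := by
    intro c
    have h2 : c⁻¹ * z * c = z * 1 := by
      rw [h.Z_central z hz c⁻¹]; group
    rw [h2, Core.extendByZero_of_mem _ _ (h.mul_mem_ZU hz (one_mem U)),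
      h.theta_apply μ f hz (one_mem U)]
    have h3 : (⟨1, one_mem U⟩ : U) = 1 := rfl
    rw [h3, map_one, Units.val_one, mul_one]
  rw [h.Gam_apply, Finset.sum_congr rfl (fun c _ => h1 c), Finset.sum_const, Finset.card_univ,
    nsmul_eq_mul, ← Nat.card_eq_fintype_card, h.card_C_cast]
  have := h.card_Z_ne
  have := h.q_ne
  field_simp

theorem centralizer_eq (h : Base q Z U) {v : C} (hv : v ∈ U) (hv1 : v ≠ 1) :
    Subgroup.centralizer ({v} : Set C) = h.ZU := by
  ext c
  rw [Subgroup.mem_centralizer_singleton_iff, h.mem_ZU]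
  constructor
  · intro hc
    exact h.cent_U v hv hv1 c hc
  · rintro ⟨z, hz, w, hw, rfl⟩
    rw [mul_assoc, h.U_comm w hw v hv, ← mul_assoc, ← h.Z_central z hz v, mul_assoc]

theorem Gam_ZU (h : Base q Z U) {μ : U →* ℂˣ} (hμ : ∃ v : U, μ v ≠ 1) (f : C → ℂ) {z v : C}
    (hz : z ∈ Z) (hv : v ∈ U) (hv1 : v ≠ 1) : h.Gam μ f (z * v) = - f z := by
  classical
  have := Fintype.ofFinite U
  let g : C → ℂ := fun x => if hx : x ∈ U then f z * (μ ⟨x, hx⟩ : ℂ) else 0
  have h1 : ∀ c : C, extendByZero h.ZU (h.theta μ f) (c⁻¹ * (z * v) * c) = g (c⁻¹ * v * c) := by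
    intro c
    have h2 : c⁻¹ * (z * v) * c = z * (c⁻¹ * v * c) := by
      rw [← mul_assoc c⁻¹ z, h.Z_central z hz c⁻¹]; group
    rw [h2]
    by_cases hc : c⁻¹ * v * c ∈ U
    · rw [Core.extendByZero_of_mem _ _ (h.mul_mem_ZU hz hc), h.theta_apply μ f hz hc]
      simp only [g, dif_pos hc]
    · rw [Core.extendByZero_of_notMem]
      · simp only [g, dif_neg hc]
      · intro h3
        apply hc
        refine h.mem_U_of_mem_ZU hz ?_ h3
        have h4 : (c⁻¹ * v * c) ^ q = c⁻¹ * v ^ q * c := by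
          have := conj_pow (i := q) (a := c⁻¹) (b := v)
          rwa [inv_inv] at this
        rw [h4, h.pow_card_U hv]
        group
  rw [h.Gam_apply, Finset.sum_congr rfl (fun c _ => h1 c),
    sum_conj_orbit v ((Finset.univ.filter (fun x : C => x ∈ U)).erase 1), h.centralizer_eq hv hv1,
    h.card_ZU]
  · have h5 : ∑ y ∈ (Finset.univ.filter (fun x : C => x ∈ U)).erase 1, g y = - f z := by
      have h6 : ∑ y ∈ Finset.univ.filter (fun x : C => x ∈ U), g y = 0 := by
        rw [Finset.sum_subtype (p := fun x => x ∈ U) (Finset.univ.filter (fun x : C => x ∈ U))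
          (by simp) g]
        have h7 : ∀ x : U, g x = f z * (μ x : ℂ) := fun x => by
          simp only [g, dif_pos x.2]
        rw [Finset.sum_congr rfl (fun x _ => h7 x), ← Finset.mul_sum]
        have h8 : ∑ i : {x : C // x ∈ U}, (μ i : ℂ) = 0 := ssum_mu hμ
        rw [h8, mul_zero]
      have h9 := Finset.add_sum_erase (Finset.univ.filter (fun x : C => x ∈ U)) g
        (a := 1) (by simp [one_mem])
      have h10 : g 1 = f z := by
        simp only [g, dif_pos (one_mem U)]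
        have h3 : (⟨1, one_mem U⟩ : U) = 1 := rfl
        rw [h3, map_one, Units.val_one, mul_one]
      rw [h6, h10] at h9
      linear_combination h9
    rw [h5]
    have := h.card_Z_ne
    have := h.q_ne
    push_cast
    field_simp
  · intro y hy
    simp only [Finset.mem_erase, Finset.mem_filter, Finset.mem_univ, true_and] at hy
    obtain ⟨c, hc⟩ := h.fus_U v hv y hy.2 hv1 hy.1
    exact ⟨c⁻¹, by rw [inv_inv]; exact hc⟩
  · intro c hc
    simp only [Finset.mem_erase, Finset.mem_filter, Finset.mem_univ, true_and, not_and] at hc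
    have h3 : c⁻¹ * v * c ≠ 1 := by
      intro h4
      apply hv1
      have : v = c * (c⁻¹ * v * c) * c⁻¹ := by group
      rw [this, h4]; group
    simp only [g, dif_neg (hc h3)]

/-- Inner products with `Gam`. -/
theorem classInner_Gam (h : Base q Z U) {μ : U →* ℂˣ} (hμ : ∃ v : U, μ v ≠ 1) (f : C → ℂ)
    {Ψ : C → ℂ} (hΨ : IsClassFunction C Ψ) {v₀ : C} (hv₀ : v₀ ∈ U) (hv₀1 : v₀ ≠ 1) :
    classInner (h.Gam μ f) Ψ = (Nat.card Z * q : ℂ)⁻¹ *
      ssum Z (fun z => f z * conj (Ψ z - Ψ (z * v₀))) := by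
  classical
  have := Fintype.ofFinite h.ZU
  have := Fintype.ofFinite U
  have := Fintype.ofFinite Z
  rw [Gam, Brauer.classInner_indFun _ _ _ Ψ hΨ, Core.classInner_def, h.card_ZU]
  push_cast
  congr 1
  rw [← Equiv.sum_comp h.equiv.toEquiv, Fintype.sum_prod_type, ← sum_subtype_eq]
  refine Finset.sum_congr rfl fun z _ => ?_
  have h1 : ∀ v : U, h.theta μ f (h.equiv.toEquiv (z, v)) *
      conj (Ψ ((h.equiv.toEquiv (z, v) : h.ZU) : C)) =
      f z * ((μ v : ℂ) * conj (if v = 1 then Ψ z - Ψ (z * v₀) else 0)) +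
        f z * (μ v : ℂ) * conj (Ψ (z * v₀)) := by
    intro v
    have h2 : h.theta μ f (h.equiv.toEquiv (z, v)) = f z * (μ v : ℂ) :=
      h.theta_apply μ f z.2 v.2
    have h3 : ((h.equiv.toEquiv (z, v) : h.ZU) : C) = z * v := rfl
    rw [h2, h3]
    split_ifs with h4
    · subst h4
      rw [Subgroup.coe_one, mul_one, map_sub]
      ring
    · have h5 : (v : C) ≠ 1 := fun h6 => h4 (Subtype.ext h6)
      obtain ⟨c, hc⟩ := h.fus_U v₀ hv₀ v v.2 hv₀1 h5
      have h6 : Ψ ((z : C) * v) = Ψ (z * v₀) := by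
        rw [← hΨ (z * v₀) c]
        congr 1
        rw [← hc, ← mul_assoc c, h.Z_central z z.2 c]
        group
      rw [h6, map_zero, mul_zero, mul_zero, zero_add]
  rw [Finset.sum_congr rfl (fun v _ => h1 v), Finset.sum_add_distrib, ← Finset.mul_sum]
  have h7 : ∑ v : U, (f z * (μ v : ℂ) * conj (Ψ (z * v₀))) = 0 := by
    rw [← Finset.sum_mul, ← Finset.mul_sum, ssum_mu hμ]
    ring
  rw [h7, add_zero]
  congr 1
  rw [Finset.sum_eq_single 1]
  · rw [map_one, Units.val_one, one_mul, if_pos rfl]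
  · intro v _ hv
    rw [if_neg hv, map_zero, mul_zero]
  · intro h8
    exact absurd (Finset.mem_univ _) h8

/-- `Gam` of a generalized character of `Z` is a generalized character. -/
theorem isGeneralized_Gam (h : Base q Z U) (μ : U →* ℂˣ) {f : C → ℂ}
    (hf : IsGeneralizedCharacter Z (fun z : Z => f z)) : IsGeneralizedCharacter C (h.Gam μ f) := by
  refine Brauer.isGeneralizedCharacter_indFun _ ?_
  have h1 : IsGeneralizedCharacter h.ZU
      (fun c => f (((MonoidHom.fst Z U).comp h.equiv.symm.toMonoidHom) c)) := by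
    obtain ⟨χ, ψ, hχ, hψ, he⟩ := hf
    refine ⟨fun c => χ (((MonoidHom.fst Z U).comp h.equiv.symm.toMonoidHom) c),
      fun c => ψ (((MonoidHom.fst Z U).comp h.equiv.symm.toMonoidHom) c),
      Core.isCharacter_comp _ hχ, Core.isCharacter_comp _ hψ, ?_⟩
    funext c
    exact congrFun he _
  have h2 : IsGeneralizedCharacter h.ZU
      (fun c => ((μ.comp ((MonoidHom.snd Z U).comp h.equiv.symm.toMonoidHom)) c : ℂ)) :=
    Brauer.isGeneralizedCharacter_of_isCharacter (Linear.isCharacter_hom _)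
  exact Brauer.isGeneralizedCharacter_mul h1 h2

end Gamma

end Base

end Cfsg.Agent.Classification.InvCent
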