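import Mathlib
import Cfsg.Agent.Classification.InvCent.CBase

/-!
# The functions `R_T(f)` on `C` of type `GL₂(q)/Z₀`, `GU₂(q)/Z₀`

`R_T(f) = Ind_T^C f - Ind_{ZU}^C (f|_Z ⊗ μ)`. Values: `(1 + δ q) f z` at `z ∈ Z`, `f z` at `z v`,
`f x + f x^s` at `x ∈ T ∖ Z`, zero at the elements not conjugate into `T` or `Z U`.
-/

set_option autoImplicit false
set_option linter.unusedSectionVars false

open Cfsg
open scoped ComplexConjugate

namespace Cfsg.Agent.Classification.InvCent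

open Cfsg.Agent.Characters

/-- A torus `T` of `C`. -/
structure Torus {C : Type*} [Group C] (q : ℕ) (δ : ℤ) (Z T : Subgroup C) (s : C) : Prop where
  sign : δ = 1 ∨ δ = -1
  Z_le : Z ≤ T
  card : (Nat.card T : ℤ) = Nat.card Z * (q - δ)
  comm : ∀ x ∈ T, ∀ y ∈ T, x * y = y * x
  cent : ∀ x ∈ T, x ∉ Z → ∀ c : C, c * x = x * c → c ∈ T
  s_sq : s * s = 1
  s_notMem : s ∉ T
  s_conj : ∀ x ∈ T, s * x * s⁻¹ ∈ T
  s_norm : ∀ x ∈ T, x * (s * x * s⁻¹) ∈ Z
  fus : ∀ x ∈ T, x ∉ Z → ∀ c : C, c * x * c⁻¹ ∈ T → c ∈ T ∨ s * c ∈ T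
  card₀ : (Nat.card {x : T // (x : C) * (s * x * s⁻¹) = 1} : ℤ) = q - δ

theorem coprime_of_sub {n q : ℕ} {δ : ℤ} (hδ : δ = 1 ∨ δ = -1) {z₀ : ℤ}
    (h : (n : ℤ) * z₀ = q - δ) : n.Coprime q := by
  rw [← Nat.isCoprime_iff_coprime]
  rcases hδ with rfl | rfl
  · exact ⟨-z₀, 1, by linear_combination -h⟩
  · exact ⟨z₀, -1, by linear_combination h⟩

section

variable {C : Type*} [Group C] {t : C} {q : ℕ} {ε : ℤ} {Z T T' U : Subgroup C} {s s' u : C}

theorem CHyp.base (h : CHyp t q ε Z T T' U s s' u) : Base q Z U where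
  odd_q := h.odd_q
  one_lt_q := h.one_lt_q
  coprime := by
    obtain ⟨z₀, -, hz⟩ := h.card_Z
    exact coprime_of_sub h.eps hz
  card_U := h.card_U
  card_C := h.card_C
  Z_central := h.Z_central
  U_comm := h.U_comm
  cent_U := h.cent_U
  fus_U := h.fus_U

theorem CHyp.torus (h : CHyp t q ε Z T T' U s s' u) : Torus q ε Z T s where
  sign := h.eps
  Z_le := h.Z_le_T
  card := h.card_T
  comm := h.T_comm
  cent := h.cent_T
  s_sq := h.s_sq
  s_notMem := h.s_notMem
  s_conj := h.s_conj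
  s_norm := h.s_norm
  fus := h.fus_T
  card₀ := h.card_T₀

theorem CHyp.T'_comm (h : CHyp t q ε Z T T' U s s' u) :
    ∀ x ∈ T', ∀ y ∈ T', x * y = y * x := by
  have := h.T'_cyclic
  intro x hx y hy
  have h1 := (IsCyclic.isMulCommutative (α := T')).is_comm.comm (⟨x, hx⟩ : T') ⟨y, hy⟩
  exact congrArg Subtype.val h1

theorem CHyp.torus' (h : CHyp t q ε Z T T' U s s' u) : Torus q (-ε) Z T' s' where
  sign := by rcases h.eps with h1 | h1 <;> simp [h1]
  Z_le := h.Z_le_T'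
  card := by rw [h.card_T']; ring
  comm := h.T'_comm
  cent := h.cent_T'
  s_sq := h.s'_sq
  s_notMem := h.s'_notMem
  s_conj := h.s'_conj
  s_norm := h.s'_norm
  fus := h.fus_T'
  card₀ := by rw [h.card_T'₀]; ring

end

theorem card_centralizer_conj {C : Type*} [Group C] (x c : C) :
    Nat.card (Subgroup.centralizer ({c⁻¹ * x * c} : Set C)) =
      Nat.card (Subgroup.centralizer ({x} : Set C)) := by
  refine Nat.card_congr
    { toFun := fun g => ⟨c * g.1 * c⁻¹, ?_⟩
      invFun := fun g => ⟨c⁻¹ * g.1 * c, ?_⟩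
      left_inv := fun g => by ext; simp only; group
      right_inv := fun g => by ext; simp only; group }
  · have h1 := Subgroup.mem_centralizer_singleton_iff.1 g.2
    rw [Subgroup.mem_centralizer_singleton_iff]
    have h2 : c * g.1 * c⁻¹ * x = c * (g.1 * (c⁻¹ * x * c)) * c⁻¹ := by group
    rw [h2, h1]; group
  · have h1 := Subgroup.mem_centralizer_singleton_iff.1 g.2
    rw [Subgroup.mem_centralizer_singleton_iff]
    have h2 : c⁻¹ * g.1 * c * (c⁻¹ * x * c) = c⁻¹ * (g.1 * x) * c := by group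
    rw [h2, h1]; group

namespace Torus

section Algebra

variable {C : Type*} [Group C] {q : ℕ} {δ : ℤ} {Z T : Subgroup C} {s : C}

theorem centralizer_eq (h : Torus q δ Z T s) {x : C} (hx : x ∈ T) (hxZ : x ∉ Z) :
    Subgroup.centralizer ({x} : Set C) = T := by
  ext c
  rw [Subgroup.mem_centralizer_singleton_iff]
  exact ⟨fun hc => h.cent x hx hxZ c hc, fun hc => h.comm c hc x hx⟩

theorem sq_sign (h : Torus q δ Z T s) : δ * δ = 1 := by
  rcases h.sign with rfl | rfl <;> norm_num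

theorem s_inv (h : Torus q δ Z T s) : s⁻¹ = s := inv_eq_of_mul_eq_one_left h.s_sq

theorem s_conj_conj (h : Torus q δ Z T s) (x : C) : s * (s * x * s⁻¹) * s⁻¹ = x := by
  rw [h.s_inv]
  calc s * (s * x * s) * s = (s * s) * x * (s * s) := by group
    _ = x := by rw [h.s_sq, one_mul, mul_one]

theorem s_conj_notMem (h : Torus q δ Z T s) (hZ : ∀ z ∈ Z, ∀ c : C, c * z = z * c) {x : C}
    (hxZ : x ∉ Z) : s * x * s⁻¹ ∉ Z := by
  intro h1
  apply hxZ
  have h2 := h.s_conj_conj x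
  rw [hZ _ h1 s, mul_assoc, mul_inv_cancel, mul_one] at h2
  rw [← h2]
  exact h1

theorem sub_ne_zero (h : Torus q δ Z T s) (hq : 1 < q) : (q : ℂ) - δ ≠ 0 := by
  intro h1
  have h2 : (q : ℤ) - δ = 0 := by exact_mod_cast h1
  rcases h.sign with h3 | h3 <;> omega

theorem add_ne_zero (h : Torus q δ Z T s) (hq : 1 < q) : (q : ℂ) + δ ≠ 0 := by
  intro h1
  have h2 : (q : ℤ) + δ = 0 := by exact_mod_cast h1
  rcases h.sign with h3 | h3 <;> omega

theorem card_cast (h : Torus q δ Z T s) : (Nat.card T : ℂ) = Nat.card Z * (q - δ) := by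
  have := h.card
  exact_mod_cast this

end Algebra

section Finite

variable {C : Type*} [Group C] [Fintype C] {q : ℕ} {δ δ' : ℤ} {Z T T' U : Subgroup C} {s s' : C}

theorem conj_notMem_ZU (h : Torus q δ Z T s) (hb : Base q Z U) {x : C} (hx : x ∈ T)
    (hxZ : x ∉ Z) (c : C) : c⁻¹ * x * c ∉ hb.ZU := by
  intro h1
  obtain ⟨z, hz, v, hv, he⟩ := hb.mem_ZU.1 h1
  have hv1 : v ≠ 1 := by
    rintro rfl
    apply hxZ
    have h2 : x = c * (c⁻¹ * x * c) * c⁻¹ := by group
    rw [h2, he, mul_one, hb.Z_central z hz c, mul_assoc, mul_inv_cancel, mul_one]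
    exact hz
  have h3 : Subgroup.centralizer ({z * v} : Set C) = hb.ZU := by
    rw [← hb.centralizer_eq hv hv1]
    ext g
    rw [Subgroup.mem_centralizer_singleton_iff, Subgroup.mem_centralizer_singleton_iff,
      ← mul_assoc, hb.Z_central z hz g, mul_assoc, mul_assoc]
    exact mul_right_inj z
  have h4 := card_centralizer_conj x c
  rw [he, h3, h.centralizer_eq hx hxZ, hb.card_ZU] at h4
  have h5 := h.card
  rw [← h4] at h5
  have h6 : (Nat.card Z : ℤ) ≠ 0 := by exact_mod_cast Nat.card_pos.ne'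
  push_cast at h5
  have h7 := mul_left_cancel₀ h6 h5
  rcases h.sign with h8 | h8 <;> omega

theorem conj_ZU_notMem (h : Torus q δ Z T s) (hb : Base q Z U) {z v : C} (hz : z ∈ Z)
    (hv : v ∈ U) (hv1 : v ≠ 1) (c : C) : c⁻¹ * (z * v) * c ∉ T := by
  intro h1
  have h2 : c⁻¹ * (z * v) * c ∉ Z := by
    intro h3
    apply hv1
    refine hb.eq_one_of_mem ?_ hv
    have h4 : v = z⁻¹ * (c * (c⁻¹ * (z * v) * c) * c⁻¹) := by group
    rw [h4, hb.Z_central _ h3 c, mul_assoc _ c, mul_inv_cancel, mul_one]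
    exact mul_mem (inv_mem hz) h3
  have h3 := h.conj_notMem_ZU hb h1 h2 c⁻¹
  apply h3
  have h4 : c⁻¹⁻¹ * (c⁻¹ * (z * v) * c) * c⁻¹ = z * v := by group
  rw [h4]
  exact hb.mul_mem_ZU hz hv

theorem conj_notMem_torus (h : Torus q δ Z T s) (h' : Torus q δ' Z T' s') (hne : δ ≠ δ')
    (hZ : ∀ z ∈ Z, ∀ c : C, c * z = z * c) {x : C} (hx : x ∈ T)
    (hxZ : x ∉ Z) (c : C) : c⁻¹ * x * c ∉ T' := by
  intro h1
  have h2 : c⁻¹ * x * c ∉ Z := by
    intro h3
    apply hxZ
    have h4 : x = c * (c⁻¹ * x * c) * c⁻¹ := by group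
    rw [h4, hZ _ h3 c, mul_assoc _ c, mul_inv_cancel, mul_one]
    exact h3
  have h4 := card_centralizer_conj x c
  rw [h'.centralizer_eq h1 h2, h.centralizer_eq hx hxZ] at h4
  have h5 := h.card
  rw [← h4, h'.card] at h5
  have h6 : (Nat.card Z : ℤ) ≠ 0 := by exact_mod_cast Nat.card_pos.ne'
  have h7 := mul_left_cancel₀ h6 h5
  omega

/-- The induced function at a noncentral element of the torus. -/
theorem ind_T (h : Torus q δ Z T s) (f : C → ℂ) {x : C} (hx : x ∈ T) (hxZ : x ∉ Z) :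
    indFun T (fun y : T => f y) x = f x + f (s * x * s⁻¹) := by
  classical
  have hsub : ∀ c : C, (if c⁻¹ * x * c ∈ T then f (c⁻¹ * x * c) else 0) =
      (if c ∈ T then f x else 0) + (if c * s ∈ T then f (s * x * s⁻¹) else 0) := by
    intro c
    by_cases h1 : c ∈ T
    · have h2 : c * s ∉ T := fun h3 => h.s_notMem ((T.mul_mem_cancel_left h1).1 h3)
      have h3 : c⁻¹ * x * c = x := by rw [h.comm _ (inv_mem h1) x hx]; group
      rw [if_pos h1, if_neg h2, h3, if_pos hx, add_zero]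
    · by_cases h2 : c * s ∈ T
      · have h3 : c⁻¹ * x * c = s * x * s⁻¹ := by
          have h4 : c = (c * s) * s⁻¹ := by group
          have h5 : (c * s)⁻¹ * x * (c * s) = x := by rw [h.comm _ (inv_mem h2) x hx]; group
          calc c⁻¹ * x * c = s * ((c * s)⁻¹ * x * (c * s)) * s⁻¹ := by group
            _ = s * x * s⁻¹ := by rw [h5]
        rw [if_neg h1, if_pos h2, h3, if_pos (h.s_conj x hx), zero_add]
      · rw [if_neg h1, if_neg h2, add_zero, if_neg]
        intro h3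
        have h4 := h.fus x hx hxZ c⁻¹ (by rwa [inv_inv])
        rcases h4 with h4 | h4
        · exact h1 (inv_mem_iff.1 h4)
        · apply h2
          rw [← inv_mem_iff, mul_inv_rev, h.s_inv]
          exact h4
  have h1 : ∑ c : C, (if c ∈ T then f x else 0) = Nat.card T * f x := ssum_const T (f x)
  have h2 : ∑ c : C, (if c * s ∈ T then f (s * x * s⁻¹) else 0) = Nat.card T * f (s * x * s⁻¹) := by
    rw [← ssum_const T (f (s * x * s⁻¹))]
    unfold ssum
    rw [← Equiv.sum_comp (Equiv.mulRight s) (fun c => if c ∈ T then f (s * x * s⁻¹) else 0)]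
    refine Finset.sum_congr rfl fun c _ => ?_
    rw [Equiv.coe_mulRight]
  rw [ind_apply, Finset.sum_congr rfl (fun c _ => hsub c), Finset.sum_add_distrib, h1, h2]
  have := Core.card_ne_zero_complex (G := T)
  field_simp

theorem ind_Z (h : Torus q δ Z T s) (hb : Base q Z U) (f : C → ℂ) {z : C} (hz : z ∈ Z) :
    indFun T (fun y : T => f y) z = q * (q + δ) * f z := by
  classical
  have h1 : ∀ c : C, (if c⁻¹ * z * c ∈ T then f (c⁻¹ * z * c) else 0) = f z := by
    intro c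
    have h2 : c⁻¹ * z * c = z := by rw [hb.Z_central z hz c⁻¹]; group
    rw [h2, if_pos (h.Z_le hz)]
  rw [ind_apply, Finset.sum_congr rfl (fun c _ => h1 c), Finset.sum_const, Finset.card_univ,
    nsmul_eq_mul, ← Nat.card_eq_fintype_card, hb.card_C_cast, h.card_cast]
  have := hb.card_Z_ne
  have h3 := h.sub_ne_zero hb.one_lt_q
  have h4 : (δ : ℂ) * δ = 1 := by exact_mod_cast h.sq_sign
  field_simp
  linear_combination (q : ℂ) * f z * h4

theorem ind_zero (f : C → ℂ) {x : C} (hx : ∀ c : C, c⁻¹ * x * c ∉ T) :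
    indFun T (fun y : T => f y) x = 0 := by
  classical
  rw [ind_apply, Finset.sum_eq_zero (fun c _ => if_neg (hx c)), mul_zero]

variable {μ : U →* ℂˣ}

/-- `R_T(f)`. -/
noncomputable def R (T : Subgroup C) (hb : Base q Z U) (μ : U →* ℂˣ) (f : C → ℂ) : C → ℂ :=
  fun x => indFun T (fun y : T => f y) x - hb.Gam μ f x

theorem R_isClassFunction (hb : Base q Z U) (f : C → ℂ) : IsClassFunction C (R T hb μ f) := by
  intro g c
  unfold R
  rw [Brauer.indFun_isClassFunction T _ g c, hb.Gam_isClassFunction μ f g c]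

theorem R_Z (h : Torus q δ Z T s) (hb : Base q Z U) (f : C → ℂ) {z : C} (hz : z ∈ Z) :
    R T hb μ f z = (1 + δ * q) * f z := by
  unfold R
  rw [h.ind_Z hb f hz, hb.Gam_Z μ f hz]
  ring

theorem R_ZU (h : Torus q δ Z T s) (hb : Base q Z U) (hμ : ∃ v : U, μ v ≠ 1) (f : C → ℂ)
    {z v : C} (hz : z ∈ Z) (hv : v ∈ U) (hv1 : v ≠ 1) : R T hb μ f (z * v) = f z := by
  unfold R
  rw [ind_zero f (h.conj_ZU_notMem hb hz hv hv1), hb.Gam_ZU hμ f hz hv hv1]
  ring

theorem R_T (h : Torus q δ Z T s) (hb : Base q Z U) (f : C → ℂ) {x : C} (hx : x ∈ T)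
    (hxZ : x ∉ Z) : R T hb μ f x = f x + f (s * x * s⁻¹) := by
  unfold R
  rw [h.ind_T f hx hxZ, hb.Gam_of_notMem μ f (h.conj_notMem_ZU hb hx hxZ), sub_zero]

theorem R_T' (h : Torus q δ Z T s) (h' : Torus q δ' Z T' s') (hne : δ' ≠ δ) (hb : Base q Z U)
    (f : C → ℂ) {x : C} (hx : x ∈ T') (hxZ : x ∉ Z) : R T hb μ f x = 0 := by
  unfold R
  rw [ind_zero f (h'.conj_notMem_torus h hne hb.Z_central hx hxZ),
    hb.Gam_of_notMem μ f (h'.conj_notMem_ZU hb hx hxZ), sub_zero]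

theorem classInner_R (hb : Base q Z U) (hμ : ∃ v : U, μ v ≠ 1) (f : C → ℂ)
    {Ψ : C → ℂ} (hΨ : IsClassFunction C Ψ) {v₀ : C} (hv₀ : v₀ ∈ U) (hv₀1 : v₀ ≠ 1) :
    classInner (R T hb μ f) Ψ = (Nat.card T : ℂ)⁻¹ * ssum T (fun x => f x * conj (Ψ x)) -
      (Nat.card Z * q : ℂ)⁻¹ * ssum Z (fun z => f z * conj (Ψ z - Ψ (z * v₀))) := by
  rw [← classInner_ind T f hΨ, ← hb.classInner_Gam hμ f hΨ hv₀ hv₀1]
  exact Core.classInner_sub_left _ _ _

theorem classInner_R_R (h : Torus q δ Z T s) (hb : Base q Z U) (hμ : ∃ v : U, μ v ≠ 1)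
    (f g : C → ℂ) : classInner (R T hb μ f) (R T hb μ g) =
      (Nat.card T : ℂ)⁻¹ * ssum T (fun x => f x * conj (g x + g (s * x * s⁻¹))) := by
  obtain ⟨v₀, hv₀, hv₀1⟩ := hb.exists_ne_one
  rw [classInner_R hb hμ f (R_isClassFunction hb g) hv₀ hv₀1]
  have h1 : ssum T (fun x => f x * conj (R T hb μ g x)) =
      ssum T (fun x => f x * conj (g x + g (s * x * s⁻¹))) +
        (δ * q - 1) * ssum Z (fun z => f z * conj (g z)) := by
    have h2 : ssum T (fun x => f x * conj (R T hb μ g x) - f x * conj (g x + g (s * x * s⁻¹))) =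
        ssum Z (fun x => f x * conj (R T hb μ g x) - f x * conj (g x + g (s * x * s⁻¹))) := by
      refine ssum_of_support h.Z_le fun x hx hxZ => ?_
      rw [h.R_T hb g hx hxZ, sub_self]
    rw [ssum_sub] at h2
    rw [← ssum_mul, ← sub_eq_iff_eq_add', h2]
    refine ssum_congr fun z hz => ?_
    have h3 : s * z * s⁻¹ = z := by rw [hb.Z_central z hz s]; group
    rw [h.R_Z hb g hz, h3, map_mul, map_add, map_add, map_mul, map_one, Complex.conj_natCast,
      map_intCast]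
    ring
  have h4 : ssum Z (fun z => f z * conj (R T hb μ g z - R T hb μ g (z * v₀))) =
      (δ * q) * ssum Z (fun z => f z * conj (g z)) := by
    rw [← ssum_mul]
    refine ssum_congr fun z hz => ?_
    rw [h.R_Z hb g hz, h.R_ZU hb hμ g hz hv₀ hv₀1, map_sub, map_mul, map_add, map_mul, map_one,
      Complex.conj_natCast, map_intCast]
    ring
  rw [h1, h4, h.card_cast]
  have := hb.card_Z_ne
  have h5 := h.sub_ne_zero hb.one_lt_q
  have h6 : (δ : ℂ) * δ = 1 := by exact_mod_cast h.sq_sign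
  have := hb.q_ne
  field_simp
  linear_combination ssum Z (fun z => f z * conj (g z)) * h6

theorem classInner_R_R' (h : Torus q δ Z T s) (h' : Torus q δ' Z T' s') (hne : δ' = - δ)
    (hb : Base q Z U) (hμ : ∃ v : U, μ v ≠ 1) (f g : C → ℂ) :
    classInner (R T hb μ f) (R T' hb μ g) = 0 := by
  obtain ⟨v₀, hv₀, hv₀1⟩ := hb.exists_ne_one
  have hne' : δ ≠ δ' := by
    rcases h.sign with h3 | h3 <;> omega
  rw [classInner_R hb hμ f (R_isClassFunction hb g) hv₀ hv₀1]
  have h1 : ssum T (fun x => f x * conj (R T' hb μ g x)) =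
      (1 - δ * q) * ssum Z (fun z => f z * conj (g z)) := by
    rw [ssum_of_support h.Z_le (fun x hx hxZ => by
      rw [h'.R_T' h hne' hb g hx hxZ, map_zero, mul_zero]), ← ssum_mul]
    refine ssum_congr fun z hz => ?_
    rw [h'.R_Z hb g hz, map_mul, map_add, map_mul, map_one, Complex.conj_natCast,
      map_intCast, hne]
    push_cast
    ring
  have h4 : ssum Z (fun z => f z * conj (R T' hb μ g z - R T' hb μ g (z * v₀))) =
      -(δ * q) * ssum Z (fun z => f z * conj (g z)) := by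
    rw [← ssum_mul]
    refine ssum_congr fun z hz => ?_
    rw [h'.R_Z hb g hz, h'.R_ZU hb hμ g hz hv₀ hv₀1, map_sub, map_mul, map_add, map_mul, map_one,
      Complex.conj_natCast, map_intCast, hne]
    push_cast
    ring
  rw [h1, h4, h.card_cast]
  have := hb.card_Z_ne
  have h5 := h.sub_ne_zero hb.one_lt_q
  have h6 : (δ : ℂ) * δ = 1 := by exact_mod_cast h.sq_sign
  have := hb.q_ne
  field_simp
  linear_combination -(ssum Z (fun z => f z * conj (g z))) * h6

/-- A class function `f` with `f (z v) = f z` is `1/2 (R_T f + R_{T'} f)`. -/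
theorem R_add_R (h : Torus q δ Z T s) (h' : Torus q δ' Z T' s') (hne : δ' = - δ)
    (hb : Base q Z U) (hμ : ∃ v : U, μ v ≠ 1)
    (hexh : ∀ c : C, ∃ g : C, g * c * g⁻¹ ∈ T ∨ g * c * g⁻¹ ∈ T' ∨
      ∃ z ∈ Z, ∃ v ∈ U, g * c * g⁻¹ = z * v)
    {f : C → ℂ} (hf : IsClassFunction C f) (hfU : ∀ z ∈ Z, ∀ v ∈ U, f (z * v) = f z) (x : C) :
    R T hb μ f x + R T' hb μ f x = 2 * f x := by
  have hne' : δ ≠ δ' := by
    rcases h.sign with h3 | h3 <;> omega
  obtain ⟨g, hg⟩ := hexh x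
  rw [← R_isClassFunction hb f x g, ← R_isClassFunction hb f x g, ← hf x g]
  generalize g * x * g⁻¹ = y at hg
  have hZ : ∀ z ∈ Z, R T hb μ f z + R T' hb μ f z = 2 * f z := by
    intro z hz
    rw [h.R_Z hb f hz, h'.R_Z hb f hz, hne]
    push_cast
    ring
  rcases hg with hy | hy | ⟨z, hz, v, hv, hy⟩
  · by_cases hyZ : y ∈ Z
    · exact hZ y hyZ
    · rw [h.R_T hb f hy hyZ, h'.R_T' h hne' hb f hy hyZ, hf y s]
      ring
  · by_cases hyZ : y ∈ Z
    · exact hZ y hyZ
    · rw [h'.R_T hb f hy hyZ, h.R_T' h' hne'.symm hb f hy hyZ, hf y s']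
      ring
  · subst hy
    by_cases hv1 : v = 1
    · rw [hv1, mul_one]
      exact hZ z hz
    · rw [h.R_ZU hb hμ f hz hv hv1, h'.R_ZU hb hμ f hz hv hv1, hfU z hz v hv]
      ring

theorem isGeneralized_R (h : Torus q δ Z T s) (hb : Base q Z U) {f : C → ℂ}
    (hf : IsGeneralizedCharacter T (fun x : T => f x)) :
    IsGeneralizedCharacter C (R T hb μ f) := by
  have h1 : IsGeneralizedCharacter Z (fun z : Z => f z) := by
    obtain ⟨χ, ψ, hχ, hψ, he⟩ := hf
    refine ⟨fun z => χ (Subgroup.inclusion h.Z_le z), fun z => ψ (Subgroup.inclusion h.Z_le z),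
      Core.isCharacter_comp _ hχ, Core.isCharacter_comp _ hψ, ?_⟩
    funext z
    exact congrFun he (Subgroup.inclusion h.Z_le z)
  exact Brauer.isGeneralizedCharacter_sub (Brauer.isGeneralizedCharacter_indFun T hf)
    (hb.isGeneralized_Gam μ h1)

end Finite

end Torus

end Cfsg.Agent.Classification.InvCent
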