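import Mathlib
import Cfsg.Agent.Classification.InvCent.CTorus
import Cfsg.Agent.Characters.CentInvTI

/-!
# Products of two noncentral involutions of `C` of type `GL₂(q)/Z₀`, `GU₂(q)/Z₀`

`pairSum φ` is the sum of `φ (v w)` over the pairs of noncentral involutions `v, w` of `C`. It is
computed for `φ = R_T(g)` and `φ = R_{T'}(g)`.
-/

set_option autoImplicit false
set_option linter.unusedSectionVars false

open Cfsg
open scoped ComplexConjugate

namespace Cfsg.Agent.Classification.InvCent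

open Cfsg.Agent.Characters

namespace Torus

variable {C : Type*} [Group C] {q : ℕ} {δ : ℤ} {Z T : Subgroup C} {s : C}

/-- The elements `x` of the torus with `x x^s = 1`. -/
def T₀ (h : Torus q δ Z T s) : Subgroup C where
  carrier := {x | x ∈ T ∧ x * (s * x * s⁻¹) = 1}
  one_mem' := ⟨one_mem T, by group⟩
  mul_mem' := by
    rintro x y ⟨hx, hx1⟩ ⟨hy, hy1⟩
    refine ⟨mul_mem hx hy, ?_⟩
    have h1 : x * y * (s * (x * y) * s⁻¹) = x * (y * (s * x * s⁻¹)) * (s * y * s⁻¹) := by group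
    rw [h1, h.comm y hy _ (h.s_conj x hx), ← mul_assoc x, hx1, one_mul, hy1]
  inv_mem' := by
    rintro x ⟨hx, hx1⟩
    refine ⟨inv_mem hx, ?_⟩
    have h1 : x⁻¹ * (s * x⁻¹ * s⁻¹) = ((s * x * s⁻¹) * x)⁻¹ := by group
    rw [h1, ← h.comm x hx _ (h.s_conj x hx), hx1, inv_one]

theorem mem_T₀ (h : Torus q δ Z T s) {x : C} : x ∈ h.T₀ ↔ x ∈ T ∧ x * (s * x * s⁻¹) = 1 := Iff.rfl

theorem card_T₀ (h : Torus q δ Z T s) : (Nat.card h.T₀ : ℤ) = q - δ := by
  rw [← h.card₀]
  congr 1
  refine Nat.card_congr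
    { toFun := fun x => ⟨⟨x.1, x.2.1⟩, x.2.2⟩
      invFun := fun x => ⟨x.1.1, x.1.2, x.2⟩
      left_inv := fun x => rfl
      right_inv := fun x => rfl }

theorem T₀_le (h : Torus q δ Z T s) : h.T₀ ≤ T := fun _ hx => hx.1

end Torus

theorem mul_self_of_orderOf {C : Type*} [Group C] {x : C} (h : orderOf x = 2) : x * x = 1 := by
  have := pow_orderOf_eq_one x
  rwa [h, sq] at this

theorem orderOf_of_mul_self {C : Type*} [Group C] {x : C} (h : x * x = 1) (h1 : x ≠ 1) : orderOf x = 2 :=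
  orderOf_eq_prime (by rw [sq, h]) h1

section Inv

variable {C : Type*} [Group C] [Fintype C] {t : C} {q : ℕ} {ε : ℤ} {Z T T' U : Subgroup C}
  {s s' u : C}

open Classical in
/-- The noncentral involutions of `C`. -/
noncomputable def nInv (t : C) : Finset C := Finset.univ.filter fun x => orderOf x = 2 ∧ x ≠ t

theorem mem_nInv {x : C} : x ∈ nInv t ↔ orderOf x = 2 ∧ x ≠ t := by
  classical
  simp [nInv]

theorem nInv_mul_self {x : C} (h : x ∈ nInv t) : x * x = 1 := mul_self_of_orderOf (mem_nInv.1 h).1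

theorem nInv_conj (hZ : ∀ c : C, c * t = t * c) {x : C} (h : x ∈ nInv t) (c : C) :
    c * x * c⁻¹ ∈ nInv t := by
  rw [mem_nInv] at h ⊢
  constructor
  · rw [← h.1]
    exact (SemiconjBy.orderOf_eq c (x := x) (y := c * x * c⁻¹) (by simp [SemiconjBy])).symm
  · intro h1
    apply h.2
    have h2 : x = c⁻¹ * (c * x * c⁻¹) * c := by group
    rw [h2, h1, hZ c⁻¹]
    group

theorem nInv_mul_t (hZ : ∀ c : C, c * t = t * c) (ht : t * t = 1) {x : C} (h : x ∈ nInv t) :
    x * t ∈ nInv t := by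
  have hxx := nInv_mul_self h
  rw [mem_nInv] at h ⊢
  constructor
  · refine orderOf_of_mul_self ?_ ?_
    · calc x * t * (x * t) = x * (t * x) * t := by group
        _ = (x * x) * (t * t) := by rw [← hZ x]; group
        _ = 1 := by rw [hxx, ht, one_mul]
    · intro h1
      apply h.2
      calc x = (x * t) * t := by rw [mul_assoc, ht, mul_one]
        _ = t := by rw [h1, one_mul]
  · intro h1
    have h2 : x = 1 := by
      calc x = (x * t) * t := by rw [mul_assoc, ht, mul_one]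
        _ = 1 := by rw [h1, ht]
    rw [h2, orderOf_one] at h
    exact absurd h.1 (by norm_num)

open Classical in
/-- The number of `v` such that `v` and `v x` are noncentral involutions. -/
noncomputable def nPair (t : C) (x : C) : ℂ :=
  ((Finset.univ.filter fun v : C => v ∈ nInv t ∧ v * x ∈ nInv t).card : ℂ)

/-- The sum of `φ (v w)` over the pairs of noncentral involutions. -/
noncomputable def pairSum (t : C) (φ : C → ℂ) : ℂ := ∑ v ∈ nInv t, ∑ w ∈ nInv t, φ (v * w)

theorem pairSum_eq (φ : C → ℂ) : pairSum t φ = ∑ x : C, φ x * nPair t x := by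
  classical
  have h1 : ∀ v ∈ nInv t, ∑ w ∈ nInv t, φ (v * w) =
      ∑ x : C, if v * x ∈ nInv t then φ x else 0 := by
    intro v hv
    have hvv := nInv_mul_self hv
    have h2 : ∑ w ∈ nInv t, φ (v * w) = ∑ w : C, if w ∈ nInv t then φ (v * w) else 0 := by
      rw [← Finset.sum_filter, Finset.filter_mem_eq_inter, Finset.univ_inter]
    rw [h2, ← Equiv.sum_comp (Equiv.mulLeft v)]
    refine Finset.sum_congr rfl fun x _ => ?_
    rw [Equiv.coe_mulLeft, ← mul_assoc, hvv, one_mul]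
  rw [pairSum, Finset.sum_congr rfl h1, Finset.sum_comm]
  refine Finset.sum_congr rfl fun x _ => ?_
  rw [nPair, ← Finset.sum_filter, Finset.sum_const, nsmul_eq_mul, mul_comm]
  congr 3
  ext v
  simp [mem_nInv]

theorem conj_nPair (x : C) : conj (nPair t x) = nPair t x := by
  rw [nPair, Complex.conj_natCast]

theorem pairSum_eq_classInner (φ : C → ℂ) :
    pairSum t φ = Nat.card C * classInner φ (nPair t) := by
  rw [pairSum_eq, Core.classInner_def, ← mul_assoc, mul_inv_cancel₀ Core.card_ne_zero_complex,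
    one_mul]
  exact Finset.sum_congr rfl fun x _ => by rw [conj_nPair]

theorem nPair_isClassFunction (hZ : ∀ c : C, c * t = t * c) : IsClassFunction C (nPair t) := by
  classical
  intro x c
  unfold nPair
  congr 1
  refine Finset.card_bij (fun v _ => c⁻¹ * v * c) ?_ ?_ ?_
  · intro v hv
    simp only [Finset.mem_filter, Finset.mem_univ, true_and] at hv ⊢
    refine ⟨?_, ?_⟩
    · have := nInv_conj hZ hv.1 c⁻¹
      rwa [inv_inv] at this
    · have := nInv_conj hZ hv.2 c⁻¹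
      have h1 : c⁻¹ * (v * (c * x * c⁻¹)) * c⁻¹⁻¹ = c⁻¹ * v * c * x := by group
      rwa [h1] at this
  · intro v _ w _ h
    simpa using h
  · intro v hv
    simp only [Finset.mem_filter, Finset.mem_univ, true_and] at hv
    refine ⟨c * v * c⁻¹, ?_, by group⟩
    simp only [Finset.mem_filter, Finset.mem_univ, true_and]
    refine ⟨nInv_conj hZ hv.1 c, ?_⟩
    have h1 : c * v * c⁻¹ * (c * x * c⁻¹) = c * (v * x) * c⁻¹ := by group
    rw [h1]
    exact nInv_conj hZ hv.2 c

theorem nPair_eq_zero {x : C} (h : ∀ v ∈ nInv t, v * x ∉ nInv t) : nPair t x = 0 := by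
  classical
  rw [nPair, Nat.cast_eq_zero, Finset.card_eq_zero, Finset.filter_eq_empty_iff]
  rintro v _ ⟨h1, h2⟩
  exact h v h1 h2

/-- `v` and `v x` are involutions: `v` inverts `x`. -/
theorem inverts {v x : C} (hv : v ∈ nInv t) (hvx : v * x ∈ nInv t) : v * x * v⁻¹ = x⁻¹ := by
  have h1 := nInv_mul_self hv
  have h2 := nInv_mul_self hvx
  have h3 : v⁻¹ = v := inv_eq_of_mul_eq_one_left h1
  rw [h3]
  refine eq_inv_of_mul_eq_one_left ?_
  calc v * x * v * x = v * x * (v * x) := by group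
    _ = 1 := h2

end Inv

namespace CHyp

variable {C : Type*} [Group C] {t : C} {q : ℕ} {ε : ℤ} {Z T T' U : Subgroup C}
  {s s' u : C}

theorem t_comm (h : CHyp t q ε Z T T' U s s' u) (c : C) : c * t = t * c := h.Z_central t h.t_mem c

theorem tt (h : CHyp t q ε Z T T' U s s' u) : t * t = 1 := mul_self_of_orderOf h.orderOf_t

theorem t_ne (h : CHyp t q ε Z T T' U s s' u) : t ≠ 1 := by
  intro h1
  have := h.orderOf_t
  rw [h1, orderOf_one] at this
  norm_num at this

theorem uu (h : CHyp t q ε Z T T' U s s' u) : u * u = 1 := mul_self_of_orderOf h.orderOf_u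

theorem u_notMem_Z (h : CHyp t q ε Z T T' U s s' u) : u ∉ Z := by
  intro h1
  have h2 := h.s_u
  rw [h.Z_central u h1 s, mul_assoc, mul_inv_cancel, mul_one] at h2
  exact h.t_ne (mul_eq_right.1 h2.symm)

theorem invol_Z (h : CHyp t q ε Z T T' U s s' u) {z : C} (hz : z ∈ Z) (hzz : z * z = 1) :
    z = 1 ∨ z = t := by
  rcases h.invol_T z (h.Z_le_T hz) hzz with h1 | h1 | h1 | h1
  · exact Or.inl h1
  · exact Or.inr h1
  · exact absurd (h1 ▸ hz) h.u_notMem_Z
  · exfalso
    apply h.u_notMem_Z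
    have h2 : u = t⁻¹ * z := by rw [h1]; group
    rw [h2]
    exact mul_mem (inv_mem h.t_mem) hz

theorem t_mem_T₀ (h : CHyp t q ε Z T T' U s s' u) : t ∈ h.torus.T₀ := by
  refine ⟨h.Z_le_T h.t_mem, ?_⟩
  rw [h.t_comm s, mul_assoc t s, mul_inv_cancel, mul_one, h.tt]

theorem t_mem_T'₀ (h : CHyp t q ε Z T T' U s s' u) : t ∈ h.torus'.T₀ := by
  refine ⟨h.Z_le_T' h.t_mem, ?_⟩
  rw [h.t_comm s', mul_assoc t s', mul_inv_cancel, mul_one, h.tt]

variable [Fintype C]

theorem u_mem_nInv (h : CHyp t q ε Z T T' U s s' u) : u ∈ nInv t :=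
  mem_nInv.2 ⟨h.orderOf_u, h.u_ne⟩

theorem nInv_notMem_Z (h : CHyp t q ε Z T T' U s s' u) {x : C} (hx : x ∈ nInv t) : x ∉ Z := by
  intro h1
  rcases h.invol_Z h1 (nInv_mul_self hx) with h2 | h2
  · rw [mem_nInv, h2, orderOf_one] at hx
    exact absurd hx.1 (by norm_num)
  · exact (mem_nInv.1 hx).2 h2

theorem nInv_T (h : CHyp t q ε Z T T' U s s' u) {x : C} (hx : x ∈ nInv t) (hxT : x ∈ T) :
    x = u ∨ x = t * u := by
  rcases h.invol_T x hxT (nInv_mul_self hx) with h1 | h1 | h1 | h1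
  · rw [mem_nInv, h1, orderOf_one] at hx
    exact absurd hx.1 (by norm_num)
  · exact absurd h1 (mem_nInv.1 hx).2
  · exact Or.inl h1
  · exact Or.inr h1

theorem nInv_T' (h : CHyp t q ε Z T T' U s s' u) {x : C} (hx : x ∈ nInv t) : x ∉ T' := by
  intro hxT
  have := h.T'_cyclic
  obtain ⟨g, hg⟩ := IsCyclic.exists_generator (α := T')
  have h1 : ∀ y (hy : y ∈ T'), y ∈ Submonoid.powers (g : C) := by
    intro y hy
    obtain ⟨k, hk⟩ := (mem_powers_iff_mem_zpowers.mpr (hg ⟨y, hy⟩) : (⟨y, hy⟩ : T') ∈ _)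
    exact ⟨k, congrArg Subtype.val hk⟩
  obtain ⟨a, ha⟩ := h1 x hxT
  obtain ⟨b, hb⟩ := h1 t (h.Z_le_T' h.t_mem)
  refine (mem_nInv.1 hx).2 ?_
  have ha' : (g : C) ^ a = x := ha
  have hb' : (g : C) ^ b = t := hb
  rw [← ha', ← hb']
  exact CentInvTI.pow_eq_of_orderOf_eq_two (by rw [ha']; exact (mem_nInv.1 hx).1)
    (by rw [hb']; exact h.orderOf_t)

/-- The noncentral involutions are conjugate to `u`. -/
theorem nInv_isConj (h : CHyp t q ε Z T T' U s s' u) {x : C} (hx : x ∈ nInv t) :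
    ∃ c : C, c⁻¹ * u * c = x := by
  obtain ⟨g, hg⟩ := h.exhaust x
  have hgx := nInv_conj h.t_comm hx g
  rcases hg with hy | hy | ⟨z, hz, v, hv, hy⟩
  · rcases h.nInv_T hgx hy with h1 | h1
    · exact ⟨g, by rw [← h1]; group⟩
    · refine ⟨s * g, ?_⟩
      have h2 : s⁻¹ = s := h.torus.s_inv
      have h3 : s⁻¹ * u * s = t * u := by
        have h4 := h.s_u
        rw [h2] at h4 ⊢
        exact h4
      calc (s * g)⁻¹ * u * (s * g) = g⁻¹ * (s⁻¹ * u * s) * g := by group
        _ = x := by rw [h3, ← h1]; group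
  · exact absurd hy (h.nInv_T' hgx)
  · exfalso
    have h1 := nInv_mul_self hgx
    rw [hy] at h1
    have h2 : z * v * (z * v) = (z * z) * (v * v) := by
      calc z * v * (z * v) = z * (v * z) * v := by group
        _ = (z * z) * (v * v) := by rw [h.Z_central z hz v]; group
    rw [h2] at h1
    have h3 : v * v = (z * z)⁻¹ := eq_inv_of_mul_eq_one_right h1
    have h4 : v * v = 1 := h.base.eq_one_of_mem (by rw [h3]; exact inv_mem (mul_mem hz hz))
      (mul_mem hv hv)
    have h5 : v = 1 := by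
      have h6 := orderOf_dvd_of_pow_eq_one (h.base.pow_card_U hv)
      have h7 : orderOf v ∣ 2 := orderOf_dvd_of_pow_eq_one (by rw [sq, h4])
      have h8 : Nat.Coprime 2 q := Nat.coprime_two_left.2 h.odd_q
      exact orderOf_eq_one_iff.1 (Nat.eq_one_of_dvd_coprimes h8 h7 h6)
    rw [h5, mul_one] at hy
    exact h.nInv_notMem_Z hgx (by rw [hy]; exact hz)

theorem card_nInv (h : CHyp t q ε Z T T' U s s' u) : ((nInv t).card : ℂ) = q * (q + ε) := by
  have h1 := sum_conj_orbit u (nInv t) (fun y hy => h.nInv_isConj hy) (fun _ => 1)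
    (fun c hc => absurd (by
      have := nInv_conj h.t_comm h.u_mem_nInv c⁻¹
      rwa [inv_inv] at this) hc)
  rw [h.torus.centralizer_eq h.u_mem h.u_notMem_Z, Finset.sum_const, Finset.sum_const,
    Finset.card_univ, nsmul_eq_mul, nsmul_eq_mul, mul_one, mul_one, ← Nat.card_eq_fintype_card,
    h.base.card_C_cast, h.torus.card_cast] at h1
  have h2 := h.base.card_Z_ne
  have h3 := h.torus.sub_ne_zero h.one_lt_q
  have h4 : (ε : ℂ) * ε = 1 := by exact_mod_cast h.torus.sq_sign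
  have h5 : (Nat.card Z : ℂ) * (q - ε) ≠ 0 := mul_ne_zero h2 h3
  apply mul_left_cancel₀ h5
  rw [← h1]
  linear_combination (Nat.card Z : ℂ) * q * h4

theorem ssum_pair (h : CHyp t q ε Z T T' U s s' u) {F : C → ℂ}
    (hF : ∀ z ∈ Z, z ≠ 1 → z ≠ t → F z = 0) : ssum Z F = F 1 + F t := by
  classical
  unfold ssum
  rw [Finset.sum_eq_add_of_mem 1 t (Finset.mem_univ _) (Finset.mem_univ _) h.t_ne.symm]
  · rw [if_pos (one_mem Z), if_pos h.t_mem]
  · intro z _ hz
    split_ifs with h1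
    · exact hF z h1 hz.1 hz.2
    · rfl

end CHyp

/-- The number of pairs of noncentral involutions with product `x` in a torus. -/
theorem Torus.nPair_eq {C : Type*} [Group C] [Fintype C] {t : C} {q : ℕ} {δ : ℤ}
    {Z T : Subgroup C} {s : C} (h : Torus q δ Z T s) (ht : t ∈ T)
    (hTI : ∀ v ∈ T, v ∈ nInv t → ∀ w ∈ T, w ∈ nInv t → v * w ∈ Z) {x : C} (hx : x ∈ T)
    (hxZ : x ∉ Z) [Decidable (x ∈ h.T₀)] :
    nPair t x = if x ∈ h.T₀ then (q : ℂ) - δ else 0 := by
  classical
  -- the solutions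
  have key : ∀ v : C, (v ∈ nInv t ∧ v * x ∈ nInv t) → s * v ∈ h.T₀ ∧ x ∈ h.T₀ := by
    rintro v ⟨hv, hvx⟩
    have h1 := inverts hv hvx
    have h2 := h.fus x hx hxZ v (by rw [h1]; exact inv_mem hx)
    have h3 : s * v ∈ T := by
      refine h2.resolve_left fun h4 => hxZ ?_
      have h5 := hTI v h4 hv (v * x) (mul_mem h4 hx) hvx
      rwa [← mul_assoc, nInv_mul_self hv, one_mul] at h5
    set y := s * v with hy
    have hvy : v = s * y := by rw [hy, ← mul_assoc, h.s_sq, one_mul]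
    have h4 : y * (s * y * s⁻¹) = 1 := by
      have h5 := nInv_mul_self hv
      rw [hvy] at h5
      rw [h.comm y h3 _ (h.s_conj y h3), h.s_inv]
      calc s * y * s * y = s * y * (s * y) := by group
        _ = 1 := h5
    refine ⟨⟨h3, h4⟩, hx, ?_⟩
    have h5 : s * x * s⁻¹ = x⁻¹ := by
      rw [← h1, hvy]
      have h6 : y * x * y⁻¹ = x := by rw [h.comm y h3 x hx]; group
      calc s * x * s⁻¹ = s * (y * x * y⁻¹) * s⁻¹ := by rw [h6]
        _ = s * y * x * (s * y)⁻¹ := by group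
    rw [h5, mul_inv_cancel]
  have key2 : ∀ y ∈ h.T₀, s * y ∈ nInv t := by
    rintro y ⟨hy, hy1⟩
    rw [mem_nInv]
    refine ⟨orderOf_of_mul_self ?_ ?_, ?_⟩
    · rw [h.comm y hy _ (h.s_conj y hy), h.s_inv] at hy1
      calc s * y * (s * y) = s * y * s * y := by group
        _ = 1 := hy1
    · intro h1
      apply h.s_notMem
      rw [eq_inv_of_mul_eq_one_left h1]
      exact inv_mem hy
    · intro h1
      apply h.s_notMem
      have h2 : s = t * y⁻¹ := by rw [← h1]; group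
      rw [h2]
      exact mul_mem ht (inv_mem hy)
  split_ifs with hx0
  · have h1 : (Finset.univ.filter fun v : C => v ∈ nInv t ∧ v * x ∈ nInv t).card =
        Nat.card h.T₀ := by
      rw [← Fintype.card_coe, ← Nat.card_eq_fintype_card]
      refine Nat.card_congr
        { toFun := fun v => ⟨s * v.1, (key v.1 (Finset.mem_filter.1 v.2).2).1⟩
          invFun := fun y => ⟨s * y.1, ?_⟩
          left_inv := fun v => ?_
          right_inv := fun y => ?_ }
      · simp only [Finset.mem_filter, Finset.mem_univ, true_and]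
        refine ⟨key2 y.1 y.2, ?_⟩
        rw [mul_assoc]
        exact key2 _ (mul_mem y.2 hx0)
      · ext
        simp only [← mul_assoc, h.s_sq, one_mul]
      · ext
        simp only [← mul_assoc, h.s_sq, one_mul]
    rw [nPair, h1]
    have := h.card_T₀
    exact_mod_cast this
  · exact nPair_eq_zero fun v hv hvx => hx0 (key v ⟨hv, hvx⟩).2

namespace CHyp

variable {C : Type*} [Group C] [Fintype C] {t : C} {q : ℕ} {ε : ℤ} {Z T T' U : Subgroup C}
  {s s' u : C}

theorem nPair_one (_ : CHyp t q ε Z T T' U s s' u) : nPair t 1 = (nInv t).card := by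
  classical
  rw [nPair]
  congr 2
  ext v
  simp

theorem nPair_t (h : CHyp t q ε Z T T' U s s' u) : nPair t t = (nInv t).card := by
  classical
  rw [nPair]
  congr 2
  ext v
  simp only [Finset.mem_filter, Finset.mem_univ, true_and, and_iff_left_iff_imp]
  exact nInv_mul_t h.t_comm h.tt

theorem nPair_Z (h : CHyp t q ε Z T T' U s s' u) {z : C} (hz : z ∈ Z) (h1 : z ≠ 1)
    (ht : z ≠ t) : nPair t z = 0 := by
  refine nPair_eq_zero fun v hv hvz => ?_
  have h2 := inverts hv hvz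
  rw [h.Z_central z hz v, mul_assoc, mul_inv_cancel, mul_one] at h2
  rcases h.invol_Z hz (by nth_rw 2 [h2]; exact mul_inv_cancel z) with h3 | h3
  · exact h1 h3
  · exact ht h3

theorem nPair_mul_t (h : CHyp t q ε Z T T' U s s' u) (x : C) : nPair t (t * x) = nPair t x := by
  classical
  rw [nPair, nPair]
  congr 1
  refine Finset.card_bij (fun v _ => v * t) ?_ ?_ ?_
  · intro v hv
    simp only [Finset.mem_filter, Finset.mem_univ, true_and] at hv ⊢
    exact ⟨nInv_mul_t h.t_comm h.tt hv.1, by rw [mul_assoc]; exact hv.2⟩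
  · intro v _ w _ hvw
    exact mul_right_cancel hvw
  · intro v hv
    simp only [Finset.mem_filter, Finset.mem_univ, true_and] at hv
    refine ⟨v * t, ?_, by rw [mul_assoc, h.tt, mul_one]⟩
    simp only [Finset.mem_filter, Finset.mem_univ, true_and]
    refine ⟨nInv_mul_t h.t_comm h.tt hv.1, ?_⟩
    have h1 : v * t * (t * x) = v * x := by
      calc v * t * (t * x) = v * (t * t) * x := by group
        _ = v * x := by rw [h.tt, mul_one]
    rw [h1]
    exact hv.2

theorem nPair_ZU (h : CHyp t q ε Z T T' U s s' u) {z v₀ : C} (hz : z ∈ Z) (hv₀ : v₀ ∈ U)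
    (h1 : z ≠ 1) (ht : z ≠ t) : nPair t (z * v₀) = 0 := by
  refine nPair_eq_zero fun v hv hvz => ?_
  have h2 := inverts hv hvz
  have h3 : z * z * (v * v₀ * v⁻¹) = v₀⁻¹ := by
    have h4 : v * (z * v₀) * v⁻¹ = z * (v * v₀ * v⁻¹) := by
      rw [← mul_assoc v z, h.Z_central z hz v]; group
    rw [h4, mul_inv_rev, h.Z_central _ (inv_mem hz)] at h2
    rw [mul_assoc, h2]; group
  have h4 : v * v₀ * v⁻¹ ∈ U := by
    refine h.base.mem_U_of_mem_ZU (mul_mem hz hz) ?_ ?_
    · rw [conj_pow, h.base.pow_card_U hv₀]; group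
    · rw [h3, ← one_mul v₀⁻¹]
      exact h.base.mul_mem_ZU (one_mem Z) (inv_mem hv₀)
  have h5 : z * z = 1 := by
    refine h.base.eq_one_of_mem (mul_mem hz hz) ?_
    have h6 : z * z = v₀⁻¹ * (v * v₀ * v⁻¹)⁻¹ := by rw [← h3]; group
    rw [h6]
    exact mul_mem (inv_mem hv₀) (inv_mem h4)
  rcases h.invol_Z hz h5 with h3 | h3
  · exact h1 h3
  · exact ht h3

theorem hTI (h : CHyp t q ε Z T T' U s s' u) :
    ∀ v ∈ T, v ∈ nInv t → ∀ w ∈ T, w ∈ nInv t → v * w ∈ Z := by
  intro v hv hvI w hw hwI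
  rcases h.nInv_T hvI hv with rfl | rfl
  · rcases h.nInv_T hwI hw with rfl | rfl
    · rw [h.uu]; exact one_mem Z
    · rw [← mul_assoc, h.t_comm, mul_assoc, h.uu, mul_one]; exact h.t_mem
  · rcases h.nInv_T hwI hw with rfl | rfl
    · rw [mul_assoc, h.uu, mul_one]; exact h.t_mem
    · have h1 : t * u * (t * u) = 1 := nInv_mul_self hvI
      rw [h1]
      exact one_mem Z

theorem hTI' (h : CHyp t q ε Z T T' U s s' u) :
    ∀ v ∈ T', v ∈ nInv t → ∀ w ∈ T', w ∈ nInv t → v * w ∈ Z :=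
  fun _ hv hvI => absurd hv (h.nInv_T' hvI)

/-- Inner product of `R_T(g)` and `nPair`, for both tori; `m` is the difference of the values of
`nPair` at `1` and at the elements of the root group. -/
theorem classInner_R_aux (h : CHyp t q ε Z T T' U s s' u) {δ : ℤ} {T₁ : Subgroup C} {s₁ : C}
    (h₁ : Torus q δ Z T₁ s₁) (ht₀ : t ∈ h₁.T₀)
    (hTI : ∀ v ∈ T₁, v ∈ nInv t → ∀ w ∈ T₁, w ∈ nInv t → v * w ∈ Z)
    {μ : U →* ℂˣ} (hμ : ∃ v : U, μ v ≠ 1) (g : C → ℂ) {v₀ : C} (hv₀ : v₀ ∈ U) (hv₀1 : v₀ ≠ 1) :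
    classInner (Torus.R T₁ h.base μ g) (nPair t) =
      (Nat.card T₁ : ℂ)⁻¹ * ((q - δ) * ssum h₁.T₀ g +
        (((nInv t).card : ℂ) - (q - δ)) * (g 1 + g t)) -
      (Nat.card Z * q : ℂ)⁻¹ * ((g 1 + g t) * (((nInv t).card : ℂ) - nPair t v₀)) := by
  classical
  rw [Torus.classInner_R h.base hμ g (nPair_isClassFunction h.t_comm) hv₀ hv₀1]
  have h1 : ssum T₁ (fun x => g x * conj (nPair t x)) = (q - δ) * ssum h₁.T₀ g +
        (((nInv t).card : ℂ) - (q - δ)) * (g 1 + g t) := by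
    have h2 : ssum T₁ (fun x => g x * conj (nPair t x) -
        (if x ∈ h₁.T₀ then (q - δ) * g x else 0)) = ssum Z (fun x => g x * conj (nPair t x) -
        (if x ∈ h₁.T₀ then (q - δ) * g x else 0)) := by
      refine ssum_of_support h₁.Z_le fun x hx hxZ => ?_
      rw [conj_nPair, h₁.nPair_eq (h₁.T₀_le ht₀) hTI hx hxZ]
      split_ifs <;> ring
    have h3 : ssum Z (fun x => g x * conj (nPair t x) -
        (if x ∈ h₁.T₀ then (q - δ) * g x else 0)) =
        (((nInv t).card : ℂ) - (q - δ)) * (g 1 + g t) := by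
      rw [h.ssum_pair]
      · rw [if_pos (one_mem _), if_pos ht₀, conj_nPair, conj_nPair, h.nPair_one, h.nPair_t]
        ring
      · intro z hz hz1 hzt
        rw [conj_nPair, h.nPair_Z hz hz1 hzt, if_neg, mul_zero, sub_zero]
        rintro ⟨-, h4⟩
        rw [h.Z_central z hz s₁, mul_assoc z s₁, mul_inv_cancel, mul_one] at h4
        rcases h.invol_Z hz h4 with h5 | h5
        · exact hz1 h5
        · exact hzt h5
    have h4 : ssum T₁ (fun x => if x ∈ h₁.T₀ then (q - δ) * g x else 0) =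
        (q - δ) * ssum h₁.T₀ g := by
      rw [ssum_of_support h₁.T₀_le (fun x _ hx => if_neg hx), ← ssum_mul]
      exact ssum_congr fun x hx => if_pos hx
    rw [ssum_sub, h3, h4] at h2
    rw [← h2]
    ring
  have h5 : ssum Z (fun z => g z * conj (nPair t z - nPair t (z * v₀))) =
      (g 1 + g t) * (((nInv t).card : ℂ) - nPair t v₀) := by
    rw [h.ssum_pair]
    · rw [one_mul, h.nPair_one, h.nPair_t, h.nPair_mul_t, map_sub, conj_nPair,
        Complex.conj_natCast]
      ring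
    · intro z hz hz1 hzt
      rw [h.nPair_Z hz hz1 hzt, h.nPair_ZU hz hv₀ hz1 hzt, sub_zero, map_zero, mul_zero]
  rw [h1, h5]

theorem ssum_one (H : Subgroup C) : ssum H (fun _ => (1 : ℂ)) = Nat.card H := by
  rw [ssum_const, mul_one]

/-- The value of `nPair` at the elements of the root group. -/
theorem nPair_U (h : CHyp t q ε Z T T' U s s' u) {v₀ : C} (hv₀ : v₀ ∈ U) (hv₀1 : v₀ ≠ 1) :
    ((nInv t).card : ℂ) - nPair t v₀ = q * (q - 1) := by
  classical
  obtain ⟨μ, hμ⟩ := h.base.exists_mu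
  have e1 := h.classInner_R_aux h.torus h.t_mem_T₀ h.hTI hμ (fun _ => 1) hv₀ hv₀1
  have e2 := h.classInner_R_aux h.torus' h.t_mem_T'₀ h.hTI' hμ (fun _ => 1) hv₀ hv₀1
  have e3 : classInner (Torus.R T h.base μ (fun _ => 1)) (nPair t) +
      classInner (Torus.R T' h.base μ (fun _ => 1)) (nPair t) =
      2 * ((Nat.card C : ℂ)⁻¹ * ((nInv t).card * (nInv t).card)) := by
    rw [← Core.classInner_add_left]
    have h1 : (Torus.R T h.base μ (fun _ => 1) + Torus.R T' h.base μ (fun _ => 1)) =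
        (2 : ℂ) • (fun _ => (1 : ℂ)) := by
      funext x
      exact h.torus.R_add_R h.torus' rfl h.base hμ h.exhaust (fun _ _ => rfl)
        (fun _ _ _ _ => rfl) x
    rw [h1, Core.classInner_smul_left, Core.classInner_def]
    have h2 : ∑ x : C, (1 : ℂ) * conj (nPair t x) = (nInv t).card * (nInv t).card := by
      have h3 := pairSum_eq (t := t) (fun _ : C => (1 : ℂ))
      rw [Finset.sum_congr rfl (fun x _ => by rw [conj_nPair])]
      rw [← h3, pairSum]
      simp
    rw [h2]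
  rw [e1, e2, ssum_one, ssum_one, h.base.card_C_cast] at e3
  have h4 : (Nat.card h.torus.T₀ : ℂ) = q - ε := by
    have := h.torus.card_T₀
    exact_mod_cast this
  have h5 : (Nat.card h.torus'.T₀ : ℂ) = q + ε := by
    have := h.torus'.card_T₀
    have h6 : ((Nat.card h.torus'.T₀ : ℤ) : ℂ) = ((q - -ε : ℤ) : ℂ) := by rw [this]
    push_cast at h6
    rw [h6]
    ring
  rw [h4, h5, h.torus.card_cast, h.torus'.card_cast] at e3
  set m := ((nInv t).card : ℂ) - nPair t v₀ with hm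
  rw [h.card_nInv] at e3
  have hz := h.base.card_Z_ne
  have hq := h.base.q_ne
  have hs := h.torus.sub_ne_zero h.one_lt_q
  have ha := h.torus.add_ne_zero h.one_lt_q
  have hs' : (q : ℂ) - (-ε : ℤ) ≠ 0 := by
    push_cast
    rw [sub_neg_eq_add]
    exact ha
  have h4 : (ε : ℂ) * ε = 1 := by exact_mod_cast h.torus.sq_sign
  have hq2 : (q : ℂ) ^ 2 - 1 ≠ 0 := by
    have : (q : ℂ) ^ 2 - 1 = (q - ε) * (q + ε) := by linear_combination h4
    rw [this]
    exact mul_ne_zero hs ha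
  push_cast at e3 hs'
  rw [sub_neg_eq_add] at e3 hs'
  have e4 : (q : ℂ) ^ 2 - 1 = (q - ε) * (q + ε) := by linear_combination h4
  rw [e4] at e3
  generalize (q : ℂ) = Q at *
  generalize (ε : ℂ) = E at *
  generalize (Nat.card Z : ℂ) = N at *
  obtain ⟨a, ha0⟩ : ∃ a, a = Q - E := ⟨_, rfl⟩
  obtain ⟨b, hb0⟩ : ∃ b, b = Q + E := ⟨_, rfl⟩
  rw [← ha0, ← hb0] at e3
  rw [← ha0] at hs
  rw [← hb0] at ha
  have hE : E = b - Q := by rw [hb0]; ring
  have ha1 : a = 2 * Q - b := by rw [ha0, hE]; ring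
  clear_value m
  field_simp at e3
  have e5 : (4 * a) * m = (4 * a) * (Q * (Q - 1)) := by
    linear_combination (-1 : ℂ) * e3 + Q * a * ha1
  exact mul_left_cancel₀ (mul_ne_zero (by norm_num) hs) e5

/-- The pair sum of `R_T(g)`, `g 1 = 0`. -/
theorem pairSum_R_T (h : CHyp t q ε Z T T' U s s' u)
    {μ : U →* ℂˣ} (hμ : ∃ v : U, μ v ≠ 1) (g : C → ℂ) (hg : g 1 = 0) :
    pairSum t (Torus.R T h.base μ g) =
      2 * ε * q ^ 2 * (q + ε) * g t + q * (q ^ 2 - 1) * ssum h.torus.T₀ g := by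
  classical
  obtain ⟨v₀, hv₀, hv₀1⟩ := h.base.exists_ne_one
  rw [pairSum_eq_classInner, h.classInner_R_aux h.torus h.t_mem_T₀ h.hTI hμ g hv₀ hv₀1,
    h.nPair_U hv₀ hv₀1, hg, h.card_nInv, h.base.card_C_cast, h.torus.card_cast]
  have hz := h.base.card_Z_ne
  have hq := h.base.q_ne
  have hs := h.torus.sub_ne_zero h.one_lt_q
  have h4 : (ε : ℂ) * ε = 1 := by exact_mod_cast h.torus.sq_sign
  have e4 : (q : ℂ) ^ 2 - 1 = (q - ε) * (q + ε) := by linear_combination h4
  rw [e4]
  generalize (q : ℂ) = Q at *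
  generalize (ε : ℂ) = E at *
  generalize (Nat.card Z : ℂ) = N at *
  generalize g t = G at *
  generalize ssum h.torus.T₀ g = S
  field_simp
  ring

/-- The pair sum of `R_{T'}(f)`, `f 1 = 0`. -/
theorem pairSum_R_T' (h : CHyp t q ε Z T T' U s s' u)
    {μ : U →* ℂˣ} (hμ : ∃ v : U, μ v ≠ 1) (f : C → ℂ) (hf : f 1 = 0) :
    pairSum t (Torus.R T' h.base μ f) = q * (q ^ 2 - 1) * ssum h.torus'.T₀ f := by
  classical
  obtain ⟨v₀, hv₀, hv₀1⟩ := h.base.exists_ne_one
  rw [pairSum_eq_classInner, h.classInner_R_aux h.torus' h.t_mem_T'₀ h.hTI' hμ f hv₀ hv₀1,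
    h.nPair_U hv₀ hv₀1, hf, h.card_nInv, h.base.card_C_cast, h.torus'.card_cast]
  have hz := h.base.card_Z_ne
  have hq := h.base.q_ne
  have hs := h.torus.add_ne_zero h.one_lt_q
  have h4 : (ε : ℂ) * ε = 1 := by exact_mod_cast h.torus.sq_sign
  have e4 : (q : ℂ) ^ 2 - 1 = (q - ε) * (q + ε) := by linear_combination h4
  rw [e4]
  push_cast
  rw [sub_neg_eq_add]
  generalize (q : ℂ) = Q at *
  generalize (ε : ℂ) = E at *
  generalize (Nat.card Z : ℂ) = N at *
  generalize f t = G at *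
  generalize ssum h.torus'.T₀ f = S
  field_simp
  ring

end CHyp

end Cfsg.Agent.Classification.InvCent
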