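import Cfsg.Agent.Classification.InvCent.WreathedGram

/-!
# The Gram matrix argument, semidihedral case

`Φ i` has norm `3` (with mutual inner products `2`), `S` has norm `4`, `P` has norm `3`.
-/

set_option autoImplicit false
set_option linter.unusedSectionVars false

open Cfsg
open scoped ComplexConjugate

namespace Cfsg.Agent.Classification.InvCent.SDGram

open Cfsg.Agent.Classification.BGOrder Cfsg.Agent.Characters.Core
  Cfsg.Agent.Classification.BGSplit Cfsg.Agent.Classification.InvCent.WreathedGram

universe u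

variable {G : Type u} [Group G] [Fintype G]

/-- The Gram data of the semidihedral case. -/
structure SDHyp {Θ : Type*} [DecidableEq Θ] (Φ : Θ → G → ℂ) (S P : G → ℂ) : Prop where
  gΦ : ∀ i, IsGeneralizedCharacter G (Φ i)
  gS : IsGeneralizedCharacter G S
  gP : IsGeneralizedCharacter G P
  oneΦ : ∀ i, Φ i 1 = 0
  oneS : S 1 = 0
  oneP : P 1 = 0
  ΦΦ : ∀ i j, classInner (Φ i) (Φ j) = if i = j then 3 else 2
  ΦS : ∀ i, classInner (Φ i) S = 2
  SS : classInner S S = 4
  PP : classInner P P = 3
  PΦ : ∀ i, classInner P (Φ i) = 1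
  PS : classInner P S = 2
  trivΦ : ∀ i, classInner (Φ i) 1 = 1
  trivS : classInner S 1 = 1
  trivP : classInner P 1 = 1

/-- The decomposition. -/
structure SDSplit {Θ : Type*} (Φ : Θ → G → ℂ) (S P X₂ X₃ X₄ X₅ : G → ℂ) (L : Θ → G → ℂ) :
    Prop where
  s₂ : SignedIrr X₂
  s₃ : SignedIrr X₃
  s₄ : SignedIrr X₄
  s₅ : SignedIrr X₅
  sL : ∀ i, SignedIrr (L i)
  one₂ : classInner X₂ 1 = 0
  one₃ : classInner X₃ 1 = 0
  one₄ : classInner X₄ 1 = 0
  one₅ : classInner X₅ 1 = 0
  oneL : ∀ i, classInner (L i) 1 = 0
  x₂₃ : classInner X₂ X₃ = 0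
  x₂₄ : classInner X₂ X₄ = 0
  x₂₅ : classInner X₂ X₅ = 0
  x₃₄ : classInner X₃ X₄ = 0
  x₃₅ : classInner X₃ X₅ = 0
  x₄₅ : classInner X₄ X₅ = 0
  L₂ : ∀ i, classInner (L i) X₂ = 0
  L₃ : ∀ i, classInner (L i) X₃ = 0
  L₄ : ∀ i, classInner (L i) X₄ = 0
  L₅ : ∀ i, classInner (L i) X₅ = 0
  LL : ∀ i j, i ≠ j → classInner (L i) (L j) = 0
  eqΦ : ∀ i, Φ i = 1 - X₂ + L i
  eqS : S = 1 - X₂ + X₄ - X₅
  eqP : P = 1 + X₃ + X₄

section

variable {Θ : Type*} [DecidableEq Θ] {Φ : Θ → G → ℂ} {S P : G → ℂ}

/-- A generalized character `f` with `(f, 1) = 1` against the family `1, -X, L i`. -/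
theorem coeff {f X : G → ℂ} {L : Θ → G → ℂ} (hX : SignedIrr X) (hL : ∀ i, SignedIrr (L i))
    (hX1 : classInner X 1 = 0) (hL1 : ∀ i, classInner (L i) 1 = 0)
    (hXL : ∀ i, classInner X (L i) = 0) (hLL : ∀ i j, i ≠ j → classInner (L i) (L j) = 0)
    {t₀ t₁ t₂ : Θ} (h01 : t₀ ≠ t₁) (h02 : t₀ ≠ t₂) (h12 : t₁ ≠ t₂) {N c d : ℤ}
    (hN : classInner f f = N) (hf1 : classInner f 1 = 1) (hfX : classInner f X = -c)
    (hfL : ∀ i, classInner f (L i) = d) :
    classInner (f - (1 - (c : ℂ) • X + (d : ℂ) • L t₀ + (d : ℂ) • L t₁ + (d : ℂ) • L t₂))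
      (f - (1 - (c : ℂ) • X + (d : ℂ) • L t₀ + (d : ℂ) • L t₁ + (d : ℂ) • L t₂)) =
      ((N - 1 - c ^ 2 - 3 * d ^ 2 : ℤ) : ℂ) := by
  have e1 : classInner (1 : G → ℂ) f = 1 := inner_symm_one hf1
  have e2 : classInner X f = -c := by rw [← classInner_conj_symm, hfX]; simp
  have e3 : ∀ i, classInner (L i) f = d := fun i => by
    rw [← classInner_conj_symm, hfL]; simp
  have e4 := inner_symm_zero hX1
  have e5 : ∀ i, classInner 1 (L i) = 0 := fun i => inner_symm_zero (hL1 i)
  have e6 : ∀ i, classInner (L i) X = 0 := fun i => inner_symm_zero (hXL i)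
  have e7 := signed_self hX
  have e8 : ∀ i, classInner (L i) (L i) = 1 := fun i => signed_self (hL i)
  have e9 : classInner (1 : G → ℂ) 1 = 1 := one_one
  simp only [classInner_sub_left, classInner_sub_right, classInner_add_left,
    classInner_add_right, classInner_smul_left, classInner_smul_right, hN, hf1, hfX, hfL, e1, e2,
    e3, e4, e5, e6, e7, e8, e9, hX1, hL1, hXL, hLL _ _ h01, hLL _ _ h02, hLL _ _ h12,
    hLL _ _ h01.symm, hLL _ _ h02.symm, hLL _ _ h12.symm, map_intCast]
  push_cast
  ring

/-- **The decomposition in the semidihedral case.** -/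
theorem exists_sdSplit [Fintype Θ] (hΘ : 3 ≤ Fintype.card Θ) (h : SDHyp Φ S P) :
    ∃ (X₂ X₃ X₄ X₅ : G → ℂ) (L : Θ → G → ℂ), SDSplit Φ S P X₂ X₃ X₄ X₅ L := by
  classical
  -- three indices
  obtain ⟨t₀, t₁, t₂, h01, h02, h12⟩ := (Fintype.two_lt_card_iff (α := Θ)).1 (by omega)
  have hnt : Nontrivial Θ := ⟨⟨t₀, t₁, h01⟩⟩
  have hfam : Family () (fun _ : Unit => Φ) :=
    { gen := fun _ t => h.gΦ t
      at_one := fun _ t => h.oneΦ t
      gram := fun l t l' t' => by
        have := h.ΦΦ t t'
        rw [this]
        by_cases htt : t = t'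
        · rw [if_pos htt, if_pos (Subsingleton.elim l l'), if_pos htt]; norm_num
        · rw [if_neg htt, if_pos (Subsingleton.elim l l'), if_neg htt]; norm_num
      triv := fun _ t => by rw [h.trivΦ, if_pos rfl] }
  obtain ⟨X, L, hX, hL, hX1, hL1, hXL, hLL, hΦ⟩ := hfam.exists_split
  have one1 : classInner (1 : G → ℂ) 1 = 1 := one_one
  have e1X := inner_symm_zero hX1
  have e1L : ∀ i, classInner 1 (L i) = 0 := fun i => inner_symm_zero (hL1 i)
  have eXX := signed_self hX
  have eLX : ∀ i, classInner (L i) X = 0 := fun i => inner_symm_zero (hXL i)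
  have hSigned1 : SignedIrr (1 : G → ℂ) := signedIrr_one
  -- degrees
  obtain ⟨b, hb⟩ := degree_int (generalized_signed (hL t₀))
  have hdeg : ∀ i, L i 1 = b := by
    intro i
    have e1 := congrFun (hΦ i) 1
    have e2 := congrFun (hΦ t₀) 1
    simp only [h.oneΦ, Pi.add_apply, Pi.sub_apply, Pi.one_apply] at e1 e2
    rw [← hb]
    linear_combination e2 - e1
  -- coefficients of `S`
  obtain ⟨c, hc⟩ := inner_int h.gS hX
  have hSΦ : ∀ i, classInner S (Φ i) = 2 := fun i => by
    rw [← classInner_conj_symm, h.ΦS]; exact map_ofNat _ 2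
  have hSL : ∀ i, classInner S (L i) = ((1 + c : ℤ) : ℂ) := by
    intro i
    have e := hSΦ i
    rw [hΦ i, classInner_add_right, classInner_sub_right, h.trivS, hc] at e
    push_cast
    linear_combination e
  have hnS := coeff (N := 4) (c := -c) (d := 1 + c) hX hL hX1 hL1 hXL hLL h01 h02 h12
    (by rw [h.SS]; norm_num) h.trivS (by rw [hc]; push_cast; ring) hSL
  have hnS' := norm_nonneg_int hnS
  have hc01 : c = 0 ∨ c = -1 ∨ c = -2 := by
    have h1 : -3 < c := by nlinarith
    have h2 : c < 1 := by nlinarith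
    omega
  have hc1 : c = -1 := by
    rcases hc01 with hc0 | hc0 | hc0
    · -- `S = 1 + L₀ + L₁ + L₂`
      subst hc0
      exfalso
      have h0 := eq_zero_of_norm hnS (by norm_num)
      have e := congrFun h0 1
      simp only [Pi.sub_apply, Pi.add_apply, Pi.one_apply, Pi.smul_apply, smul_eq_mul, h.oneS,
        hdeg, Pi.zero_apply] at e
      have e2 : (0 : ℤ) = 1 + 3 * b := by
        have : ((0 : ℤ) : ℂ) = ((1 + 3 * b : ℤ) : ℂ) := by
          push_cast at e ⊢
          linear_combination e
        exact_mod_cast this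
      omega
    · exact hc0
    · subst hc0
      norm_num at hnS'
  subst hc1
  have hSX : classInner S X = -1 := by rw [hc]; norm_num
  have hXS : classInner X S = -1 := by rw [← classInner_conj_symm, hSX]; simp
  have hSL0 : ∀ i, classInner S (L i) = 0 := fun i => by rw [hSL]; norm_num
  have h1S : classInner 1 S = 1 := inner_symm_one h.trivS
  -- coefficients of `P`
  obtain ⟨d, hd⟩ := inner_int h.gP hX
  have hPL : ∀ i, classInner P (L i) = d := by
    intro i
    have e := h.PΦ i
    rw [hΦ i, classInner_add_right, classInner_sub_right, h.trivP, hd] at e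
    linear_combination e
  have hnP := coeff (N := 3) (c := -d) (d := d) hX hL hX1 hL1 hXL hLL h01 h02 h12
    (by rw [h.PP]; norm_num) h.trivP (by rw [hd]; push_cast; ring) hPL
  have hnP' := norm_nonneg_int hnP
  have hd0 : d = 0 := by
    have h1 : -1 < d := by nlinarith
    have h2 : d < 1 := by nlinarith
    omega
  subst hd0
  have hPX : classInner P X = 0 := by rw [hd]; simp
  have hPL0 : ∀ i, classInner P (L i) = 0 := fun i => by rw [hPL]; simp
  have h1P : classInner 1 P = 1 := inner_symm_one h.trivP
  have hXP := inner_symm_zero hPX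
  -- `R = S - 1 + X`
  set R : G → ℂ := S - 1 + X with hRdef
  have gR : IsGeneralizedCharacter G R :=
    generalized_add (generalized_sub h.gS (generalized_signed hSigned1)) (generalized_signed hX)
  have hRR : classInner R R = ((2 : ℤ) : ℂ) := by
    rw [hRdef]
    simp only [classInner_sub_left, classInner_sub_right, classInner_add_left,
      classInner_add_right, h.SS, h.trivS, h1S, hSX, hXS, one1, hX1, e1X, eXX]
    norm_num
  have hR1 : classInner R 1 = 0 := by
    rw [hRdef]
    simp only [classInner_sub_left, classInner_add_left, h.trivS, one1, hX1]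
    norm_num
  have hRX : classInner R X = 0 := by
    rw [hRdef]
    simp only [classInner_sub_left, classInner_add_left, hSX, e1X, eXX]
    norm_num
  have hRL : ∀ i, classInner R (L i) = 0 := by
    intro i
    rw [hRdef]
    simp only [classInner_sub_left, classInner_add_left, hSL0, e1L, hXL]
    norm_num
  have hPR : classInner P R = 1 := by
    rw [hRdef]
    simp only [classInner_sub_right, classInner_add_right, h.PS, h.trivP, hPX]
    norm_num
  -- `Q = P - 1`
  set Q : G → ℂ := P - 1 with hQdef
  have gQ : IsGeneralizedCharacter G Q := generalized_sub h.gP (generalized_signed hSigned1)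
  have hQQ : classInner Q Q = ((2 : ℤ) : ℂ) := by
    rw [hQdef]
    simp only [classInner_sub_left, classInner_sub_right, h.PP, h.trivP, h1P, one1]
    norm_num
  have hQ1 : classInner Q 1 = 0 := by
    rw [hQdef, classInner_sub_left, h.trivP, one1, sub_self]
  have hQX : classInner Q X = 0 := by
    rw [hQdef, classInner_sub_left, hPX, e1X, sub_self]
  have hQL : ∀ i, classInner Q (L i) = 0 := fun i => by
    rw [hQdef, classInner_sub_left, hPL0, e1L, sub_self]
  have h1R := inner_symm_zero hR1
  have hQR : classInner Q R = 1 := by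
    rw [hQdef, classInner_sub_left, hPR, h1R, sub_zero]
  obtain ⟨A, hA, hA1, gQA, hQA⟩ := peel gQ hQQ (by norm_num) (by norm_num)
  have hB : SignedIrr (Q - A) := signed_of_norm_one gQA (by rw [hQA]; norm_num)
  have eAA := signed_self hA
  have hAB : classInner (Q - A) A = 0 := by rw [classInner_sub_left, hA1, eAA, sub_self]
  -- the final step, for `X₄ = A`, `X₃ = B`
  have fin : ∀ A B : G → ℂ, SignedIrr A → SignedIrr B → classInner B A = 0 → Q = A + B →
      classInner A R = 1 → classInner B R = 0 →
      ∃ (X₂ X₃ X₄ X₅ : G → ℂ) (L : Θ → G → ℂ), SDSplit Φ S P X₂ X₃ X₄ X₅ L := by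
    intro A B hA hB hBA hQAB hAR hBR
    have eAA := signed_self hA
    have eBB := signed_self hB
    have hAB := inner_symm_zero hBA
    have hRA := inner_symm_one hAR
    have hRB := inner_symm_zero hBR
    have hQA1 : classInner Q A = 1 := by rw [hQAB, classInner_add_left, eAA, hBA, add_zero]
    have hQB1 : classInner Q B = 1 := by rw [hQAB, classInner_add_left, eBB, hAB, zero_add]
    have hX5 : SignedIrr (R - A) := by
      refine signed_of_norm_one (generalized_sub gR (generalized_signed hA)) ?_
      rw [classInner_sub_left, classInner_sub_right, classInner_sub_right, hRR, hAR, hRA, eAA]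
      norm_num
    have hRX5 : classInner R (R - A) = 1 := by
      rw [classInner_sub_right, hRR, hRA]; norm_num
    refine ⟨X, B, A, -(R - A), L, ?_⟩
    exact
      { s₂ := hX
        s₃ := hB
        s₄ := hA
        s₅ := signed_neg hX5
        sL := hL
        one₂ := hX1
        one₃ := inner_zero_of hB hSigned1 hQB1 hQ1
        one₄ := inner_zero_of hA hSigned1 hQA1 hQ1
        one₅ := by rw [classInner_neg_left, inner_zero_of hX5 hSigned1 hRX5 hR1, neg_zero]
        oneL := hL1
        x₂₃ := inner_symm_zero (inner_zero_of hB hX hQB1 hQX)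
        x₂₄ := inner_symm_zero (inner_zero_of hA hX hQA1 hQX)
        x₂₅ := by
          rw [classInner_neg_right, inner_symm_zero (inner_zero_of hX5 hX hRX5 hRX), neg_zero]
        x₃₄ := hBA
        x₃₅ := by rw [classInner_neg_right, classInner_sub_right, hBR, hBA, sub_zero, neg_zero]
        x₄₅ := by rw [classInner_neg_right, classInner_sub_right, hAR, eAA, sub_self, neg_zero]
        L₂ := eLX
        L₃ := fun i => inner_symm_zero (inner_zero_of hB (hL i) hQB1 (hQL i))
        L₄ := fun i => inner_symm_zero (inner_zero_of hA (hL i) hQA1 (hQL i))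
        L₅ := fun i => by
          rw [classInner_neg_right, inner_symm_zero (inner_zero_of hX5 (hL i) hRX5 (hRL i)),
            neg_zero]
        LL := hLL
        eqΦ := hΦ
        eqS := by
          rw [hRdef]
          ext g
          simp only [Pi.add_apply, Pi.sub_apply, Pi.neg_apply, Pi.one_apply]
          ring
        eqP := by
          have e := congrArg (fun f : G → ℂ => f + 1) hQAB
          simp only [hQdef, sub_add_cancel] at e
          rw [e]
          ext g
          simp only [Pi.add_apply, Pi.one_apply]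
          ring }
  -- the two cases
  obtain ⟨a, ha⟩ := inner_int gR hA
  obtain ⟨a', ha'⟩ := inner_int gR hB
  have haa : a + a' = 1 := by
    have e : classInner R Q = 1 := inner_symm_one hQR
    have e2 : classInner R Q = ((a + a' : ℤ) : ℂ) := by
      have : Q = A + (Q - A) := by abel
      rw [this, classInner_add_right, ha, ha']
      push_cast; ring
    rw [e] at e2
    exact_mod_cast e2.symm
  have eBB := signed_self hB
  have hAB' := inner_symm_zero hAB
  have haR : classInner A R = a := by rw [← classInner_conj_symm, ha]; simp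
  have haR' : classInner (Q - A) R = a' := by rw [← classInner_conj_symm, ha']; simp
  have hn2 : classInner (R - (a : ℂ) • A - (a' : ℂ) • (Q - A))
      (R - (a : ℂ) • A - (a' : ℂ) • (Q - A)) = ((2 - a ^ 2 - a' ^ 2 : ℤ) : ℂ) := by
    generalize Q - A = B at *
    simp only [classInner_sub_left, classInner_sub_right, classInner_smul_left,
      classInner_smul_right, hRR, ha, ha', haR, haR', eAA, eBB, hAB, hAB', map_intCast]
    push_cast
    ring
  have hn3 := norm_nonneg_int hn2
  have hcase : a = 0 ∨ a = 1 := by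
    have h1 : a' = 1 - a := by omega
    subst h1
    have h2 : -1 < a := by nlinarith
    have h3 : a < 2 := by nlinarith
    omega
  rcases hcase with rfl | rfl
  · have h1 : a' = 1 := by omega
    subst h1
    exact fin (Q - A) A hB hA (inner_symm_zero hAB) (by abel) (by rw [haR']; simp)
      (by rw [haR]; simp)
  · have h1 : a' = 0 := by omega
    subst h1
    exact fin A (Q - A) hA hB hAB (by abel) (by rw [haR]; simp) (by rw [haR']; simp)

end

end Cfsg.Agent.Classification.InvCent.SDGram
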