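import Mathlib
import Cfsg.Prelude.Def_Characters
import Cfsg.Prelude.Def_Blocks
import Cfsg.Agent.Characters.Core
import Cfsg.Agent.Characters.Brauer
import Cfsg.Agent.Blocks.Basic
import Cfsg.Agent.Blocks.Residue
import Cfsg.Agent.Blocks.PrincipalInflate
import Cfsg.Agent.Classification.InvCent.CTorus

/-!
# The principal 2-block of `C` of type `GL₂(q)/Z₀`, `GU₂(q)/Z₀`

A character `ψ` of the principal 2-block of `C` satisfies, on the elements `c` of odd order,
`ψ c = 1/2 (a R_T(1) c + b R_T'(1) c)` for two constants `a`, `b` (`CHyp.exists_eval`).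

* `eq_of_fourier`: a function on an abelian group orthogonal to all the linear characters
  nontrivial at `y` is invariant under translation by `y`;
* `Torus.ssum_eq_zero`: `ψ` is orthogonal to `R_T(θ)` for `θ y ≠ 1`, `y` of odd order;
* `Torus.G_eq`: the resulting equality of the values of `ψ` on `T`.
-/

set_option autoImplicit false
set_option linter.unusedSectionVars false

open Cfsg
open scoped ComplexConjugate

namespace Cfsg.Agent.Classification.InvCent

open Cfsg.Agent.Characters Cfsg.Agent.Blocks.Local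

section Fourier

variable {C : Type*} [Group C] [Fintype C]

theorem ssum_translate {T : Subgroup C} {a : C} (ha : a ∈ T) (F : C → ℂ) :
    ssum T (fun x => F (a * x)) = ssum T F :=
  ssum_equiv (Equiv.mulLeft a) (fun x => by
    rw [Equiv.coe_mulLeft]; exact T.mul_mem_cancel_left ha) F

theorem ssum_eq_zero_of_shift {T : Subgroup C} {a : C} (ha : a ∈ T) {k : ℂ} (hk : k ≠ 1)
    {F : C → ℂ} (hF : ∀ x ∈ T, F (a * x) = k * F x) : ssum T F = 0 := by
  have h1 : ssum T F = k * ssum T F := by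
    rw [← ssum_mul, ← ssum_congr hF, ssum_translate ha]
  have h2 : (1 - k) * ssum T F = 0 := by linear_combination h1
  exact (mul_eq_zero.1 h2).resolve_left (sub_ne_zero.2 hk.symm)

/-- The zero extension of a linear character. -/
noncomputable def lext (T : Subgroup C) (θ : T →* ℂ) : C → ℂ := extendByZero T (fun x => θ x)

theorem lext_apply {T : Subgroup C} (θ : T →* ℂ) {x : C} (hx : x ∈ T) :
    lext T θ x = θ ⟨x, hx⟩ := Core.extendByZero_of_mem _ _ hx

theorem lext_mul {T : Subgroup C} (θ : T →* ℂ) {x y : C} (hx : x ∈ T) (hy : y ∈ T) :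
    lext T θ (x * y) = lext T θ x * lext T θ y := by
  rw [lext_apply θ hx, lext_apply θ hy, lext_apply θ (mul_mem hx hy), ← map_mul]
  rfl

theorem lext_one {T : Subgroup C} (θ : T →* ℂ) : lext T θ 1 = 1 := by
  rw [lext_apply θ (one_mem T)]
  exact map_one θ

theorem lext_pow {T : Subgroup C} (θ : T →* ℂ) {x : C} (hx : x ∈ T) (n : ℕ) :
    lext T θ x ^ n = lext T θ (x ^ n) := by
  rw [lext_apply θ hx, lext_apply θ (pow_mem hx n), ← map_pow]
  rfl

theorem lext_mul_conj {T : Subgroup C} (θ : T →* ℂ) {x : C} (hx : x ∈ T) :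
    lext T θ x * conj (lext T θ x) = 1 := by
  have h1 : lext T θ x ^ orderOf x = 1 := by
    rw [lext_pow θ hx, pow_orderOf_eq_one, lext_one]
  have h2 : ‖lext T θ x‖ = 1 := Complex.norm_eq_one_of_pow_eq_one h1 (orderOf_pos x).ne'
  rw [Complex.mul_conj, Complex.normSq_eq_norm_sq, h2]
  norm_num

theorem lext_ne_zero {T : Subgroup C} (θ : T →* ℂ) {x : C} (hx : x ∈ T) : lext T θ x ≠ 0 := by
  intro h
  have := lext_mul_conj θ hx
  rw [h, zero_mul] at this
  exact zero_ne_one this

/-- A function orthogonal to the linear characters nontrivial at `y` is invariant under the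
translation by `y`. -/
theorem eq_of_fourier {T : Subgroup C} (hcomm : ∀ x ∈ T, ∀ y ∈ T, x * y = y * x) {G : C → ℂ}
    {y : C} (hy : y ∈ T)
    (h : ∀ θ : T →* ℂ, lext T θ y ≠ 1 → ssum T (fun x => lext T θ x * conj (G x)) = 0) {x : C}
    (hx : x ∈ T) : G (y * x) = G x := by
  classical
  let _ : CommGroup T := { (inferInstance : Group T) with
    mul_comm := fun x y => Subtype.ext (hcomm x x.2 y y.2) }
  obtain ⟨S, hS⟩ := Brauer.exists_dual T
  have key : ∀ x₀ ∈ T, (Nat.card T : ℂ) * conj (G x₀) =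
      ∑ θ ∈ S, lext T θ x₀⁻¹ * ssum T (fun x => lext T θ x * conj (G x)) := by
    intro x₀ hx₀
    have h1 : ∀ θ ∈ S, lext T θ x₀⁻¹ * ssum T (fun x => lext T θ x * conj (G x)) =
        ∑ x : C, if x ∈ T then lext T θ (x₀⁻¹ * x) * conj (G x) else 0 := by
      intro θ _
      rw [← ssum_mul]
      refine ssum_congr fun x hx => ?_
      rw [lext_mul θ (inv_mem hx₀) hx]
      ring
    rw [Finset.sum_congr rfl h1, Finset.sum_comm, Finset.sum_eq_single x₀]
    · simp only [if_pos hx₀]
      rw [← Finset.sum_mul]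
      congr 1
      have h2 := hS 1
      rw [if_pos rfl] at h2
      rw [← h2]
      refine Finset.sum_congr rfl fun θ _ => ?_
      rw [inv_mul_cancel, lext_one, map_one]
    · intro x _ hxx
      split_ifs with hx
      · rw [← Finset.sum_mul]
        have h2 := hS ⟨x₀⁻¹ * x, mul_mem (inv_mem hx₀) hx⟩
        rw [if_neg] at h2
        · rw [Finset.sum_congr rfl (fun θ _ =>
            lext_apply θ (mul_mem (inv_mem hx₀) hx)), h2, zero_mul]
        · intro h3
          apply hxx
          have h4 : x₀⁻¹ * x = 1 := congrArg Subtype.val h3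
          exact (inv_mul_eq_one.1 h4).symm
      · exact Finset.sum_const_zero
    · intro h2
      exact absurd (Finset.mem_univ _) h2
  have h1 := key (y * x) (mul_mem hy hx)
  have h2 := key x hx
  have h3 : ∑ θ ∈ S, lext T θ (y * x)⁻¹ * ssum T (fun x => lext T θ x * conj (G x)) =
      ∑ θ ∈ S, lext T θ x⁻¹ * ssum T (fun x => lext T θ x * conj (G x)) := by
    refine Finset.sum_congr rfl fun θ _ => ?_
    by_cases hθ : lext T θ y = 1
    · congr 1
      rw [mul_inv_rev, lext_mul θ (inv_mem hx) (inv_mem hy)]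
      have h4 : lext T θ y⁻¹ * lext T θ y = 1 := by
        rw [← lext_mul θ (inv_mem hy) hy, inv_mul_cancel, lext_one]
      rw [hθ, mul_one] at h4
      rw [h4, mul_one]
    · rw [h θ hθ, mul_zero, mul_zero]
  rw [h3, ← h2] at h1
  have h4 : (Nat.card T : ℂ) ≠ 0 := by exact_mod_cast Nat.card_pos.ne'
  have h5 := mul_left_cancel₀ h4 h1
  have h6 := congrArg conj h5
  rwa [Complex.conj_conj, Complex.conj_conj] at h6

end Fourier

namespace Torus

variable {C : Type*} [Group C] [Fintype C] {q : ℕ} {δ δ' : ℤ} {Z T T' U : Subgroup C} {s s' : C}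

open Classical in
/-- The modification of `ψ` on `Z`. -/
noncomputable def GG (q : ℕ) (δ : ℤ) (Z : Subgroup C) (ψ : C → ℂ) (v₀ : C) (x : C) : ℂ :=
  ψ x - if x ∈ Z then (((q : ℂ) - δ) / q) * (ψ x - ψ (x * v₀)) else 0

theorem GG_Z {ψ : C → ℂ} {v₀ x : C} (hx : x ∈ Z) :
    GG q δ Z ψ v₀ x = ψ x - (((q : ℂ) - δ) / q) * (ψ x - ψ (x * v₀)) := by
  unfold GG
  rw [if_pos hx]

theorem GG_notMem {ψ : C → ℂ} {v₀ x : C} (hx : x ∉ Z) : GG q δ Z ψ v₀ x = ψ x := by
  unfold GG
  rw [if_neg hx, sub_zero]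

/-- Inner products of `ψ` with the `R_T(f)`. -/
theorem classInner_R_GG (h : Torus q δ Z T s) (hb : Base q Z U) {μ : U →* ℂˣ}
    (hμ : ∃ v : U, μ v ≠ 1) (f : C → ℂ) {ψ : C → ℂ} (hψ : IsClassFunction C ψ) {v₀ : C}
    (hv₀ : v₀ ∈ U) (hv₀1 : v₀ ≠ 1) :
    classInner (R T hb μ f) ψ =
      (Nat.card T : ℂ)⁻¹ * ssum T (fun x => f x * conj (GG q δ Z ψ v₀ x)) := by
  rw [classInner_R hb hμ f hψ hv₀ hv₀1]
  have h1 : ssum T (fun x => f x * conj (ψ x) - f x * conj (GG q δ Z ψ v₀ x)) =
      ssum Z (fun x => f x * conj (ψ x) - f x * conj (GG q δ Z ψ v₀ x)) := by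
    refine ssum_of_support h.Z_le fun x hx hxZ => ?_
    rw [GG_notMem hxZ, sub_self]
  have h2 : ssum Z (fun x => f x * conj (ψ x) - f x * conj (GG q δ Z ψ v₀ x)) =
      (((q : ℂ) - δ) / q) * ssum Z (fun z => f z * conj (ψ z - ψ (z * v₀))) := by
    rw [← ssum_mul]
    refine ssum_congr fun z hz => ?_
    rw [GG_Z hz]
    simp only [map_sub, map_mul, map_div₀, Complex.conj_natCast, map_intCast]
    ring
  rw [ssum_sub, h2] at h1
  have h3 : ssum T (fun x => f x * conj (ψ x)) =
      ssum T (fun x => f x * conj (GG q δ Z ψ v₀ x)) +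
        (((q : ℂ) - δ) / q) * ssum Z (fun z => f z * conj (ψ z - ψ (z * v₀))) := by
    linear_combination h1
  rw [h3, h.card_cast]
  have := hb.card_Z_ne
  have h5 := h.sub_ne_zero hb.one_lt_q
  have := hb.q_ne
  field_simp
  ring

theorem index_centralizer (h : Torus q δ Z T s) (hb : Base q Z U) {x : C} (hx : x ∈ T)
    (hxZ : x ∉ Z) :
    ((Subgroup.centralizer ({x} : Set C)).index : ℂ) = q * (q + δ) := by
  have h1 : (Nat.card T : ℂ) * ((Subgroup.centralizer ({x} : Set C)).index : ℂ) =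
      Nat.card C := by
    rw [h.centralizer_eq hx hxZ]
    exact_mod_cast T.card_mul_index
  rw [h.card_cast, hb.card_C_cast] at h1
  have h2 := hb.card_Z_ne
  have h3 := h.sub_ne_zero hb.one_lt_q
  have h4 : (δ : ℂ) * δ = 1 := by exact_mod_cast h.sq_sign
  have h5 : ((Nat.card Z : ℂ) * (q - δ)) *
      (((Subgroup.centralizer ({x} : Set C)).index : ℂ) - q * (q + δ)) = 0 := by
    linear_combination h1 + (Nat.card Z : ℂ) * q * h4
  exact sub_eq_zero.1 ((mul_eq_zero.1 h5).resolve_left (mul_ne_zero h2 h3))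


/-- **Orthogonality.** A character of the principal 2-block is orthogonal to `R_T(θ)` for every
linear character `θ` of `T` which is nontrivial on an element of odd order. -/
theorem ssum_eq_zero (h : Torus q δ Z T s) (hb : Base q Z U) {μ : U →* ℂˣ}
    (hμ : ∃ v : U, μ v ≠ 1) {M : Ideal AlgInt} (hM : IsPModular 2 M) {ψ : IrrCharacter C}
    (hψ : ψ ∈ principalBlock M C) {v₀ : C} (hv₀ : v₀ ∈ U) (hv₀1 : v₀ ≠ 1) (θ : T →* ℂ) {y : C}
    (hy : y ∈ T) (hyo : Odd (orderOf y)) (hθ : lext T θ y ≠ 1) :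
    ssum T (fun x => lext T θ x * conj (GG q δ Z (ψ : C → ℂ) v₀ x)) = 0 := by
  classical
  have hMp := isPrime_of_isPModular hM
  have : Fact (Nat.Prime 2) := ⟨Nat.prime_two⟩
  have hcl : IsClassFunction C (ψ : C → ℂ) := Core.isIrr_isClassFunction ψ.2
  by_cases hA : ∃ z ∈ Z, Odd (orderOf z) ∧ lext T θ z ≠ 1
  · -- a central element of odd order at which `θ` is not trivial
    obtain ⟨z, hz, hzo, hzθ⟩ := hA
    have hN : (Subgroup.zpowers z).Normal := by
      refine ⟨fun n hn g => ?_⟩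
      obtain ⟨k, rfl⟩ := Subgroup.mem_zpowers_iff.1 hn
      have h1 : Commute g (z ^ k) := (show Commute g z from hb.Z_central z hz g).zpow_right k
      rw [h1.eq, mul_assoc, mul_inv_cancel, mul_one]
      exact hn
    have hNc : ¬ 2 ∣ Nat.card (Subgroup.zpowers z) := by
      rw [Nat.card_zpowers]
      exact fun h1 => (Nat.not_even_iff_odd.2 hzo) (even_iff_two_dvd.2 h1)
    have hψz : ∀ x, (ψ : C → ℂ) (z * x) = (ψ : C → ℂ) x := fun x =>
      Blocks.PrincipalInflate.apply_mul hM hNc hψ (Subgroup.mem_zpowers z) x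
    refine ssum_eq_zero_of_shift (h.Z_le hz) hzθ fun x hx => ?_
    have h1 : GG q δ Z (ψ : C → ℂ) v₀ (z * x) = GG q δ Z (ψ : C → ℂ) v₀ x := by
      by_cases hxZ : x ∈ Z
      · rw [GG_Z hxZ, GG_Z (mul_mem hz hxZ), hψz, mul_assoc, hψz]
      · rw [GG_notMem hxZ, GG_notMem (fun h1 => hxZ ((Z.mul_mem_cancel_left hz).1 h1)), hψz]
    rw [h1, lext_mul θ (h.Z_le hz) hx]
    ring
  · -- `θ` is trivial on the elements of odd order of `Z`
    push Not at hA
    have hyZ : y ∉ Z := fun h1 => hθ (hA y h1 hyo)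
    have hys := h.s_conj y hy
    set w := lext T θ y with hw
    have hw0 : w ≠ 0 := lext_ne_zero θ hy
    have hwn : w ^ orderOf y = 1 := by
      rw [hw, lext_pow θ hy, pow_orderOf_eq_one, lext_one]
    have hwc : w * conj w = 1 := lext_mul_conj θ hy
    have hws : w * lext T θ (s * y * s⁻¹) = 1 := by
      rw [hw, ← lext_mul θ hy hys]
      refine hA _ (h.s_norm y hy) ?_
      have h1 : (y * (s * y * s⁻¹)) ^ orderOf y = 1 := by
        rw [(show Commute y (s * y * s⁻¹) from h.comm _ hy _ hys).mul_pow, conj_pow,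
          pow_orderOf_eq_one]
        group
      exact Odd.of_dvd_nat hyo (orderOf_dvd_of_pow_eq_one h1)
    have hws' : lext T θ (s * y * s⁻¹) = conj w := by
      have h1 : w * (lext T θ (s * y * s⁻¹) - conj w) = 0 := by linear_combination hws - hwc
      exact sub_eq_zero.1 ((mul_eq_zero.1 h1).resolve_left hw0)
    have hw2 : w ^ 2 ≠ 1 := by
      intro h1
      apply hθ
      obtain ⟨k, hk⟩ := hyo
      rw [hk, pow_add, pow_mul, h1, one_pow, one_mul, pow_one] at hwn
      exact hwn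
    -- the generalized character `R_T(θ)` has norm one
    have hgen : IsGeneralizedCharacter C (R T hb μ (lext T θ)) := by
      refine h.isGeneralized_R hb ?_
      have h1 : (fun x : T => lext T θ x) = fun x : T => θ x := by
        funext x
        exact lext_apply θ x.2
      rw [h1]
      exact Brauer.isGeneralizedCharacter_of_isCharacter (Brauer.isCharacter_of_monoidHom θ)
    have hnorm : classInner (R T hb μ (lext T θ)) (R T hb μ (lext T θ)) = 1 := by
      rw [h.classInner_R_R hb hμ]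
      have h1 : ssum T (fun x => lext T θ x * conj (lext T θ x + lext T θ (s * x * s⁻¹))) =
          ssum T (fun _ => 1) + ssum T (fun x => lext T θ x * conj (lext T θ (s * x * s⁻¹))) := by
        rw [← ssum_add]
        refine ssum_congr fun x hx => ?_
        rw [map_add, mul_add, lext_mul_conj θ hx]
      have h2 : ssum T (fun x => lext T θ x * conj (lext T θ (s * x * s⁻¹))) = 0 := by
        refine ssum_eq_zero_of_shift hy hw2 fun x hx => ?_
        have h3 : s * (y * x) * s⁻¹ = (s * y * s⁻¹) * (s * x * s⁻¹) := by group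
        rw [h3, lext_mul θ hy hx, lext_mul θ hys (h.s_conj x hx), hws', map_mul,
          Complex.conj_conj]
        ring
      rw [h1, h2, ssum_const, add_zero, mul_one]
      exact inv_mul_cancel₀ Core.card_ne_zero_complex
    have hR : classInner (R T hb μ (lext T θ)) (ψ : C → ℂ) = 0 ∨
        ∃ σ : ℂ, σ ≠ 0 ∧ ∀ x, (ψ : C → ℂ) x = σ * R T hb μ (lext T θ) x := by
      rcases Core.isIrr_of_generalized hgen hnorm with h1 | h1
      · by_cases h2 : R T hb μ (lext T θ) = (ψ : C → ℂ)
        · right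
          exact ⟨1, one_ne_zero, fun x => by rw [one_mul, h2]⟩
        · left
          exact Core.classInner_irr_ne h1 ψ.2 h2
      · by_cases h2 : -R T hb μ (lext T θ) = (ψ : C → ℂ)
        · right
          refine ⟨-1, by norm_num, fun x => ?_⟩
          rw [← h2, Pi.neg_apply]
          ring
        · left
          have h3 := Core.classInner_irr_ne h1 ψ.2 h2
          rw [Core.classInner_neg_left] at h3
          exact neg_eq_zero.1 h3
    rcases hR with hR | ⟨σ, hσ, hR⟩
    · rw [h.classInner_R_GG hb hμ _ hcl hv₀ hv₀1] at hR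
      exact (mul_eq_zero.1 hR).resolve_left (inv_ne_zero Core.card_ne_zero_complex)
    · -- central characters
      exfalso
      have h1 := hψ y
      have hδ2 : (δ : ℂ) * δ = 1 := by exact_mod_cast h.sq_sign
      have hq1 : (1 : ℂ) + δ * q ≠ 0 := by
        intro h2
        apply h.add_ne_zero hb.one_lt_q
        linear_combination (δ : ℂ) * h2 - (q : ℂ) * hδ2
      have h2 : centralChar (fun _ : C => (1 : ℂ)) y = q * (q + δ) := by
        unfold centralChar
        rw [h.index_centralizer hb hy hyZ]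
        ring
      have h3 : centralChar (ψ : C → ℂ) y = δ * q * (w + conj w) := by
        unfold centralChar
        rw [h.index_centralizer hb hy hyZ, hR y, hR 1, h.R_Z hb _ (one_mem Z),
          h.R_T hb _ hy hyZ, lext_one, hws', ← hw,
          div_eq_iff (mul_ne_zero hσ (mul_ne_zero hq1 one_ne_zero))]
        linear_combination (-(σ * (q : ℂ) ^ 2 * (w + conj w))) * hδ2
      rw [h2, h3] at h1
      have h4 : MemLocalIdeal M ((((q : ℤ) * (q + δ) : ℤ) : ℂ)) := by
        rw [memLocalIdeal_intCast_iff hM]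
        have h5 : Even ((q : ℤ) + δ) := by
          have h6 : Odd (q : ℤ) := by exact_mod_cast hb.odd_q
          rcases h.sign with h7 | h7 <;> rw [h7]
          · exact h6.add_odd odd_one
          · exact h6.add_odd (by decide)
        exact (even_iff_two_dvd.1 h5).mul_left _
      push_cast at h4
      have h5 := memLocalIdeal_sub h4 h1
      have hwR : MemLocalRing M w :=
        memLocalRing_of_isIntegral (IsIntegral.of_pow (orderOf_pos y)
          (by rw [hwn]; exact isIntegral_one))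
      have hq : MemLocalRing M ((q : ℂ)⁻¹) := memLocalRing_inv_natCast hM
        (fun h6 => (Nat.not_even_iff_odd.2 hb.odd_q) (even_iff_two_dvd.2 h6))
      have h6 : MemLocalIdeal M (w ^ 2 + 1) := by
        have h7 := memLocalIdeal_mul_left (memLocalRing_mul hq (memLocalRing_mul hwR
          (memLocalRing_intCast δ))) h5
        convert h7 using 1
        have hq0 := hb.q_ne
        field_simp
        linear_combination (-(w ^ 2 + w * conj w)) * hδ2 - hwc
      have h7 : MemLocalIdeal M (w ^ 2 - 1) := by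
        have h8 := memLocalIdeal_sub h6 (memLocalIdeal_p hM)
        convert h8 using 1
        push_cast
        ring
      have hint : IsIntegral ℤ (w ^ 2) := (IsIntegral.of_pow (orderOf_pos y)
          (by rw [hwn]; exact isIntegral_one)).pow 2
      have h8 : (⟨w ^ 2, hint⟩ : AlgInt) - 1 ∈ M := by
        rw [← memLocalIdeal_algInt_iff]
        exact h7
      have hyo' : ¬ 2 ∣ orderOf y :=
        fun h6 => (Nat.not_even_iff_odd.2 hyo) (even_iff_two_dvd.2 h6)
      have h9 := Blocks.Residue.eq_of_sub_mem hM (ε₁ := ⟨w ^ 2, hint⟩) (ε₂ := 1)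
        ⟨orderOf y, hyo', by
          change (w ^ 2) ^ orderOf y = 1
          rw [← pow_mul, mul_comm, pow_mul, hwn, one_pow]⟩
        ⟨1, by norm_num, by simp⟩ h8
      exact hw2 (congrArg Subtype.val h9)

/-- The values of a character of the principal 2-block on the elements of odd order of `T`. -/
theorem GG_eq (h : Torus q δ Z T s) (hb : Base q Z U)
    {M : Ideal AlgInt} (hM : IsPModular 2 M) {ψ : IrrCharacter C}
    (hψ : ψ ∈ principalBlock M C) {v₀ : C} (hv₀ : v₀ ∈ U) (hv₀1 : v₀ ≠ 1) {y x : C}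
    (hy : y ∈ T) (hyo : Odd (orderOf y)) (hx : x ∈ T) :
    GG q δ Z (ψ : C → ℂ) v₀ (y * x) = GG q δ Z (ψ : C → ℂ) v₀ x := by
  obtain ⟨μ, hμ⟩ := hb.exists_mu
  exact eq_of_fourier h.comm hy
    (fun θ hθ => h.ssum_eq_zero hb hμ hM hψ hv₀ hv₀1 θ hy hyo hθ) hx

/-- A function with the values `a`, `b` through `R_T(1)`, `R_T'(1)`: the modified value on `Z`. -/
theorem GG_of_eval (h : Torus q δ Z T s) (hb : Base q Z U) {ψ : C → ℂ} {v₀ : C} {a b : ℂ} {z : C}
    (hz : z ∈ Z) (h1 : ψ z = ((1 + δ * q) * a + (1 - δ * q) * b) / 2)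
    (h2 : ψ (z * v₀) = (a + b) / 2) : GG q δ Z ψ v₀ z = a := by
  rw [GG_Z hz, h1, h2]
  have hq := hb.q_ne
  have hδ2 : (δ : ℂ) * δ = 1 := by exact_mod_cast h.sq_sign
  field_simp
  linear_combination ((a - b) * q) * hδ2

/-- The values of a function at `z` from the modified values for the two tori. -/
theorem eq_of_GG (h : Torus q δ Z T s) (hb : Base q Z U) {ψ : C → ℂ} {v₀ : C} {z : C}
    (hz : z ∈ Z) : ψ z = ((1 + δ * q) * GG q δ Z ψ v₀ z + (1 - δ * q) * GG q (-δ) Z ψ v₀ z) / 2 ∧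
      ψ (z * v₀) = (GG q δ Z ψ v₀ z + GG q (-δ) Z ψ v₀ z) / 2 := by
  rw [GG_Z hz, GG_Z hz]
  have hq := hb.q_ne
  have hδ2 : (δ : ℂ) * δ = 1 := by exact_mod_cast h.sq_sign
  push_cast
  constructor
  · field_simp
    linear_combination (-2 * (q : ℂ) * (ψ z - ψ (z * v₀))) * hδ2
  · field_simp
    ring

end Torus

section Eval

variable {C : Type*} [Group C] [Fintype C] {t : C} {q : ℕ} {ε : ℤ} {Z T T' U : Subgroup C}
  {s s' u : C}

/-- The function `1/2 (a R_T(1) + b R_T'(1))`. -/
noncomputable def ev (T T' : Subgroup C) (hb : Base q Z U) (μ : U →* ℂˣ) (a b : ℂ) (y : C) : ℂ :=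
  (a * Torus.R T hb μ (fun _ => 1) y + b * Torus.R T' hb μ (fun _ => 1) y) / 2

theorem ev_isClassFunction (hb : Base q Z U) (μ : U →* ℂˣ) (a b : ℂ) :
    IsClassFunction C (ev T T' hb μ a b) := by
  intro g k
  unfold ev
  rw [Torus.R_isClassFunction hb _ g k, Torus.R_isClassFunction hb _ g k]

theorem ev_Z (h : CHyp t q ε Z T T' U s s' u) (μ : U →* ℂˣ) (a b : ℂ) {y : C} (hy : y ∈ Z) :
    ev T T' h.base μ a b y = ((1 + ε * q) * a + (1 - ε * q) * b) / 2 := by
  unfold ev
  rw [h.torus.R_Z h.base _ hy, h.torus'.R_Z h.base _ hy]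
  push_cast
  ring

theorem ev_ZU (h : CHyp t q ε Z T T' U s s' u) {μ : U →* ℂˣ} (hμ : ∃ v : U, μ v ≠ 1) (a b : ℂ)
    {y v : C} (hy : y ∈ Z) (hv : v ∈ U) (hv1 : v ≠ 1) :
    ev T T' h.base μ a b (y * v) = (a + b) / 2 := by
  unfold ev
  rw [h.torus.R_ZU h.base hμ _ hy hv hv1, h.torus'.R_ZU h.base hμ _ hy hv hv1]
  ring

theorem CHyp.eps_ne (h : CHyp t q ε Z T T' U s s' u) : ε ≠ -ε := by
  rcases h.eps with h1 | h1 <;> rw [h1] <;> decide

theorem ev_T (h : CHyp t q ε Z T T' U s s' u) (μ : U →* ℂˣ) (a b : ℂ) {y : C} (hy : y ∈ T)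
    (hyZ : y ∉ Z) : ev T T' h.base μ a b y = a := by
  unfold ev
  rw [h.torus.R_T h.base _ hy hyZ, h.torus'.R_T' h.torus h.eps_ne h.base _ hy hyZ]
  ring

theorem ev_T' (h : CHyp t q ε Z T T' U s s' u) (μ : U →* ℂˣ) (a b : ℂ) {y : C} (hy : y ∈ T')
    (hyZ : y ∉ Z) : ev T T' h.base μ a b y = b := by
  unfold ev
  rw [h.torus'.R_T h.base _ hy hyZ, h.torus.R_T' h.torus' h.eps_ne.symm h.base _ hy hyZ]
  ring

/-- **The principal 2-block of `C` on the elements of odd order.** -/
theorem CHyp.exists_eval (h : CHyp t q ε Z T T' U s s' u) {M : Ideal AlgInt} (hM : IsPModular 2 M)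
    {ψ : IrrCharacter C} (hψ : ψ ∈ principalBlock M C) {μ : U →* ℂˣ} (hμ : ∃ v : U, μ v ≠ 1) :
    ∃ a b : ℂ, ∀ y : C, Odd (orderOf y) → (ψ : C → ℂ) y = ev T T' h.base μ a b y := by
  classical
  have : Fact (Nat.Prime 2) := ⟨Nat.prime_two⟩
  obtain ⟨v₀, hv₀, hv₀1⟩ := h.base.exists_ne_one
  have hcl : IsClassFunction C (ψ : C → ℂ) := Core.isIrr_isClassFunction ψ.2
  set G := Torus.GG q ε Z (ψ : C → ℂ) v₀ with hG
  set G' := Torus.GG q (-ε) Z (ψ : C → ℂ) v₀ with hG'
  have hT : ∀ y ∈ T, Odd (orderOf y) → G y = G 1 := fun y hy hyo => by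
    have h1 := h.torus.GG_eq h.base hM hψ hv₀ hv₀1 hy hyo (one_mem T)
    rwa [mul_one] at h1
  have hT' : ∀ y ∈ T', Odd (orderOf y) → G' y = G' 1 := fun y hy hyo => by
    have h1 := h.torus'.GG_eq h.base hM hψ hv₀ hv₀1 hy hyo (one_mem T')
    rwa [mul_one] at h1
  have hZ : ∀ y ∈ Z, Odd (orderOf y) → (ψ : C → ℂ) y = ev T T' h.base μ (G 1) (G' 1) y ∧
      (ψ : C → ℂ) (y * v₀) = ev T T' h.base μ (G 1) (G' 1) (y * v₀) := by
    intro y hy hyo
    rw [ev_Z h μ _ _ hy, ev_ZU h hμ _ _ hy hv₀ hv₀1, ← hT y (h.Z_le_T hy) hyo,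
      ← hT' y (h.Z_le_T' hy) hyo]
    exact h.torus.eq_of_GG h.base hy
  refine ⟨G 1, G' 1, fun y hyo => ?_⟩
  obtain ⟨g, hg⟩ := h.exhaust y
  have hord : orderOf (g * y * g⁻¹) = orderOf y := (MulAut.conj g).orderOf_eq y
  rw [← hcl y g, ← ev_isClassFunction h.base μ (G 1) (G' 1) y g]
  rw [← hord] at hyo
  generalize g * y * g⁻¹ = x at hg hyo
  rcases hg with hx | hx | ⟨z, hz, v, hv, hx⟩
  · by_cases hxZ : x ∈ Z
    · exact (hZ x hxZ hyo).1
    · rw [ev_T h μ _ _ hx hxZ, ← hT x hx hyo, hG, Torus.GG_notMem hxZ]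
  · by_cases hxZ : x ∈ Z
    · exact (hZ x hxZ hyo).1
    · rw [ev_T' h μ _ _ hx hxZ, ← hT' x hx hyo, hG', Torus.GG_notMem hxZ]
  · have hzo : Odd (orderOf z) := by
      have h1 : z ^ orderOf x * v ^ orderOf x = 1 := by
        rw [← (show Commute z v from (h.Z_central z hz v).symm).mul_pow, ← hx, pow_orderOf_eq_one]
      have h2 : z ^ orderOf x = 1 := by
        refine h.base.eq_one_of_mem (pow_mem hz _) ?_
        rw [eq_inv_of_mul_eq_one_left h1]
        exact inv_mem (pow_mem hv _)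
      exact Odd.of_dvd_nat hyo (orderOf_dvd_of_pow_eq_one h2)
    subst hx
    by_cases hv1 : v = 1
    · rw [hv1, mul_one]
      exact (hZ z hz hzo).1
    · obtain ⟨c, hc⟩ := h.fus_U v₀ hv₀ v hv hv₀1 hv1
      have h1 : z * v = c * (z * v₀) * c⁻¹ := by
        rw [← hc, ← mul_assoc c, h.Z_central z hz c]
        group
      rw [h1, hcl, ev_isClassFunction h.base μ (G 1) (G' 1)]
      exact (hZ z hz hzo).2

end Eval

end Cfsg.Agent.Classification.InvCent
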