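import Mathlib
import Cfsg.Prelude.Def_Characters
import Cfsg.Prelude.Def_Blocks
import Cfsg.Agent.Characters.Core
import Cfsg.Agent.Blocks.PrincipalInflate
import Cfsg.Agent.Blocks.PrincipalConstGen
import Cfsg.Agent.Classification.RTwo.General
import Cfsg.Agent.Classification.QDW.CoreConst
import Cfsg.Agent.Classification.InvCent.BlockC

/-!
# Characters of the principal 2-block for an involution centralizer with quotient `C`

`π : C_G(t) →* C` onto with odd kernel (`RTwo.General.Hyp t z π`), `C` of type `GL₂(q)/Z₀` or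
`GU₂(q)/Z₀` with central involution `z` (`CHyp`), `X` (up to sign) a character in the principal 2-block.

* `section_eval`: for a 2-element `ζ ≠ 1` of `Z` there are `a`, `b` with
  `X x = 1/2 (a R_T(1) y + b R_T'(1) y)` if `π x = ζ y`, `y` of odd order;
* `blockEval`: the case `ζ = z`;
* `GG_eq`: with `F` the class function of `C` given by `X`, the modified values `GG F` on `T` (and
  `T'`) are constant on the cosets of the subgroup of the elements of odd order;
* `classInner_ind_R`: `⟨Ind (R_T(f) ∘ π), X⟩ = |T|⁻¹ ∑ f (GG F)^-`;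
* `exists_functions`: all this together.
-/

set_option autoImplicit false
set_option linter.unusedSectionVars false

open Cfsg
open scoped ComplexConjugate

namespace Cfsg.Agent.Classification.InvCent

open Cfsg.Agent.Characters Cfsg.Agent.Blocks.Local Cfsg.Agent.Classification.RTwo.General
  Cfsg.Agent.Classification.BGBlockB0 Cfsg.Agent.Classification.QDW

universe w v

section Alg

variable {C : Type*} [Group C] {z : C} {q : ℕ} {ε : ℤ} {Z T T' U : Subgroup C} {s s' u : C}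

theorem CHyp.z_sq (h : CHyp z q ε Z T T' U s s' u) : z * z = 1 := by
  have h1 := pow_orderOf_eq_one z
  rwa [h.orderOf_t, sq] at h1

theorem CHyp.z_ne_one (h : CHyp z q ε Z T T' U s s' u) : z ≠ 1 := by
  intro h1
  have h2 := h.orderOf_t
  rw [h1, orderOf_one] at h2
  exact absurd h2 (by norm_num)

theorem CHyp.u_notMem (h : CHyp z q ε Z T T' U s s' u) : u ∉ Z := by
  intro h1
  have h2 := h.s_u
  rw [h.Z_central u h1 s, mul_assoc, mul_inv_cancel, mul_one] at h2
  exact h.z_ne_one (mul_right_cancel (a := z) (b := u) (c := 1) (by rw [one_mul]; exact h2.symm))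

/-- The involution `z` is a power of every 2-element `≠ 1` of `Z`. -/
theorem CHyp.mem_zpowers (h : CHyp z q ε Z T T' U s s' u) {ζ : C} (hζ : ζ ∈ Z) (hζ1 : ζ ≠ 1)
    {m : ℕ} (hm : ζ ^ 2 ^ m = 1) : z ∈ Subgroup.zpowers ζ := by
  obtain ⟨k, -, hk⟩ := (Nat.dvd_prime_pow Nat.prime_two).1 (orderOf_dvd_of_pow_eq_one hm)
  have hk0 : k ≠ 0 := by
    rintro rfl
    rw [pow_zero, orderOf_eq_one_iff] at hk
    exact hζ1 hk
  obtain ⟨l, rfl⟩ := Nat.exists_eq_succ_of_ne_zero hk0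
  set w := ζ ^ 2 ^ l with hw
  have hwZ : w ∈ Z := pow_mem hζ _
  have hw1 : w ≠ 1 := by
    intro h1
    have h2 := orderOf_dvd_of_pow_eq_one h1
    rw [hk] at h2
    have h3 := Nat.le_of_dvd (by positivity) h2
    have h4 : 2 ^ l < 2 ^ (l + 1) := Nat.pow_lt_pow_right (by norm_num) (by omega)
    omega
  have hw2 : w * w = 1 := by
    rw [← sq, hw, ← pow_mul, ← pow_succ, ← hk, pow_orderOf_eq_one]
  have hwz : w = z := by
    rcases h.invol_T w (h.Z_le_T hwZ) hw2 with h1 | h1 | h1 | h1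
    · exact absurd h1 hw1
    · exact h1
    · exact absurd (h1 ▸ hwZ) h.u_notMem
    · refine absurd ?_ h.u_notMem
      have h2 : u = z⁻¹ * w := by rw [h1]; group
      rw [h2]
      exact mul_mem (inv_mem h.t_mem) hwZ
  rw [← hwz, hw]
  exact pow_mem (Subgroup.mem_zpowers ζ) _

/-- An involution which is a power of `ζ` is a power of `ζ y`, `y` of odd order commuting
with `ζ`. -/
theorem mem_zpowers_mul {ζ y : C} (hz : z * z = 1) (h1 : z ∈ Subgroup.zpowers ζ)
    (hc : Commute ζ y) (hy : Odd (orderOf y)) : z ∈ Subgroup.zpowers (ζ * y) := by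
  obtain ⟨k, hk⟩ := Subgroup.mem_zpowers_iff.1 h1
  refine Subgroup.mem_zpowers_iff.2 ⟨k * orderOf y, ?_⟩
  have h2 : z ^ orderOf y = z := by
    obtain ⟨l, hl⟩ := hy
    rw [hl, pow_succ, pow_mul, sq, hz, one_pow, one_mul]
  rw [mul_comm k, zpow_mul, zpow_natCast, hc.mul_pow, pow_orderOf_eq_one, mul_one, ← zpow_natCast,
    ← zpow_mul, mul_comm, zpow_mul, hk, zpow_natCast, h2]

end Alg

section Lift

variable {G : Type w} [Group G] [Finite G] {C : Type v} [Group C] {t : G} {z : C}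
  {π : (Subgroup.centralizer ({t} : Set G)) →* C}

theorem centralizer_le {a : G} (ha : t ∈ Subgroup.zpowers a) :
    Subgroup.centralizer ({a} : Set G) ≤ Subgroup.centralizer ({t} : Set G) := by
  intro y hy
  rw [Subgroup.mem_centralizer_singleton_iff] at hy ⊢
  obtain ⟨k, hk⟩ := Subgroup.mem_zpowers_iff.1 ha
  have hy' : Commute y a := hy
  rw [← hk]
  exact (hy'.zpow_right k).eq

/-- The elements commuting with `π a`, `a` a 2-element, lift to elements commuting with `a`. -/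
theorem exists_lift (h : Hyp t z π) {a : Subgroup.centralizer ({t} : Set G)} {m : ℕ}
    (ha : a ^ 2 ^ m = 1) {c : C} (hc : Commute (π a) c) :
    ∃ x : Subgroup.centralizer ({t} : Set G), π x = c ∧ Commute a x := by
  obtain ⟨x, rfl⟩ := h.surj c
  have h1 : π (x * a * x⁻¹) = π a := by
    rw [map_mul, map_mul, map_inv, ← hc.eq]
    group
  obtain ⟨k, hk, hka⟩ := CoreConst.exists_conj_ker π h.odd_ker (x * a * x⁻¹) a m
    (by rw [conj_pow, ha]; group) ha h1
  refine ⟨k * x, by rw [map_mul, hk, one_mul], ?_⟩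
  have h2 : k * x * a * (k * x)⁻¹ = a := by
    calc k * x * a * (k * x)⁻¹ = k * (x * a * x⁻¹) * k⁻¹ := by group
      _ = a := hka
  have h3 : k * x * a = a * (k * x) := by
    rw [mul_inv_eq_iff_eq_mul] at h2
    exact h2
  exact h3.symm

/-- The same with an element of odd order. -/
theorem exists_lift_odd (h : Hyp t z π) {a : Subgroup.centralizer ({t} : Set G)} {m : ℕ}
    (ha : a ^ 2 ^ m = 1) {c : C} (hc : Commute (π a) c) (hco : Odd (orderOf c)) :
    ∃ x : Subgroup.centralizer ({t} : Set G), π x = c ∧ Commute a x ∧ Odd (orderOf x) := by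
  obtain ⟨x, hx, hax⟩ := exists_lift h ha hc
  refine ⟨x, hx, hax, ?_⟩
  have h1 : π (x ^ orderOf c) = 1 := by rw [map_pow, hx, pow_orderOf_eq_one]
  have h2 : (x ^ orderOf c) ^ Nat.card π.ker = 1 :=
    congrArg Subtype.val (pow_card_eq_one' (x := (⟨x ^ orderOf c, h1⟩ : π.ker)))
  rw [← pow_mul] at h2
  exact Odd.of_dvd_nat (hco.mul h.odd_ker) (orderOf_dvd_of_pow_eq_one h2)

end Lift

section Eval

variable {G : Type w} [Group G] [Finite G] {C : Type v} [Group C] [Fintype C] {t : G} {z : C}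
  {π : (Subgroup.centralizer ({t} : Set G)) →* C} {q : ℕ} {ε : ℤ} {Z T T' U : Subgroup C}
  {s s' u : C}

/-- **The section of a 2-element `ζ` of `Z`.** -/
theorem irr_section_eval (h : Hyp t z π) (hC : CHyp z q ε Z T T' U s s' u)
    {M : Ideal AlgInt} (hM : IsPModular 2 M) {X : IrrCharacter G} (hX : X ∈ principalBlock M G)
    {μ : U →* ℂˣ} (hμ : ∃ v : U, μ v ≠ 1) {ζ : C} (hζ : ζ ∈ Z) (hζ1 : ζ ≠ 1) {m : ℕ}
    (hm : ζ ^ 2 ^ m = 1) :
    ∃ a b : ℂ, ∀ (x : Subgroup.centralizer ({t} : Set G)) (y : C), π x = ζ * y →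
      Odd (orderOf y) → (X : G → ℂ) x = ev T T' hC.base μ a b y := by
  classical
  have : Fact (Nat.Prime 2) := ⟨Nat.prime_two⟩
  -- a 2-element above `ζ`
  obtain ⟨x₀, hx₀⟩ := h.surj ζ
  obtain ⟨a, -, -, hpa, -, ham, -⟩ := exists_two_part h x₀ (m := m) (by rw [hx₀, hm])
  rw [hx₀] at hpa
  have hza : z ∈ Subgroup.zpowers (π a) := by rw [hpa]; exact hC.mem_zpowers hζ hζ1 hm
  have hta : t ∈ Subgroup.zpowers (a : G) := mem_zpowers_of_map h hza
  have hle := centralizer_le hta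
  -- the centralizer of `a`
  let H : Subgroup G := Subgroup.centralizer ({(a : G)} : Set G)
  let π' : H →* C := π.comp (Subgroup.inclusion hle)
  have hπ' : Function.Surjective π' := by
    intro c
    obtain ⟨x, hx, hax⟩ := exists_lift h ham (c := c)
      (by rw [hpa]; exact (hC.Z_central ζ hζ c).symm)
    refine ⟨⟨(x : G), ?_⟩, ?_⟩
    · rw [Subgroup.mem_centralizer_singleton_iff]
      exact (congrArg Subtype.val hax.eq).symm
    · rw [← hx]
      rfl
  have hker : ¬ 2 ∣ Nat.card π'.ker := by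
    have h1 : Nat.card π'.ker ∣ Nat.card π.ker := by
      refine Subgroup.card_dvd_of_injective
        (((Subgroup.inclusion hle).comp π'.ker.subtype).codRestrict π.ker (fun x => x.2)) ?_
      intro x y hxy
      have h1 : Subgroup.inclusion hle x.1 = Subgroup.inclusion hle y.1 :=
        congrArg Subtype.val hxy
      exact Subtype.ext (Subgroup.inclusion_injective hle h1)
    exact (Odd.of_dvd_nat h.odd_ker h1).not_two_dvd_nat
  have hord : ∃ k : ℕ, orderOf (a : G) = 2 ^ k := by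
    have h1 : (a : G) ^ 2 ^ m = 1 := congrArg Subtype.val ham
    obtain ⟨l, -, hl⟩ := (Nat.dvd_prime_pow Nat.prime_two).1 (orderOf_dvd_of_pow_eq_one h1)
    exact ⟨l, hl⟩
  let _ : Fintype H := Fintype.ofFinite H
  have : Finite (IrrCharacter H) := Core.finite_irr
  let _ : Fintype (IrrCharacter H) := Fintype.ofFinite _
  -- the constants
  have hex : ∀ ξ : IrrCharacter H, ∃ ab : ℂ × ℂ, ξ ∈ principalBlock M H → ∀ y : H,
      Odd (orderOf y) → (ξ : H → ℂ) y = ev T T' hC.base μ ab.1 ab.2 (π' y) := by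
    intro ξ
    by_cases hξ : ξ ∈ principalBlock M H
    · obtain ⟨ξ', hξ', he⟩ := Blocks.PrincipalInflate.exists_comp hM hπ' hker hξ
      obtain ⟨a, b, hab⟩ := hC.exists_eval hM hξ' hμ
      refine ⟨(a, b), fun _ y hy => ?_⟩
      rw [he]
      exact hab (π' y) (Odd.of_dvd_nat hy (orderOf_map_dvd π' y))
    · exact ⟨0, fun h1 => absurd h1 hξ⟩
  choose ab hab using hex
  refine ⟨∑ ξ : IrrCharacter H with ξ ∈ principalBlock M H,
      classInner (fun c : H => (X : G → ℂ) ((a : G) * (c : G))) (ξ : H → ℂ) * (ab ξ).1,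
    ∑ ξ : IrrCharacter H with ξ ∈ principalBlock M H,
      classInner (fun c : H => (X : G → ℂ) ((a : G) * (c : G))) (ξ : H → ℂ) * (ab ξ).2,
    fun x y hx hy => ?_⟩
  obtain ⟨y', hy', hay', hyo⟩ := exists_lift_odd h ham (c := y)
    (by rw [hpa]; exact (hC.Z_central ζ hζ y).symm) hy
  have hyH : (y' : G) ∈ H := by
    rw [Subgroup.mem_centralizer_singleton_iff]
    exact (congrArg Subtype.val hay'.eq).symm
  have hπy : π' ⟨y', hyH⟩ = y := by
    rw [← hy']
    rfl
  have hyo' : Odd (orderOf (⟨y', hyH⟩ : H)) := by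
    rw [Subgroup.orderOf_mk, Subgroup.orderOf_coe]
    exact hyo
  have h1 : (X : G → ℂ) x = (X : G → ℂ) ((a : G) * (y' : G)) := by
    refine CoreConst.irr_eq_of_map h M hM X hX x (a * y') ?_ (by rw [hx, map_mul, hpa, hy'])
    rw [hx]
    exact mem_zpowers_mul hC.z_sq (hC.mem_zpowers hζ hζ1 hm) (hC.Z_central ζ hζ y).symm hy
  have h2 := Blocks.PrincipalInflate.section_eq hM (a : G) hord (H := H) rfl hX
    (⟨y', hyH⟩ : H) hyo'.not_two_dvd_nat
  rw [h1, h2, Finset.sum_congr rfl (fun ξ hξ => by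
    rw [hab ξ (Finset.mem_filter.1 hξ).2 _ hyo', hπy])]
  unfold ev
  rw [Finset.sum_mul, Finset.sum_mul, ← Finset.sum_add_distrib, Finset.sum_div]
  refine Finset.sum_congr rfl fun ξ _ => ?_
  ring

/-- The section of a 2-element `ζ` of `Z`, up to sign. -/
theorem section_eval (h : Hyp t z π) (hC : CHyp z q ε Z T T' U s s' u)
    {M : Ideal AlgInt} (hM : IsPModular 2 M) {X : G → ℂ} (hX : InB (principalBlock M G) X)
    {μ : U →* ℂˣ} (hμ : ∃ v : U, μ v ≠ 1) {ζ : C} (hζ : ζ ∈ Z) (hζ1 : ζ ≠ 1) {m : ℕ}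
    (hm : ζ ^ 2 ^ m = 1) :
    ∃ a b : ℂ, ∀ (x : Subgroup.centralizer ({t} : Set G)) (y : C), π x = ζ * y →
      Odd (orderOf y) → X x = ev T T' hC.base μ a b y := by
  obtain ⟨χ, hχ, rfl | rfl⟩ := hX
  · exact irr_section_eval h hC hM hχ hμ hζ hζ1 hm
  · obtain ⟨a, b, hab⟩ := irr_section_eval h hC hM hχ hμ hζ hζ1 hm
    refine ⟨-a, -b, fun x y hx hy => ?_⟩
    rw [Pi.neg_apply, hab x y hx hy]
    unfold ev
    ring

/-- **The characters of the principal 2-block on the 2-section of `t`.** -/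
theorem blockEval (h : Hyp t z π) (hC : CHyp z q ε Z T T' U s s' u)
    {M : Ideal AlgInt} (hM : IsPModular 2 M) {X : G → ℂ} (hX : InB (principalBlock M G) X)
    {μ : U →* ℂˣ} (hμ : ∃ v : U, μ v ≠ 1) :
    ∃ a b : ℂ, ∀ (x : Subgroup.centralizer ({t} : Set G)) (y : C), π x = z * y →
      Odd (orderOf y) → X x = (a * Torus.R T hC.base μ (fun _ => 1) y +
        b * Torus.R T' hC.base μ (fun _ => 1) y) / 2 :=
  section_eval h hC hM hX hμ hC.t_mem hC.z_ne_one (m := 1)
    (by rw [pow_one, sq]; exact hC.z_sq)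

/-- A character of the principal 2-block at `a * y`, `a` a 2-element having `t` as a power, `y` of
odd order commuting with `a`, whose image commutes with the image of the centralizer of `a`. -/
theorem irr_mul_odd (h : Hyp t z π) {M : Ideal AlgInt} (hM : IsPModular 2 M)
    {X : IrrCharacter G} (hX : X ∈ principalBlock M G)
    {a y : Subgroup.centralizer ({t} : Set G)} {m : ℕ} (ham : a ^ 2 ^ m = 1)
    (hta : t ∈ Subgroup.zpowers (a : G)) (hay : Commute a y) (hyo : Odd (orderOf y))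
    (hcent : ∀ c : Subgroup.centralizer ({t} : Set G), Commute a c → Commute (π c) (π y)) :
    (X : G → ℂ) ((a : G) * (y : G)) = (X : G → ℂ) a := by
  have : Fact (Nat.Prime 2) := ⟨Nat.prime_two⟩
  set N0 : Subgroup (Subgroup.centralizer ({t} : Set G)) :=
    (Subgroup.zpowers (π y)).comap π ⊓
      Subgroup.centralizer ({a} : Set (Subgroup.centralizer ({t} : Set G))) with hN0
  set N : Subgroup G := N0.map (Subgroup.centralizer ({t} : Set G)).subtype with hN
  have hmem : ∀ x : G, x ∈ N ↔ ∃ w : Subgroup.centralizer ({t} : Set G),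
      π w ∈ Subgroup.zpowers (π y) ∧ Commute a w ∧ (w : G) = x := by
    intro x
    rw [hN, Subgroup.mem_map]
    constructor
    · rintro ⟨w, hw, rfl⟩
      rw [hN0, Subgroup.mem_inf, Subgroup.mem_comap, Subgroup.mem_centralizer_singleton_iff] at hw
      exact ⟨w, hw.1, Commute.symm hw.2, rfl⟩
    · rintro ⟨w, h1, h2, rfl⟩
      refine ⟨w, ?_, rfl⟩
      rw [hN0, Subgroup.mem_inf, Subgroup.mem_comap, Subgroup.mem_centralizer_singleton_iff]
      exact ⟨h1, h2.symm⟩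
  have h1 := Blocks.PrincipalConstGen.irr_const 2 M hM (u := (a : G)) ?_ N ?_ ?_ ?_
    (y := (1 : G)) (n := (y : G)) (Commute.one_right _) (by rw [orderOf_one]; norm_num) ?_ X hX
  · rwa [mul_one] at h1
  · have h1 : (a : G) ^ 2 ^ m = 1 := congrArg Subtype.val ham
    obtain ⟨l, -, hl⟩ := (Nat.dvd_prime_pow Nat.prime_two).1 (orderOf_dvd_of_pow_eq_one h1)
    exact ⟨l, hl⟩
  · intro x hx
    obtain ⟨w, -, hw, rfl⟩ := (hmem x).1 hx
    exact congrArg Subtype.val hw.eq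
  · intro c hc x hx
    obtain ⟨w, hw1, hw2, rfl⟩ := (hmem x).1 hx
    have hcC : c ∈ Subgroup.centralizer ({t} : Set G) := by
      refine centralizer_le hta ?_
      rw [Subgroup.mem_centralizer_singleton_iff]
      exact hc.symm.eq
    have hc' : Commute a (⟨c, hcC⟩ : Subgroup.centralizer ({t} : Set G)) := Subtype.ext hc.eq
    refine (hmem _).2 ⟨⟨c, hcC⟩ * w * (⟨c, hcC⟩)⁻¹, ?_, (hc'.mul_right hw2).mul_right hc'.inv_right,
      rfl⟩
    obtain ⟨k, hk⟩ := Subgroup.mem_zpowers_iff.1 hw1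
    have h2 : Commute (π ⟨c, hcC⟩) (π w) := by
      rw [← hk]
      exact (hcent _ hc').zpow_right k
    rw [map_mul, map_mul, map_inv, h2.eq, mul_assoc, mul_inv_cancel, mul_one]
    exact hw1
  · rw [Nat.coprime_two_right]
    have h1 : Nat.card N = Nat.card N0 :=
      Nat.card_congr (N0.equivMapOfInjective _ (Subgroup.subtype_injective _)).toEquiv.symm
    have h2 : Nat.card ((Subgroup.zpowers (π y)).comap π) =
        Nat.card π.ker * Nat.card (Subgroup.zpowers (π y)) :=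
      Blocks.PrincipalInflate.card_preimage π h.surj (Subgroup.zpowers (π y) : Set C)
    rw [h1]
    refine Odd.of_dvd_nat (n := Nat.card ((Subgroup.zpowers (π y)).comap π)) ?_
      (Subgroup.card_dvd_of_le inf_le_left)
    rw [h2, Nat.card_zpowers]
    exact h.odd_ker.mul (Odd.of_dvd_nat hyo (orderOf_map_dvd π y))
  · exact (hmem _).2 ⟨y, Subgroup.mem_zpowers _, hay, rfl⟩

/-- The same for `F`, the class function of `C` given by `X`, on a torus. -/
theorem F_mul_odd (h : Hyp t z π) {M : Ideal AlgInt} (hM : IsPModular 2 M)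
    {X : G → ℂ} (hX : InB (principalBlock M G) X) {F : C → ℂ}
    (hF : ∀ x : Subgroup.centralizer ({t} : Set G), z ∈ Subgroup.zpowers (π x) → X x = F (π x))
    {δ : ℤ} {T₁ : Subgroup C} {s₁ : C} (hT : Torus q δ Z T₁ s₁) {x y : C} (hx : x ∈ T₁)
    (hxZ : x ∉ Z) {m : ℕ} (hxm : x ^ 2 ^ m = 1) (hzx : z ∈ Subgroup.zpowers x) (hy : y ∈ T₁)
    (hyo : Odd (orderOf y)) : F (x * y) = F x := by
  obtain ⟨x₀, hx₀⟩ := h.surj x
  obtain ⟨a, -, -, hpa, -, ham, -⟩ := exists_two_part h x₀ (m := m) (by rw [hx₀, hxm])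
  rw [hx₀] at hpa
  have hxy : Commute x y := hT.comm x hx y hy
  obtain ⟨y', hy', hay', hyo'⟩ := exists_lift_odd h ham (c := y) (by rw [hpa]; exact hxy) hyo
  have hza : z ∈ Subgroup.zpowers (π a) := by rw [hpa]; exact hzx
  have hta : t ∈ Subgroup.zpowers (a : G) := mem_zpowers_of_map h hza
  have hz2 : z * z = 1 := z_mul_z h
  have h1 : F x = X a := by rw [hF a hza, hpa]
  have h2 : F (x * y) = X ((a : G) * (y' : G)) := by
    have h3 := hF (a * y') (by
      rw [map_mul, hpa, hy']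
      exact mem_zpowers_mul hz2 hzx hxy hyo)
    rw [map_mul, hpa, hy'] at h3
    exact h3.symm
  have hcent : ∀ c : Subgroup.centralizer ({t} : Set G), Commute a c →
      Commute (π c) (π y') := by
    intro c hc
    rw [hy']
    refine hT.comm _ (hT.cent x hx hxZ _ ?_) y hy
    rw [← hpa, ← map_mul, ← map_mul, hc.eq]
  rw [h1, h2]
  obtain ⟨χ, hχ, rfl | rfl⟩ := hX
  · exact irr_mul_odd h hM hχ ham hta hay' hyo' hcent
  · rw [Pi.neg_apply, Pi.neg_apply, irr_mul_odd h hM hχ ham hta hay' hyo' hcent]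

theorem odd_mul {x y : C} (hc : Commute x y) (hx : Odd (orderOf x)) (hy : Odd (orderOf y)) :
    Odd (orderOf (x * y)) := by
  refine Odd.of_dvd_nat (hx.mul hy) (orderOf_dvd_of_pow_eq_one ?_)
  rw [hc.mul_pow, pow_mul, pow_orderOf_eq_one, one_pow, one_mul, mul_comm, pow_mul,
    pow_orderOf_eq_one, one_pow]

/-- The values of `F` on the section of the 2-element `ζ` of `Z`. -/
theorem F_eval (h : Hyp t z π) (hC : CHyp z q ε Z T T' U s s' u)
    {M : Ideal AlgInt} (hM : IsPModular 2 M) {X : G → ℂ} (hX : InB (principalBlock M G) X)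
    {F : C → ℂ}
    (hF : ∀ x : Subgroup.centralizer ({t} : Set G), z ∈ Subgroup.zpowers (π x) → X x = F (π x))
    {μ : U →* ℂˣ} (hμ : ∃ v : U, μ v ≠ 1) {ζ : C} (hζ : ζ ∈ Z) (hζ1 : ζ ≠ 1) {m : ℕ}
    (hm : ζ ^ 2 ^ m = 1) :
    ∃ a b : ℂ, ∀ y : C, Odd (orderOf y) → F (ζ * y) = ev T T' hC.base μ a b y := by
  obtain ⟨a, b, hab⟩ := section_eval h hC hM hX hμ hζ hζ1 hm
  refine ⟨a, b, fun y hy => ?_⟩
  obtain ⟨x, hx⟩ := h.surj (ζ * y)
  rw [← hab x y hx hy, ← hx]
  refine (hF x ?_).symm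
  rw [hx]
  exact mem_zpowers_mul hC.z_sq (hC.mem_zpowers hζ hζ1 hm) (hC.Z_central ζ hζ y).symm hy

theorem CHyp.odd_orderOf_U (hC : CHyp z q ε Z T T' U s s' u) {v : C} (hv : v ∈ U) :
    Odd (orderOf v) :=
  Odd.of_dvd_nat hC.odd_q (orderOf_dvd_of_pow_eq_one (hC.base.pow_card_U hv))

/-- **The modified values on `T` and on `T'`.** -/
theorem GG_eq (h : Hyp t z π) (hC : CHyp z q ε Z T T' U s s' u)
    {M : Ideal AlgInt} (hM : IsPModular 2 M) {X : G → ℂ} (hX : InB (principalBlock M G) X)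
    {F : C → ℂ}
    (hF : ∀ x : Subgroup.centralizer ({t} : Set G), z ∈ Subgroup.zpowers (π x) → X x = F (π x))
    {v₀ : C} (hv₀ : v₀ ∈ U) (hv₀1 : v₀ ≠ 1) :
    (∀ x ∈ T, z ∈ Subgroup.zpowers x → ∀ y ∈ T, Odd (orderOf y) →
      Torus.GG q ε Z F v₀ (x * y) = Torus.GG q ε Z F v₀ x) ∧
    (∀ x ∈ T', z ∈ Subgroup.zpowers x → ∀ y ∈ T', Odd (orderOf y) →
      Torus.GG q (-ε) Z F v₀ (x * y) = Torus.GG q (-ε) Z F v₀ x) := by
  obtain ⟨μ, hμ⟩ := hC.base.exists_mu
  have hz2 : z * z = 1 := hC.z_sq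
  have hv₀o : Odd (orderOf v₀) := hC.odd_orderOf_U hv₀
  -- elements of `Z`
  have hZ : ∀ {δ : ℤ} {T₁ : Subgroup C} {s₁ : C} (_ : Torus q δ Z T₁ s₁)
      (A B : ℂ → ℂ → ℂ)
      (_ : ∀ a b y, y ∈ T₁ → y ∉ Z → ev T T' hC.base μ a b y = A a b)
      (_ : ∀ a b y, y ∈ Z → ev T T' hC.base μ a b y =
        ((1 + δ * q) * A a b + (1 - δ * q) * B a b) / 2)
      (_ : ∀ a b y, y ∈ Z → ev T T' hC.base μ a b (y * v₀) = (A a b + B a b) / 2)
      (ζ : C) (_ : ζ ∈ Z) (_ : z ∈ Subgroup.zpowers ζ) (m : ℕ) (_ : ζ ^ 2 ^ m = 1)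
      (y : C) (_ : y ∈ T₁) (_ : Odd (orderOf y)),
      Torus.GG q δ Z F v₀ (ζ * y) = Torus.GG q δ Z F v₀ ζ := by
    intro δ T₁ s₁ hT A B h1 h2 h3 ζ hζ hzζ m hm y hy hyo
    have hζ1 : ζ ≠ 1 := by
      rintro rfl
      rw [Subgroup.zpowers_one_eq_bot, Subgroup.mem_bot] at hzζ
      exact hC.z_ne_one hzζ
    obtain ⟨a, b, hab⟩ := F_eval h hC hM hX hF hμ hζ hζ1 hm
    have key : ∀ y ∈ T₁, Odd (orderOf y) → Torus.GG q δ Z F v₀ (ζ * y) = A a b := by
      intro y hy hyo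
      by_cases hyZ : y ∈ Z
      · refine hT.GG_of_eval hC.base (mul_mem hζ hyZ) (b := B a b) ?_ ?_
        · rw [hab y hyo, h2 a b y hyZ]
        · rw [mul_assoc, hab (y * v₀) (odd_mul (hC.Z_central y hyZ v₀).symm hyo hv₀o),
            h3 a b y hyZ]
      · rw [Torus.GG_notMem (fun h4 => hyZ ((Z.mul_mem_cancel_left hζ).1 h4)), hab y hyo,
          h1 a b y hy hyZ]
    rw [key y hy hyo]
    have h4 := key 1 (one_mem T₁) (by rw [orderOf_one]; exact odd_one)
    rw [mul_one] at h4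
    rw [h4]
  -- general elements
  have hgen : ∀ {δ : ℤ} {T₁ : Subgroup C} {s₁ : C} (_ : Torus q δ Z T₁ s₁)
      (A B : ℂ → ℂ → ℂ)
      (_ : ∀ a b y, y ∈ T₁ → y ∉ Z → ev T T' hC.base μ a b y = A a b)
      (_ : ∀ a b y, y ∈ Z → ev T T' hC.base μ a b y =
        ((1 + δ * q) * A a b + (1 - δ * q) * B a b) / 2)
      (_ : ∀ a b y, y ∈ Z → ev T T' hC.base μ a b (y * v₀) = (A a b + B a b) / 2)
      (x : C) (_ : x ∈ T₁) (_ : z ∈ Subgroup.zpowers x) (y : C) (_ : y ∈ T₁)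
      (_ : Odd (orderOf y)),
      Torus.GG q δ Z F v₀ (x * y) = Torus.GG q δ Z F v₀ x := by
    intro δ T₁ s₁ hT A B h1 h2 h3 x hx hzx y hy hyo
    obtain ⟨m, r, k, hr, hk, hxk, hxr⟩ := CoreConst.exists_exponent C
    set x₂ := x ^ k with hx₂
    set x' := x₂⁻¹ * x with hx'
    have hx₂T : x₂ ∈ T₁ := pow_mem hx k
    have hx'T : x' ∈ T₁ := mul_mem (inv_mem hx₂T) hx
    have hx'o : Odd (orderOf x') := Odd.of_dvd_nat hr (orderOf_dvd_of_pow_eq_one (hxr x))
    have hzx₂ : z ∈ Subgroup.zpowers x₂ := by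
      obtain ⟨l, hl⟩ := Subgroup.mem_zpowers_iff.1 hzx
      refine Subgroup.mem_zpowers_iff.2 ⟨l, ?_⟩
      have h4 : z ^ k = z := by
        obtain ⟨j, hj⟩ := hk
        rw [hj, pow_succ, pow_mul, sq, hz2, one_pow, one_mul]
      rw [hx₂, ← zpow_natCast, ← zpow_mul, mul_comm, zpow_mul, hl, zpow_natCast, h4]
    have key : ∀ w ∈ T₁, Odd (orderOf w) →
        Torus.GG q δ Z F v₀ (x₂ * w) = Torus.GG q δ Z F v₀ x₂ := by
      intro w hw hwo
      by_cases hxZ : x₂ ∈ Z
      · exact hZ hT A B h1 h2 h3 x₂ hxZ hzx₂ m (hxk x) w hw hwo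
      · -- `x₂ w` is not in `Z`
        have h4 : x₂ * w ∉ Z := by
          intro h5
          apply hxZ
          have h6 : Commute x₂ w := hT.comm _ hx₂T _ hw
          have h7 : (x₂ * w) ^ orderOf w = x₂ ^ orderOf w := by
            rw [h6.mul_pow, pow_orderOf_eq_one, mul_one]
          -- `x₂` is a power of `x₂ ^ n`, `n` odd
          have h8 : Nat.Coprime (orderOf w) (orderOf x₂) := by
            refine Nat.Coprime.coprime_dvd_right (orderOf_dvd_of_pow_eq_one (hxk x)) ?_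
            exact (Nat.Coprime.pow_left _ (Nat.coprime_two_left.2 hwo)).symm
          obtain ⟨l, hl⟩ := exists_pow_eq_self_of_coprime h8
          rw [← hl, ← h7]
          exact pow_mem (pow_mem h5 _) _
        rw [Torus.GG_notMem h4, Torus.GG_notMem hxZ]
        exact F_mul_odd h hM hX hF hT hx₂T hxZ (hxk x) hzx₂ hw hwo
    have h5 : x = x₂ * x' := by rw [hx']; group
    have h6 : x * y = x₂ * (x' * y) := by rw [hx']; group
    rw [h6, key _ (mul_mem hx'T hy) (odd_mul (hT.comm _ hx'T _ hy) hx'o hyo)]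
    conv_rhs => rw [h5]
    rw [key _ hx'T hx'o]
  refine ⟨fun x hx hzx y hy hyo => hgen hC.torus (fun a _ => a) (fun _ b => b)
      (fun a b y hy hyZ => ev_T hC μ a b hy hyZ) (fun a b y hy => ev_Z hC μ a b hy)
      (fun a b y hy => ev_ZU hC hμ a b hy hv₀ hv₀1) x hx hzx y hy hyo,
    fun x hx hzx y hy hyo => hgen hC.torus' (fun _ b => b) (fun a _ => a)
      (fun a b y hy hyZ => ev_T' hC μ a b hy hyZ) (fun a b y hy => ?_)
      (fun a b y hy => ?_) x hx hzx y hy hyo⟩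
  · rw [ev_Z hC μ a b hy]
    push_cast
    ring
  · rw [ev_ZU hC hμ a b hy hv₀ hv₀1]
    ring

end Eval

section Inner

variable {G : Type w} [Group G] [Fintype G] {C : Type v} [Group C] [Fintype C] {t : G} {z : C}
  {π : (Subgroup.centralizer ({t} : Set G)) →* C} {q : ℕ} {ε : ℤ} {Z T T' U : Subgroup C}
  {s s' u : C}

/-- The support of `R_T(f)`. -/
theorem R_support (hC : CHyp z q ε Z T T' U s s' u) {δ : ℤ} {T₁ : Subgroup C} {s₁ : C}
    (hT : Torus q δ Z T₁ s₁) (μ : U →* ℂˣ) {f : C → ℂ}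
    (hf : ∀ x ∈ T₁, f x ≠ 0 → z ∈ Subgroup.zpowers x) {c : C}
    (hc : Torus.R T₁ hC.base μ f c ≠ 0) : z ∈ Subgroup.zpowers c := by
  classical
  by_contra hcon
  apply hc
  have hconj : ∀ g : C, z ∉ Subgroup.zpowers (g⁻¹ * c * g) := by
    intro g h1
    apply hcon
    obtain ⟨k, hk⟩ := Subgroup.mem_zpowers_iff.1 h1
    refine Subgroup.mem_zpowers_iff.2 ⟨k, ?_⟩
    have h2 : g⁻¹ * c ^ k * g = z := by
      rw [← hk]
      have := conj_zpow (i := k) (a := g⁻¹) (b := c)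
      rw [inv_inv] at this
      exact this.symm
    have h3 : c ^ k = g * z * g⁻¹ := by rw [← h2]; group
    rw [h3, hC.Z_central z hC.t_mem g]
    group
  have h1 : indFun T₁ (fun y : T₁ => f y) c = 0 := by
    rw [ind_apply, Finset.sum_eq_zero, mul_zero]
    intro g _
    split_ifs with hg
    · by_contra h2
      exact hconj g (hf _ hg h2)
    · rfl
  have h2 : hC.base.Gam μ f c = 0 := by
    rw [hC.base.Gam_apply, Finset.sum_eq_zero, mul_zero]
    intro g _
    by_cases hg : g⁻¹ * c * g ∈ hC.base.ZU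
    · obtain ⟨y, hy, v, hv, he⟩ := hC.base.mem_ZU.1 hg
      rw [he, Core.extendByZero_of_mem _ _ (hC.base.mul_mem_ZU hy hv),
        hC.base.theta_apply μ f hy hv]
      by_cases h3 : f y = 0
      · rw [h3, zero_mul]
      · exfalso
        apply hconj g
        rw [he]
        exact mem_zpowers_mul hC.z_sq (hf y (hT.Z_le hy) h3) (hC.Z_central y hy v).symm
          (hC.odd_orderOf_U hv)
    · rw [Core.extendByZero_of_notMem _ _ hg]
  unfold Torus.R
  rw [h1, h2, sub_zero]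

/-- Inner products of `X` with the functions induced from `R_T(f) ∘ π`. -/
theorem classInner_ind_R (h : Hyp t z π) (hC : CHyp z q ε Z T T' U s s' u) {X : G → ℂ}
    (hX : IsClassFunction G X) {F : C → ℂ} (hFc : IsClassFunction C F)
    (hF : ∀ x : Subgroup.centralizer ({t} : Set G), z ∈ Subgroup.zpowers (π x) → X x = F (π x))
    {δ : ℤ} {T₁ : Subgroup C} {s₁ : C} (hT : Torus q δ Z T₁ s₁) {μ : U →* ℂˣ}
    (hμ : ∃ v : U, μ v ≠ 1) {v₀ : C} (hv₀ : v₀ ∈ U) (hv₀1 : v₀ ≠ 1) {f : C → ℂ}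
    (hf : ∀ x ∈ T₁, f x ≠ 0 → z ∈ Subgroup.zpowers x) :
    classInner (indFun (Subgroup.centralizer ({t} : Set G))
      (fun x => Torus.R T₁ hC.base μ f (π x))) X =
        (Nat.card T₁ : ℂ)⁻¹ * ssum T₁ (fun x => f x * conj (Torus.GG q δ Z F v₀ x)) := by
  rw [classInner_ind_values h hX (c := F) (fun x hx => hF x (R_support hC hT μ hf hx)),
    hT.classInner_R_GG hC.base hμ f hFc hv₀ hv₀1]

/-- **The characters of the principal 2-block and the functions `R_T(f)`.** -/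
theorem exists_functions (h : Hyp t z π) (hC : CHyp z q ε Z T T' U s s' u)
    {M : Ideal AlgInt} (hM : IsPModular 2 M) {X : G → ℂ} (hX : InB (principalBlock M G) X)
    {μ : U →* ℂˣ} (hμ : ∃ v : U, μ v ≠ 1) :
    ∃ a a' : C → ℂ,
      (∀ x ∈ T, z ∈ Subgroup.zpowers x → ∀ y ∈ T, Odd (orderOf y) → a (x * y) = a x) ∧
      (∀ x ∈ T', z ∈ Subgroup.zpowers x → ∀ y ∈ T', Odd (orderOf y) → a' (x * y) = a' x) ∧
      (∀ f : C → ℂ, (∀ x ∈ T, f x ≠ 0 → z ∈ Subgroup.zpowers x) →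
        classInner (indFun (Subgroup.centralizer ({t} : Set G))
          (fun x => Torus.R T hC.base μ f (π x))) X =
            (Nat.card T : ℂ)⁻¹ * ssum T (fun x => f x * conj (a x))) ∧
      (∀ f : C → ℂ, (∀ x ∈ T', f x ≠ 0 → z ∈ Subgroup.zpowers x) →
        classInner (indFun (Subgroup.centralizer ({t} : Set G))
          (fun x => Torus.R T' hC.base μ f (π x))) X =
            (Nat.card T' : ℂ)⁻¹ * ssum T' (fun x => f x * conj (a' x))) ∧
      (∀ x ∈ T, x ∉ Z → z ∈ Subgroup.zpowers x →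
        ∀ g : Subgroup.centralizer ({t} : Set G), π g = x → X g = a x) ∧
      (∀ x ∈ T', x ∉ Z → z ∈ Subgroup.zpowers x →
        ∀ g : Subgroup.centralizer ({t} : Set G), π g = x → X g = a' x) ∧
      (∀ ζ ∈ Z, z ∈ Subgroup.zpowers ζ → ∀ g : Subgroup.centralizer ({t} : Set G), π g = ζ →
        X g = ((1 + ε * q) * a ζ + (1 - ε * q) * a' ζ) / 2) ∧
      (∀ ζ ∈ Z, z ∈ Subgroup.zpowers ζ → ∀ v ∈ U, v ≠ 1 →
        ∀ g : Subgroup.centralizer ({t} : Set G), π g = ζ * v → X g = (a ζ + a' ζ) / 2) ∧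
      X t = ((1 + ε * q) * a z + (1 - ε * q) * a' z) / 2 := by
  obtain ⟨F, hFc, -, hF⟩ := CoreConst.exists_values h M hM hX
  obtain ⟨v₀, hv₀, hv₀1⟩ := hC.base.exists_ne_one
  have hXc : IsClassFunction G X := isClassFunction_signed hX.signedIrr
  obtain ⟨h1, h2⟩ := GG_eq h hC hM hX hF hv₀ hv₀1
  have hZv : ∀ ζ ∈ Z, z ∈ Subgroup.zpowers ζ → ∀ g : Subgroup.centralizer ({t} : Set G),
      π g = ζ → X g = ((1 + ε * q) * Torus.GG q ε Z F v₀ ζ +
        (1 - ε * q) * Torus.GG q (-ε) Z F v₀ ζ) / 2 := by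
    intro ζ hζ hzζ g hg
    rw [hF g (by rw [hg]; exact hzζ), hg]
    exact (hC.torus.eq_of_GG hC.base hζ).1
  refine ⟨Torus.GG q ε Z F v₀, Torus.GG q (-ε) Z F v₀, h1, h2,
    fun f hf => classInner_ind_R h hC hXc hFc hF hC.torus hμ hv₀ hv₀1 hf,
    fun f hf => classInner_ind_R h hC hXc hFc hF hC.torus' hμ hv₀ hv₀1 hf, ?_, ?_, hZv, ?_, ?_⟩
  · intro x _ hxZ hzx g hg
    rw [hF g (by rw [hg]; exact hzx), hg, Torus.GG_notMem hxZ]
  · intro x _ hxZ hzx g hg
    rw [hF g (by rw [hg]; exact hzx), hg, Torus.GG_notMem hxZ]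
  · intro ζ hζ hzζ v hv hv1 g hg
    rw [hF g (by
      rw [hg]
      exact mem_zpowers_mul hC.z_sq hzζ (hC.Z_central ζ hζ v).symm (hC.odd_orderOf_U hv)), hg,
      ← (hC.torus.eq_of_GG hC.base hζ (ψ := F) (v₀ := v₀)).2]
    obtain ⟨c, hc⟩ := hC.fus_U v₀ hv₀ v hv hv₀1 hv1
    rw [← hFc (ζ * v₀) c]
    congr 1
    rw [← hc, ← mul_assoc c, hC.Z_central ζ hζ c]
    group
  · exact hZv z hC.t_mem (Subgroup.mem_zpowers z) (tt t) (map_tt h)

end Inner

end Cfsg.Agent.Classification.InvCent
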