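import Mathlib
import Cfsg.Agent.Classification.InvCent.CTorus

/-!
# Linear characters of the tori and linearity of `R_T`

* `lin θ`: the linear character `θ` of `T` as a function on `C`;
* `Torus.sc θ`: the conjugate character;
* `R_sum`, `R_add`, `R_sub`, `R_smul`: `R_T` is linear;
* `classInner_one_sub`: inner products of the functions `R_T(1 - θ)`;
* `R_support`: supports.
-/

set_option autoImplicit false
set_option linter.unusedSectionVars false

open Cfsg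
open scoped ComplexConjugate

namespace Cfsg.Agent.Classification.InvCent

open Cfsg.Agent.Characters

section Lin

variable {C : Type*} [Group C] {T : Subgroup C}

open Classical in
/-- The linear character `θ` of `T` as a function on `C`, zero outside `T`. -/
noncomputable def lin (θ : T →* ℂˣ) : C → ℂ :=
  fun x => if h : x ∈ T then ((θ ⟨x, h⟩ : ℂˣ) : ℂ) else 0

theorem lin_apply (θ : T →* ℂˣ) {x : C} (hx : x ∈ T) : lin θ x = ((θ ⟨x, hx⟩ : ℂˣ) : ℂ) := by
  unfold lin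
  rw [dif_pos hx]

theorem lin_coe (θ : T →* ℂˣ) (x : T) : lin θ (x : C) = ((θ x : ℂˣ) : ℂ) := lin_apply θ x.2

theorem lin_one (θ : T →* ℂˣ) : lin θ (1 : C) = 1 := by
  rw [lin_apply θ (one_mem T)]
  have : (⟨1, one_mem T⟩ : T) = 1 := rfl
  rw [this, map_one, Units.val_one]

theorem lin_one_hom {x : C} (hx : x ∈ T) : lin (1 : T →* ℂˣ) x = 1 := by
  rw [lin_apply _ hx, MonoidHom.one_apply, Units.val_one]

theorem lin_mul (θ : T →* ℂˣ) {x y : C} (hx : x ∈ T) (hy : y ∈ T) :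
    lin θ (x * y) = lin θ x * lin θ y := by
  rw [lin_apply θ hx, lin_apply θ hy, lin_apply θ (mul_mem hx hy), ← Units.val_mul, ← map_mul]
  rfl

theorem lin_mul_hom (θ θ' : T →* ℂˣ) (x : C) : lin (θ * θ') x = lin θ x * lin θ' x := by
  by_cases hx : x ∈ T
  · rw [lin_apply _ hx, lin_apply _ hx, lin_apply _ hx, MonoidHom.mul_apply, Units.val_mul]
  · unfold lin
    rw [dif_neg hx, dif_neg hx, dif_neg hx, mul_zero]

theorem lin_pow_hom (θ : T →* ℂˣ) (n : ℕ) {x : C} (hx : x ∈ T) : lin (θ ^ n) x = lin θ x ^ n := by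
  rw [lin_apply _ hx, lin_apply _ hx, MonoidHom.pow_apply, Units.val_pow_eq_pow_val]

theorem lin_ne_zero (θ : T →* ℂˣ) {x : C} (hx : x ∈ T) : lin θ x ≠ 0 := by
  rw [lin_apply _ hx]
  exact Units.ne_zero _

theorem conj_lin [Finite C] (θ : T →* ℂˣ) (x : C) : conj (lin θ x) = lin θ⁻¹ x := by
  by_cases hx : x ∈ T
  · rw [lin_apply _ hx, lin_apply _ hx, MonoidHom.inv_apply]
    have h1 : ((θ ⟨x, hx⟩ : ℂˣ) : ℂ) ^ Nat.card T = 1 := by
      rw [← Units.val_pow_eq_pow_val, ← map_pow, pow_card_eq_one', map_one, Units.val_one]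
    have h2 : ‖((θ ⟨x, hx⟩ : ℂˣ) : ℂ)‖ = 1 := Complex.norm_eq_one_of_pow_eq_one h1 Nat.card_pos.ne'
    rw [← Complex.inv_eq_conj h2, Units.val_inv_eq_inv_val]
  · unfold lin
    rw [dif_neg hx, dif_neg hx, map_zero]

theorem lin_injective {θ θ' : T →* ℂˣ} (h : ∀ x ∈ T, lin θ x = lin θ' x) : θ = θ' := by
  ext x
  have := h x x.2
  rwa [lin_coe, lin_coe] at this

theorem exists_ne_one {θ : T →* ℂˣ} (h : θ ≠ 1) : ∃ x : T, θ x ≠ 1 := by
  by_contra hcon
  push Not at hcon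
  exact h (MonoidHom.ext hcon)

variable [Fintype C]

theorem ssum_lin {θ : T →* ℂˣ} (hθ : θ ≠ 1) : ssum T (lin θ) = 0 := by
  classical
  rw [← sum_subtype_eq]
  rw [Finset.sum_congr rfl (fun x _ => lin_coe θ x)]
  exact Base.ssum_mu (exists_ne_one hθ)

theorem ssum_lin_one : ssum T (lin (1 : T →* ℂˣ)) = Nat.card T := by
  rw [ssum_congr (F' := fun _ => (1 : ℂ)) (fun x hx => lin_one_hom hx), ssum_const, mul_one]

open Classical in
theorem ssum_lin_eq (θ : T →* ℂˣ) : ssum T (lin θ) = if θ = 1 then (Nat.card T : ℂ) else 0 := by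
  split_ifs with h
  · rw [h, ssum_lin_one]
  · exact ssum_lin h

/-- Restriction to a subgroup on which `θ` is not trivial. -/
theorem ssum_lin_sub {H : Subgroup C} (hH : H ≤ T) {θ : T →* ℂˣ} {y : C} (hy : y ∈ H)
    (h1 : lin θ y ≠ 1) : ssum H (lin θ) = 0 := by
  classical
  have h2 : ssum H (lin θ) = ∑ x : H, ((θ.comp (Subgroup.inclusion hH) x : ℂˣ) : ℂ) := by
    rw [← sum_subtype_eq]
    refine Finset.sum_congr rfl fun x _ => ?_
    rw [lin_apply θ (hH x.2)]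
    rfl
  rw [h2]
  refine Base.ssum_mu ⟨⟨y, hy⟩, fun h3 => h1 ?_⟩
  rw [lin_apply θ (hH hy)]
  exact congrArg Units.val h3

end Lin

namespace Torus

section

variable {C : Type*} [Group C] {q : ℕ} {δ : ℤ} {Z T : Subgroup C} {s : C}

/-- The conjugate of a linear character of the torus. -/
def sc (h : Torus q δ Z T s) (θ : T →* ℂˣ) : T →* ℂˣ where
  toFun x := θ ⟨s * x * s⁻¹, h.s_conj x x.2⟩
  map_one' := by
    rw [← map_one θ]
    congr 1
    ext
    simp
  map_mul' x y := by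
    rw [← map_mul θ]
    congr 1
    ext
    simp only [Subgroup.coe_mul, MulMemClass.mk_mul_mk]
    group

theorem sc_apply (h : Torus q δ Z T s) (θ : T →* ℂˣ) (x : T) :
    h.sc θ x = θ ⟨s * x * s⁻¹, h.s_conj x x.2⟩ := rfl

theorem lin_sc (h : Torus q δ Z T s) (θ : T →* ℂˣ) {x : C} (hx : x ∈ T) :
    lin (h.sc θ) x = lin θ (s * x * s⁻¹) := by
  rw [lin_apply _ hx, lin_apply _ (h.s_conj x hx)]
  rfl

theorem sc_sc (h : Torus q δ Z T s) (θ : T →* ℂˣ) : h.sc (h.sc θ) = θ := by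
  refine lin_injective fun x hx => ?_
  rw [h.lin_sc _ hx, h.lin_sc _ (h.s_conj x hx), h.s_conj_conj]

theorem sc_mul (h : Torus q δ Z T s) (θ θ' : T →* ℂˣ) : h.sc (θ * θ') = h.sc θ * h.sc θ' := rfl

theorem sc_pow (h : Torus q δ Z T s) (θ : T →* ℂˣ) (n : ℕ) : h.sc (θ ^ n) = h.sc θ ^ n := rfl

theorem sc_inv (h : Torus q δ Z T s) (θ : T →* ℂˣ) : h.sc θ⁻¹ = (h.sc θ)⁻¹ := rfl

theorem sc_one (h : Torus q δ Z T s) : h.sc 1 = 1 := rfl

theorem sc_ne_one (h : Torus q δ Z T s) {θ : T →* ℂˣ} (hθ : θ ≠ 1) : h.sc θ ≠ 1 := by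
  intro h1
  apply hθ
  rw [← h.sc_sc θ, h1, h.sc_one]

end

section

variable {C : Type*} [Group C] [Fintype C] {q : ℕ} {δ δ' : ℤ} {Z T T' U : Subgroup C} {s s' : C}
  {μ : U →* ℂˣ}

theorem R_sum (hb : Base q Z U) {ι : Type*} (S : Finset ι) (c : ι → ℂ) (f : ι → C → ℂ) :
    R T hb μ (fun x => ∑ i ∈ S, c i * f i x) = fun x => ∑ i ∈ S, c i * R T hb μ (f i) x := by
  classical
  funext x
  unfold R
  simp only [mul_sub, Finset.sum_sub_distrib]
  congr 1
  · rw [ind_apply T (fun x => ∑ i ∈ S, c i * f i x) x]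
    simp only [ind_apply]
    have h1 : ∀ y : C, (if y⁻¹ * x * y ∈ T then ∑ i ∈ S, c i * f i (y⁻¹ * x * y) else 0) =
        ∑ i ∈ S, c i * (if y⁻¹ * x * y ∈ T then f i (y⁻¹ * x * y) else 0) := by
      intro y
      split_ifs <;> simp
    rw [Finset.sum_congr rfl (fun y _ => h1 y), Finset.sum_comm, Finset.mul_sum]
    refine Finset.sum_congr rfl fun i _ => ?_
    rw [← Finset.mul_sum]
    ring
  · simp only [hb.Gam_apply]
    have h1 : ∀ y : C, extendByZero hb.ZU (hb.theta μ (fun x => ∑ i ∈ S, c i * f i x))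
        (y⁻¹ * x * y) = ∑ i ∈ S, c i * extendByZero hb.ZU (hb.theta μ (f i)) (y⁻¹ * x * y) := by
      intro y
      by_cases hy : y⁻¹ * x * y ∈ hb.ZU
      · simp only [Core.extendByZero_of_mem _ _ hy, Base.theta]
        rw [Finset.sum_mul]
        exact Finset.sum_congr rfl fun i _ => by ring
      · simp only [Core.extendByZero_of_notMem _ _ hy, mul_zero, Finset.sum_const_zero]
    rw [Finset.sum_congr rfl (fun y _ => h1 y), Finset.sum_comm, Finset.mul_sum]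
    refine Finset.sum_congr rfl fun i _ => ?_
    rw [← Finset.mul_sum]
    ring

theorem R_add (hb : Base q Z U) (f g : C → ℂ) :
    R T hb μ (fun x => f x + g x) = fun x => R T hb μ f x + R T hb μ g x := by
  have h1 := R_sum (T := T) (μ := μ) hb (Finset.univ : Finset (Fin 2)) (fun _ => 1) ![f, g]
  simp only [Fin.sum_univ_two, one_mul, Matrix.cons_val_zero, Matrix.cons_val_one] at h1
  exact h1

theorem R_smul (hb : Base q Z U) (a : ℂ) (f : C → ℂ) :
    R T hb μ (fun x => a * f x) = fun x => a * R T hb μ f x := by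
  have h1 := R_sum (T := T) (μ := μ) hb (Finset.univ : Finset (Fin 1)) (fun _ => a) ![f]
  simp only [Finset.univ_unique, Fin.default_eq_zero, Fin.isValue, Finset.sum_singleton,
    Matrix.cons_val_fin_one] at h1
  exact h1

theorem R_sub (hb : Base q Z U) (f g : C → ℂ) :
    R T hb μ (fun x => f x - g x) = fun x => R T hb μ f x - R T hb μ g x := by
  have h1 := R_add (T := T) (μ := μ) hb f (fun x => (-1) * g x)
  rw [R_smul] at h1
  have h2 : (fun x => f x + (-1) * g x) = fun x => f x - g x := by funext x; ring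
  rw [h2] at h1
  rw [h1]
  funext x
  ring

theorem R_congr (hb : Base q Z U) (hZT : Z ≤ T) {f g : C → ℂ} (h : ∀ x ∈ T, f x = g x) :
    R T hb μ f = R T hb μ g := by
  classical
  funext x
  unfold R
  rw [hb.Gam_congr μ (fun z hz => h z (hZT hz))]
  congr 1
  rw [ind_apply, ind_apply]
  congr 1
  refine Finset.sum_congr rfl fun y _ => ?_
  split_ifs with hy
  · exact h _ hy
  · rfl

/-- `R_T(f) = R_T(f^s)`. -/
theorem R_sc (h : Torus q δ Z T s) (h' : Torus q δ' Z T' s') (hne : δ' = - δ)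
    (hb : Base q Z U) (hμ : ∃ v : U, μ v ≠ 1)
    (hexh : ∀ c : C, ∃ g : C, g * c * g⁻¹ ∈ T ∨ g * c * g⁻¹ ∈ T' ∨
      ∃ z ∈ Z, ∃ v ∈ U, g * c * g⁻¹ = z * v) (f : C → ℂ) :
    R T hb μ (fun x => f (s * x * s⁻¹)) = R T hb μ f := by
  have hne' : δ ≠ δ' := by
    rcases h.sign with h3 | h3 <;> omega
  funext x
  obtain ⟨g, hg⟩ := hexh x
  rw [← R_isClassFunction hb _ x g, ← R_isClassFunction hb f x g]
  generalize g * x * g⁻¹ = y at hg
  have hZ : ∀ z ∈ Z, s * z * s⁻¹ = z := fun z hz => by rw [hb.Z_central z hz s]; group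
  rcases hg with hy | hy | ⟨z, hz, v, hv, hy⟩
  · by_cases hyZ : y ∈ Z
    · rw [h.R_Z hb _ hyZ, h.R_Z hb _ hyZ, hZ y hyZ]
    · rw [h.R_T hb _ hy hyZ, h.R_T hb _ hy hyZ, h.s_conj_conj, add_comm]
  · by_cases hyZ : y ∈ Z
    · rw [h.R_Z hb _ hyZ, h.R_Z hb _ hyZ, hZ y hyZ]
    · rw [h.R_T' h' hne'.symm hb _ hy hyZ, h.R_T' h' hne'.symm hb _ hy hyZ]
  · subst hy
    by_cases hv1 : v = 1
    · rw [hv1, mul_one, h.R_Z hb _ hz, h.R_Z hb _ hz, hZ z hz]
    · rw [h.R_ZU hb hμ _ hz hv hv1, h.R_ZU hb hμ _ hz hv hv1, hZ z hz]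

/-- The support of `R_T(f)`. -/
theorem R_support (h : Torus q δ Z T s) (h' : Torus q δ' Z T' s') (hne : δ' = - δ)
    (hb : Base q Z U) (hμ : ∃ v : U, μ v ≠ 1)
    (hexh : ∀ c : C, ∃ g : C, g * c * g⁻¹ ∈ T ∨ g * c * g⁻¹ ∈ T' ∨
      ∃ z ∈ Z, ∃ v ∈ U, g * c * g⁻¹ = z * v) {P : C → Prop}
    (hPc : ∀ x c, P (c * x * c⁻¹) → P x) (hPU : ∀ z ∈ Z, ∀ v ∈ U, P z → P (z * v))
    {f : C → ℂ} (hf : ∀ x ∈ T, f x ≠ 0 → P x) {x : C} (hx : R T hb μ f x ≠ 0) : P x := by
  have hne' : δ ≠ δ' := by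
    rcases h.sign with h3 | h3 <;> omega
  obtain ⟨g, hg⟩ := hexh x
  apply hPc x g
  rw [← R_isClassFunction hb _ x g] at hx
  generalize g * x * g⁻¹ = y at hg hx
  have hZ : ∀ z ∈ Z, R T hb μ f z ≠ 0 → P z := by
    intro z hz h1
    rw [h.R_Z hb f hz] at h1
    exact hf z (h.Z_le hz) (right_ne_zero_of_mul h1)
  rcases hg with hy | hy | ⟨z, hz, v, hv, hy⟩
  · by_cases hyZ : y ∈ Z
    · exact hZ y hyZ hx
    · rw [h.R_T hb _ hy hyZ] at hx
      by_cases h1 : f y = 0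
      · rw [h1, zero_add] at hx
        exact hPc y s (hf _ (h.s_conj y hy) hx)
      · exact hf y hy h1
  · by_cases hyZ : y ∈ Z
    · exact hZ y hyZ hx
    · rw [h.R_T' h' hne'.symm hb _ hy hyZ] at hx
      exact absurd rfl hx
  · subst hy
    by_cases hv1 : v = 1
    · rw [hv1, mul_one] at hx ⊢
      exact hZ z hz hx
    · rw [h.R_ZU hb hμ _ hz hv hv1] at hx
      exact hPU z hz v hv (hf z (h.Z_le hz) hx)

open Classical in
/-- Inner products of the functions `R_T(1 - θ)`. -/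
theorem classInner_one_sub (h : Torus q δ Z T s) (hb : Base q Z U) (hμ : ∃ v : U, μ v ≠ 1)
    {θ θ' : T →* ℂˣ} (hθ : θ ≠ 1) (hθ' : θ' ≠ 1) :
    classInner (R T hb μ (fun x => 1 - lin θ x)) (R T hb μ (fun x => 1 - lin θ' x)) =
      2 + (if θ = θ' then 1 else 0) + (if θ = h.sc θ' then 1 else 0) := by
  rw [h.classInner_R_R hb hμ]
  have h1 : ssum T (fun x => (1 - lin θ x) *
      conj (1 - lin θ' x + (1 - lin θ' (s * x * s⁻¹)))) =
      ssum T (fun x => 2 * lin (1 : T →* ℂˣ) x - 2 * lin θ x - lin θ'⁻¹ x - lin (h.sc θ')⁻¹ x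
        + lin (θ * θ'⁻¹) x + lin (θ * (h.sc θ')⁻¹) x) := by
    refine ssum_congr fun x hx => ?_
    rw [← h.lin_sc θ' hx, lin_mul_hom, lin_mul_hom, lin_one_hom hx, ← conj_lin, ← conj_lin]
    simp only [map_add, map_sub, map_one]
    ring
  rw [h1, ssum_add, ssum_add, ssum_sub, ssum_sub, ssum_sub]
  simp only [ssum_mul]
  have hi : ∀ φ : T →* ℂˣ, φ ≠ 1 → φ⁻¹ ≠ 1 := by
    intro φ e1 e2
    apply e1
    ext x
    have := DFunLike.congr_fun e2 x
    rw [MonoidHom.inv_apply, MonoidHom.one_apply, inv_eq_one] at this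
    rw [this, MonoidHom.one_apply]
  have hm : ∀ φ φ' : T →* ℂˣ, φ * φ'⁻¹ = 1 ↔ φ = φ' := by
    intro φ φ'
    constructor
    · intro e2
      ext x
      have := DFunLike.congr_fun e2 x
      rw [MonoidHom.mul_apply, MonoidHom.inv_apply, MonoidHom.one_apply, mul_inv_eq_one] at this
      rw [this]
    · rintro rfl
      ext x
      rw [MonoidHom.mul_apply, MonoidHom.inv_apply, MonoidHom.one_apply, mul_inv_cancel]
  rw [ssum_lin_one, ssum_lin hθ, ssum_lin (hi _ hθ'), ssum_lin (hi _ (h.sc_ne_one hθ')),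
    ssum_lin_eq, ssum_lin_eq]
  simp only [hm]
  have h2 : (Nat.card T : ℂ) ≠ 0 := by exact_mod_cast Nat.card_pos.ne'
  split_ifs <;> field_simp <;> ring

end

end Torus

end Cfsg.Agent.Classification.InvCent
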