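import Mathlib
import Cfsg.Agent.Classification.InvCent.CLin
import Cfsg.Agent.Classification.InvCent.PairCount

/-!
# Characters of `2`-power order of the cyclic torus, semidihedral case

`q - ε ≡ 2 mod 4`. `Gen h hD θ n`: `θ` is a linear character of `T'` of order `2 ^ n`, the `2`-part of
`|T'|`, faithful on the `2`-part of `T'`.
-/

set_option autoImplicit false
set_option linter.unusedSectionVars false

open Cfsg
open scoped ComplexConjugate

namespace Cfsg.Agent.Classification.InvCent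

open Cfsg.Agent.Characters

/-- A cyclic group has a faithful linear character of order `|H|`. -/
theorem exists_faithful {H : Type*} [Group H] [Finite H] [IsCyclic H] :
    ∃ Θ : H →* ℂˣ, orderOf Θ = Nat.card H ∧ ∀ x, Θ x = 1 → x = 1 := by
  let _ : CommGroup H := { (inferInstance : Group H) with
    mul_comm := fun x y => (IsCyclic.isMulCommutative (α := H)).is_comm.comm x y }
  obtain ⟨e⟩ := CommGroup.monoidHom_mulEquiv_of_hasEnoughRootsOfUnity H ℂ
  obtain ⟨g, hg⟩ := IsCyclic.exists_generator (α := H)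
  refine ⟨e.symm g, ?_, ?_⟩
  · rw [MulEquiv.orderOf_eq e.symm g, orderOf_eq_card_of_forall_mem_zpowers hg]
  · intro x hx
    by_contra hne
    obtain ⟨φ, hφ⟩ := CommGroup.exists_apply_ne_one_of_hasEnoughRootsOfUnity H ℂ hne
    apply hφ
    obtain ⟨k, hk⟩ := Subgroup.mem_zpowers_iff.1 (hg (e φ))
    have h1 : φ = e.symm g ^ k := by
      rw [← map_zpow, hk, MulEquiv.symm_apply_apply]
    rw [h1]
    change (e.symm g ^ k) x = 1
    rw [MonoidHom.zpow_apply]
    have hx' : (e.symm g) x = 1 := hx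
    rw [hx', one_zpow]

/-- Two nontrivial characters of order two of a cyclic group agree. -/
theorem eq_of_sq {H : Type*} [Group H] [IsCyclic H] {α β : H →* ℂˣ} (hα : ∀ x, α x ^ 2 = 1)
    (hβ : ∀ x, β x ^ 2 = 1) (hα1 : α ≠ 1) (hβ1 : β ≠ 1) : α = β := by
  obtain ⟨g, hg⟩ := IsCyclic.exists_generator (α := H)
  have key : ∀ γ : H →* ℂˣ, (∀ x, γ x ^ 2 = 1) → γ ≠ 1 → γ g = -1 := by
    intro γ h1 h2
    have h3 : ((γ g : ℂˣ) : ℂ) ^ 2 = 1 := by
      rw [← Units.val_pow_eq_pow_val, h1, Units.val_one]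
    rw [sq] at h3
    rcases mul_self_eq_one_iff.1 h3 with h4 | h4
    · exfalso
      apply h2
      have h5 : γ g = 1 := Units.ext h4
      ext x
      obtain ⟨k, hk⟩ := Subgroup.mem_zpowers_iff.1 (hg x)
      rw [← hk, map_zpow, h5, one_zpow, MonoidHom.one_apply]
    · exact Units.ext (by rw [h4]; simp)
  ext x
  obtain ⟨k, hk⟩ := Subgroup.mem_zpowers_iff.1 (hg x)
  rw [← hk, map_zpow, map_zpow, key α hα hα1, key β hβ hβ1]

/-- The norm map of a torus is surjective onto the centre. -/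
theorem Torus.exists_norm {C : Type*} [Group C] [Finite C] {q : ℕ} {δ : ℤ} {Z T : Subgroup C}
    {s : C} (h : Torus q δ Z T s) {z : C} (hz : z ∈ Z) : ∃ x ∈ T, x * (s * x * s⁻¹) = z := by
  let N : T →* Z :=
    { toFun := fun x => ⟨x * (s * x * s⁻¹), h.s_norm x x.2⟩
      map_one' := by ext; simp
      map_mul' := fun x y => by
        ext
        simp only [Subgroup.coe_mul]
        have h1 : (x : C) * y * (s * (x * y) * s⁻¹) =
            x * (y * (s * x * s⁻¹)) * (s * y * s⁻¹) := by group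
        rw [h1, h.comm y y.2 _ (h.s_conj x x.2)]
        group }
  have hker : (Nat.card N.ker : ℤ) = q - δ := by
    rw [← h.card₀]
    congr 1
    refine Nat.card_congr (Equiv.subtypeEquivRight fun x => ?_)
    rw [MonoidHom.mem_ker]
    constructor
    · intro h1
      exact congrArg Subtype.val h1
    · intro h1
      exact Subtype.ext h1
  have h1 : Nat.card N.ker * Nat.card N.range = Nat.card T := by
    rw [← Subgroup.index_ker, Subgroup.card_mul_index]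
  have h2 : (Nat.card N.range : ℤ) = Nat.card Z := by
    have h3 := h.card
    rw [← h1] at h3
    push_cast at h3
    rw [hker] at h3
    have h4 : ((q : ℤ) - δ) ≠ 0 := by
      rw [← hker]
      exact_mod_cast Nat.card_pos.ne'
    apply mul_left_cancel₀ h4
    rw [h3]
    ring
  have h3 : N.range = ⊤ := by
    apply Subgroup.eq_top_of_card_eq
    exact_mod_cast h2
  have h4 : (⟨z, hz⟩ : Z) ∈ N.range := by rw [h3]; exact Subgroup.mem_top _
  obtain ⟨x, hx⟩ := h4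
  exact ⟨x, x.2, congrArg Subtype.val hx⟩

section

variable {C : Type*} [Group C] {t : C} {q : ℕ} {ε : ℤ} {Z T T' U : Subgroup C} {s s' u : C}

/-- The numbers of the semidihedral case. -/
theorem CHyp.numbers [Finite C] (h : CHyp t q ε Z T T' U s s' u) {b : C →* ℂˣ}
    (hD : DetHyp q ε T T' U s s' u 2 b) :
    ∃ m : ℕ, Odd m ∧ Nat.card Z = 2 * m ∧ 8 ∣ Nat.card T' := by
  obtain ⟨z₀, hz₀, hz⟩ := h.card_Z
  obtain ⟨k, hk, hqk⟩ := hD.r_dvd
  have h1 : 2 ∣ Nat.card Z := by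
    have h2 : orderOf (⟨t, h.t_mem⟩ : Z) = 2 := by
      rw [← h.orderOf_t]
      exact (Subgroup.orderOf_mk t h.t_mem)
    rw [← h2]
    exact orderOf_dvd_natCard _
  obtain ⟨m, hm⟩ := h1
  have hmz : (m : ℤ) * z₀ = k := by
    rw [hm, hqk] at hz
    push_cast at hz
    linarith
  have hmo : Odd m := by
    have : Odd ((m : ℤ) * z₀) := by rw [hmz]; exact hk
    have := (Int.odd_mul.1 this).1
    exact_mod_cast this
  refine ⟨m, hmo, hm, ?_⟩
  have h3 : (4 : ℤ) ∣ q + ε := by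
    obtain ⟨l, hl⟩ := hk
    push_cast at hqk
    rcases h.eps with h4 | h4
    · exact ⟨l + 1, by rw [h4] at hqk ⊢; linarith⟩
    · exact ⟨l, by rw [h4] at hqk ⊢; linarith⟩
  obtain ⟨l, hl⟩ := h3
  have h5 : (8 : ℤ) ∣ (Nat.card T' : ℤ) := by
    rw [h.card_T', hm, hl]
    exact ⟨m * l, by push_cast; ring⟩
  exact_mod_cast h5

/-- A character `θ` of `T'` of order `2 ^ n`, the `2`-part of `|T'|`. -/
structure Gen (h : CHyp t q ε Z T T' U s s' u) (b : C →* ℂˣ) (θ : T' →* ℂˣ) (n : ℕ) : Prop where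
  three_le : 3 ≤ n
  order : orderOf θ = 2 ^ n
  faithful : ∀ x : T', θ x = 1 → Odd (orderOf (x : C))
  b_eq : b.comp T'.subtype = θ ^ 2 ^ (n - 1)
  sc : h.torus'.sc θ * θ = θ ^ 2 ^ (n - 1)

theorem exists_gen [Finite C] (h : CHyp t q ε Z T T' U s s' u) {b : C →* ℂˣ}
    (hD : DetHyp q ε T T' U s s' u 2 b) : ∃ (θ : T' →* ℂˣ) (n : ℕ), Gen h b θ n := by
  have := h.T'_cyclic
  obtain ⟨mZ, hmZ, hcZ, h8⟩ := h.numbers hD
  obtain ⟨Θ, hΘ, hΘf⟩ := exists_faithful (H := T')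
  obtain ⟨n, m, hm, hnm⟩ := Nat.exists_eq_two_pow_mul_odd (n := Nat.card T') Nat.card_pos.ne'
  have hn3 : 3 ≤ n := by
    rw [hnm] at h8
    have h1 : Nat.Coprime (2 ^ 3) m := Nat.Coprime.pow_left _ (Nat.coprime_two_left.2 hm)
    have h2 : 2 ^ 3 ∣ 2 ^ n := h1.dvd_of_dvd_mul_right h8
    exact (Nat.pow_dvd_pow_iff_le_right (by norm_num)).1 h2
  have hm0 : m ≠ 0 := by rintro rfl; simp at hm
  have hord : orderOf (Θ ^ m) = 2 ^ n := by
    rw [orderOf_pow_of_dvd hm0 (by rw [hΘ, hnm]; exact dvd_mul_left _ _), hΘ, hnm,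
      Nat.mul_div_cancel _ (Nat.pos_of_ne_zero hm0)]
  have hpow : ∀ x, ((Θ ^ m) x) ^ 2 ^ n = 1 := by
    intro x
    have h1 : (Θ ^ m) ^ 2 ^ n = 1 := by rw [← hord, pow_orderOf_eq_one]
    have h2 := DFunLike.congr_fun h1 x
    rwa [MonoidHom.pow_apply, MonoidHom.one_apply] at h2
  have hfaith : ∀ x : T', (Θ ^ m) x = 1 → Odd (orderOf (x : C)) := by
    intro x hx
    rw [MonoidHom.pow_apply, ← map_pow] at hx
    have h1 := hΘf _ hx
    have h2 := orderOf_dvd_of_pow_eq_one h1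
    rw [Subgroup.orderOf_coe]
    exact hm.of_dvd_nat h2
  have hhalf : ∀ x, ((Θ ^ m) ^ 2 ^ (n - 1)) x ^ 2 = 1 := by
    intro x
    rw [MonoidHom.pow_apply, ← pow_mul, ← pow_succ, Nat.sub_add_cancel (by omega)]
    exact hpow x
  have hhalf1 : (Θ ^ m) ^ 2 ^ (n - 1) ≠ 1 := by
    intro h1
    have h2 := orderOf_dvd_of_pow_eq_one h1
    rw [hord, Nat.pow_dvd_pow_iff_le_right (by norm_num)] at h2
    omega
  refine ⟨Θ ^ m, n, hn3, hord, hfaith, ?_, ?_⟩
  · refine eq_of_sq (fun x => hD.pow_eq_one _) hhalf ?_ hhalf1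
    intro h1
    obtain ⟨x, hx, hx2⟩ := hD.exists_T'
    have h2 := DFunLike.congr_fun h1 ⟨x, hx⟩
    rw [MonoidHom.comp_apply, MonoidHom.one_apply] at h2
    have h3 : b x = 1 := h2
    rw [h3, orderOf_one] at hx2
    norm_num at hx2
  · have hval : ∀ x : T', (h.torus'.sc (Θ ^ m) * Θ ^ m) x =
        (Θ ^ m) ⟨x * (s' * x * s'⁻¹), h.Z_le_T' (h.s'_norm x x.2)⟩ := by
      intro x
      rw [MonoidHom.mul_apply, Torus.sc_apply, ← map_mul]
      congr 1
      ext
      simp only [Subgroup.coe_mul]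
      exact (h.torus'.comm x x.2 _ (h.torus'.s_conj x x.2)).symm
    refine eq_of_sq ?_ hhalf ?_ hhalf1
    · intro x
      rw [hval]
      set z : T' := ⟨x * (s' * x * s'⁻¹), h.Z_le_T' (h.s'_norm x x.2)⟩ with hz
      have h1 : z ^ (2 * mZ) = 1 := by
        ext
        rw [Subgroup.coe_pow, Subgroup.coe_one, ← hcZ]
        exact Base.pow_card_Z (h.s'_norm x x.2)
      have h2 : ((Θ ^ m) z) ^ (2 * mZ) = 1 := by rw [← map_pow, h1, map_one]
      have h3 := orderOf_dvd_of_pow_eq_one h2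
      have h4 := orderOf_dvd_of_pow_eq_one (hpow z)
      have h5 : Nat.gcd (2 * mZ) (2 ^ n) ∣ 2 := by
        have h6 : Nat.Coprime mZ (2 ^ n) := Nat.Coprime.pow_right _ (Nat.coprime_two_right.2 hmZ)
        rw [Nat.Coprime.gcd_mul_right_cancel 2 h6]
        exact Nat.gcd_dvd_left _ _
      exact orderOf_dvd_iff_pow_eq_one.1 ((Nat.dvd_gcd h3 h4).trans h5)
    · intro h1
      obtain ⟨x, hx, hxt⟩ := h.torus'.exists_norm h.t_mem
      have h2 := DFunLike.congr_fun h1 ⟨x, hx⟩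
      rw [hval, MonoidHom.one_apply] at h2
      have h3 := hfaith _ h2
      simp only [hxt, h.orderOf_t] at h3
      norm_num at h3

namespace Gen

variable [Finite C] {h : CHyp t q ε Z T T' U s s' u} {b : C →* ℂˣ} {θ : T' →* ℂˣ} {n : ℕ}

theorem pow_eq_one (g : Gen h b θ n) : θ ^ 2 ^ n = 1 := by rw [← g.order, pow_orderOf_eq_one]

theorem lin_pow (g : Gen h b θ n) {x : C} (hx : x ∈ T') : lin θ x ^ 2 ^ n = 1 := by
  rw [← lin_pow_hom θ _ hx, g.pow_eq_one, lin_one_hom hx]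

theorem lin_odd (g : Gen h b θ n) {x : C} (hx : x ∈ T') (ho : Odd (orderOf x)) :
    lin θ x = 1 := by
  have h1 := g.lin_pow hx
  have h2 : lin θ x ^ orderOf x = 1 := by
    rw [lin_apply θ hx, ← Units.val_pow_eq_pow_val, ← map_pow]
    have : (⟨x, hx⟩ : T') ^ orderOf x = 1 := by
      ext
      rw [Subgroup.coe_pow, Subgroup.coe_one, pow_orderOf_eq_one]
    rw [this, map_one, Units.val_one]
  have h3 := orderOf_dvd_of_pow_eq_one h1
  have h4 := orderOf_dvd_of_pow_eq_one h2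
  have h5 : Nat.Coprime (2 ^ n) (orderOf x) := Nat.Coprime.pow_left _ (Nat.coprime_two_left.2 ho)
  exact orderOf_eq_one_iff.1 (Nat.eq_one_of_dvd_coprimes h5 h3 h4)

theorem lin_eq_one_iff (g : Gen h b θ n) {x : C} (hx : x ∈ T') :
    lin θ x = 1 ↔ Odd (orderOf x) := by
  refine ⟨fun h1 => ?_, g.lin_odd hx⟩
  refine g.faithful ⟨x, hx⟩ (Units.ext ?_)
  rw [← lin_apply θ hx, h1, Units.val_one]

theorem lin_t (g : Gen h b θ n) : lin θ t = -1 := by
  have ht := h.Z_le_T' h.t_mem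
  have h1 : lin θ t * lin θ t = 1 := by rw [← lin_mul θ ht ht, h.tt, lin_one]
  rcases mul_self_eq_one_iff.1 h1 with h2 | h2
  · rw [g.lin_eq_one_iff ht, h.orderOf_t] at h2
    norm_num at h2
  · exact h2

theorem lin_pow_t (g : Gen h b θ n) (j : ℕ) : lin (θ ^ j) t = (-1) ^ j := by
  rw [lin_pow_hom θ _ (h.Z_le_T' h.t_mem), g.lin_t]

theorem pow_eq_one_iff (g : Gen h b θ n) (j : ℕ) : θ ^ j = 1 ↔ 2 ^ n ∣ j := by
  rw [← g.order, orderOf_dvd_iff_pow_eq_one]

theorem pow_eq_pow_iff (g : Gen h b θ n) (i j : ℕ) : θ ^ i = θ ^ j ↔ i ≡ j [MOD 2 ^ n] := by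
  rw [← g.order]
  exact @pow_eq_pow_iff_modEq (T' →* ℂˣ) _ θ j i

theorem sc_pow_mul (g : Gen h b θ n) (j : ℕ) :
    h.torus'.sc (θ ^ j) * θ ^ j = θ ^ (2 ^ (n - 1) * j) := by
  have e1 : h.torus'.sc (θ ^ j) * θ ^ j = (h.torus'.sc θ * θ) ^ j := by
    ext x
    simp only [MonoidHom.mul_apply, MonoidHom.pow_apply, Torus.sc_apply]
    rw [mul_pow]
  rw [e1, g.sc]
  exact (pow_mul _ _ _).symm

theorem sc_eq_iff (g : Gen h b θ n) (i j : ℕ) :
    θ ^ i = h.torus'.sc (θ ^ j) ↔ i + j ≡ 2 ^ (n - 1) * j [MOD 2 ^ n] := by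
  rw [← g.pow_eq_pow_iff, ← g.sc_pow_mul]
  have h2 : θ ^ (i + j) = θ ^ i * θ ^ j := by
    ext x
    simp only [MonoidHom.mul_apply, MonoidHom.pow_apply, pow_add]
  rw [h2]
  constructor
  · intro h1
    rw [← h1]
  · intro h1
    exact mul_right_cancel h1

theorem sc_ne (g : Gen h b θ n) {j : ℕ} (hj : ¬ 2 ^ (n - 1) ∣ j) :
    θ ^ j ≠ h.torus'.sc (θ ^ j) := by
  intro h1
  rw [g.sc_eq_iff, Nat.modEq_iff_dvd] at h1
  apply hj
  have hn := g.three_le
  obtain ⟨k, rfl⟩ : ∃ k, n = k + 3 := ⟨n - 3, by omega⟩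
  have e1 : k + 3 - 1 = k + 2 := by omega
  rw [e1] at h1 ⊢
  have h2 : (((2 ^ (k + 2) * j : ℕ) : ℤ) - ((j + j : ℕ) : ℤ)) =
      2 * ((2 ^ (k + 1) - 1) * j) := by
    push_cast
    ring
  rw [h2] at h1
  have h3 : ((2 ^ (k + 3) : ℕ) : ℤ) = 2 * 2 ^ (k + 2) := by push_cast; ring
  rw [h3] at h1
  have h4 := Int.dvd_of_mul_dvd_mul_left (by norm_num : (2 : ℤ) ≠ 0) h1
  have h5 : IsCoprime ((2 : ℤ) ^ (k + 2)) (2 ^ (k + 1) - 1) := by
    apply IsCoprime.pow_left
    exact ⟨2 ^ k, -1, by ring⟩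
  have h6 := h5.dvd_of_dvd_mul_left h4
  exact_mod_cast h6

end Gen

end

end Cfsg.Agent.Classification.InvCent
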