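import Mathlib
import Cfsg.Agent.Classification.InvCent.SDTheta
import Cfsg.Agent.Characters.Linear

/-!
# The vectors of the semidihedral case on `C`

`phi j = R_{T'}(1 - θ ^ j)`, `psi = 1/2 (R_T((1 - χ)(1 - χ^s)) + R_{T'}(1 - b))`.
-/

set_option autoImplicit false
set_option linter.unusedSectionVars false

open Cfsg
open scoped ComplexConjugate

namespace Cfsg.Agent.Classification.InvCent

open Cfsg.Agent.Characters

section

variable {C : Type*} [Group C] {t : C} {q : ℕ} {ε : ℤ} {Z T T' U : Subgroup C} {s s' u : C}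

/-! ### supports -/

theorem CHyp.zpowers_conj (h : CHyp t q ε Z T T' U s s' u) (x c : C)
    (hx : t ∈ Subgroup.zpowers (c * x * c⁻¹)) : t ∈ Subgroup.zpowers x := by
  obtain ⟨k, hk⟩ := Subgroup.mem_zpowers_iff.1 hx
  refine Subgroup.mem_zpowers_iff.2 ⟨k, ?_⟩
  rw [conj_zpow] at hk
  have h1 : x ^ k = c⁻¹ * (c * x ^ k * c⁻¹) * c := by group
  rw [h1, hk, h.t_comm c⁻¹]
  group

theorem CHyp.zpowers_ZU (h : CHyp t q ε Z T T' U s s' u) :
    ∀ z ∈ Z, ∀ v ∈ U, t ∈ Subgroup.zpowers z → t ∈ Subgroup.zpowers (z * v) := by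
  intro z hz v hv ht
  obtain ⟨k, hk⟩ := Subgroup.mem_zpowers_iff.1 ht
  have h1 : (z * v) ^ q = z ^ q := by
    have : Commute z v := (h.Z_central z hz v).symm
    rw [this.mul_pow, h.base.pow_card_U hv, mul_one]
  refine Subgroup.mem_zpowers_iff.2 ⟨q * k, ?_⟩
  rw [zpow_mul, zpow_natCast, h1, ← zpow_natCast, ← zpow_mul, mul_comm, zpow_mul, hk, zpow_natCast]
  obtain ⟨l, hl⟩ := h.odd_q
  rw [hl, pow_succ, pow_mul, sq, h.tt, one_pow, one_mul]

theorem CHyp.odd_conj (h : CHyp t q ε Z T T' U s s' u) (x c : C)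
    (hx : Odd (orderOf (t * (c * x * c⁻¹)))) : Odd (orderOf (t * x)) := by
  have h1 : t * (c * x * c⁻¹) = c * (t * x) * c⁻¹ := by
    calc t * (c * x * c⁻¹) = (t * c) * x * c⁻¹ := by group
      _ = c * (t * x) * c⁻¹ := by rw [← h.t_comm c]; group
  rw [h1] at hx
  rwa [← (SemiconjBy.orderOf_eq c (x := t * x) (y := c * (t * x) * c⁻¹) (by simp [SemiconjBy]))] at hx

theorem CHyp.odd_ZU (h : CHyp t q ε Z T T' U s s' u) :
    ∀ z ∈ Z, ∀ v ∈ U, Odd (orderOf (t * z)) → Odd (orderOf (t * (z * v))) := by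
  intro z hz v hv ho
  have h1 : t * (z * v) = (t * z) * v := by group
  have h2 : Commute (t * z) v := (h.Z_central _ (mul_mem h.t_mem hz) v).symm
  rw [h1]
  have h3 : Odd (orderOf v) := h.odd_q.of_dvd_nat (orderOf_dvd_of_pow_eq_one (h.base.pow_card_U hv))
  exact (ho.mul h3).of_dvd_nat ((h2.orderOf_mul_dvd_lcm).trans (Nat.lcm_dvd_mul _ _))

/-- An element with `t x` of odd order has `t` as a power. -/
theorem CHyp.zpowers_of_odd (h : CHyp t q ε Z T T' U s s' u) {x : C}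
    (hx : Odd (orderOf (t * x))) : t ∈ Subgroup.zpowers x := by
  have h1 : (t * x) ^ orderOf (t * x) = 1 := pow_orderOf_eq_one _
  have h2 : Commute t x := (h.t_comm x).symm
  rw [h2.mul_pow] at h1
  obtain ⟨l, hl⟩ := hx
  rw [hl] at h1
  rw [pow_succ t, pow_mul t, sq, h.tt, one_pow, one_mul] at h1
  have h3 : t = (x ^ (2 * l + 1))⁻¹ := eq_inv_of_mul_eq_one_left h1
  rw [h3]
  exact inv_mem (pow_mem (Subgroup.mem_zpowers x) _)

/-- In the cyclic torus every element of even order has `t` as a power. -/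
theorem CHyp.zpowers_T' (h : CHyp t q ε Z T T' U s s' u) [Finite C] {x : C} (hx : x ∈ T')
    (ho : ¬ Odd (orderOf x)) : t ∈ Subgroup.zpowers x := by
  have := h.T'_cyclic
  rw [Nat.not_odd_iff_even] at ho
  obtain ⟨k, hk⟩ := ho
  have hk0 : k ≠ 0 := by
    rintro rfl
    exact (orderOf_pos x).ne' hk
  have h1 : orderOf (x ^ k) = 2 := by
    rw [orderOf_pow_of_dvd hk0 ⟨2, by omega⟩, hk, ← two_mul,
      Nat.mul_div_cancel _ (Nat.pos_of_ne_zero hk0)]
  obtain ⟨g, hg⟩ := IsCyclic.exists_generator (α := T')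
  have h2 : ∀ y (hy : y ∈ T'), y ∈ Submonoid.powers (g : C) := by
    intro y hy
    obtain ⟨k, hk⟩ := (mem_powers_iff_mem_zpowers.mpr (hg ⟨y, hy⟩) : (⟨y, hy⟩ : T') ∈ _)
    exact ⟨k, congrArg Subtype.val hk⟩
  obtain ⟨a, ha⟩ := h2 (x ^ k) (pow_mem hx k)
  obtain ⟨c, hc⟩ := h2 t (h.Z_le_T' h.t_mem)
  have ha' : (g : C) ^ a = x ^ k := ha
  have hc' : (g : C) ^ c = t := hc
  have h3 : (g : C) ^ a = (g : C) ^ c :=
    CentInvTI.pow_eq_of_orderOf_eq_two (by rw [ha']; exact h1) (by rw [hc']; exact h.orderOf_t)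
  rw [← hc', ← h3, ha']
  exact pow_mem (Subgroup.mem_zpowers x) k

end

section

variable {C : Type*} [Group C] [Fintype C] {t : C} {q : ℕ} {ε : ℤ} {Z T T' U : Subgroup C}
  {s s' u : C}

theorem isGeneralized_lin {T₁ : Subgroup C} (θ : T₁ →* ℂˣ) :
    IsGeneralizedCharacter T₁ (fun x : T₁ => lin θ x) := by
  have h1 : (fun x : T₁ => lin θ (x : C)) = fun x : T₁ => ((θ x : ℂˣ) : ℂ) := by
    funext x
    exact lin_coe θ x
  rw [h1]
  exact Brauer.isGeneralizedCharacter_of_isCharacter (Linear.isCharacter_hom _)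

theorem isGeneralized_one_sub {T₁ : Subgroup C} (θ : T₁ →* ℂˣ) :
    IsGeneralizedCharacter T₁ (fun x : T₁ => 1 - lin θ x) := by
  have h1 : (fun x : T₁ => 1 - lin θ (x : C)) =
      (fun x : T₁ => lin (1 : T₁ →* ℂˣ) (x : C)) - fun x : T₁ => lin θ (x : C) := by
    funext x
    rw [Pi.sub_apply, lin_one_hom x.2]
  rw [h1]
  exact Brauer.isGeneralizedCharacter_sub (isGeneralized_lin 1) (isGeneralized_lin θ)

namespace CHyp

variable {μ : U →* ℂˣ}

theorem two_one (h : CHyp t q ε Z T T' U s s' u) (hμ : ∃ v : U, μ v ≠ 1) (x : C) :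
    (1 : ℂ) = (Torus.R T h.base μ (fun _ => 1) x + Torus.R T' h.base μ (fun _ => 1) x) / 2 := by
  rw [h.torus.R_add_R h.torus' rfl h.base hμ h.exhaust (fun _ _ => rfl) (fun _ _ _ _ => rfl) x]
  norm_num

theorem exh' (h : CHyp t q ε Z T T' U s s' u) : ∀ c : C, ∃ g : C, g * c * g⁻¹ ∈ T' ∨
    g * c * g⁻¹ ∈ T ∨ ∃ z ∈ Z, ∃ v ∈ U, g * c * g⁻¹ = z * v := by
  intro c
  obtain ⟨g, hg | hg | hg⟩ := h.exhaust c
  · exact ⟨g, Or.inr (Or.inl hg)⟩
  · exact ⟨g, Or.inl hg⟩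
  · exact ⟨g, Or.inr (Or.inr hg)⟩

/-- Support of `R_{T'}(f)`. -/
theorem support_T' (h : CHyp t q ε Z T T' U s s' u) (hμ : ∃ v : U, μ v ≠ 1) {P : C → Prop}
    (hPc : ∀ x c, P (c * x * c⁻¹) → P x) (hPU : ∀ z ∈ Z, ∀ v ∈ U, P z → P (z * v))
    {f : C → ℂ} (hf : ∀ x ∈ T', f x ≠ 0 → P x) {x : C} (hx : Torus.R T' h.base μ f x ≠ 0) :
    P x := by
  refine h.torus'.R_support h.torus (by ring) h.base hμ h.exh' hPc hPU hf hx

/-- Support of `R_T(f)`. -/
theorem support_T (h : CHyp t q ε Z T T' U s s' u) (hμ : ∃ v : U, μ v ≠ 1) {P : C → Prop}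
    (hPc : ∀ x c, P (c * x * c⁻¹) → P x) (hPU : ∀ z ∈ Z, ∀ v ∈ U, P z → P (z * v))
    {f : C → ℂ} (hf : ∀ x ∈ T, f x ≠ 0 → P x) {x : C} (hx : Torus.R T h.base μ f x ≠ 0) :
    P x := by
  refine h.torus.R_support h.torus' rfl h.base hμ h.exhaust hPc hPU hf hx

/-- Inner product with `(a R_T(1) + b R_{T'}(1)) / 2`. -/
theorem inner_T' (h : CHyp t q ε Z T T' U s s' u) (hμ : ∃ v : U, μ v ≠ 1) (f : C → ℂ) (a b : ℂ) :
    classInner (Torus.R T' h.base μ f) (fun x => (a * Torus.R T h.base μ (fun _ => 1) x +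
      b * Torus.R T' h.base μ (fun _ => 1) x) / 2) = conj b * ((Nat.card T' : ℂ)⁻¹ * ssum T' f) := by
  have e1 : (fun x => (a * Torus.R T h.base μ (fun _ => 1) x +
      b * Torus.R T' h.base μ (fun _ => 1) x) / 2) = (a / 2) • Torus.R T h.base μ (fun _ => 1) +
      (b / 2) • Torus.R T' h.base μ (fun _ => 1) := by
    funext x
    simp only [Pi.add_apply, Pi.smul_apply, smul_eq_mul]
    ring
  rw [e1, Core.classInner_add_right, Core.classInner_smul_right, Core.classInner_smul_right,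
    h.torus'.classInner_R_R' h.torus (by ring) h.base hμ, h.torus'.classInner_R_R h.base hμ]
  have e2 : ssum T' (fun x => f x * conj ((1 : ℂ) + 1)) = 2 * ssum T' f := by
    rw [← ssum_mul]
    refine ssum_congr fun x _ => ?_
    rw [map_add, map_one]
    ring
  rw [e2]
  simp only [map_div₀, map_ofNat]
  ring

theorem inner_T (h : CHyp t q ε Z T T' U s s' u) (hμ : ∃ v : U, μ v ≠ 1) (f : C → ℂ) (a b : ℂ) :
    classInner (Torus.R T h.base μ f) (fun x => (a * Torus.R T h.base μ (fun _ => 1) x +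
      b * Torus.R T' h.base μ (fun _ => 1) x) / 2) = conj a * ((Nat.card T : ℂ)⁻¹ * ssum T f) := by
  have e1 : (fun x => (a * Torus.R T h.base μ (fun _ => 1) x +
      b * Torus.R T' h.base μ (fun _ => 1) x) / 2) = (a / 2) • Torus.R T h.base μ (fun _ => 1) +
      (b / 2) • Torus.R T' h.base μ (fun _ => 1) := by
    funext x
    simp only [Pi.add_apply, Pi.smul_apply, smul_eq_mul]
    ring
  rw [e1, Core.classInner_add_right, Core.classInner_smul_right, Core.classInner_smul_right,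
    h.torus.classInner_R_R' h.torus' rfl h.base hμ, h.torus.classInner_R_R h.base hμ]
  have e2 : ssum T (fun x => f x * conj ((1 : ℂ) + 1)) = 2 * ssum T f := by
    rw [← ssum_mul]
    refine ssum_congr fun x _ => ?_
    rw [map_add, map_one]
    ring
  rw [e2]
  simp only [map_div₀, map_ofNat]
  ring

theorem inner_T'_one (h : CHyp t q ε Z T T' U s s' u) (hμ : ∃ v : U, μ v ≠ 1) (f : C → ℂ) :
    classInner (Torus.R T' h.base μ f) 1 = (Nat.card T' : ℂ)⁻¹ * ssum T' f := by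
  have h1 := h.inner_T' hμ f 1 1
  rw [map_one, one_mul] at h1
  rw [← h1]
  congr 1
  funext x
  rw [one_mul, one_mul]
  exact h.two_one hμ x

theorem inner_T_one (h : CHyp t q ε Z T T' U s s' u) (hμ : ∃ v : U, μ v ≠ 1) (f : C → ℂ) :
    classInner (Torus.R T h.base μ f) 1 = (Nat.card T : ℂ)⁻¹ * ssum T f := by
  have h1 := h.inner_T hμ f 1 1
  rw [map_one, one_mul] at h1
  rw [← h1]
  congr 1
  funext x
  rw [one_mul, one_mul]
  exact h.two_one hμ x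

end CHyp

/-- `phi j = R_{T'}(1 - θ ^ j)`. -/
noncomputable def phi (h : CHyp t q ε Z T T' U s s' u) (μ : U →* ℂˣ) (θ : T' →* ℂˣ) (j : ℕ) :
    C → ℂ := Torus.R T' h.base μ (fun x => 1 - lin (θ ^ j) x)

namespace Gen

variable {h : CHyp t q ε Z T T' U s s' u} {b : C →* ℂˣ} {θ : T' →* ℂˣ} {n : ℕ} {μ : U →* ℂˣ}

theorem phi_gen (_ : Gen h b θ n) (j : ℕ) : IsGeneralizedCharacter C (phi h μ θ j) :=
  h.torus'.isGeneralized_R h.base (isGeneralized_one_sub _)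

theorem phi_class (_ : Gen h b θ n) (j : ℕ) : IsClassFunction C (phi h μ θ j) :=
  Torus.R_isClassFunction h.base _

theorem phi_supp (g : Gen h b θ n) (hμ : ∃ v : U, μ v ≠ 1) (j : ℕ) {x : C}
    (hx : phi h μ θ j x ≠ 0) : t ∈ Subgroup.zpowers x := by
  refine h.support_T' hμ h.zpowers_conj h.zpowers_ZU (f := fun x => 1 - lin (θ ^ j) x) ?_ hx
  intro y hy hy1
  refine h.zpowers_T' hy fun ho => hy1 ?_
  rw [lin_pow_hom θ j hy, g.lin_odd hy ho, one_pow, sub_self]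

theorem phi_t (g : Gen h b θ n) (j : ℕ) : phi h μ θ j t = (1 - ε * q) * (1 - (-1) ^ j) := by
  unfold phi
  rw [h.torus'.R_Z h.base _ h.t_mem, g.lin_pow_t]
  push_cast
  ring

theorem phi_eq_zero (g : Gen h b θ n) {j : ℕ} (hj : θ ^ j = 1) : phi h μ θ j = 0 := by
  have h1 : phi h μ θ j = Torus.R T' h.base μ (fun x => 0 * (1 : ℂ)) := by
    unfold phi
    refine Torus.R_congr h.base h.Z_le_T' fun x hx => ?_
    rw [hj, lin_one_hom hx]
    ring
  rw [h1, Torus.R_smul]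
  funext x
  simp

theorem phi_congr (_ : Gen h b θ n) {i j : ℕ} (hij : θ ^ i = θ ^ j) :
    phi h μ θ i = phi h μ θ j := by
  unfold phi
  rw [hij]

theorem phi_sc (_ : Gen h b θ n) (hμ : ∃ v : U, μ v ≠ 1) {i j : ℕ}
    (hij : θ ^ i = h.torus'.sc (θ ^ j)) : phi h μ θ i = phi h μ θ j := by
  unfold phi
  rw [hij, ← h.torus'.R_sc h.torus (by ring) h.base hμ h.exh' (fun x => 1 - lin (θ ^ j) x)]
  refine Torus.R_congr h.base h.Z_le_T' fun x hx => ?_
  rw [h.torus'.lin_sc _ hx]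

open Classical in
theorem phi_inner (_ : Gen h b θ n) (hμ : ∃ v : U, μ v ≠ 1) {i j : ℕ} (hi : θ ^ i ≠ 1)
    (hj : θ ^ j ≠ 1) : classInner (phi h μ θ i) (phi h μ θ j) =
      2 + (if θ ^ i = θ ^ j then 1 else 0) + (if θ ^ i = h.torus'.sc (θ ^ j) then 1 else 0) := by
  unfold phi
  rw [h.torus'.classInner_one_sub h.base hμ hi hj]

theorem phi_one (_ : Gen h b θ n) (hμ : ∃ v : U, μ v ≠ 1) {j : ℕ} (hj : θ ^ j ≠ 1) :
    classInner (phi h μ θ j) 1 = 1 := by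
  unfold phi
  rw [h.inner_T'_one hμ, ssum_sub, ssum_lin hj, ssum_const, mul_one, sub_zero]
  exact inv_mul_cancel₀ Core.card_ne_zero_complex

theorem ne_one_of_not_dvd (g : Gen h b θ n) {j : ℕ} (hj : ¬ 2 ^ (n - 1) ∣ j) : θ ^ j ≠ 1 := by
  rw [Ne, g.pow_eq_one_iff]
  exact fun h1 => hj ((pow_dvd_pow 2 (by omega)).trans h1)

/-- The family of the vectors `phi j`, `θ ^ j ≠ (θ ^ j)^{s'}`. -/
def Fam (_ : Gen h b θ n) (μ : U →* ℂˣ) : Set (C → ℂ) :=
  {f | ∃ j : ℕ, ¬ 2 ^ (n - 1) ∣ j ∧ f = phi h μ θ j}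

theorem phi_mem_Fam (g : Gen h b θ n) {j : ℕ} (hj : ¬ 2 ^ (n - 1) ∣ j) :
    phi h μ θ j ∈ g.Fam μ := ⟨j, hj, rfl⟩

theorem Fam_finite (g : Gen h b θ n) : (g.Fam μ).Finite := by
  refine (Set.finite_range (fun j : Fin (2 ^ n) => phi h μ θ j)).subset ?_
  rintro f ⟨j, hj, rfl⟩
  refine ⟨⟨j % 2 ^ n, Nat.mod_lt _ (by positivity)⟩, ?_⟩
  refine g.phi_congr ((g.pow_eq_pow_iff _ _).2 ?_)
  exact Nat.mod_modEq _ _

theorem Fam_self (g : Gen h b θ n) (hμ : ∃ v : U, μ v ≠ 1) {f : C → ℂ} (hf : f ∈ g.Fam μ) :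
    classInner f f = 3 := by
  classical
  obtain ⟨j, hj, rfl⟩ := hf
  rw [g.phi_inner hμ (g.ne_one_of_not_dvd hj) (g.ne_one_of_not_dvd hj), if_pos rfl,
    if_neg (g.sc_ne hj)]
  norm_num

theorem Fam_ne (g : Gen h b θ n) (hμ : ∃ v : U, μ v ≠ 1) {f f' : C → ℂ} (hf : f ∈ g.Fam μ)
    (hf' : f' ∈ g.Fam μ) (hne : f ≠ f') : classInner f f' = 2 := by
  classical
  obtain ⟨i, hi, rfl⟩ := hf
  obtain ⟨j, hj, rfl⟩ := hf'
  rw [g.phi_inner hμ (g.ne_one_of_not_dvd hi) (g.ne_one_of_not_dvd hj), if_neg, if_neg]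
  · norm_num
  · exact fun h1 => hne (g.phi_sc hμ h1)
  · exact fun h1 => hne (g.phi_congr h1)

theorem phi_ne (g : Gen h b θ n) (hμ : ∃ v : U, μ v ≠ 1) {i j : ℕ} (hi : ¬ 2 ^ (n - 1) ∣ i)
    (hj : ¬ 2 ^ (n - 1) ∣ j) (h1 : ¬ i ≡ j [MOD 2 ^ n])
    (h2 : ¬ i + j ≡ 2 ^ (n - 1) * j [MOD 2 ^ n]) : phi h μ θ i ≠ phi h μ θ j := by
  classical
  intro h3
  have h4 := g.phi_inner hμ (g.ne_one_of_not_dvd hi) (g.ne_one_of_not_dvd hj)
  rw [if_neg (by rw [g.pow_eq_pow_iff]; exact h1), if_neg (by rw [g.sc_eq_iff]; exact h2), h3,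
    g.Fam_self hμ (g.phi_mem_Fam hj)] at h4
  norm_num at h4

/-- There are at least three members of the family. -/
theorem exists_three (g : Gen h b θ n) (hμ : ∃ v : U, μ v ≠ 1) :
    ∃ f₁ ∈ g.Fam μ, ∃ f₂ ∈ g.Fam μ, ∃ f₃ ∈ g.Fam μ, f₁ ≠ f₂ ∧ f₁ ≠ f₃ ∧ f₂ ≠ f₃ := by
  obtain ⟨k, rfl⟩ : ∃ k, n = k + 3 := ⟨n - 3, by have := g.three_le; omega⟩
  have e1 : k + 3 - 1 = k + 2 := by omega
  have hM : 2 ^ (k + 2) = 4 * 2 ^ k := by rw [pow_add]; ring
  have hN : 2 ^ (k + 3) = 8 * 2 ^ k := by rw [pow_add]; ring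
  have hk : 1 ≤ 2 ^ k := Nat.one_le_two_pow
  have d4 : ∀ j : ℕ, 2 ^ (k + 3 - 1) ∣ j → 4 ∣ j := fun j hj =>
    (Dvd.intro _ (by rw [e1, hM])).trans hj
  have m8 : ∀ i j : ℕ, i ≡ j [MOD 2 ^ (k + 3)] → i ≡ j [MOD 8] := fun i j hij =>
    hij.of_dvd (Dvd.intro _ hN.symm)
  have h7 : (2 ^ (k + 3) - 1) % 8 = 7 := by omega
  have h0 : ∀ j, (2 ^ (k + 3 - 1) * j) % 8 = 0 ∨ (2 ^ (k + 3 - 1) * j) % 8 = 4 := by
    intro j
    rw [e1, hM]
    have : (4 * 2 ^ k * j) = 4 * (2 ^ k * j) := by ring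
    omega
  refine ⟨_, g.phi_mem_Fam (j := 1) ?_, _, g.phi_mem_Fam (j := 2) ?_, _,
    g.phi_mem_Fam (j := 2 ^ (k + 3) - 1) ?_, ?_, ?_, ?_⟩
  · intro h1; have := d4 _ h1; omega
  · intro h1; have := d4 _ h1; omega
  · intro h1; have := d4 _ h1; omega
  · refine g.phi_ne hμ ?_ ?_ ?_ ?_
    · intro h1; have := d4 _ h1; omega
    · intro h1; have := d4 _ h1; omega
    · intro h1; have h2 := m8 _ _ h1; unfold Nat.ModEq at h2; omega
    · intro h1
      have h2 := m8 _ _ h1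
      unfold Nat.ModEq at h2
      have := h0 2
      omega
  · refine g.phi_ne hμ ?_ ?_ ?_ ?_
    · intro h1; have := d4 _ h1; omega
    · intro h1; have := d4 _ h1; omega
    · intro h1; have h2 := m8 _ _ h1; unfold Nat.ModEq at h2; omega
    · intro h1
      rw [Nat.modEq_iff_dvd] at h1
      obtain ⟨c, hc⟩ := h1
      rw [e1, hM, hN] at hc
      have h3 : ((8 * 2 ^ k - 1 : ℕ) : ℤ) = 8 * 2 ^ k - 1 := by
        rw [Nat.cast_sub (by omega)]
        push_cast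
        ring
      push_cast at hc
      have h4 : ((2 : ℤ) ^ k) * (4 * (8 * 2 ^ k - 1) - 8 - 8 * c) = 0 := by
        push_cast [h3] at hc
        linear_combination hc
      rcases mul_eq_zero.1 h4 with h5 | h5
      · exact absurd h5 (by positivity)
      · omega
  · refine g.phi_ne hμ ?_ ?_ ?_ ?_
    · intro h1; have := d4 _ h1; omega
    · intro h1; have := d4 _ h1; omega
    · intro h1; have h2 := m8 _ _ h1; unfold Nat.ModEq at h2; omega
    · intro h1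
      have h2 := m8 _ _ h1
      unfold Nat.ModEq at h2
      have := h0 (2 ^ (k + 3) - 1)
      omega

end Gen

end

end Cfsg.Agent.Classification.InvCent
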