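import Mathlib
import Cfsg.Agent.Classification.InvCent.SDVec

/-!
# The character `χ` of `T`, semidihedral case

`q - ε ≡ 2 mod 4`, so the `2`-part of `T` is `{1, t, u, t u}`. `χ` is the linear character of `T` of
order two with `χ t = -1`, `χ u = 1`.
-/

set_option autoImplicit false
set_option linter.unusedSectionVars false

open Cfsg
open scoped ComplexConjugate

namespace Cfsg.Agent.Classification.InvCent

open Cfsg.Agent.Characters

section

variable {C : Type*} [Group C] [Finite C] {t : C} {q : ℕ} {ε : ℤ} {Z T T' U : Subgroup C}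
  {s s' u : C}

/-- `x ^ (2 M) = 1` for `x ∈ T`, `M` odd. -/
theorem CHyp.exists_M (h : CHyp t q ε Z T T' U s s' u) {b : C →* ℂˣ}
    (hD : DetHyp q ε T T' U s s' u 2 b) :
    ∃ M : ℕ, Odd M ∧ ∀ x ∈ T, x ^ (2 * M) = 1 := by
  obtain ⟨m, hm, hcZ, -⟩ := h.numbers hD
  obtain ⟨k, hk, hqk⟩ := hD.r_dvd
  have hcT : (Nat.card T : ℤ) = 4 * (m * k) := by
    rw [h.card_T, hcZ, hqk]
    push_cast
    ring
  let _ : CommGroup T := { (inferInstance : Group T) with
    mul_comm := fun x y => Subtype.ext (h.T_comm x x.2 y y.2) }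
  let p : T →* T := powMonoidHom 2
  have hker : Nat.card p.ker = 4 := by
    have htT := h.Z_le_T h.t_mem
    have htu : t * u ∈ T := mul_mem htT h.u_mem
    have hset : ((p.ker : Subgroup T) : Set T) = {1, ⟨t, htT⟩, ⟨u, h.u_mem⟩, ⟨t * u, htu⟩} := by
      ext x
      simp only [SetLike.mem_coe, Set.mem_insert_iff, Set.mem_singleton_iff]
      have h0 : x ∈ p.ker ↔ (x : C) * x = 1 := by
        rw [MonoidHom.mem_ker]
        have : p x = x * x := sq x
        rw [this]
        constructor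
        · intro h1
          exact congrArg Subtype.val h1
        · intro h1
          exact Subtype.ext h1
      rw [h0]
      constructor
      · intro h1
        rcases h.invol_T x x.2 h1 with h2 | h2 | h2 | h2
        · exact Or.inl (Subtype.ext h2)
        · exact Or.inr (Or.inl (Subtype.ext h2))
        · exact Or.inr (Or.inr (Or.inl (Subtype.ext h2)))
        · exact Or.inr (Or.inr (Or.inr (Subtype.ext h2)))
      · rintro (h1 | h1 | h1 | h1)
        · rw [h1]; simp
        · rw [h1]; exact h.tt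
        · rw [h1]; exact h.uu
        · rw [h1]
          calc t * u * (t * u) = t * (u * t) * u := by group
            _ = (t * t) * (u * u) := by rw [h.t_comm u]; group
            _ = 1 := by rw [h.tt, h.uu, one_mul]
    have hcard : Nat.card p.ker = ((p.ker : Subgroup T) : Set T).ncard := rfl
    rw [hcard, hset]
    have n1 : u ≠ 1 := by
      intro h1
      have := h.orderOf_u
      rw [h1, orderOf_one] at this
      norm_num at this
    have n2 : t ≠ 1 := h.t_ne
    have n3 : t * u ≠ 1 := by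
      intro h1
      apply h.u_ne
      rw [eq_inv_of_mul_eq_one_right h1]
      exact inv_eq_of_mul_eq_one_left h.tt
    have n4 : t ≠ u := fun h1 => h.u_ne h1.symm
    have n5 : t ≠ t * u := fun h1 => n1 (mul_eq_left.1 h1.symm)
    have n6 : u ≠ t * u := fun h1 => n2 (mul_eq_right.1 h1.symm)
    rw [Set.ncard_insert_of_notMem, Set.ncard_insert_of_notMem, Set.ncard_insert_of_notMem,
      Set.ncard_singleton]
    · simp only [Set.mem_singleton_iff, Subtype.mk.injEq]; exact n6
    · simp only [Set.mem_insert_iff, Set.mem_singleton_iff, Subtype.mk.injEq, not_or]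
      exact ⟨n4, n5⟩
    · simp only [Set.mem_insert_iff, Set.mem_singleton_iff, not_or]
      refine ⟨fun h1 => n2 (congrArg Subtype.val h1).symm, fun h1 => n1 (congrArg Subtype.val h1).symm,
        fun h1 => n3 (congrArg Subtype.val h1).symm⟩
  have hrange : Nat.card p.ker * Nat.card p.range = Nat.card T := by
    rw [← Subgroup.index_ker, Subgroup.card_mul_index]
  rw [hker] at hrange
  refine ⟨Nat.card p.range, ?_, ?_⟩
  · have h1 : (Nat.card p.range : ℤ) = m * k := by
      have h2 : (4 : ℤ) * Nat.card p.range = 4 * (m * k) := by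
        rw [← hcT, ← hrange]
        push_cast
        ring
      linarith
    have h3 : Odd ((m : ℤ) * k) := Odd.mul (by exact_mod_cast hm) hk
    rw [← h1] at h3
    exact_mod_cast h3
  · intro x hx
    have h1 : (⟨p ⟨x, hx⟩, ⟨_, rfl⟩⟩ : p.range) ^ Nat.card p.range = 1 := pow_card_eq_one'
    have h2 := congrArg (fun y : p.range => ((y : T) : C)) h1
    simp only [Subgroup.coe_pow, Subgroup.coe_one] at h2
    rw [pow_mul]
    have h3 : ((p ⟨x, hx⟩ : T) : C) = x ^ 2 := rfl
    rw [← h3]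
    exact h2

/-- The character `χ`. -/
structure Chi (h : CHyp t q ε Z T T' U s s' u) (b : C →* ℂˣ) (χ : T →* ℂˣ) : Prop where
  sq : ∀ x, χ x ^ 2 = 1
  lin_t : lin χ t = -1
  lin_u : lin χ u = 1
  b_eq : χ * h.torus.sc χ = b.comp T.subtype
  odd : ∀ x ∈ T, lin χ x = -1 → lin χ (s * x * s⁻¹) = -1 → Odd (orderOf (t * x))

theorem exists_chi (h : CHyp t q ε Z T T' U s s' u) {b : C →* ℂˣ}
    (hD : DetHyp q ε T T' U s s' u 2 b) : ∃ χ : T →* ℂˣ, Chi h b χ := by
  obtain ⟨M, hM, hpow⟩ := h.exists_M hD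
  have htT := h.Z_le_T h.t_mem
  have htu : t * u ∈ T := mul_mem htT h.u_mem
  -- a character with `χ₁ u = 1`, `χ₁ t ≠ 1`
  obtain ⟨χ₁, hu1, ht1⟩ : ∃ χ₁ : T →* ℂˣ, χ₁ ⟨u, h.u_mem⟩ = 1 ∧ χ₁ ⟨t, htT⟩ ≠ 1 := by
    let _ : CommGroup T := { (inferInstance : Group T) with
      mul_comm := fun x y => Subtype.ext (h.T_comm x x.2 y y.2) }
    let N : Subgroup T := Subgroup.zpowers ⟨u, h.u_mem⟩
    have hne : (QuotientGroup.mk' N ⟨t, htT⟩ : T ⧸ N) ≠ 1 := by
      intro h1
      have h2 : (⟨t, htT⟩ : T) ∈ N := by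
        rwa [← MonoidHom.mem_ker, QuotientGroup.ker_mk'] at h1
      obtain ⟨k, hk⟩ := Subgroup.mem_zpowers_iff.1 h2
      have hk' : u ^ k = t := congrArg Subtype.val hk
      have huu : u ^ (2 : ℤ) = 1 := by rw [zpow_ofNat, sq, h.uu]
      rcases Int.even_or_odd k with ⟨l, hl⟩ | ⟨l, hl⟩
      · rw [hl, ← two_mul, zpow_mul, huu, one_zpow] at hk'
        exact h.t_ne hk'.symm
      · rw [hl, zpow_add, zpow_mul, huu, one_zpow, one_mul, zpow_one] at hk'
        exact h.u_ne hk'
    obtain ⟨φ, hφ⟩ := CommGroup.exists_apply_ne_one_of_hasEnoughRootsOfUnity (T ⧸ N) ℂ hne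
    refine ⟨φ.comp (QuotientGroup.mk' N), ?_, hφ⟩
    rw [MonoidHom.comp_apply]
    have h3 : (QuotientGroup.mk' N ⟨u, h.u_mem⟩ : T ⧸ N) = 1 := by
      rw [← MonoidHom.mem_ker, QuotientGroup.ker_mk']
      exact Subgroup.mem_zpowers _
    rw [h3, map_one]
  have hχ1t : ((χ₁ ⟨t, htT⟩ : ℂˣ) : ℂ) = -1 := by
    have h1 : ((χ₁ ⟨t, htT⟩ : ℂˣ) : ℂ) * χ₁ ⟨t, htT⟩ = 1 := by
      rw [← Units.val_mul, ← map_mul]
      have : (⟨t, htT⟩ : T) * ⟨t, htT⟩ = 1 := Subtype.ext h.tt
      rw [this, map_one, Units.val_one]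
    rcases mul_self_eq_one_iff.1 h1 with h2 | h2
    · exact absurd (Units.ext h2) ht1
    · exact h2
  have hsq : ∀ x, (χ₁ ^ M) x ^ 2 = 1 := by
    intro x
    rw [MonoidHom.pow_apply, ← pow_mul, mul_comm, ← map_pow]
    have : x ^ (2 * M) = 1 := Subtype.ext (by
      rw [Subgroup.coe_pow, Subgroup.coe_one]; exact hpow x x.2)
    rw [this, map_one]
  have hlt : lin (χ₁ ^ M) t = -1 := by
    rw [lin_pow_hom _ _ htT, lin_apply _ htT, hχ1t, hM.neg_one_pow]
  have hlu : lin (χ₁ ^ M) u = 1 := by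
    rw [lin_pow_hom _ _ h.u_mem, lin_apply _ h.u_mem, hu1, Units.val_one, one_pow]
  have hltu : lin (χ₁ ^ M) (t * u) = -1 := by
    rw [lin_mul _ htT h.u_mem, hlt, hlu, mul_one]
  generalize χ₁ ^ M = χ at hsq hlt hlu hltu
  -- the power `x ^ M`
  have hxM : ∀ x ∈ T, x ^ M = 1 ∨ x ^ M = t ∨ x ^ M = u ∨ x ^ M = t * u := by
    intro x hx
    refine h.invol_T _ (pow_mem hx M) ?_
    rw [← pow_two, ← pow_mul, mul_comm]
    exact hpow x hx
  have hodd : ∀ z : ℂ, z ^ 2 = 1 → z ^ M = z := by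
    intro z hz
    obtain ⟨l, hl⟩ := hM
    rw [hl, pow_succ, pow_mul, hz, one_pow, one_mul]
  have hlsq : ∀ x ∈ T, lin χ x ^ 2 = 1 := by
    intro x hx
    rw [lin_apply _ hx, ← Units.val_pow_eq_pow_val, hsq, Units.val_one]
  have hlM : ∀ x ∈ T, lin χ x = lin χ (x ^ M) := by
    intro x hx
    have h1 : lin χ (x ^ M) = lin χ x ^ M := by
      rw [lin_apply _ hx, lin_apply _ (pow_mem hx M), ← Units.val_pow_eq_pow_val, ← map_pow]
      rfl
    rw [h1, hodd _ (hlsq x hx)]
  have hst : s * t * s⁻¹ = t := by rw [h.t_comm s]; group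
  have hstu : s * (t * u) * s⁻¹ = u := by
    have e1 : s * (t * u) * s⁻¹ = (s * t * s⁻¹) * (s * u * s⁻¹) := by group
    rw [e1, hst, h.s_u, ← mul_assoc, h.tt, one_mul]
  have hsM : ∀ x : C, (s * x * s⁻¹) ^ M = s * x ^ M * s⁻¹ := fun x => conj_pow
  refine ⟨χ, hsq, hlt, hlu, ?_, ?_⟩
  · have hbsq : ∀ c, (((b c : ℂˣ) : ℂ)) ^ 2 = 1 := by
      intro c
      have := hD.pow_eq_one c
      rw [← Units.val_pow_eq_pow_val, this, Units.val_one]
    have hbt : b t = 1 := hD.b_T₀ t htT (by rw [hst, h.tt])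
    refine lin_injective fun x hx => ?_
    have hbx : lin (b.comp T.subtype) x = ((b (x ^ M) : ℂˣ) : ℂ) := by
      rw [lin_apply _ hx]
      change ((b x : ℂˣ) : ℂ) = _
      rw [map_pow, Units.val_pow_eq_pow_val, hodd _ (hbsq x)]
    rw [hbx, lin_mul_hom, h.torus.lin_sc _ hx, hlM x hx, hlM _ (h.s_conj x hx), hsM]
    rcases hxM x hx with h1 | h1 | h1 | h1
    · rw [h1, mul_one, mul_inv_cancel, lin_one, map_one, Units.val_one, one_mul]
    · rw [h1, hst, hlt, hbt, Units.val_one]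
      norm_num
    · rw [h1, h.s_u, hlu, hltu, hD.b_u, Units.val_neg, Units.val_one]
      norm_num
    · rw [h1, hstu, hlu, hltu, map_mul, hbt, hD.b_u, one_mul, Units.val_neg, Units.val_one]
      norm_num
  · intro x hx h1 h2
    rw [hlM x hx] at h1
    rw [hlM _ (h.s_conj x hx), hsM] at h2
    have h3 : x ^ M = t := by
      rcases hxM x hx with h4 | h4 | h4 | h4
      · rw [h4, lin_one] at h1; norm_num at h1
      · exact h4
      · rw [h4, hlu] at h1; norm_num at h1
      · rw [h4, hstu, hlu] at h2; norm_num at h2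
    have h4 : (t * x) ^ M = 1 := by
      rw [(show Commute t x from (h.t_comm x).symm).mul_pow, h3]
      obtain ⟨l, hl⟩ := hM
      rw [hl, pow_succ, pow_mul, sq, h.tt, one_pow, one_mul, h.tt]
    exact hM.of_dvd_nat (orderOf_dvd_of_pow_eq_one h4)

end

end Cfsg.Agent.Classification.InvCent
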