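import Mathlib
import Cfsg.Agent.Classification.InvCent.SDChi

/-!
# The vectors `phi s`, `psi` and the pair sums, semidihedral case
-/

set_option autoImplicit false
set_option linter.unusedSectionVars false

open Cfsg
open scoped ComplexConjugate

namespace Cfsg.Agent.Classification.InvCent

open Cfsg.Agent.Characters

section

variable {C : Type*} [Group C] [Fintype C] {t : C} {q : ℕ} {ε : ℤ} {Z T T' U : Subgroup C}
  {s s' u : C} {h : CHyp t q ε Z T T' U s s' u} {b : C →* ℂˣ} {θ : T' →* ℂˣ} {n : ℕ} {μ : U →* ℂˣ}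
  {χ : T →* ℂˣ}

namespace Gen

theorem half_add (g : Gen h b θ n) : 2 ^ (n - 1) + 2 ^ (n - 1) = 2 ^ n := by
  have := g.three_le
  rw [← two_mul, ← pow_succ', Nat.sub_add_cancel (by omega)]

theorem half_ne_one (g : Gen h b θ n) : θ ^ 2 ^ (n - 1) ≠ 1 := by
  rw [Ne, g.pow_eq_one_iff, Nat.pow_dvd_pow_iff_le_right (by norm_num)]
  have := g.three_le
  omega

theorem even_half (g : Gen h b θ n) : Even (2 ^ (n - 1)) := by
  have := g.three_le
  exact (Nat.even_pow.2 ⟨even_two, by omega⟩)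

theorem phis_t (g : Gen h b θ n) : phi h μ θ (2 ^ (n - 1)) t = 0 := by
  rw [g.phi_t, g.even_half.neg_one_pow]
  ring

theorem phis_self (g : Gen h b θ n) (hμ : ∃ v : U, μ v ≠ 1) :
    classInner (phi h μ θ (2 ^ (n - 1))) (phi h μ θ (2 ^ (n - 1))) = 4 := by
  classical
  rw [g.phi_inner hμ g.half_ne_one g.half_ne_one, if_pos rfl, if_pos]
  · norm_num
  · rw [g.sc_eq_iff, g.half_add]
    have h1 : 2 ^ (n - 1) * 2 ^ (n - 1) = 2 ^ n * 2 ^ (n - 2) := by
      have := g.three_le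
      rw [← pow_add, ← pow_add]
      congr 1
      omega
    rw [h1]
    exact (Nat.modEq_zero_iff_dvd.2 (dvd_refl _)).trans
      (Nat.modEq_zero_iff_dvd.2 (dvd_mul_right _ _)).symm

theorem phi_phis (g : Gen h b θ n) (hμ : ∃ v : U, μ v ≠ 1) {j : ℕ} (hj : ¬ 2 ^ (n - 1) ∣ j) :
    classInner (phi h μ θ j) (phi h μ θ (2 ^ (n - 1))) = 2 := by
  classical
  rw [g.phi_inner hμ (g.ne_one_of_not_dvd hj) g.half_ne_one, if_neg, if_neg]
  · norm_num
  · rw [g.sc_eq_iff]
    intro h1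
    apply hj
    have h2 : 2 ^ (n - 1) * 2 ^ (n - 1) ≡ 0 [MOD 2 ^ (n - 1)] :=
      Nat.modEq_zero_iff_dvd.2 (dvd_mul_right _ _)
    have h3 := (h1.of_dvd (pow_dvd_pow 2 (by omega : n - 1 ≤ n))).trans h2
    rw [Nat.modEq_zero_iff_dvd] at h3
    exact (Nat.dvd_add_left (dvd_refl _)).1 h3
  · rw [g.pow_eq_pow_iff]
    intro h1
    apply hj
    have h3 := h1.of_dvd (pow_dvd_pow 2 (by omega : n - 1 ≤ n))
    exact Nat.modEq_zero_iff_dvd.1 (h3.trans (Nat.modEq_zero_iff_dvd.2 (dvd_refl _)))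

theorem Fam_phis (g : Gen h b θ n) (hμ : ∃ v : U, μ v ≠ 1) {f : C → ℂ} (hf : f ∈ g.Fam μ) :
    classInner f (phi h μ θ (2 ^ (n - 1))) = 2 := by
  obtain ⟨j, hj, rfl⟩ := hf
  exact g.phi_phis hμ hj

theorem Fam_one (g : Gen h b θ n) (hμ : ∃ v : U, μ v ≠ 1) {f : C → ℂ} (hf : f ∈ g.Fam μ) :
    classInner f 1 = 1 := by
  obtain ⟨j, hj, rfl⟩ := hf
  exact g.phi_one hμ (g.ne_one_of_not_dvd hj)

/-- Pair sum of `phi j`. -/
theorem pairSum_phi (g : Gen h b θ n) (hμ : ∃ v : U, μ v ≠ 1) {j : ℕ} (hj : ¬ 2 ^ (n - 1) ∣ j) :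
    pairSum t (phi h μ θ j) = q * (q ^ 2 - 1) * (q + ε) := by
  unfold phi
  rw [h.pairSum_R_T' hμ _ (by rw [lin_one, sub_self]), ssum_sub]
  have h1 : ssum h.torus'.T₀ (lin (θ ^ j)) = 0 := by
    by_contra hne
    apply g.sc_ne hj
    have h2 : ∀ y ∈ h.torus'.T₀, lin (θ ^ j) y = 1 := by
      intro y hy
      by_contra h3
      exact hne (ssum_lin_sub h.torus'.T₀_le hy h3)
    refine lin_injective fun x hx => ?_
    rw [h.torus'.lin_sc _ hx]
    have hsx := h.torus'.s_conj x hx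
    have h3 : x⁻¹ * (s' * x * s'⁻¹) ∈ h.torus'.T₀ := by
      refine ⟨mul_mem (inv_mem hx) hsx, ?_⟩
      have e1 : x⁻¹ * (s' * x * s'⁻¹) * (s' * (x⁻¹ * (s' * x * s'⁻¹)) * s'⁻¹) =
          x⁻¹ * (s' * (s' * x * s'⁻¹) * s'⁻¹) := by group
      rw [e1, h.torus'.s_conj_conj, inv_mul_cancel]
    have h4 := h2 _ h3
    rw [lin_mul _ (inv_mem hx) hsx] at h4
    have h5 : lin (θ ^ j) x⁻¹ * lin (θ ^ j) x = 1 := by
      rw [← lin_mul _ (inv_mem hx) hx, inv_mul_cancel, lin_one]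
    have h6 := lin_ne_zero (θ ^ j) (inv_mem hx)
    exact mul_left_cancel₀ h6 (h5.trans h4.symm)
  have h2 : ssum h.torus'.T₀ (fun _ => (1 : ℂ)) = q + ε := by
    rw [ssum_const, mul_one]
    have := h.torus'.card_T₀
    have h3 : ((Nat.card h.torus'.T₀ : ℤ) : ℂ) = ((q - -ε : ℤ) : ℂ) := by rw [this]
    push_cast at h3
    rw [h3]
    ring
  rw [h1, h2, sub_zero]

theorem lin_half (g : Gen h b θ n) {x : C} (hx : x ∈ T') :
    lin (θ ^ 2 ^ (n - 1)) x = ((b x : ℂˣ) : ℂ) := by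
  rw [← g.b_eq, lin_apply _ hx]
  rfl

/-- Pair sum of `phi s`. -/
theorem pairSum_phis (g : Gen h b θ n) (hD : DetHyp q ε T T' U s s' u 2 b)
    (hμ : ∃ v : U, μ v ≠ 1) : pairSum t (phi h μ θ (2 ^ (n - 1))) = 0 := by
  unfold phi
  rw [h.pairSum_R_T' hμ _ (by rw [lin_one, sub_self])]
  have h1 : ssum h.torus'.T₀ (fun x => 1 - lin (θ ^ 2 ^ (n - 1)) x) =
      ssum h.torus'.T₀ (fun _ => 0) := by
    refine ssum_congr fun x hx => ?_
    rw [g.lin_half hx.1, hD.b_T'₀ x hx.1 hx.2, Units.val_one, sub_self]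
  rw [h1, ssum_zero, mul_zero]

end Gen

/-- The function `(1 - χ) (1 - χ^s)` on `T`. -/
noncomputable def gT (s : C) (χ : T →* ℂˣ) : C → ℂ :=
  fun x => (1 - lin χ x) * (1 - lin χ (s * x * s⁻¹))

namespace Chi

theorem lin_sq (_ : Chi h b χ) {x : C} (hx : x ∈ T) : lin χ x * lin χ x = 1 := by
  rename_i c
  rw [lin_apply _ hx, ← Units.val_mul, ← pow_two, c.sq, Units.val_one]

theorem lin_cases (c : Chi h b χ) {x : C} (hx : x ∈ T) : lin χ x = 1 ∨ lin χ x = -1 :=
  mul_self_eq_one_iff.1 (c.lin_sq hx)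

theorem lin_b (c : Chi h b χ) {x : C} (hx : x ∈ T) :
    lin χ x * lin χ (s * x * s⁻¹) = ((b x : ℂˣ) : ℂ) := by
  rw [← h.torus.lin_sc _ hx, ← lin_mul_hom, c.b_eq, lin_apply _ hx]
  rfl

theorem gT_eq (c : Chi h b χ) {x : C} (hx : x ∈ T) :
    gT s χ x = 1 - lin χ x - lin χ (s * x * s⁻¹) + ((b x : ℂˣ) : ℂ) := by
  unfold gT
  rw [← c.lin_b hx]
  ring

theorem gT_sq (c : Chi h b χ) {x : C} (hx : x ∈ T) : gT s χ x * gT s χ x = 4 * gT s χ x := by
  unfold gT
  have h1 := c.lin_sq hx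
  have h2 := c.lin_sq (h.torus.s_conj x hx)
  linear_combination (1 - lin χ (s * x * s⁻¹)) * (1 - lin χ (s * x * s⁻¹)) * h1 +
    2 * (1 - lin χ x) * h2

theorem gT_s (_ : Chi h b χ) (x : C) : gT s χ (s * x * s⁻¹) = gT s χ x := by
  unfold gT
  rw [h.torus.s_conj_conj]
  ring

theorem conj_gT (c : Chi h b χ) {x : C} (hx : x ∈ T) : conj (gT s χ x) = gT s χ x := by
  unfold gT
  rcases c.lin_cases hx with h1 | h1 <;> rcases c.lin_cases (h.torus.s_conj x hx) with h2 | h2 <;>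
    rw [h1, h2] <;> simp

theorem gT_t (c : Chi h b χ) : gT s χ t = 4 := by
  unfold gT
  have : s * t * s⁻¹ = t := by rw [h.t_comm s]; group
  rw [this, c.lin_t]
  norm_num

theorem gT_one (_ : Chi h b χ) : gT s χ 1 = 0 := by
  unfold gT
  rw [lin_one, sub_self, zero_mul]

theorem gT_odd (c : Chi h b χ) {x : C} (hx : x ∈ T) (h1 : gT s χ x ≠ 0) :
    Odd (orderOf (t * x)) := by
  unfold gT at h1
  refine c.odd x hx ?_ ?_
  · rcases c.lin_cases hx with h2 | h2
    · rw [h2, sub_self, zero_mul] at h1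
      exact absurd rfl h1
    · exact h2
  · rcases c.lin_cases (h.torus.s_conj x hx) with h2 | h2
    · rw [h2, sub_self, mul_zero] at h1
      exact absurd rfl h1
    · exact h2

theorem ne_one (c : Chi h b χ) : χ ≠ 1 := by
  rintro rfl
  have := c.lin_t
  rw [lin_one_hom (h.Z_le_T h.t_mem)] at this
  norm_num at this

theorem b_ne_one (c : Chi h b χ) (hD : DetHyp q ε T T' U s s' u 2 b) : b.comp T.subtype ≠ 1 := by
  intro h1
  have h2 := DFunLike.congr_fun h1 ⟨u, h.u_mem⟩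
  have h3 : b u = 1 := h2
  rw [hD.b_u] at h3
  have h4 := congrArg Units.val h3
  rw [Units.val_neg, Units.val_one] at h4
  norm_num at h4

theorem ssum_gT (c : Chi h b χ) (hD : DetHyp q ε T T' U s s' u 2 b) :
    ssum T (gT s χ) = Nat.card T := by
  have h1 : ssum T (gT s χ) = ssum T (fun x => 1 - lin χ x - lin (h.torus.sc χ) x +
      lin (b.comp T.subtype) x) := by
    refine ssum_congr fun x hx => ?_
    rw [c.gT_eq hx, h.torus.lin_sc _ hx, lin_apply (b.comp T.subtype) hx]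
    rfl
  rw [h1, ssum_add, ssum_sub, ssum_sub, ssum_lin c.ne_one, ssum_lin (h.torus.sc_ne_one c.ne_one),
    ssum_lin (c.b_ne_one hD), ssum_const]
  ring

theorem ssum_T₀_gT (c : Chi h b χ) : ssum h.torus.T₀ (gT s χ) = 2 * (q - ε) := by
  have h1 : ssum h.torus.T₀ (gT s χ) = ssum h.torus.T₀ (fun x => 2 * (1 - lin χ x)) := by
    refine ssum_congr fun x hx => ?_
    have h2 : lin χ x * lin χ (s * x * s⁻¹) = 1 := by
      rw [← lin_mul _ hx.1 (h.torus.s_conj x hx.1), hx.2, lin_one]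
    have h3 : lin χ (s * x * s⁻¹) = lin χ x := by
      have h4 := c.lin_sq hx.1
      exact mul_left_cancel₀ (lin_ne_zero χ hx.1) (h2.trans h4.symm)
    unfold gT
    rw [h3]
    linear_combination c.lin_sq hx.1
  have h2 : lin χ t ≠ 1 := by rw [c.lin_t]; norm_num
  rw [h1, ssum_mul, ssum_sub, ssum_lin_sub h.torus.T₀_le h.t_mem_T₀ h2, ssum_const, mul_one,
    sub_zero]
  have := h.torus.card_T₀
  have h3 : ((Nat.card h.torus.T₀ : ℤ) : ℂ) = ((q - ε : ℤ) : ℂ) := by rw [this]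
  push_cast at h3
  rw [h3]

end Chi

/-- `psi = 1/2 (R_T((1 - χ)(1 - χ^s)) + phi s)`. -/
noncomputable def psi (h : CHyp t q ε Z T T' U s s' u) (μ : U →* ℂˣ) (θ : T' →* ℂˣ) (n : ℕ)
    (χ : T →* ℂˣ) : C → ℂ :=
  (1 / 2 : ℂ) • (Torus.R T h.base μ (gT s χ) + phi h μ θ (2 ^ (n - 1)))

/-- The values of `b` as a function. -/
noncomputable def bF (b : C →* ℂˣ) : C → ℂ := fun x => ((b x : ℂˣ) : ℂ)

theorem bF_class (b : C →* ℂˣ) : IsClassFunction C (bF b) := by
  intro x c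
  unfold bF
  have : b (c * x * c⁻¹) = b x := by
    rw [map_mul, map_mul, map_inv, mul_comm (b c), mul_assoc, mul_inv_cancel, mul_one]
  rw [this]

theorem isGeneralized_bF (b : C →* ℂˣ) (H : Subgroup C) :
    IsGeneralizedCharacter H (fun x : H => bF b x) :=
  Brauer.isGeneralizedCharacter_of_isCharacter (Linear.isCharacter_hom (b.comp H.subtype))

theorem psi_eq (g : Gen h b θ n) (c : Chi h b χ) (hD : DetHyp q ε T T' U s s' u 2 b)
    (hμ : ∃ v : U, μ v ≠ 1) :
    psi h μ θ n χ = (1 - bF b) - (Torus.R T h.base μ (lin χ) - Torus.R T h.base μ (bF b)) := by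
  funext x
  have e1 := h.two_one hμ x
  have e2 := h.torus.R_add_R h.torus' rfl h.base hμ h.exhaust (bF_class b) (fun z _ v hv => by
    unfold bF
    rw [map_mul, hD.b_U v hv, mul_one]) x
  have e3 : Torus.R T h.base μ (gT s χ) x = Torus.R T h.base μ (fun _ => 1) x -
      2 * Torus.R T h.base μ (lin χ) x + Torus.R T h.base μ (bF b) x := by
    have h1 : Torus.R T h.base μ (gT s χ) = Torus.R T h.base μ
        (fun x => ((1 - lin χ x) - lin χ (s * x * s⁻¹)) + bF b x) := by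
      refine Torus.R_congr h.base h.Z_le_T fun x hx => ?_
      rw [c.gT_eq hx]
      rfl
    rw [h1, Torus.R_add, Torus.R_sub, Torus.R_sub,
      h.torus.R_sc h.torus' rfl h.base hμ h.exhaust (lin χ)]
    ring
  have e4 : phi h μ θ (2 ^ (n - 1)) x = Torus.R T' h.base μ (fun _ => 1) x -
      Torus.R T' h.base μ (bF b) x := by
    have h1 : phi h μ θ (2 ^ (n - 1)) = Torus.R T' h.base μ (fun x => 1 - bF b x) := by
      refine Torus.R_congr h.base h.Z_le_T' fun x hx => ?_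
      rw [g.lin_half hx]
      rfl
    rw [h1, Torus.R_sub]
  unfold psi
  simp only [Pi.smul_apply, Pi.add_apply, Pi.sub_apply, Pi.one_apply, smul_eq_mul]
  rw [e3, e4]
  linear_combination -e1 - (1 / 2 : ℂ) * e2

section Psi

variable (g : Gen h b θ n) (c : Chi h b χ) (hD : DetHyp q ε T T' U s s' u 2 b)
  (hμ : ∃ v : U, μ v ≠ 1)

include g c hD hμ

theorem psi_gen : IsGeneralizedCharacter C (psi h μ θ n χ) := by
  rw [psi_eq g c hD hμ]
  refine Brauer.isGeneralizedCharacter_sub (Brauer.isGeneralizedCharacter_sub ?_ ?_)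
    (Brauer.isGeneralizedCharacter_sub ?_ ?_)
  · exact Brauer.isGeneralizedCharacter_of_isCharacter Core.isCharacter_one
  · exact Brauer.isGeneralizedCharacter_of_isCharacter (Linear.isCharacter_hom b)
  · exact h.torus.isGeneralized_R h.base (isGeneralized_lin χ)
  · exact h.torus.isGeneralized_R h.base (isGeneralized_bF b T)

theorem RT_supp {x : C} (hx : Torus.R T h.base μ (gT s χ) x ≠ 0) : Odd (orderOf (t * x)) :=
  h.support_T hμ (P := fun x => Odd (orderOf (t * x))) h.odd_conj h.odd_ZU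
    (fun _ hy hy1 => c.gT_odd hy hy1) hx

theorem psi_supp {x : C} (hx : psi h μ θ n χ x ≠ 0) : t ∈ Subgroup.zpowers x := by
  by_contra hne
  apply hx
  unfold psi
  have h1 : Torus.R T h.base μ (gT s χ) x = 0 := by
    by_contra h2
    exact hne (h.zpowers_of_odd (RT_supp g c hD hμ h2))
  have h2 : phi h μ θ (2 ^ (n - 1)) x = 0 := by
    by_contra h3
    exact hne (g.phi_supp hμ _ h3)
  simp only [Pi.smul_apply, Pi.add_apply, h1, h2, add_zero, smul_zero]

theorem psi_t : psi h μ θ n χ t = 2 * (1 + ε * q) := by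
  unfold psi
  simp only [Pi.smul_apply, Pi.add_apply, smul_eq_mul]
  rw [h.torus.R_Z h.base _ h.t_mem, c.gT_t, g.phis_t]
  ring

theorem RT_RT : classInner (Torus.R T h.base μ (gT s χ)) (Torus.R T h.base μ (gT s χ)) = 8 := by
  rw [h.torus.classInner_R_R h.base hμ]
  have h1 : ssum T (fun x => gT s χ x * conj (gT s χ x + gT s χ (s * x * s⁻¹))) =
      8 * ssum T (gT s χ) := by
    rw [← ssum_mul]
    refine ssum_congr fun x hx => ?_
    rw [c.gT_s, map_add, c.conj_gT hx]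
    linear_combination 2 * c.gT_sq hx
  rw [h1, c.ssum_gT hD]
  have := Core.card_ne_zero_complex (G := T)
  field_simp

theorem RT_phi (j : ℕ) : classInner (Torus.R T h.base μ (gT s χ)) (phi h μ θ j) = 0 :=
  h.torus.classInner_R_R' h.torus' rfl h.base hμ _ _

theorem phi_RT (j : ℕ) : classInner (phi h μ θ j) (Torus.R T h.base μ (gT s χ)) = 0 :=
  h.torus'.classInner_R_R' h.torus (by ring) h.base hμ _ _

theorem psi_phi (j : ℕ) : classInner (psi h μ θ n χ) (phi h μ θ j) =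
    classInner (phi h μ θ (2 ^ (n - 1))) (phi h μ θ j) / 2 := by
  unfold psi
  rw [Core.classInner_smul_left, Core.classInner_add_left, RT_phi g c hD hμ]
  ring

theorem psi_phis : classInner (psi h μ θ n χ) (phi h μ θ (2 ^ (n - 1))) = 2 := by
  rw [psi_phi g c hD hμ, g.phis_self hμ]
  norm_num

theorem psi_Fam {f : C → ℂ} (hf : f ∈ g.Fam μ) : classInner (psi h μ θ n χ) f = 1 := by
  obtain ⟨j, hj, rfl⟩ := hf
  rw [psi_phi g c hD hμ]
  have h1 := g.phi_phis hμ hj
  have h2 : classInner (phi h μ θ (2 ^ (n - 1))) (phi h μ θ j) = 2 := by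
    rw [← Core.classInner_conj_symm, h1]
    exact map_ofNat _ 2
  rw [h2]
  norm_num

theorem psi_self : classInner (psi h μ θ n χ) (psi h μ θ n χ) = 3 := by
  have h1 : classInner (phi h μ θ (2 ^ (n - 1))) (psi h μ θ n χ) = 2 := by
    rw [← Core.classInner_conj_symm, psi_phis g c hD hμ]
    exact map_ofNat _ 2
  have h2 : classInner (Torus.R T h.base μ (gT s χ)) (psi h μ θ n χ) = 4 := by
    unfold psi
    rw [Core.classInner_smul_right, Core.classInner_add_right, RT_RT g c hD hμ,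
      RT_phi g c hD hμ]
    simp only [map_div₀, map_one, map_ofNat]
    norm_num
  nth_rw 1 [psi]
  rw [Core.classInner_smul_left, Core.classInner_add_left, h1, h2]
  norm_num

theorem psi_one : classInner (psi h μ θ n χ) 1 = 1 := by
  unfold psi
  rw [Core.classInner_smul_left, Core.classInner_add_left, h.inner_T_one hμ, c.ssum_gT hD,
    g.phi_one hμ g.half_ne_one, inv_mul_cancel₀ Core.card_ne_zero_complex]
  norm_num

/-- The pair sum of `psi`. -/
theorem pairSum_psi : pairSum t (psi h μ θ n χ) =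
    4 * ε * q ^ 2 * (q + ε) + q * (q ^ 2 - 1) * (q - ε) := by
  have h1 : pairSum t (psi h μ θ n χ) =
      (1 / 2 : ℂ) * (pairSum t (Torus.R T h.base μ (gT s χ)) +
        pairSum t (phi h μ θ (2 ^ (n - 1)))) := by
    unfold pairSum psi
    rw [← Finset.sum_add_distrib, Finset.mul_sum]
    refine Finset.sum_congr rfl fun v _ => ?_
    rw [← Finset.sum_add_distrib, Finset.mul_sum]
    refine Finset.sum_congr rfl fun w _ => ?_
    simp only [Pi.smul_apply, Pi.add_apply, smul_eq_mul]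
  rw [h1, g.pairSum_phis hD hμ, h.pairSum_R_T hμ _ c.gT_one, c.gT_t, c.ssum_T₀_gT]
  ring

end Psi

end

end Cfsg.Agent.Classification.InvCent
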