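import Mathlib
import Cfsg.Agent.Classification.InvCent.SDPsi
import Cfsg.Agent.Classification.InvCent.BlockEval

/-!
# Values on the 2-section of `t`, semidihedral case

Functions supported on the elements `x` such that `t x` has odd order.
-/

set_option autoImplicit false
set_option linter.unusedSectionVars false

open Cfsg
open scoped ComplexConjugate

namespace Cfsg.Agent.Classification.InvCent

open Cfsg.Agent.Characters Cfsg.Agent.Classification.BGIsometry
  Cfsg.Agent.Classification.BGOrder Cfsg.Agent.Classification.BGSplit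
  Cfsg.Agent.Classification.BGBlockB0

/-- `∑ r ^ j = 0` for `r ^ N = 1`, `r ≠ 1`. -/
theorem geom_zero {r : ℂ} {N : ℕ} (h1 : r ^ N = 1) (h2 : r ≠ 1) :
    ∑ j ∈ Finset.range N, r ^ j = 0 := by
  rw [geom_sum_eq h2, h1, sub_self, zero_div]

section

variable {C : Type*} [Group C] [Fintype C] {t : C} {q : ℕ} {ε : ℤ} {Z T T' U : Subgroup C}
  {s s' u : C} {h : CHyp t q ε Z T T' U s s' u} {b : C →* ℂˣ} {θ : T' →* ℂˣ} {n : ℕ} {μ : U →* ℂˣ}
  {χ : T →* ℂˣ}

/-- The function `2 ^ n` on the elements `x` of `T'` with `t x` of odd order, zero on the others. -/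
noncomputable def sec (θ : T' →* ℂˣ) (n : ℕ) : C → ℂ :=
  fun x => ∑ j ∈ Finset.range (2 ^ n), (-(-1) ^ j) * (1 - lin (θ ^ j) x)

namespace Gen

theorem sum_neg_one (g : Gen h b θ n) : ∑ j ∈ Finset.range (2 ^ n), (-1 : ℂ) ^ j = 0 := by
  refine geom_zero ?_ (by norm_num)
  have := g.three_le
  exact (Nat.even_pow.2 ⟨even_two, by omega⟩).neg_one_pow

open Classical in
theorem sec_eq (g : Gen h b θ n) {x : C} (hx : x ∈ T') :
    sec θ n x = if lin θ (t * x) = 1 then (2 : ℂ) ^ n else 0 := by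
  have ht := h.Z_le_T' h.t_mem
  have h1 : lin θ (t * x) = -lin θ x := by rw [lin_mul _ ht hx, g.lin_t]; ring
  have h2 : sec θ n x = ∑ j ∈ Finset.range (2 ^ n), lin θ (t * x) ^ j := by
    have h3 : ∀ j ∈ Finset.range (2 ^ n), (-(-1 : ℂ) ^ j) * (1 - lin (θ ^ j) x) =
        -(-1 : ℂ) ^ j + lin θ (t * x) ^ j := by
      intro j _
      rw [lin_pow_hom _ _ hx, h1, neg_pow (lin θ x)]
      ring
    unfold sec
    rw [Finset.sum_congr rfl h3, Finset.sum_add_distrib, Finset.sum_neg_distrib, g.sum_neg_one,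
      neg_zero, zero_add]
  rw [h2]
  split_ifs with h4
  · rw [h4]
    simp
  · exact geom_zero (g.lin_pow (mul_mem ht hx)) h4

theorem sec_odd (g : Gen h b θ n) {x : C} (hx : x ∈ T') (h1 : sec θ n x ≠ 0) :
    Odd (orderOf (t * x)) := by
  classical
  rw [g.sec_eq hx] at h1
  rw [← g.lin_eq_one_iff (mul_mem (h.Z_le_T' h.t_mem) hx)]
  by_contra h2
  rw [if_neg h2] at h1
  exact h1 rfl

theorem ssum_sec (g : Gen h b θ n) : ssum T' (sec θ n) = Nat.card T' := by
  classical
  have h1 : ssum T' (sec θ n) = ∑ j ∈ Finset.range (2 ^ n),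
      (-(-1 : ℂ) ^ j) * ((Nat.card T' : ℂ) - if θ ^ j = 1 then (Nat.card T' : ℂ) else 0) := by
    have h2 : ∀ j ∈ Finset.range (2 ^ n),
        (-(-1 : ℂ) ^ j) * ((Nat.card T' : ℂ) - if θ ^ j = 1 then (Nat.card T' : ℂ) else 0) =
        ssum T' (fun x => (-(-1 : ℂ) ^ j) * (1 - lin (θ ^ j) x)) := by
      intro j _
      rw [ssum_mul, ssum_sub, ssum_lin_eq, ssum_const, mul_one]
    rw [Finset.sum_congr rfl h2]
    unfold ssum sec
    rw [Finset.sum_comm]
    refine Finset.sum_congr rfl fun x _ => ?_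
    split_ifs <;> simp
  rw [h1]
  have h3 : ∀ j ∈ Finset.range (2 ^ n), (-(-1 : ℂ) ^ j) *
      ((Nat.card T' : ℂ) - if θ ^ j = 1 then (Nat.card T' : ℂ) else 0) =
      (-(Nat.card T' : ℂ)) * (-1) ^ j + if j = 0 then (Nat.card T' : ℂ) else 0 := by
    intro j hj
    rw [Finset.mem_range] at hj
    by_cases hj0 : j = 0
    · subst hj0
      rw [if_pos ((g.pow_eq_one_iff 0).2 (dvd_zero _)), if_pos rfl]
      ring
    · rw [if_neg hj0, if_neg]
      · ring
      · rw [g.pow_eq_one_iff]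
        intro h4
        exact absurd (Nat.le_of_dvd (Nat.pos_of_ne_zero hj0) h4) (not_le.2 hj)
  rw [Finset.sum_congr rfl h3, Finset.sum_add_distrib, ← Finset.mul_sum, g.sum_neg_one,
    Finset.sum_ite_eq', if_pos (Finset.mem_range.2 (by positivity))]
  ring

theorem R_sec (_ : Gen h b θ n) : Torus.R T' h.base μ (sec θ n) =
    fun x => ∑ j ∈ Finset.range (2 ^ n), (-(-1) ^ j) * phi h μ θ j x := by
  unfold sec phi
  exact Torus.R_sum h.base _ _ _

end Gen

/-- `R_T(1)` is invariant under multiplication by central elements. -/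
theorem Torus.R_one_mul {δ δ' : ℤ} (h : Torus q δ Z T s) (h' : Torus q δ' Z T' s') (hne : δ' = - δ)
    (hb : Base q Z U) (hμ : ∃ v : U, μ v ≠ 1)
    (hexh : ∀ c : C, ∃ g : C, g * c * g⁻¹ ∈ T ∨ g * c * g⁻¹ ∈ T' ∨
      ∃ z ∈ Z, ∃ v ∈ U, g * c * g⁻¹ = z * v) {z : C} (hz : z ∈ Z) (x : C) :
    R T hb μ (fun _ => 1) (z * x) = R T hb μ (fun _ => 1) x := by
  have hne' : δ ≠ δ' := by
    rcases h.sign with h3 | h3 <;> omega
  obtain ⟨g, hg⟩ := hexh x
  rw [← R_isClassFunction hb _ x g, ← R_isClassFunction hb _ (z * x) g]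
  have e1 : g * (z * x) * g⁻¹ = z * (g * x * g⁻¹) := by
    calc g * (z * x) * g⁻¹ = (g * z) * x * g⁻¹ := by group
      _ = z * (g * x * g⁻¹) := by rw [hb.Z_central z hz g]; group
  rw [e1]
  generalize g * x * g⁻¹ = y at hg
  have hzy : ∀ {y : C}, y ∉ Z → z * y ∉ Z := fun hy h1 => hy ((Z.mul_mem_cancel_left hz).1 h1)
  rcases hg with hy | hy | ⟨w, hw, v, hv, hy⟩
  · by_cases hyZ : y ∈ Z
    · rw [h.R_Z hb _ hyZ, h.R_Z hb _ (mul_mem hz hyZ)]
    · rw [h.R_T hb _ hy hyZ, h.R_T hb _ (mul_mem (h.Z_le hz) hy) (hzy hyZ)]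
  · by_cases hyZ : y ∈ Z
    · rw [h.R_Z hb _ hyZ, h.R_Z hb _ (mul_mem hz hyZ)]
    · rw [h.R_T' h' hne'.symm hb _ hy hyZ,
        h.R_T' h' hne'.symm hb _ (mul_mem (h'.Z_le hz) hy) (hzy hyZ)]
  · subst hy
    rw [← mul_assoc]
    by_cases hv1 : v = 1
    · rw [hv1, mul_one, mul_one, h.R_Z hb _ hw, h.R_Z hb _ (mul_mem hz hw)]
    · rw [h.R_ZU hb hμ _ hw hv hv1, h.R_ZU hb hμ _ (mul_mem hz hw) hv hv1]

end

section Ind

universe w v

variable {G : Type w} [Group G] [Fintype G] {C : Type v} [Group C] [Fintype C] {t : G} {z : C}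
  {π : (Subgroup.centralizer ({t} : Set G)) →* C}

/-- The function induced from `f ∘ π`. -/
noncomputable def Ind (π : (Subgroup.centralizer ({t} : Set G)) →* C) (f : C → ℂ) : G → ℂ :=
  indFun (Subgroup.centralizer ({t} : Set G)) (fun x => f (π x))

theorem Ind_sum {ι : Type*} (S : Finset ι) (c : ι → ℂ) (f : ι → C → ℂ) :
    Ind π (fun x => ∑ i ∈ S, c i * f i x) = fun x => ∑ i ∈ S, c i * Ind π (f i) x := by
  classical
  funext x
  unfold Ind
  simp only [Core.indFun_apply]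
  have h1 : ∀ y : G, extendByZero (Subgroup.centralizer ({t} : Set G))
      (fun x => ∑ i ∈ S, c i * f i (π x)) (y⁻¹ * x * y) =
      ∑ i ∈ S, c i * extendByZero (Subgroup.centralizer ({t} : Set G))
        (fun x => f i (π x)) (y⁻¹ * x * y) := by
    intro y
    by_cases hy : y⁻¹ * x * y ∈ Subgroup.centralizer ({t} : Set G)
    · simp only [Core.extendByZero_of_mem _ _ hy]
    · simp only [Core.extendByZero_of_notMem _ _ hy, mul_zero, Finset.sum_const_zero]
  rw [Finset.sum_congr rfl (fun y _ => h1 y), Finset.sum_comm, Finset.mul_sum]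
  refine Finset.sum_congr rfl fun i _ => ?_
  rw [← Finset.mul_sum]
  ring

variable {q : ℕ} {ε : ℤ} {Z T T' U : Subgroup C} {s s' u : C}
  {h : CHyp z q ε Z T T' U s s' u} {b : C →* ℂˣ} {θ : T' →* ℂˣ} {n : ℕ} {μ : U →* ℂˣ}
  {χ : T →* ℂˣ}

/-- The values of `X` on the 2-section of `t`. -/
def Val (h : CHyp z q ε Z T T' U s s' u) (μ : U →* ℂˣ)
    (π : (Subgroup.centralizer ({t} : Set G)) →* C) (X : G → ℂ) (a b : ℂ) : Prop :=
  ∀ (x : Subgroup.centralizer ({t} : Set G)) (y : C), π x = z * y →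
      Odd (orderOf y) → X x = (a * Torus.R T h.base μ (fun _ => 1) y +
        b * Torus.R T' h.base μ (fun _ => 1) y) / 2

variable (H : RTwo.General.Hyp t z π)

include H in
/-- Inner product of a function supported on the 2-section of `t`. -/
theorem classInner_of_val (hμ : ∃ v : U, μ v ≠ 1) {X : G → ℂ} (hX : IsClassFunction G X) {a₀ b₀ : ℂ}
    (hV : Val h μ π X a₀ b₀) {f : C → ℂ} (hf : ∀ x, f x ≠ 0 → Odd (orderOf (z * x))) :
    classInner (Ind π f) X = classInner f (fun x => (a₀ * Torus.R T h.base μ (fun _ => 1) x +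
      b₀ * Torus.R T' h.base μ (fun _ => 1) x) / 2) := by
  refine RTwo.General.classInner_ind_values H hX ?_
  intro x hx
  have h1 := hf _ hx
  have h2 : π x = z * (z * π x) := by rw [← mul_assoc, h.tt, one_mul]
  rw [hV x (z * π x) h2 h1, h.torus.R_one_mul h.torus' rfl h.base hμ h.exhaust h.t_mem,
    h.torus'.R_one_mul h.torus (by ring) h.base hμ h.exh' h.t_mem]

include H in
/-- The coefficient `b` of `X`. -/
theorem val_b (g : Gen h b θ n) (hμ : ∃ v : U, μ v ≠ 1) {X : G → ℂ} (hX : IsClassFunction G X)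
    {a₀ b₀ : ℂ} (hV : Val h μ π X a₀ b₀) {xθ xs : ℤ}
    (h1 : ∀ f ∈ g.Fam μ, classInner (Ind π f) X = xθ)
    (h2 : classInner (Ind π (phi h μ θ (2 ^ (n - 1)))) X = xs) : b₀ = 2 * xθ - xs := by
  have e1 := classInner_of_val H hμ hX hV (f := Torus.R T' h.base μ (sec θ n)) (fun x hx =>
    h.support_T' hμ (P := fun x => Odd (orderOf (z * x))) h.odd_conj h.odd_ZU
      (fun _ hy hy1 => g.sec_odd hy hy1) hx)
  rw [h.inner_T' hμ, g.ssum_sec, inv_mul_cancel₀ Core.card_ne_zero_complex, mul_one, g.R_sec,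
    Ind_sum] at e1
  have e2 : (fun x => ∑ j ∈ Finset.range (2 ^ n), (-(-1 : ℂ) ^ j) * Ind π (phi h μ θ j) x) =
      ∑ j ∈ Finset.range (2 ^ n), (-(-1 : ℂ) ^ j) • Ind π (phi h μ θ j) := by
    funext x
    simp only [Finset.sum_apply, Pi.smul_apply, smul_eq_mul]
  rw [e2, Core.classInner_sum_left] at e1
  have hhalf : 2 ^ (n - 1) < 2 ^ n := by
    have := g.three_le
    exact Nat.pow_lt_pow_right (by norm_num) (by omega)
  have h0 : (0 : ℕ) ≠ 2 ^ (n - 1) := (by positivity : (0 : ℕ) < 2 ^ (n - 1)).ne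
  have hval : ∀ j ∈ Finset.range (2 ^ n), classInner (Ind π (phi h μ θ j)) X =
      xθ + (if j = 0 then -(xθ : ℂ) else 0) + (if j = 2 ^ (n - 1) then (xs : ℂ) - xθ else 0) := by
    intro j hj
    rw [Finset.mem_range] at hj
    by_cases hj0 : j = 0
    · subst hj0
      rw [g.phi_eq_zero ((g.pow_eq_one_iff 0).2 (dvd_zero _)), if_pos rfl, if_neg h0]
      have : Ind π (0 : C → ℂ) = 0 := by
        have := Ind_sum (π := π) (∅ : Finset ℕ) (fun _ => 1) (fun _ => (0 : C → ℂ))
        simp only [Finset.sum_empty] at this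
        exact this
      rw [this, Core.classInner_zero_left]
      ring
    by_cases hj1 : j = 2 ^ (n - 1)
    · rw [hj1, if_neg h0.symm, if_pos rfl, h2]
      ring
    rw [if_neg hj0, if_neg hj1, add_zero, add_zero]
    refine h1 _ (g.phi_mem_Fam ?_)
    rintro ⟨c, hc⟩
    have h3 := g.half_add
    have h4 : (0 : ℕ) < 2 ^ (n - 1) := by positivity
    have h5 : c < 2 := by
      by_contra h6
      have : 2 ^ (n - 1) * 2 ≤ 2 ^ (n - 1) * c := Nat.mul_le_mul_left _ (by omega)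
      omega
    interval_cases c
    · exact hj0 (by rw [hc, mul_zero])
    · exact hj1 (by rw [hc, mul_one])
  have e3 : ∑ j ∈ Finset.range (2 ^ n), classInner ((-(-1 : ℂ) ^ j) • Ind π (phi h μ θ j)) X =
      2 * xθ - xs := by
    have e4 : ∀ j ∈ Finset.range (2 ^ n), classInner ((-(-1 : ℂ) ^ j) • Ind π (phi h μ θ j)) X =
        (-(xθ : ℂ)) * (-1) ^ j + (if j = 0 then (xθ : ℂ) else 0) +
          (if j = 2 ^ (n - 1) then (xθ : ℂ) - xs else 0) := by
      intro j hj
      rw [Core.classInner_smul_left, hval j hj]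
      by_cases hj0 : j = 0
      · subst hj0
        rw [if_pos rfl, if_pos rfl, if_neg h0, if_neg h0]
        ring
      by_cases hj1 : j = 2 ^ (n - 1)
      · rw [if_neg hj0, if_neg hj0, if_pos hj1, if_pos hj1, hj1, g.even_half.neg_one_pow]
        ring
      rw [if_neg hj0, if_neg hj0, if_neg hj1, if_neg hj1]
      ring
    rw [Finset.sum_congr rfl e4, Finset.sum_add_distrib, Finset.sum_add_distrib, ← Finset.mul_sum,
      g.sum_neg_one, Finset.sum_ite_eq', Finset.sum_ite_eq',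
      if_pos (Finset.mem_range.2 (by positivity)), if_pos (Finset.mem_range.2 hhalf)]
    ring
  rw [e3] at e1
  have e5 := congrArg conj e1
  rw [Complex.conj_conj] at e5
  rw [← e5, map_sub, map_mul, map_ofNat, map_intCast, map_intCast]

include H in
/-- The coefficient `a` of `X`. -/
theorem val_a (g : Gen h b θ n) (c : Chi h b χ) (hD : DetHyp q ε T T' U s s' u 2 b)
    (hμ : ∃ v : U, μ v ≠ 1) {X : G → ℂ} (hX : IsClassFunction G X)
    {a₀ b₀ : ℂ} (hV : Val h μ π X a₀ b₀) {xp xs : ℤ}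
    (h1 : classInner (Ind π (psi h μ θ n χ)) X = xp)
    (h2 : classInner (Ind π (phi h μ θ (2 ^ (n - 1)))) X = xs) : a₀ = 2 * xp - xs := by
  have e1 := classInner_of_val H hμ hX hV (f := Torus.R T h.base μ (gT s χ)) (fun x hx =>
    RT_supp g c hD hμ hx)
  rw [h.inner_T hμ, c.ssum_gT hD, inv_mul_cancel₀ Core.card_ne_zero_complex, mul_one] at e1
  have e2 : Ind π (psi h μ θ n χ) =
      (1 / 2 : ℂ) • (Ind π (Torus.R T h.base μ (gT s χ)) + Ind π (phi h μ θ (2 ^ (n - 1)))) := by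
    have h3 := Ind_sum (π := π) (Finset.univ : Finset (Fin 2)) (fun _ => (1 / 2 : ℂ))
      ![Torus.R T h.base μ (gT s χ), phi h μ θ (2 ^ (n - 1))]
    simp only [Fin.sum_univ_two, Matrix.cons_val_zero, Matrix.cons_val_one] at h3
    have h4 : psi h μ θ n χ = fun x => 1 / 2 * Torus.R T h.base μ (gT s χ) x +
        1 / 2 * phi h μ θ (2 ^ (n - 1)) x := by
      funext x
      unfold psi
      simp only [Pi.smul_apply, Pi.add_apply, smul_eq_mul]
      ring
    rw [h4, h3]
    funext x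
    simp only [Pi.smul_apply, Pi.add_apply, smul_eq_mul]
    ring
  rw [e2, Core.classInner_smul_left, Core.classInner_add_left, e1, h2] at h1
  have e3 : conj a₀ = 2 * xp - xs := by linear_combination 2 * h1
  have e5 := congrArg conj e3
  rw [Complex.conj_conj] at e5
  rw [e5, map_sub, map_mul, map_ofNat, map_intCast, map_intCast]

end Ind

end Cfsg.Agent.Classification.InvCent
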