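import Mathlib
import Cfsg.Agent.Classification.InvCent.SDSec
import Cfsg.Agent.Classification.InvCent.SDGram
import Cfsg.Agent.Classification.InvCent.GPair
import Cfsg.Agent.Blocks.ExistsModular

/-!
# The characters of `G`, semidihedral case

`G` has one class of involutions, `π : C(t) → C` has odd kernel, `C` is of type `GL₂(q)/Z₀`
(`ε = 1`) or `GU₂(q)/Z₀` (`ε = -1`), `q - ε ≡ 2 mod 4`.
-/

set_option autoImplicit false
set_option linter.unusedSectionVars false

open Cfsg
open scoped ComplexConjugate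

namespace Cfsg.Agent.Classification.InvCent

open Cfsg.Agent.Characters Cfsg.Agent.Classification.BGIsometry
  Cfsg.Agent.Classification.BGOrder Cfsg.Agent.Classification.BGSplit
  Cfsg.Agent.Classification.BGBlockB0 SDGram GPair

universe w v

section

variable {G : Type w} [Group G] [Fintype G]

theorem InB.neg {B : Set (IrrCharacter G)} {X : G → ℂ} (h : InB B X) : InB B (-X) := by
  obtain ⟨χ, hχ, rfl | rfl⟩ := h
  · exact ⟨χ, hχ, Or.inr rfl⟩
  · exact ⟨χ, hχ, Or.inl (neg_neg _)⟩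

/-- If `1 + A + B` vanishes on the elements of odd order then `A`, `B` are in the principal
block. -/
theorem inB_of_three {M : Ideal AlgInt} (hM : IsPModular 2 M) {A B : G → ℂ} (hA : SignedIrr A)
    (hB : SignedIrr B) (h0 : ∀ g, Odd (orderOf g) → (1 + A + B) g = 0) :
    InB (principalBlock M G) A ∧ InB (principalBlock M G) B := by
  have ho : Odd (orderOf (1 : G)) := by rw [orderOf_one]; exact odd_one
  have hcl : IsClassFunction G (1 + A + B) := by
    intro g k
    simp only [Pi.add_apply, Pi.one_apply]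
    rw [isClassFunction_signed hA g k, isClassFunction_signed hB g k]
  have h1 := blockPart_odd hM hcl h0 ho
  rw [blockPart_add, blockPart_add, blockPart_of_inB (one_inB hM)] at h1
  simp only [Pi.add_apply, Pi.one_apply] at h1
  have h2 := h0 1 ho
  simp only [Pi.add_apply, Pi.one_apply] at h2
  have hA1 := hA.apply_one_ne_zero
  have hB1 := hB.apply_one_ne_zero
  rcases blockPart_cases (principalBlock M G) hA with ⟨a1, a2⟩ | ⟨a1, a2⟩ <;>
    rcases blockPart_cases (principalBlock M G) hB with ⟨b1, b2⟩ | ⟨b1, b2⟩ <;>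
    rw [a2, b2] at h1
  · exact ⟨a1, b1⟩
  · simp only [Pi.zero_apply, add_zero] at h1
    exact absurd (by linear_combination h2 - h1) hB1
  · simp only [Pi.zero_apply, add_zero] at h1
    exact absurd (by linear_combination h2 - h1) hA1
  · simp only [Pi.zero_apply, add_zero] at h1
    exact absurd h1 one_ne_zero

/-- The fourth constituent. -/
theorem inB_of_four {M : Ideal AlgInt} (hM : IsPModular 2 M) {A B D : G → ℂ}
    (hA : InB (principalBlock M G) A) (hB : InB (principalBlock M G) B) (hD : SignedIrr D)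
    (h0 : ∀ g, Odd (orderOf g) → (1 + A + B + D) g = 0) : InB (principalBlock M G) D := by
  have ho : Odd (orderOf (1 : G)) := by rw [orderOf_one]; exact odd_one
  have hcl : IsClassFunction G (1 + A + B + D) := by
    intro g k
    simp only [Pi.add_apply, Pi.one_apply]
    rw [isClassFunction_signed hA.signedIrr g k, isClassFunction_signed hB.signedIrr g k,
      isClassFunction_signed hD g k]
  have h1 := blockPart_odd hM hcl h0 ho
  rw [blockPart_add, blockPart_add, blockPart_add, blockPart_of_inB (one_inB hM),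
    blockPart_of_inB hA, blockPart_of_inB hB] at h1
  have h2 := h0 1 ho
  rcases blockPart_cases (principalBlock M G) hD with ⟨a1, a2⟩ | ⟨a1, a2⟩
  · exact a1
  · exfalso
    rw [a2] at h1
    simp only [Pi.add_apply, Pi.one_apply, Pi.zero_apply, add_zero] at h1 h2
    exact hD.apply_one_ne_zero (by linear_combination h2 - h1)

end

section

variable {G : Type w} [Group G] [Fintype G] {C : Type v} [Group C] [Fintype C] {t : G} {z : C}
  {π : (Subgroup.centralizer ({t} : Set G)) →* C}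
  {q : ℕ} {ε : ℤ} {Z T T' U : Subgroup C} {s s' u : C}
  {h : CHyp z q ε Z T T' U s s' u} {b : C →* ℂˣ} {θ : T' →* ℂˣ} {n : ℕ} {μ : U →* ℂˣ}
  {χ : T →* ℂˣ}

open Classical in
/-- The Gram data. -/
theorem sdHyp (H : RTwo.General.Hyp t z π) (g : Gen h b θ n) (c : Chi h b χ)
    (hD : DetHyp q ε T T' U s s' u 2 b) (hμ : ∃ v : U, μ v ≠ 1) :
    SDHyp (fun f : g.Fam μ => Ind π f.1) (Ind π (phi h μ θ (2 ^ (n - 1))))
      (Ind π (psi h μ θ n χ)) := by
  have cF : ∀ f ∈ g.Fam μ, IsClassFunction C f := by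
    rintro f ⟨j, hj, rfl⟩; exact g.phi_class j
  have sF : ∀ f ∈ g.Fam μ, ∀ x, f x ≠ 0 → z ∈ Subgroup.zpowers x := by
    rintro f ⟨j, hj, rfl⟩ x hx; exact g.phi_supp hμ j hx
  have gF : ∀ f ∈ g.Fam μ, IsGeneralizedCharacter C f := by
    rintro f ⟨j, hj, rfl⟩; exact g.phi_gen j
  have cs : IsClassFunction C (phi h μ θ (2 ^ (n - 1))) := g.phi_class _
  have ss : ∀ x, phi h μ θ (2 ^ (n - 1)) x ≠ 0 → z ∈ Subgroup.zpowers x :=
    fun x hx => g.phi_supp hμ _ hx
  have gp := psi_gen g c hD hμ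
  have cp : IsClassFunction C (psi h μ θ n χ) := isClass_of_generalized gp
  have sp : ∀ x, psi h μ θ n χ x ≠ 0 → z ∈ Subgroup.zpowers x :=
    fun x hx => psi_supp g c hD hμ hx
  refine
    { gΦ := fun f => RTwo.General.isGeneralized_ind_comp (gF f.1 f.2)
      gS := RTwo.General.isGeneralized_ind_comp (g.phi_gen _)
      gP := RTwo.General.isGeneralized_ind_comp gp
      oneΦ := fun f => RTwo.General.ind_one H (sF f.1 f.2)
      oneS := RTwo.General.ind_one H ss
      oneP := RTwo.General.ind_one H sp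
      ΦΦ := fun f f' => ?_
      ΦS := fun f => ?_
      SS := ?_
      PP := ?_
      PΦ := fun f => ?_
      PS := ?_
      trivΦ := fun f => ?_
      trivS := ?_
      trivP := ?_ }
  · have := RTwo.General.classInner_ind_comp H (cF f.1 f.2) (cF f'.1 f'.2) (sF f.1 f.2)
      (sF f'.1 f'.2)
    unfold Ind
    rw [this]
    by_cases hff : f = f'
    · rw [if_pos hff, hff]; exact g.Fam_self hμ f'.2
    · rw [if_neg hff]; exact g.Fam_ne hμ f.2 f'.2 (fun h1 => hff (Subtype.ext h1))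
  · exact (RTwo.General.classInner_ind_comp H (cF f.1 f.2) cs (sF f.1 f.2) ss).trans
      (g.Fam_phis hμ f.2)
  · exact (RTwo.General.classInner_ind_comp H cs cs ss ss).trans (g.phis_self hμ)
  · exact (RTwo.General.classInner_ind_comp H cp cp sp sp).trans (psi_self g c hD hμ)
  · exact (RTwo.General.classInner_ind_comp H cp (cF f.1 f.2) sp (sF f.1 f.2)).trans
      (psi_Fam g c hD hμ f.2)
  · exact (RTwo.General.classInner_ind_comp H cp cs sp ss).trans (psi_phis g c hD hμ)
  · exact (RTwo.General.classInner_ind_one H).trans (g.Fam_one hμ f.2)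
  · exact (RTwo.General.classInner_ind_one H).trans (g.phi_one hμ g.half_ne_one)
  · exact (RTwo.General.classInner_ind_one H).trans (psi_one g c hD hμ)

/-- Class formula for three constituents. -/
theorem cf_three (H : RTwo.General.Hyp t z π) (hC : CHyp z q ε Z T T' U s s' u) {f : C → ℂ}
    (hf : ∀ x, f x ≠ 0 → z ∈ Subgroup.zpowers x) {A B : G → ℂ} (hA : SignedIrr A)
    (hB : SignedIrr B) (hE : Ind π f = 1 + A + B) :
    ((Subgroup.centralizer ({t} : Set G)).index : ℂ) * (1 + A t ^ 2 / A 1 + B t ^ 2 / B 1) =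
      (kap π u : ℂ) ^ 2 * pairSum z f := by
  have h1 := classFormula H hC hf (Finset.univ : Finset (Fin 3)) (fun _ => 1)
    ![(1 : G → ℂ), A, B] (by
      intro j _
      fin_cases j
      · exact signedIrr_one
      · exact hA
      · exact hB) (by
      have : indFun (Subgroup.centralizer ({t} : Set G)) (fun x => f (π x)) = 1 + A + B := hE
      rw [this]
      funext x
      simp [Fin.sum_univ_three])
  rw [← h1]
  congr 1
  simp [Fin.sum_univ_three]

/-- Class formula for four constituents. -/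
theorem cf_four (H : RTwo.General.Hyp t z π) (hC : CHyp z q ε Z T T' U s s' u) {f : C → ℂ}
    (hf : ∀ x, f x ≠ 0 → z ∈ Subgroup.zpowers x) {A B D : G → ℂ} (hA : SignedIrr A)
    (hB : SignedIrr B) (hD : SignedIrr D) (hE : Ind π f = 1 + A + B + D) :
    ((Subgroup.centralizer ({t} : Set G)).index : ℂ) *
      (1 + A t ^ 2 / A 1 + B t ^ 2 / B 1 + D t ^ 2 / D 1) =
      (kap π u : ℂ) ^ 2 * pairSum z f := by
  have h1 := classFormula H hC hf (Finset.univ : Finset (Fin 4)) (fun _ => 1)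
    ![(1 : G → ℂ), A, B, D] (by
      intro j _
      fin_cases j
      · exact signedIrr_one
      · exact hA
      · exact hB
      · exact hD) (by
      have : indFun (Subgroup.centralizer ({t} : Set G)) (fun x => f (π x)) = 1 + A + B + D := hE
      rw [this]
      funext x
      simp [Fin.sum_univ_four])
  rw [← h1]
  congr 1
  simp [Fin.sum_univ_four]

/-- The value at `t`. -/
theorem Val.apply_t (H : RTwo.General.Hyp t z π) {X : G → ℂ} {a₀ b₀ : ℂ}
    (hV : Val h μ π X a₀ b₀) : X t = (a₀ * (1 + ε * q) + b₀ * (1 - ε * q)) / 2 := by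
  have h1 := hV (RTwo.General.tt t) 1 (by rw [RTwo.General.map_tt H, mul_one])
    (by rw [orderOf_one]; exact odd_one)
  rw [h.torus.R_Z h.base _ (one_mem Z), h.torus'.R_Z h.base _ (one_mem Z)] at h1
  have h2 : X t = X (RTwo.General.tt t : Subgroup.centralizer ({t} : Set G)) := rfl
  rw [h2, h1]
  push_cast
  ring

/-- The induced function at the elements having `t` as a power. -/
theorem Ind_apply (H : RTwo.General.Hyp t z π) {f : C → ℂ} (hfc : IsClassFunction C f)
    (hf : ∀ x, f x ≠ 0 → z ∈ Subgroup.zpowers x) {x : Subgroup.centralizer ({t} : Set G)}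
    (hx : z ∈ Subgroup.zpowers (π x)) : Ind π f (x : G) = f (π x) :=
  indFun_eq H.orderOf_t (isClassFunction_comp π hfc) (RTwo.General.supp_comp H hf)
    (RTwo.General.mem_zpowers_of_map H hx)

theorem Ind_t (H : RTwo.General.Hyp t z π) {f : C → ℂ} (hfc : IsClassFunction C f)
    (hf : ∀ x, f x ≠ 0 → z ∈ Subgroup.zpowers x) : Ind π f t = f z := by
  have h1 := Ind_apply H hfc hf (x := RTwo.General.tt t)
    (by rw [RTwo.General.map_tt H]; exact Subgroup.mem_zpowers z)
  rw [RTwo.General.map_tt H] at h1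
  exact h1

theorem Ind_odd (H : RTwo.General.Hyp t z π) {f : C → ℂ}
    (hf : ∀ x, f x ≠ 0 → z ∈ Subgroup.zpowers x) {g : G} (hg : Odd (orderOf g)) :
    Ind π f g = 0 := RTwo.General.ind_odd H hf hg

/-- The values of `phi j` on the 2-section of the central involution. -/
theorem Gen.phi_section (g : Gen h b θ n) (hμ : ∃ v : U, μ v ≠ 1) (j : ℕ) {y : C}
    (hy : Odd (orderOf y)) :
    phi h μ θ j (z * y) = (1 - (-1) ^ j) * Torus.R T' h.base μ (fun _ => 1) y := by
  obtain ⟨c, hc⟩ := h.exhaust y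
  have e0 : c * (z * y) * c⁻¹ = z * (c * y * c⁻¹) := by
    calc c * (z * y) * c⁻¹ = (c * z) * y * c⁻¹ := by group
      _ = z * (c * y * c⁻¹) := by rw [h.Z_central z h.t_mem c]; group
  rw [← g.phi_class j (z * y) c, ← Torus.R_isClassFunction h.base _ y c, e0]
  have hyo : Odd (orderOf (c * y * c⁻¹)) := by
    rwa [← (SemiconjBy.orderOf_eq c (x := y) (y := c * y * c⁻¹) (by simp [SemiconjBy]))]
  generalize c * y * c⁻¹ = w at hc hyo
  have hzw : ∀ {w : C}, w ∉ Z → z * w ∉ Z :=
    fun hw h1 => hw ((Z.mul_mem_cancel_left h.t_mem).1 h1)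
  have hval : ∀ {w : C}, w ∈ T' → Odd (orderOf w) → lin (θ ^ j) (z * w) = (-1) ^ j := by
    intro w hw ho
    rw [lin_mul _ (h.Z_le_T' h.t_mem) hw, g.lin_pow_t, lin_pow_hom _ _ hw, g.lin_odd hw ho,
      one_pow, mul_one]
  have hne : ε ≠ -ε := by rcases h.eps with h1 | h1 <;> rw [h1] <;> norm_num
  unfold phi
  rcases hc with hw | hw | ⟨a, ha, v, hv, hw⟩
  · by_cases hwZ : w ∈ Z
    · rw [h.torus'.R_Z h.base _ (mul_mem h.t_mem hwZ), h.torus'.R_Z h.base _ hwZ,
        hval (h.Z_le_T' hwZ) hyo]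
      ring
    · rw [h.torus'.R_T' h.torus hne h.base _ (mul_mem (h.Z_le_T h.t_mem) hw) (hzw hwZ),
        h.torus'.R_T' h.torus hne h.base _ hw hwZ, mul_zero]
  · by_cases hwZ : w ∈ Z
    · rw [h.torus'.R_Z h.base _ (mul_mem h.t_mem hwZ), h.torus'.R_Z h.base _ hwZ,
        hval (h.Z_le_T' hwZ) hyo]
      ring
    · have hsw := h.torus'.s_conj w hw
      have hso : Odd (orderOf (s' * w * s'⁻¹)) := by
        rwa [← (SemiconjBy.orderOf_eq s' (x := w) (y := s' * w * s'⁻¹) (by simp [SemiconjBy]))]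
      have e1 : s' * (z * w) * s'⁻¹ = z * (s' * w * s'⁻¹) := by
        calc s' * (z * w) * s'⁻¹ = (s' * z) * w * s'⁻¹ := by group
          _ = z * (s' * w * s'⁻¹) := by rw [h.Z_central z h.t_mem s']; group
      rw [h.torus'.R_T h.base _ (mul_mem (h.Z_le_T' h.t_mem) hw) (hzw hwZ),
        h.torus'.R_T h.base _ hw hwZ, e1, hval hw hyo, hval hsw hso]
      ring
  · subst hw
    have hao : Odd (orderOf a) := by
      have h1 : (a * v) ^ orderOf (a * v) = 1 := pow_orderOf_eq_one _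
      rw [(show Commute a v from (h.Z_central a ha v).symm).mul_pow] at h1
      have h2 : a ^ orderOf (a * v) = 1 := by
        refine h.base.eq_one_of_mem (pow_mem ha _) ?_
        rw [eq_inv_of_mul_eq_one_left h1]
        exact inv_mem (pow_mem hv _)
      exact hyo.of_dvd_nat (orderOf_dvd_of_pow_eq_one h2)
    rw [← mul_assoc]
    by_cases hv1 : v = 1
    · rw [hv1, mul_one, mul_one, h.torus'.R_Z h.base _ (mul_mem h.t_mem ha),
        h.torus'.R_Z h.base _ ha, hval (h.Z_le_T' ha) hao]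
      ring
    · rw [h.torus'.R_ZU h.base hμ _ (mul_mem h.t_mem ha) hv hv1,
        h.torus'.R_ZU h.base hμ _ ha hv hv1, hval (h.Z_le_T' ha) hao]
      ring

/-- The characters of `G` in the semidihedral case. -/
structure SDRes (M : Ideal AlgInt) (h : CHyp z q ε Z T T' U s s' u) (μ : U →* ℂˣ)
    (π : (Subgroup.centralizer ({t} : Set G)) →* C) (X₂ X₃ X₄ X₅ L : G → ℂ) (f x : ℤ) : Prop where
  in₂ : InB (principalBlock M G) X₂
  in₃ : InB (principalBlock M G) X₃
  in₄ : InB (principalBlock M G) X₄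
  in₅ : InB (principalBlock M G) X₅
  inL : InB (principalBlock M G) L
  val₂ : Val h μ π X₂ 1 (-1)
  val₃ : Val h μ π X₃ 2 0
  val₄ : Val h μ π X₄ 1 (-1)
  val₅ : Val h μ π X₅ 1 1
  valL : Val h μ π L 0 2
  odd_L : ∀ g, Odd (orderOf g) → 1 - X₂ g + L g = 0
  odd_S : ∀ g, Odd (orderOf g) → 1 - X₂ g + X₄ g - X₅ g = 0
  odd_P : ∀ g, Odd (orderOf g) → 1 + X₃ g + X₄ g = 0
  one₂ : X₂ 1 = f
  one₄ : X₄ 1 = x
  t₂ : X₂ t = ε * q
  t₃ : X₃ t = 1 + ε * q
  t₄ : X₄ t = ε * q
  t₅ : X₅ t = 1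
  tL : L t = 1 - ε * q
  f_ne_zero : f ≠ 0
  f_ne_one : f ≠ 1
  x_ne_zero : x ≠ 0
  x_ne : x ≠ -1
  f_ne_x : f ≠ x
  eqA : ((Subgroup.centralizer ({t} : Set G)).index : ℤ) * (f - ε * q) ^ 2 =
    (kap π u : ℤ) ^ 2 * ((ε * q) * (ε * q - 1) * (ε * q + 1) ^ 2 * f * (f - 1))
  eqB : x * (f - (ε * q) ^ 2) = -(ε * q) ^ 2 * (f - 1)

theorem Val.add {X Y : G → ℂ} {a₀ b₀ a₁ b₁ : ℂ} (hX : Val h μ π X a₀ b₀) (hY : Val h μ π Y a₁ b₁) :
    Val h μ π (X + Y) (a₀ + a₁) (b₀ + b₁) := by
  intro x y hx hy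
  rw [Pi.add_apply, hX x y hx hy, hY x y hx hy]
  ring

theorem Val.sub {X Y : G → ℂ} {a₀ b₀ a₁ b₁ : ℂ} (hX : Val h μ π X a₀ b₀) (hY : Val h μ π Y a₁ b₁) :
    Val h μ π (X - Y) (a₀ - a₁) (b₀ - b₁) := by
  intro x y hx hy
  rw [Pi.sub_apply, hX x y hx hy, hY x y hx hy]
  ring

theorem Val.one (hμ : ∃ v : U, μ v ≠ 1) : Val h μ π (1 : G → ℂ) 1 1 := by
  intro x y _ _
  rw [Pi.one_apply, one_mul, one_mul]
  exact h.two_one hμ y

theorem exists_sdRes (H : RTwo.General.Hyp t z π) (h : CHyp z q ε Z T T' U s s' u)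
    (hD : DetHyp q ε T T' U s s' u 2 b) {M : Ideal AlgInt} (hM : IsPModular 2 M)
    (hlin : ∀ X : G → ℂ, SignedIrr X → X 1 = 1 → X = 1) :
    ∃ (μ : U →* ℂˣ) (_ : ∃ v : U, μ v ≠ 1) (X₂ X₃ X₄ X₅ L : G → ℂ) (f x : ℤ),
      SDRes M h μ π X₂ X₃ X₄ X₅ L f x := by
  classical
  obtain ⟨μ, hμ⟩ := h.base.exists_mu
  obtain ⟨θ, n, g⟩ := exists_gen h hD
  obtain ⟨χ, c⟩ := exists_chi h hD
  refine ⟨μ, hμ, ?_⟩
  let _ : Fintype (g.Fam μ) := g.Fam_finite.fintype
  have hcard : 3 ≤ Fintype.card (g.Fam μ) := by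
    obtain ⟨f₁, h1, f₂, h2, f₃, h3, h12, h13, h23⟩ := g.exists_three hμ
    have : 2 < Fintype.card (g.Fam μ) := Fintype.two_lt_card_iff.2
      ⟨⟨f₁, h1⟩, ⟨f₂, h2⟩, ⟨f₃, h3⟩, fun e => h12 (congrArg Subtype.val e),
        fun e => h13 (congrArg Subtype.val e), fun e => h23 (congrArg Subtype.val e)⟩
    omega
  obtain ⟨X₂, X₃, X₄, X₅, L, S⟩ := exists_sdSplit hcard (sdHyp H g c hD hμ)
  -- supports
  have hj1 : ¬ 2 ^ (n - 1) ∣ 1 := by
    intro h1
    have h2 := Nat.le_of_dvd one_pos h1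
    have h3 : 1 < 2 ^ (n - 1) := Nat.one_lt_two_pow (by have := g.three_le; omega)
    omega
  let i₁ : g.Fam μ := ⟨phi h μ θ 1, g.phi_mem_Fam hj1⟩
  have s1 : ∀ x, phi h μ θ 1 x ≠ 0 → z ∈ Subgroup.zpowers x := fun x hx => g.phi_supp hμ _ hx
  have ss : ∀ x, phi h μ θ (2 ^ (n - 1)) x ≠ 0 → z ∈ Subgroup.zpowers x :=
    fun x hx => g.phi_supp hμ _ hx
  have sp : ∀ x, psi h μ θ n χ x ≠ 0 → z ∈ Subgroup.zpowers x :=
    fun x hx => psi_supp g c hD hμ hx
  have oddL : ∀ g, Odd (orderOf g) → 1 - X₂ g + L i₁ g = 0 := by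
    intro g hg
    have h1 := congrFun (S.eqΦ i₁) g
    rw [Ind_odd H s1 hg] at h1
    exact h1.symm
  have oddS : ∀ g, Odd (orderOf g) → 1 - X₂ g + X₄ g - X₅ g = 0 := by
    intro g hg
    have h1 := congrFun S.eqS g
    rw [Ind_odd H ss hg] at h1
    exact h1.symm
  have oddP : ∀ g, Odd (orderOf g) → 1 + X₃ g + X₄ g = 0 := by
    intro g hg
    have h1 := congrFun S.eqP g
    rw [Ind_odd H sp hg] at h1
    exact h1.symm
  -- blocks
  obtain ⟨in2', inL⟩ := inB_of_three hM (signed_neg S.s₂) (S.sL i₁) (fun g hg => by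
    have := oddL g hg
    simp only [Pi.add_apply, Pi.one_apply, Pi.neg_apply]
    linear_combination this)
  have in2 : InB (principalBlock M G) X₂ := by
    have := InB.neg in2'
    rwa [neg_neg] at this
  obtain ⟨in3, in4⟩ := inB_of_three hM S.s₃ S.s₄ (fun g hg => oddP g hg)
  have in5 : InB (principalBlock M G) X₅ := by
    have h1 := inB_of_four hM in2' in4 (signed_neg S.s₅) (fun g hg => by
      have := oddS g hg
      simp only [Pi.add_apply, Pi.one_apply, Pi.neg_apply]
      linear_combination this)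
    have := InB.neg h1
    rwa [neg_neg] at this
  -- inner products
  have e22 := signed_self S.s₂
  have e33 := signed_self S.s₃
  have e44 := signed_self S.s₄
  have e55 := signed_self S.s₅
  have y12 := inner_symm_zero S.one₂
  have y13 := inner_symm_zero S.one₃
  have y14 := inner_symm_zero S.one₄
  have y15 := inner_symm_zero S.one₅
  have y32 := inner_symm_zero S.x₂₃
  have y42 := inner_symm_zero S.x₂₄
  have y52 := inner_symm_zero S.x₂₅
  have y43 := inner_symm_zero S.x₃₄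
  have y53 := inner_symm_zero S.x₃₅
  have y54 := inner_symm_zero S.x₄₅
  have F2 : ∀ f ∈ g.Fam μ, classInner (Ind π f) X₂ = ((-1 : ℤ) : ℂ) := by
    intro f hf
    have h1 := S.eqΦ ⟨f, hf⟩
    simp only at h1
    rw [h1, Core.classInner_add_left, Core.classInner_sub_left, y12, e22, S.L₂]
    norm_num
  have F3 : ∀ f ∈ g.Fam μ, classInner (Ind π f) X₃ = ((0 : ℤ) : ℂ) := by
    intro f hf
    have h1 := S.eqΦ ⟨f, hf⟩
    simp only at h1
    rw [h1, Core.classInner_add_left, Core.classInner_sub_left, y13, S.x₂₃, S.L₃]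
    norm_num
  have F4 : ∀ f ∈ g.Fam μ, classInner (Ind π f) X₄ = ((0 : ℤ) : ℂ) := by
    intro f hf
    have h1 := S.eqΦ ⟨f, hf⟩
    simp only at h1
    rw [h1, Core.classInner_add_left, Core.classInner_sub_left, y14, S.x₂₄, S.L₄]
    norm_num
  have F5 : ∀ f ∈ g.Fam μ, classInner (Ind π f) X₅ = ((0 : ℤ) : ℂ) := by
    intro f hf
    have h1 := S.eqΦ ⟨f, hf⟩
    simp only at h1
    rw [h1, Core.classInner_add_left, Core.classInner_sub_left, y15, S.x₂₅, S.L₅]
    norm_num
  have S2 : classInner (Ind π (phi h μ θ (2 ^ (n - 1)))) X₂ = ((-1 : ℤ) : ℂ) := by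
    rw [S.eqS, Core.classInner_sub_left, Core.classInner_add_left, Core.classInner_sub_left,
      y12, e22, y42, y52]
    norm_num
  have S3 : classInner (Ind π (phi h μ θ (2 ^ (n - 1)))) X₃ = ((0 : ℤ) : ℂ) := by
    rw [S.eqS, Core.classInner_sub_left, Core.classInner_add_left, Core.classInner_sub_left,
      y13, S.x₂₃, y43, y53]
    norm_num
  have S4 : classInner (Ind π (phi h μ θ (2 ^ (n - 1)))) X₄ = ((1 : ℤ) : ℂ) := by
    rw [S.eqS, Core.classInner_sub_left, Core.classInner_add_left, Core.classInner_sub_left,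
      y14, S.x₂₄, e44, y54]
    norm_num
  have S5 : classInner (Ind π (phi h μ θ (2 ^ (n - 1)))) X₅ = ((-1 : ℤ) : ℂ) := by
    rw [S.eqS, Core.classInner_sub_left, Core.classInner_add_left, Core.classInner_sub_left,
      y15, S.x₂₅, S.x₄₅, e55]
    norm_num
  have P2 : classInner (Ind π (psi h μ θ n χ)) X₂ = ((0 : ℤ) : ℂ) := by
    rw [S.eqP, Core.classInner_add_left, Core.classInner_add_left, y12, y32, y42]
    norm_num
  have P3 : classInner (Ind π (psi h μ θ n χ)) X₃ = ((1 : ℤ) : ℂ) := by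
    rw [S.eqP, Core.classInner_add_left, Core.classInner_add_left, y13, e33, y43]
    norm_num
  have P4 : classInner (Ind π (psi h μ θ n χ)) X₄ = ((1 : ℤ) : ℂ) := by
    rw [S.eqP, Core.classInner_add_left, Core.classInner_add_left, y14, S.x₃₄, e44]
    norm_num
  have P5 : classInner (Ind π (psi h μ θ n χ)) X₅ = ((0 : ℤ) : ℂ) := by
    rw [S.eqP, Core.classInner_add_left, Core.classInner_add_left, y15, S.x₃₅, S.x₄₅]
    norm_num
  -- values
  have V2 : Val h μ π X₂ 1 (-1) := by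
    obtain ⟨a₀, b₀, hV⟩ := blockEval H h hM in2 hμ
    have hb := val_b H g hμ (isClassFunction_signed S.s₂) hV F2 S2
    have ha := val_a H g c hD hμ (isClassFunction_signed S.s₂) hV P2 S2
    have e1 : a₀ = 1 := by rw [ha]; norm_num
    have e2 : b₀ = -1 := by rw [hb]; norm_num
    subst e1 e2
    exact hV
  have V3 : Val h μ π X₃ 2 0 := by
    obtain ⟨a₀, b₀, hV⟩ := blockEval H h hM in3 hμ
    have hb := val_b H g hμ (isClassFunction_signed S.s₃) hV F3 S3
    have ha := val_a H g c hD hμ (isClassFunction_signed S.s₃) hV P3 S3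
    have e1 : a₀ = 2 := by rw [ha]; norm_num
    have e2 : b₀ = 0 := by rw [hb]; norm_num
    subst e1 e2
    exact hV
  have V4 : Val h μ π X₄ 1 (-1) := by
    obtain ⟨a₀, b₀, hV⟩ := blockEval H h hM in4 hμ
    have hb := val_b H g hμ (isClassFunction_signed S.s₄) hV F4 S4
    have ha := val_a H g c hD hμ (isClassFunction_signed S.s₄) hV P4 S4
    have e1 : a₀ = 1 := by rw [ha]; norm_num
    have e2 : b₀ = -1 := by rw [hb]; norm_num
    subst e1 e2
    exact hV
  have V5 : Val h μ π X₅ 1 1 := by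
    obtain ⟨a₀, b₀, hV⟩ := blockEval H h hM in5 hμ
    have hb := val_b H g hμ (isClassFunction_signed S.s₅) hV F5 S5
    have ha := val_a H g c hD hμ (isClassFunction_signed S.s₅) hV P5 S5
    have e1 : a₀ = 1 := by rw [ha]; norm_num
    have e2 : b₀ = 1 := by rw [hb]; norm_num
    subst e1 e2
    exact hV
  have VL : Val h μ π (L i₁) 0 2 := by
    have h1 : Val h μ π (Ind π (phi h μ θ 1)) 0 4 := by
      intro x y hx hy
      have h2 : z ∈ Subgroup.zpowers (π x) := by
        refine h.zpowers_of_odd ?_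
        rw [hx, ← mul_assoc, h.tt, one_mul]
        exact hy
      rw [Ind_apply H (g.phi_class 1) s1 h2, hx, g.phi_section hμ 1 hy]
      ring
    have h2 : L i₁ = Ind π (phi h μ θ 1) - 1 + X₂ := by
      have h3 := S.eqΦ i₁
      have h4 : Ind π (phi h μ θ 1) = 1 - X₂ + L i₁ := h3
      rw [h4]
      abel
    rw [h2]
    have h3 := (h1.sub (Val.one (h := h) (π := π) hμ)).add V2
    have e1 : (0 : ℂ) - 1 + 1 = 0 := by norm_num
    have e2 : (4 : ℂ) - 1 + -1 = 2 := by norm_num
    rw [e1, e2] at h3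
    exact h3
  -- values at `t`
  have t2 : X₂ t = ε * q := by rw [V2.apply_t H]; ring
  have t3 : X₃ t = 1 + ε * q := by rw [V3.apply_t H]; ring
  have t4 : X₄ t = ε * q := by rw [V4.apply_t H]; ring
  have t5 : X₅ t = 1 := by rw [V5.apply_t H]; ring
  have tL : L i₁ t = 1 - ε * q := by rw [VL.apply_t H]; ring
  -- degrees
  obtain ⟨f, hf0, hf⟩ := InvCent.WreathedGram.signed_degree S.s₂
  obtain ⟨x, hx0, hx⟩ := InvCent.WreathedGram.signed_degree S.s₄
  have ho : Odd (orderOf (1 : G)) := by rw [orderOf_one]; exact odd_one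
  have dL : L i₁ 1 = f - 1 := by
    have := oddL 1 ho
    rw [hf] at this
    linear_combination this
  have d3 : X₃ 1 = -1 - x := by
    have := oddP 1 ho
    rw [hx] at this
    linear_combination this
  have d5 : X₅ 1 = 1 - f + x := by
    have := oddS 1 ho
    rw [hf, hx] at this
    linear_combination -this
  have hf1 : f ≠ 1 := by
    rintro rfl
    exact (S.sL i₁).apply_one_ne_zero (by rw [dL]; norm_num)
  have hx1 : x ≠ -1 := by
    rintro rfl
    exact S.s₃.apply_one_ne_zero (by rw [d3]; norm_num)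
  have hfx : f ≠ x := by
    rintro rfl
    have h1 : X₅ = 1 := hlin X₅ S.s₅ (by rw [d5]; ring)
    have h2 := S.one₅
    rw [h1, InvCent.WreathedGram.one_one] at h2
    exact one_ne_zero h2
  have cf0 : (f : ℂ) ≠ 0 := by exact_mod_cast hf0
  have cx0 : (x : ℂ) ≠ 0 := by exact_mod_cast hx0
  have cf1 : (f : ℂ) - 1 ≠ 0 := by
    intro h1
    exact hf1 (by exact_mod_cast sub_eq_zero.1 h1)
  have c5 : (1 : ℂ) - f + x ≠ 0 := by
    rw [← d5]
    exact S.s₅.apply_one_ne_zero
  have hε : (ε : ℂ) * ε = 1 := by exact_mod_cast h.torus.sq_sign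
  have hn0 : ((Subgroup.centralizer ({t} : Set G)).index : ℂ) ≠ 0 := by
    have : (Subgroup.centralizer ({t} : Set G)).index ≠ 0 := Subgroup.index_ne_zero_of_finite
    exact_mod_cast this
  refine ⟨X₂, X₃, X₄, X₅, L i₁, f, x,
    { in₂ := in2, in₃ := in3, in₄ := in4, in₅ := in5, inL := inL, val₂ := V2, val₃ := V3,
      val₄ := V4, val₅ := V5, valL := VL, odd_L := oddL, odd_S := oddS, odd_P := oddP,
      one₂ := hf, one₄ := hx, t₂ := t2, t₃ := t3, t₄ := t4, t₅ := t5, tL := tL,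
      f_ne_zero := hf0, f_ne_one := hf1, x_ne_zero := hx0, x_ne := hx1, f_ne_x := hfx,
      eqA := ?_, eqB := ?_ }⟩
  · have h1 : Ind π (phi h μ θ 1) = 1 + -X₂ + L i₁ := by
      rw [← sub_eq_add_neg]
      exact S.eqΦ i₁
    have h2 := cf_three H h s1 (signed_neg S.s₂) (S.sL i₁) h1
    rw [g.pairSum_phi hμ hj1, Pi.neg_apply, Pi.neg_apply, t2, tL, hf, dL] at h2
    have h3 : (((Subgroup.centralizer ({t} : Set G)).index : ℤ) * (f - ε * q) ^ 2 : ℤ) =
      (((kap π u : ℤ) ^ 2 * ((ε * q) * (ε * q - 1) * (ε * q + 1) ^ 2 * f * (f - 1)) : ℤ) : ℂ) := by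
      push_cast
      field_simp at h2
      linear_combination h2 - (kap π u : ℂ) ^ 2 * f * (f - 1) *
        (((ε : ℂ) ^ 2 + 1) * q ^ 4 + ε * q ^ 3 - q ^ 2) * hε
    exact_mod_cast h3
  · have h1 : Ind π (phi h μ θ (2 ^ (n - 1))) = 1 + -X₂ + X₄ + -X₅ := by
      rw [← sub_eq_add_neg, ← sub_eq_add_neg]
      exact S.eqS
    have h2 := cf_four H h ss (signed_neg S.s₂) S.s₄ (signed_neg S.s₅) h1
    rw [g.pairSum_phis hD hμ, mul_zero] at h2
    have h3 := (mul_eq_zero.1 h2).resolve_left hn0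
    simp only [Pi.neg_apply] at h3
    rw [t2, t4, t5, hf, hx, d5] at h3
    have h4 : ((x : ℂ) - f) * (f * x - (ε * q) ^ 2 * (1 - f + x)) = 0 := by
      field_simp at h3
      linear_combination h3
    have h5 : (x : ℂ) - f ≠ 0 := by
      intro h6
      apply hfx
      have : (x : ℂ) = f := sub_eq_zero.1 h6
      exact_mod_cast this.symm
    have h6 := (mul_eq_zero.1 h4).resolve_left h5
    have h7 : ((x * (f - (ε * q) ^ 2) : ℤ) : ℂ) = ((-(ε * q) ^ 2 * (f - 1) : ℤ) : ℂ) := by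
      push_cast
      linear_combination h6
    exact_mod_cast h7

end

end Cfsg.Agent.Classification.InvCent
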