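import Mathlib
import Cfsg.Agent.Classification.InvCent.SDMain

/-!
# The parameter `k` of the semidihedral case

`k = Q (Q² - 1) / (f - Q)`, `Q = ε q`.
-/

set_option autoImplicit false
set_option linter.unusedSectionVars false

open Cfsg

namespace Cfsg.Agent.Classification.InvCent.SDElim

theorem dvd_of_quad {a c α β : ℤ} (hc : c ≠ 0) (h : a ^ 2 + α * a * c + β * c ^ 2 = 0) : c ∣ a := by
  have hg : 0 < Int.gcd a c := Int.gcd_pos_of_ne_zero_right _ hc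
  obtain ⟨a', c', hcop, ha, hc'⟩ := Int.exists_gcd_one hg
  set d : ℤ := (Int.gcd a c : ℤ) with hd
  have hd0 : d ≠ 0 := by rw [hd]; exact_mod_cast hg.ne'
  have h1 : a' ^ 2 + α * a' * c' + β * c' ^ 2 = 0 := by
    have h2 : d ^ 2 * (a' ^ 2 + α * a' * c' + β * c' ^ 2) = 0 := by
      rw [ha, hc'] at h
      linear_combination h
    exact (mul_eq_zero.1 h2).resolve_left (pow_ne_zero 2 hd0)
  have h2 : c' ∣ a' ^ 2 := ⟨-(α * a') - β * c', by linear_combination h1⟩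
  have h3 : IsCoprime a' c' := Int.isCoprime_iff_gcd_eq_one.2 hcop
  have h4 : IsUnit c' := (h3.pow_left (m := 2)).symm.isUnit_of_dvd' dvd_rfl h2
  obtain ⟨e, he⟩ := h4.exists_left_inv
  refine ⟨e * a', ?_⟩
  rw [ha, hc']
  linear_combination -(a' * d) * he

theorem elim {Q n f x : ℤ} (hQ : Odd Q) (hQ1 : Q ≠ 1) (hQ2 : Q ≠ -1) (hn : Odd n)
    (hA : n * (f - Q) ^ 2 = Q * (Q - 1) * (Q + 1) ^ 2 * f * (f - 1))
    (hB : x * (f - Q ^ 2) = -Q ^ 2 * (f - 1)) :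
    ∃ k : ℤ, Odd k ∧ k ∣ Q * (Q ^ 2 - 1) ∧ Q + 1 - k ∣ Q * (Q + 1) ^ 2 ∧
      n = (Q ^ 2 - 1 + k) * (Q ^ 2 + Q + k) ∧ f * k = Q * (Q ^ 2 - 1 + k) ∧
      x * (Q + 1 - k) = -(Q * (Q ^ 2 + Q + k)) := by
  have hQ0 : Q ≠ 0 := by rintro rfl; simp at hQ
  have e1 : Q - 1 ≠ 0 := sub_ne_zero.2 hQ1
  have e2 : Q + 1 ≠ 0 := by
    intro h1
    exact hQ2 (by linarith)
  have hc : f - Q ≠ 0 := by
    intro h1
    have h2 : f = Q := by linarith
    rw [h2, sub_self] at hA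
    have h3 : Q * (Q - 1) * (Q + 1) ^ 2 * Q * (Q - 1) ≠ 0 := by positivity
    apply h3
    rw [← hA]
    ring
  have hdvd : f - Q ∣ Q * (Q ^ 2 - 1) := by
    apply dvd_of_quad (α := 2 * Q ^ 2 + Q - 1) (β := (Q ^ 2 - 1) * (Q ^ 2 + Q) - n) hc
    linear_combination -hA
  obtain ⟨k, hk⟩ := hdvd
  have hfk : f * k = Q * (Q ^ 2 - 1 + k) := by linear_combination -hk
  have hnk : n = (Q ^ 2 - 1 + k) * (Q ^ 2 + Q + k) := by
    have h1 : (f - Q) ^ 2 * n = (f - Q) ^ 2 * ((Q ^ 2 - 1 + k) * (Q ^ 2 + Q + k)) := by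
      linear_combination hA + ((Q ^ 2 - 1) * (f - Q) + (Q ^ 2 + Q) * (f - Q) + Q * (Q ^ 2 - 1)
        + (f - Q) * k) * hk
    exact mul_left_cancel₀ (pow_ne_zero 2 hc) h1
  have hodd : Odd k := by
    rw [hnk] at hn
    have h1 := (Int.odd_mul.1 hn).1
    have h2 : Even (Q ^ 2 - 1) := by
      obtain ⟨m, hm⟩ := hQ
      exact ⟨2 * m ^ 2 + 2 * m, by rw [hm]; ring⟩
    by_contra h3
    rw [Int.not_odd_iff_even] at h3
    exact (Int.not_even_iff_odd.2 h1) (h2.add h3)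
  have hx : x * (Q + 1 - k) = -(Q * (Q ^ 2 + Q + k)) := by
    have h1 : (Q * (Q - 1)) * (x * (Q + 1 - k)) =
        (Q * (Q - 1)) * (-(Q * (Q ^ 2 + Q + k))) := by
      linear_combination k * hB - (x + Q ^ 2) * hfk
    exact mul_left_cancel₀ (mul_ne_zero hQ0 e1) h1
  refine ⟨k, hodd, ⟨f - Q, by rw [hk]; ring⟩, ⟨Q - x, ?_⟩, hnk, hfk, hx⟩
  linear_combination hx

end Cfsg.Agent.Classification.InvCent.SDElim
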