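import Mathlib
import Cfsg.Agent.Classification.InvCent.SDElim
import Cfsg.Agent.Classification.InvCent.Fusion
import Cfsg.Agent.Classification.RTwo.SDChar

/-!
# Semidihedral case, `G` simple, `C = C_G(t)`
-/

set_option autoImplicit false
set_option linter.unusedSectionVars false

open Cfsg

namespace Cfsg.Agent.Classification.InvCent.SDEnd

open Cfsg.Agent.Characters Cfsg.Agent.Classification.BGOrder Cfsg.Agent.Classification.BGSplit
  Cfsg.Agent.Classification.InvCent Cfsg.Agent.Classification.InvCent.GPair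

universe w

theorem hom_eq_one {G : Type w} [Group G] [IsSimpleGroup G] (hnc : ∃ a b : G, a * b ≠ b * a)
    (ν : G →* ℂˣ) : ν = 1 := by
  rcases (MonoidHom.normal_ker ν).eq_bot_or_eq_top with h1 | h1
  · exfalso
    obtain ⟨a, b, hab⟩ := hnc
    apply hab
    apply (MonoidHom.ker_eq_bot_iff ν).1 h1
    rw [map_mul, map_mul, mul_comm]
  · ext x
    have h2 : x ∈ ν.ker := by rw [h1]; exact Subgroup.mem_top _
    rw [MonoidHom.mem_ker] at h2
    rw [h2, MonoidHom.one_apply]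

theorem eq_one_of_degree {G : Type w} [Group G] [Finite G] [IsSimpleGroup G]
    (hnc : ∃ a b : G, a * b ≠ b * a) {X : G → ℂ} (hX : SignedIrr X) (h1 : X 1 = 1) : X = 1 := by
  rcases hX with hX | hX
  · obtain ⟨ν, rfl⟩ := Linear.exists_hom_of_isIrrCharacter hX h1
    rw [hom_eq_one hnc ν]
    funext x
    simp
  · exfalso
    obtain ⟨m, hm, h2⟩ := Core.isIrr_apply_one hX
    rw [Pi.neg_apply, h1] at h2
    have h3 : ((m + 1 : ℕ) : ℂ) = 0 := by
      push_cast
      rw [← h2]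
      ring
    have h4 : m + 1 = 0 := by exact_mod_cast h3
    omega

section

variable {G : Type w} [Group G] [Fintype G] [IsSimpleGroup G] {t₀ : G}
  {t : Subgroup.centralizer ({t₀} : Set G)} {q : ℕ} {ε : ℤ}
  {Z T T' U : Subgroup (Subgroup.centralizer ({t₀} : Set G))}
  {s s' u : Subgroup.centralizer ({t₀} : Set G)}

theorem hyp (ht : (t : G) = t₀) (h : CHyp t q ε Z T T' U s s' u) :
    RTwo.General.Hyp t₀ t (MonoidHom.id (Subgroup.centralizer ({t₀} : Set G))) where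
  orderOf_t := by rw [← ht, Subgroup.orderOf_coe]; exact h.orderOf_t
  one_class := Fusion.isConj ht h
  surj := Function.surjective_id
  odd_ker := by
    rw [(MonoidHom.ker_eq_bot_iff _).2 Function.injective_id, Subgroup.card_bot]
    exact odd_one
  map_t := fun hm => Subtype.ext ht.symm

theorem not_comm (h : CHyp t q ε Z T T' U s s' u) : ∃ a b : G, a * b ≠ b * a := by
  refine ⟨s, u, fun h1 => ?_⟩
  have h2 : s * u = u * s := Subtype.ext h1
  have h3 := h.s_u
  rw [h2, mul_inv_cancel_right] at h3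
  exact h.t_ne (mul_eq_right.1 h3.symm)

theorem odd_index (ht : (t : G) = t₀) (h : CHyp t q ε Z T T' U s s' u) :
    Odd (Subgroup.centralizer ({t₀} : Set G)).index :=
  RTwo.SDChar.odd_index (hyp ht h).orderOf_t (hyp ht h).one_class

theorem r_eq {r : ℕ} {b : Subgroup.centralizer ({t₀} : Set G) →* ℂˣ}
    (hD : DetHyp q ε T T' U s s' u r b) (h4 : ¬ (4 : ℤ) ∣ q - ε) : r = 2 := by
  obtain ⟨m, hm, rfl⟩ := hD.r_pow
  obtain ⟨k, hk, hqk⟩ := hD.r_dvd
  by_contra hne
  apply h4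
  have hm2 : 2 ≤ m := by
    by_contra h1
    have : m = 1 := by omega
    rw [this] at hne
    norm_num at hne
  rw [hqk]
  have : (4 : ℤ) ∣ ((2 ^ m : ℕ) : ℤ) := by
    push_cast
    exact (by norm_num : (4 : ℤ) ∣ 2 ^ 2).trans (pow_dvd_pow 2 hm2)
  exact this.mul_right k

/-- The characters and the parameter `k`, semidihedral case. -/
theorem exists_data [Fintype (Subgroup.centralizer ({t₀} : Set G))] (ht : (t : G) = t₀) (h : CHyp t q ε Z T T' U s s' u)
    {r : ℕ} {b : Subgroup.centralizer ({t₀} : Set G) →* ℂˣ}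
    (hD : DetHyp q ε T T' U s s' u r b) (h4 : ¬ (4 : ℤ) ∣ q - ε) :
    ∃ (M : Ideal AlgInt) (μ : U →* ℂˣ) (X₂ X₃ X₄ X₅ L : G → ℂ) (f x k : ℤ),
      IsPModular 2 M ∧ (∃ v : U, μ v ≠ 1) ∧
      SDRes M h μ (MonoidHom.id (Subgroup.centralizer ({t₀} : Set G))) X₂ X₃ X₄ X₅ L f x ∧
      Odd k ∧ k ∣ (ε * q) * ((ε * q) ^ 2 - 1) ∧
      (ε * q) + 1 - k ∣ (ε * q) * ((ε * q) + 1) ^ 2 ∧
      ((Subgroup.centralizer ({t₀} : Set G)).index : ℤ) =
        ((ε * q) ^ 2 - 1 + k) * ((ε * q) ^ 2 + (ε * q) + k) ∧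
      f * k = (ε * q) * ((ε * q) ^ 2 - 1 + k) ∧
      x * ((ε * q) + 1 - k) = -((ε * q) * ((ε * q) ^ 2 + (ε * q) + k)) := by
  have hr := r_eq hD h4
  subst hr
  obtain ⟨M, hM⟩ := Blocks.ExistsModular.exists_isPModular Nat.prime_two
  have H := hyp ht h
  obtain ⟨μ, hμ, X₂, X₃, X₄, X₅, L, f, x, R⟩ := exists_sdRes H h hD hM
    (fun X hX h1 => eq_one_of_degree (not_comm h) hX h1)
  have hκ : kap (MonoidHom.id (Subgroup.centralizer ({t₀} : Set G))) u = 1 :=
    kap_eq_one H h Function.injective_id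
  have hA := R.eqA
  rw [hκ, Nat.cast_one, one_pow, one_mul] at hA
  have hq1 := h.one_lt_q
  have hQo : Odd (ε * (q : ℤ)) := by
    have h1 : Odd (q : ℤ) := by exact_mod_cast h.odd_q
    rcases h.eps with h2 | h2 <;> rw [h2]
    · rw [one_mul]; exact h1
    · exact (by decide : Odd (-1 : ℤ)).mul h1
  have hQ1 : ε * (q : ℤ) ≠ 1 := by
    rcases h.eps with h2 | h2 <;> rw [h2] <;> omega
  have hQ2 : ε * (q : ℤ) ≠ -1 := by
    rcases h.eps with h2 | h2 <;> rw [h2] <;> omega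
  obtain ⟨k, k1, k2, k3, k4, k5, k6⟩ := SDElim.elim hQo hQ1 hQ2
    (by exact_mod_cast odd_index ht h : Odd ((Subgroup.centralizer ({t₀} : Set G)).index : ℤ))
    (by rw [hA]) (by rw [R.eqB])
  exact ⟨M, μ, X₂, X₃, X₄, X₅, L, f, x, k, hM, hμ, R, k1, k2, k3, k4, k5, k6⟩

end

end Cfsg.Agent.Classification.InvCent.SDEnd
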