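import Mathlib
import Cfsg.Agent.Classification.InvCent.SDEnd
import Cfsg.Agent.Classification.InvCent.InstGL
import Cfsg.Agent.Classification.InvCentPL.QDIndex
import Cfsg.Agent.Classification.IdL3.Final

/-!
# `S0484`, the case `q ≡ 3 mod 4`
-/

set_option autoImplicit false
set_option linter.unusedSimpArgs false

namespace Cfsg.Agent.Classification.InvCent.GLSemi

open Matrix Cfsg
open scoped MatrixGroups
open Cfsg.Agent.Classification.IdL3.Mat
open Cfsg.Agent.Classification.IdL3.MatTwo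
open Cfsg.Agent.Classification.IdL3.Setup
open Cfsg.Agent.Classification.IdL3.SetupTwo
open Cfsg.Agent.Classification.IdL3.Final
open Cfsg.Agent.Classification.BGOrder

variable {F : Type*} [Field F] {G : Type*} [Group G]

/-- The hypothesis `Hyp φ n` from an isomorphism `C_G(t) ≃* GL₂(F)/Z`. -/
theorem exists_hyp' [Finite G] [Finite F] (h2 : (2 : F) ≠ 0)
    (Z : Subgroup (GL (Fin 2) F)) [Z.Normal] (hZc : Z ≤ Subgroup.center (GL (Fin 2) F))
    (hZo : Odd (Nat.card Z)) {t : G} (ht : orderOf t = 2)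
    (e : Subgroup.centralizer ({t} : Set G) ≃* (GL (Fin 2) F ⧸ Z))
    (hinv : ∀ s : G, orderOf s = 2 → ∃ g, g * t * g⁻¹ = s) :
    ∃ (φ : GL (Fin 2) F →* G) (n : G), tt φ = t ∧ Hyp φ n := by
  set C := Subgroup.centralizer ({t} : Set G) with hC
  set φ : GL (Fin 2) F →* G :=
    C.subtype.comp (e.symm.toMonoidHom.comp (QuotientGroup.mk' Z)) with hφ
  have hφa : ∀ x, φ x = (e.symm (QuotientGroup.mk' Z x) : C) := fun x => rfl
  have hker : φ.ker = Z := by
    ext x
    rw [MonoidHom.mem_ker, hφa]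
    constructor
    · intro h
      have h1 : e.symm (QuotientGroup.mk' Z x) = 1 := Subtype.ext h
      rw [map_eq_one_iff e.symm e.symm.injective] at h1
      exact (QuotientGroup.eq_one_iff x).mp h1
    · intro h
      have h1 : QuotientGroup.mk' Z x = 1 := (QuotientGroup.eq_one_iff x).mpr h
      rw [h1, map_one]; rfl
  have hrange : φ.range = C := by
    ext g
    constructor
    · rintro ⟨x, rfl⟩
      exact (e.symm (QuotientGroup.mk' Z x)).2
    · intro hg
      obtain ⟨x, hx⟩ := QuotientGroup.mk'_surjective Z (e ⟨g, hg⟩)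
      refine ⟨x, ?_⟩
      rw [hφa, hx, e.symm_apply_apply]
  have hkc : ∀ g, φ g = 1 → g ∈ Subgroup.center (GL (Fin 2) F) := by
    intro g hg
    apply hZc
    rw [← hker]; exact hg
  have hko : Odd (Nat.card φ.ker) := by rw [hker]; exact hZo
  have htt : t * t = 1 := by rw [← pow_two, ← ht, pow_orderOf_eq_one]
  have ht1 : t ≠ 1 := by rintro rfl; rw [orderOf_one] at ht; exact absurd ht (by decide)
  have htC : t ∈ C := Subgroup.mem_centralizer_singleton_iff.mpr rfl
  have hcomm : ∀ x, t * φ x = φ x * t := by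
    intro x
    have h1 : φ x ∈ C := by rw [← hrange]; exact ⟨x, rfl⟩
    exact (Subgroup.mem_centralizer_singleton_iff.mp h1).symm
  have hteq : tt φ = t := tt_eq h2 hkc hko htt ht1 (by
    rw [← hrange] at htC; exact htC) hcomm
  have hcent : ∀ g : G, g * tt φ = tt φ * g → ∃ x, φ x = g := by
    intro g hg
    rw [hteq] at hg
    have h1 : g ∈ C := Subgroup.mem_centralizer_singleton_iff.mpr hg
    rw [← hrange] at h1
    exact h1
  obtain ⟨n, hH⟩ := exists_hyp h2 hkc hko hcent (by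
    rw [hteq]
    refine hinv _ (orderOf_eq_prime ?_ ?_)
    · rw [pow_two, ← map_mul, T_mul]; simp [T_one]
    · exact φ_ne_one hko (by rw [T_mul]; simp [T_one]) (T_ne_one (Or.inr (neg_one_ne h2))))
  exact ⟨φ, n, hteq, hH⟩

theorem two_ne [Fintype F] (hF : Odd (Fintype.card F)) : (2 : F) ≠ 0 := by
  intro h2
  have h3 : ringChar F = 2 := by
    have : ringChar F ∣ 2 := (ringChar.spec F 2).1 (by exact_mod_cast h2)
    rcases (Nat.dvd_prime Nat.prime_two).1 this with h4 | h4
    · exact absurd h4 (CharP.ringChar_ne_one)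
    · exact h4
  have h5 : Fintype.card F % 2 = 0 := FiniteField.even_card_of_char_two h3
  rw [Nat.odd_iff] at hF
  omega

theorem sirr {G : Type*} [Group G] {X : G → ℂ} (hX : SignedIrr X) :
    InvCentPL.QDCaseA.SIrr X := by
  rcases hX with h | h
  · refine ⟨1, Or.inl rfl, ?_⟩
    have : (fun g => ((1 : ℤ) : ℂ) * X g) = X := by
      funext g; rw [Int.cast_one, one_mul]
    rw [this]; exact h
  · refine ⟨-1, Or.inr rfl, ?_⟩
    have : (fun g => ((-1 : ℤ) : ℂ) * X g) = -X := by
      funext g; rw [Int.cast_neg, Int.cast_one, neg_one_mul]; rfl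
    rw [this]; exact h

/-- One class of involutions and the index of the centralizer, `q ≡ 3 mod 4`. -/
theorem index_or [Finite G] [IsSimpleGroup G] [Fintype F] (hF : Odd (Fintype.card F))
    (h4 : Fintype.card F % 4 = 3) (Z : Subgroup (GL (Fin 2) F)) [Z.Normal]
    (hZc : Z ≤ Subgroup.center (GL (Fin 2) F)) (hZo : Odd (Nat.card Z)) (t : G)
    (ht : orderOf t = 2)
    (hC : Nonempty (Subgroup.centralizer ({t} : Set G) ≃* (GL (Fin 2) F ⧸ Z))) :
    ((Subgroup.centralizer ({t} : Set G)).index =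
      Nat.card F ^ 2 * (Nat.card F ^ 2 + Nat.card F + 1)) ∨ Nat.card G = 7920 := by
  classical
  let _ : Fintype G := Fintype.ofFinite G
  let _ : Fintype (Subgroup.centralizer ({t} : Set G)) := Fintype.ofFinite _
  obtain ⟨t', Z', T, T', U, s, s', u, r, b, ht', h, hD⟩ :=
    InstGL.exists_of_centralizer hF Z hZc hZo ht hC
  have hinv : ∀ s : G, orderOf s = 2 → ∃ g, g * t * g⁻¹ = s := fun s hs =>
    isConj_iff.1 (Fusion.isConj ht' h s hs)
  obtain ⟨e⟩ := hC
  obtain ⟨φ, n, hteq, hH⟩ := exists_hyp' (two_ne hF) Z hZc hZo ht e hinv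
  have hq4 : ¬ (4 : ℤ) ∣ (Fintype.card F : ℤ) - 1 := by
    intro h1
    omega
  obtain ⟨M, μ, X₂, X₃, X₄, X₅, L, f, x, k, -, -, R, k1, k2, k3, k4, k5, k6⟩ :=
    SDEnd.exists_data ht' h hD hq4
  simp only [one_mul] at k2 k3 k4 k5 k6
  have ht2 := R.t₂
  have ht4 := R.t₄
  have ho2 := R.one₂
  have ho4 := R.one₄
  rw [Int.cast_one, one_mul] at ht2 ht4
  have hdata : InvCentPL.QDOrder.Data (tt φ) (Nat.card F) k := by
    rw [hteq, Nat.card_eq_fintype_card]
    exact
      { odd := k1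
        dvd_one := k2
        dvd_two := k3
        index := k4
        chars := ⟨X₂, X₄, f, x, sirr R.in₂.signedIrr, sirr R.in₄.signedIrr, ho2, ho4, ht2, ht4,
          k5, k6⟩ }
  have := InvCentPL.QDIndex.index_eq hH (by rw [Nat.card_eq_fintype_card]; exact h4) hdata
  rwa [hteq] at this

/-- `S0484`, `q ≡ 3 mod 4`. -/
theorem main [Finite G] [IsSimpleGroup G] [Fintype F] (hF : Odd (Fintype.card F))
    (h4 : Fintype.card F % 4 = 3) (Z : Subgroup (GL (Fin 2) F)) [Z.Normal]
    (hZc : Z ≤ Subgroup.center (GL (Fin 2) F)) (hZo : Odd (Nat.card Z)) (t : G)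
    (ht : orderOf t = 2)
    (hC : Nonempty (Subgroup.centralizer ({t} : Set G) ≃* (GL (Fin 2) F ⧸ Z))) :
    Nonempty (G ≃* Matrix.ProjectiveSpecialLinearGroup (Fin 3) F) ∨ Cfsg.IsM11 G := by
  rcases index_or hF h4 Z hZc hZo t ht hC with h1 | h1
  · left
    obtain ⟨t', Z', T, T', U, s, s', u, r, b, ht', h, hD⟩ :=
      InstGL.exists_of_centralizer hF Z hZc hZo ht hC
    have hinv : ∀ s : G, orderOf s = 2 → ∃ g, g * t * g⁻¹ = s := fun s hs =>
      isConj_iff.1 (Fusion.isConj ht' h s hs)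
    obtain ⟨e⟩ := hC
    exact psl3_of_index (two_ne hF) Z hZc hZo ht e hinv h1
  · exact Or.inr ⟨inferInstance, h1⟩

end Cfsg.Agent.Classification.InvCent.GLSemi
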