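import Mathlib
import Cfsg.Agent.Classification.InvCent.CTorus

/-!
# `R_T` of the linear characters of a torus

* `lin T χ` : the linear character `χ` of `T` as a function on `C` (zero off `T`);
* `sg` : conjugation by `s` on `T`;
* `inner_lin`, `R_sg`, `inner_lin_one`, `isGeneralized_lin`;
* `R_supp` : support of `R_T f`.
-/

set_option autoImplicit false
set_option linter.unusedSectionVars false

open Cfsg
open scoped ComplexConjugate

namespace Cfsg.Agent.Classification.InvCent.LinChar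

open Cfsg.Agent.Characters Cfsg.Agent.Classification.InvCent

section Lin

variable {C : Type*} [Group C]

open Classical in
/-- A linear character of `T` extended by zero. -/
noncomputable def lin (T : Subgroup C) (χ : T →* ℂˣ) : C → ℂ :=
  fun x => if h : x ∈ T then (χ ⟨x, h⟩ : ℂ) else 0

theorem lin_apply {T : Subgroup C} (χ : T →* ℂˣ) {x : C} (hx : x ∈ T) :
    lin T χ x = (χ ⟨x, hx⟩ : ℂ) := dif_pos hx

theorem lin_coe {T : Subgroup C} (χ : T →* ℂˣ) (x : T) : lin T χ x = (χ x : ℂ) :=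
  dif_pos x.2

theorem lin_one {T : Subgroup C} {x : C} (hx : x ∈ T) : lin T 1 x = 1 := by
  rw [lin_apply _ hx, MonoidHom.one_apply, Units.val_one]

theorem lin_mul {T : Subgroup C} (χ ψ : T →* ℂˣ) {x : C} (hx : x ∈ T) :
    lin T (χ * ψ) x = lin T χ x * lin T ψ x := by
  rw [lin_apply _ hx, lin_apply _ hx, lin_apply _ hx, MonoidHom.mul_apply, Units.val_mul]

theorem lin_pow {T : Subgroup C} (χ : T →* ℂˣ) (n : ℕ) {x : C} (hx : x ∈ T) :
    lin T (χ ^ n) x = lin T χ x ^ n := by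
  rw [lin_apply _ hx, lin_apply _ hx, MonoidHom.pow_apply, Units.val_pow_eq_pow_val]

theorem conj_lin [Finite C] {T : Subgroup C} (χ : T →* ℂˣ) {x : C} (hx : x ∈ T) :
    conj (lin T χ x) = lin T χ⁻¹ x := by
  rw [lin_apply _ hx, lin_apply _ hx, MonoidHom.inv_apply, Units.val_inv_eq_inv_val]
  exact (Complex.inv_eq_conj (Linear.norm_hom_apply χ ⟨x, hx⟩)).symm

theorem lin_mul_conj [Finite C] {T : Subgroup C} (χ ψ : T →* ℂˣ) {x : C} (hx : x ∈ T) :
    lin T χ x * conj (lin T ψ x) = lin T (χ * ψ⁻¹) x := by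
  rw [conj_lin ψ hx, lin_mul _ _ hx]

/-- Sum of a linear character. -/
theorem ssum_lin [Fintype C] {T : Subgroup C} (χ : T →* ℂˣ) [Decidable (χ = 1)] :
    ssum T (lin T χ) = if χ = 1 then (Nat.card T : ℂ) else 0 := by
  classical
  have := Fintype.ofFinite T
  rw [← sum_subtype_eq]
  have h1 : ∑ x : T, lin T χ x = ∑ x : T, (χ x : ℂ) := Finset.sum_congr rfl fun x _ => lin_coe χ x
  rw [h1]
  split_ifs with h
  · subst h
    simp [Nat.card_eq_fintype_card]
  · have h2 := sum_hom_units_eq_zero ((Units.coeHom ℂ).comp χ) (fun h3 => h (by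
      ext x
      have := DFunLike.congr_fun h3 x
      simpa using this))
    simpa using h2

theorem inner_lin_T [Fintype C] {T : Subgroup C} (χ ψ : T →* ℂˣ) [Decidable (χ = ψ)] :
    (Nat.card T : ℂ)⁻¹ * ssum T (fun x => lin T χ x * conj (lin T ψ x)) =
      if χ = ψ then 1 else 0 := by
  classical
  rw [ssum_congr (fun x hx => lin_mul_conj χ ψ hx)]
  have h1 : ssum T (fun x => lin T (χ * ψ⁻¹) x) = ssum T (lin T (χ * ψ⁻¹)) := rfl
  have h2 : χ * ψ⁻¹ = 1 ↔ χ = ψ := by
    constructor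
    · intro h
      ext x
      have := DFunLike.congr_fun h x
      rw [MonoidHom.mul_apply, MonoidHom.inv_apply, MonoidHom.one_apply, mul_inv_eq_one] at this
      rw [this]
    · rintro rfl
      ext x
      rw [MonoidHom.mul_apply, MonoidHom.inv_apply, mul_inv_cancel, MonoidHom.one_apply]
  rw [h1, ssum_lin]
  by_cases h3 : χ = ψ
  · rw [if_pos h3, if_pos (h2.2 h3)]
    exact inv_mul_cancel₀ Core.card_ne_zero_complex
  · rw [if_neg h3, if_neg (fun h4 => h3 (h2.1 h4)), mul_zero]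

end Lin

section Torus

variable {C : Type*} [Group C] {q : ℕ} {δ : ℤ} {Z T U : Subgroup C} {s : C}

/-- Conjugation by `s` on `T`. -/
def sg (h : Torus q δ Z T s) : T →* T where
  toFun x := ⟨s * x * s⁻¹, h.s_conj x x.2⟩
  map_one' := Subtype.ext (by simp)
  map_mul' x y := Subtype.ext (by simp only [Subgroup.coe_mul]; group)

theorem sg_coe (h : Torus q δ Z T s) (x : T) : (sg h x : C) = s * x * s⁻¹ := rfl

theorem sg_sg (h : Torus q δ Z T s) (x : T) : sg h (sg h x) = x :=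
  Subtype.ext (h.s_conj_conj x)

theorem comp_sg_sg (h : Torus q δ Z T s) (χ : T →* ℂˣ) : (χ.comp (sg h)).comp (sg h) = χ := by
  ext x
  simp [sg_sg]

theorem lin_sg (h : Torus q δ Z T s) (χ : T →* ℂˣ) {x : C} (hx : x ∈ T) :
    lin T (χ.comp (sg h)) x = lin T χ (s * x * s⁻¹) := by
  rw [lin_apply _ hx, lin_apply _ (h.s_conj x hx)]
  rfl

theorem sg_fix (h : Torus q δ Z T s) (hb : Base q Z U) {x : T} :
    sg h x = x ↔ (x : C) ∈ Z := by
  constructor
  · intro hx
    by_contra hZ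
    apply h.s_notMem
    refine h.cent x x.2 hZ s ?_
    have := congrArg Subtype.val hx
    rw [sg_coe, mul_inv_eq_iff_eq_mul] at this
    exact this
  · intro hx
    refine Subtype.ext ?_
    rw [sg_coe, hb.Z_central x hx s, mul_inv_cancel_right]

variable [Fintype C] {μ : U →* ℂˣ}

/-- Inner products of the `R_T(χ)`. -/
theorem inner_lin (h : Torus q δ Z T s) (hb : Base q Z U) (hμ : ∃ v : U, μ v ≠ 1)
    (χ ψ : T →* ℂˣ) [Decidable (χ = ψ)] [Decidable (χ = ψ.comp (sg h))] :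
    classInner (Torus.R T hb μ (lin T χ)) (Torus.R T hb μ (lin T ψ)) =
      (if χ = ψ then 1 else 0) + (if χ = ψ.comp (sg h) then 1 else 0) := by
  rw [h.classInner_R_R hb hμ, ← inner_lin_T χ ψ, ← inner_lin_T χ (ψ.comp (sg h)), ← mul_add,
    ← ssum_add]
  congr 1
  refine ssum_congr fun x hx => ?_
  rw [lin_sg h ψ hx, map_add]
  ring

theorem theta_add (hb : Base q Z U) (f g : C → ℂ) :
    hb.theta μ (f + g) = hb.theta μ f + hb.theta μ g := by
  funext c
  simp only [Base.theta, Pi.add_apply]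
  ring

theorem theta_smul (hb : Base q Z U) (a : ℂ) (f : C → ℂ) :
    hb.theta μ (a • f) = a • hb.theta μ f := by
  funext c
  simp only [Base.theta, Pi.smul_apply, smul_eq_mul]
  ring

/-- `R_T` is linear. -/
theorem R_add (T : Subgroup C) (hb : Base q Z U) (μ : U →* ℂˣ) (f g : C → ℂ) :
    Torus.R T hb μ (f + g) = Torus.R T hb μ f + Torus.R T hb μ g := by
  funext x
  rw [Pi.add_apply]
  unfold Torus.R
  have h1 : (fun y : T => (f + g) y) = (fun y : T => f y) + fun y : T => g y := rfl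
  rw [h1, Brauer.indFun_add, Base.Gam, theta_add, Brauer.indFun_add, Pi.add_apply, Pi.add_apply,
    Base.Gam, Base.Gam]
  ring

theorem R_smul (T : Subgroup C) (hb : Base q Z U) (μ : U →* ℂˣ) (a : ℂ) (f : C → ℂ) :
    Torus.R T hb μ (a • f) = a • Torus.R T hb μ f := by
  funext x
  rw [Pi.smul_apply]
  unfold Torus.R
  have h1 : (fun y : T => (a • f) y) = a • fun y : T => f y := rfl
  rw [h1, Brauer.indFun_smul, Base.Gam, theta_smul, Brauer.indFun_smul, Pi.smul_apply,
    Pi.smul_apply, Base.Gam, smul_eq_mul, smul_eq_mul, smul_eq_mul]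
  ring

theorem R_neg (T : Subgroup C) (hb : Base q Z U) (μ : U →* ℂˣ) (f : C → ℂ) :
    Torus.R T hb μ (-f) = - Torus.R T hb μ f := by
  have := R_smul T hb μ (-1) f
  rwa [neg_one_smul, neg_one_smul] at this

theorem R_sub (T : Subgroup C) (hb : Base q Z U) (μ : U →* ℂˣ) (f g : C → ℂ) :
    Torus.R T hb μ (f - g) = Torus.R T hb μ f - Torus.R T hb μ g := by
  rw [sub_eq_add_neg, R_add, R_neg, ← sub_eq_add_neg]

theorem R_zero (T : Subgroup C) (hb : Base q Z U) (μ : U →* ℂˣ) :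
    Torus.R T hb μ (0 : C → ℂ) = 0 := by
  have := R_smul T hb μ 0 (0 : C → ℂ)
  rwa [zero_smul, zero_smul] at this

theorem R_sum (T : Subgroup C) (hb : Base q Z U) (μ : U →* ℂˣ) {ι : Type*} (S : Finset ι)
    (f : ι → C → ℂ) : Torus.R T hb μ (∑ i ∈ S, f i) = ∑ i ∈ S, Torus.R T hb μ (f i) := by
  classical
  induction S using Finset.induction_on with
  | empty => rw [Finset.sum_empty, Finset.sum_empty, R_zero]
  | insert a S ha ih => rw [Finset.sum_insert ha, Finset.sum_insert ha, R_add, ih]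

theorem R_congr (T : Subgroup C) (h : Torus q δ Z T s) (hb : Base q Z U) (μ : U →* ℂˣ)
    {f g : C → ℂ} (hfg : ∀ x ∈ T, f x = g x) : Torus.R T hb μ f = Torus.R T hb μ g := by
  funext x
  unfold Torus.R
  have h1 : (fun y : T => f y) = fun y : T => g y := funext fun y => hfg y y.2
  rw [h1, hb.Gam_congr μ (fun z hz => hfg z (h.Z_le hz))]

/-- Support of `R_T f`. -/
theorem R_supp {T' : Subgroup C} {s' t : C} (h : Torus q δ Z T s) (h' : Torus q (-δ) Z T' s')
    (hb : Base q Z U) (hμ : ∃ v : U, μ v ≠ 1)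
    (hexh : ∀ c : C, ∃ g : C, g * c * g⁻¹ ∈ T ∨ g * c * g⁻¹ ∈ T' ∨
      ∃ z ∈ Z, ∃ v ∈ U, g * c * g⁻¹ = z * v) (ht : t ∈ Z)
    {f : C → ℂ} (hf : ∀ x ∈ T, f x ≠ 0 → t ∈ Subgroup.zpowers x) {c : C}
    (hc : Torus.R T hb μ f c ≠ 0) : t ∈ Subgroup.zpowers c := by
  have hne : δ ≠ -δ := by
    rcases h.sign with h3 | h3 <;> omega
  -- conjugation
  have hconj : ∀ g c : C, t ∈ Subgroup.zpowers (g * c * g⁻¹) → t ∈ Subgroup.zpowers c := by
    intro g c hg
    obtain ⟨k, hk⟩ := Subgroup.mem_zpowers_iff.1 hg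
    rw [conj_zpow, mul_inv_eq_iff_eq_mul, ← hb.Z_central t ht g] at hk
    exact Subgroup.mem_zpowers_iff.2 ⟨k, mul_left_cancel hk⟩
  obtain ⟨g, hg⟩ := hexh c
  rw [← Torus.R_isClassFunction hb f c g] at hc
  refine hconj g c ?_
  generalize g * c * g⁻¹ = y at hg hc
  have hZ : ∀ z ∈ Z, Torus.R T hb μ f z ≠ 0 → t ∈ Subgroup.zpowers z := by
    intro z hz h1
    rw [h.R_Z hb f hz] at h1
    exact hf z (h.Z_le hz) (right_ne_zero_of_mul h1)
  rcases hg with hy | hy | ⟨z, hz, v, hv, hy⟩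
  · by_cases hyZ : y ∈ Z
    · exact hZ y hyZ hc
    · rw [h.R_T hb f hy hyZ] at hc
      by_cases h1 : f y = 0
      · rw [h1, zero_add] at hc
        exact hconj s y (hf _ (h.s_conj y hy) hc)
      · exact hf y hy h1
  · by_cases hyZ : y ∈ Z
    · exact hZ y hyZ hc
    · exact absurd (h.R_T' h' hne.symm hb f hy hyZ) hc
  · subst hy
    by_cases hv1 : v = 1
    · rw [hv1, mul_one] at hc ⊢
      exact hZ z hz hc
    · rw [h.R_ZU hb hμ f hz hv hv1] at hc
      have h1 := hf z (h.Z_le hz) hc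
      -- `z` is a power of `(z v)^q = z^q`
      have h2 : (z * v) ^ q = z ^ q := by
        have h3 : Commute z v := (hb.Z_central z hz v).symm
        rw [h3.mul_pow, hb.pow_card_U hv, mul_one]
      have h3 : z ∈ Subgroup.zpowers (z ^ q) := by
        have h4 : (orderOf z).Coprime q :=
          Nat.Coprime.coprime_dvd_left (orderOf_dvd_of_pow_eq_one (Base.pow_card_Z hz)) hb.coprime
        obtain ⟨m, hm⟩ := exists_pow_eq_self_of_coprime h4.symm
        exact Subgroup.mem_zpowers_iff.2 ⟨m, by rw [zpow_natCast]; exact hm⟩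
      have h4 : Subgroup.zpowers z ≤ Subgroup.zpowers (z * v) := by
        rw [Subgroup.zpowers_le]
        have h5 : Subgroup.zpowers (z ^ q) ≤ Subgroup.zpowers (z * v) := by
          rw [Subgroup.zpowers_le, ← h2]
          exact Subgroup.pow_mem _ (Subgroup.mem_zpowers _) _
        exact h5 h3
      exact h4 h1

/-- `(R_T χ, 1)`. -/
theorem inner_lin_one {T' : Subgroup C} {s' : C} (h : Torus q δ Z T s)
    (h' : Torus q (-δ) Z T' s') (hb : Base q Z U) (hμ : ∃ v : U, μ v ≠ 1)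
    (hexh : ∀ c : C, ∃ g : C, g * c * g⁻¹ ∈ T ∨ g * c * g⁻¹ ∈ T' ∨
      ∃ z ∈ Z, ∃ v ∈ U, g * c * g⁻¹ = z * v) (χ : T →* ℂˣ) [Decidable (χ = 1)] :
    classInner (Torus.R T hb μ (lin T χ)) 1 = if χ = 1 then 1 else 0 := by
  classical
  have h1 : (1 : C → ℂ) = (2 : ℂ)⁻¹ • (Torus.R T hb μ 1 + Torus.R T' hb μ 1) := by
    funext x
    have := h.R_add_R h' rfl hb hμ hexh (f := 1) (fun _ _ => rfl) (fun _ _ _ _ => rfl) x
    rw [Pi.smul_apply, Pi.add_apply, this]
    simp
  have h2 : Torus.R T hb μ (1 : C → ℂ) = Torus.R T hb μ (lin T 1) :=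
    R_congr T h hb μ fun x hx => (lin_one hx).symm
  have h3 : (1 : T →* ℂˣ).comp (sg h) = 1 := by ext x; simp
  rw [h1, Core.classInner_smul_right, Core.classInner_add_right,
    h.classInner_R_R' h' rfl hb hμ, h2, inner_lin h hb hμ]
  have h4 : conj (2 : ℂ)⁻¹ = 2⁻¹ := by
    rw [map_inv₀]
    congr 1
    exact map_ofNat _ 2
  simp only [h3, h4]
  split_ifs <;> norm_num
theorem comp_inj (h : Torus q δ Z T s) {χ ψ : T →* ℂˣ} :
    χ.comp (sg h) = ψ.comp (sg h) ↔ χ = ψ := by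
  constructor
  · intro h1
    rw [← comp_sg_sg h χ, h1, comp_sg_sg]
  · rintro rfl; rfl

theorem comp_eq_iff (h : Torus q δ Z T s) {χ ψ : T →* ℂˣ} :
    χ.comp (sg h) = ψ ↔ χ = ψ.comp (sg h) := by
  constructor
  · rintro rfl
    rw [comp_sg_sg]
  · rintro rfl
    rw [comp_sg_sg]

/-- `R_T(χ^s) = R_T(χ)`. -/
theorem R_sg (h : Torus q δ Z T s) (hb : Base q Z U) (hμ : ∃ v : U, μ v ≠ 1) (χ : T →* ℂˣ) :
    Torus.R T hb μ (lin T (χ.comp (sg h))) = Torus.R T hb μ (lin T χ) := by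
  classical
  rw [← sub_eq_zero]
  refine Core.classInner_self_eq_zero ?_
  simp only [Core.classInner_sub_left, Core.classInner_sub_right, inner_lin h hb hμ, comp_sg_sg,
    comp_eq_iff]
  ring

theorem isGeneralized_lin (h : Torus q δ Z T s) (hb : Base q Z U) (χ : T →* ℂˣ) :
    IsGeneralizedCharacter C (Torus.R T hb μ (lin T χ)) := by
  refine h.isGeneralized_R hb ?_
  have h1 : (fun x : T => lin T χ x) = fun x => (χ x : ℂ) := funext fun x => lin_coe χ x
  rw [h1]
  refine ⟨fun x => (χ x : ℂ), 0, Linear.isCharacter_hom χ, Core.isCharacter_zero, ?_⟩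
  rw [sub_zero]

end Torus

end Cfsg.Agent.Classification.InvCent.LinChar
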