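import Mathlib

/-!
# Linear characters of an abelian group with an involutory automorphism

`A` is a finite abelian group, `σ` an automorphism of order two, `z, u` involutions of `A` generating the
elements of order at most two, `σ z = z`, `σ u = z u`; `|ker(1+σ)|` and `|ker(1-σ)|` have `2`-part `r`,
`β` is a linear character of order `r` trivial on `ker(1+σ)`. Then there is a linear character `ξ` with
`ξ ξ^σ = β`, `ξ^r = 1`, `ξ z = -1`.
-/

set_option autoImplicit false
set_option linter.unusedSectionVars false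

namespace Cfsg.Agent.Classification.InvCent.WrXi

section Pow

theorem card_ker_comp_dvd {A : Type*} [CommGroup A] [Finite A] (f g : A →* A) :
    Nat.card (g.comp f).ker ∣ Nat.card f.ker * Nat.card g.ker := by
  let f' : (g.comp f).ker →* g.ker := (f.comp (g.comp f).ker.subtype).codRestrict g.ker
    (fun x => x.2)
  have h1 : Nat.card (g.comp f).ker = Nat.card f'.ker * Nat.card f'.range := by
    rw [← Subgroup.index_ker, Subgroup.card_mul_index]
  have h2 : Nat.card f'.ker ∣ Nat.card f.ker := by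
    let i : f'.ker →* f.ker := ((g.comp f).ker.subtype.comp f'.ker.subtype).codRestrict f.ker
      (fun x => congrArg Subtype.val x.2)
    refine Subgroup.card_dvd_of_injective i ?_
    intro x y hxy
    have := congrArg Subtype.val hxy
    exact Subtype.ext (Subtype.ext this)
  have h3 : Nat.card f'.range ∣ Nat.card g.ker := Subgroup.card_subgroup_dvd_card _
  rw [h1]
  exact Nat.mul_dvd_mul h2 h3

theorem card_ker_pow_dvd {A : Type*} [CommGroup A] [Finite A] {z : A}
    (hz : ∀ x : A, x * x = 1 → x = 1 ∨ x = z) (k : ℕ) :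
    Nat.card (powMonoidHom (2 ^ k) : A →* A).ker ∣ 2 ^ k := by
  induction k with
  | zero =>
    have : (powMonoidHom (2 ^ 0) : A →* A).ker = ⊥ := by
      rw [eq_bot_iff]
      intro x hx
      rw [MonoidHom.mem_ker, powMonoidHom_apply, pow_zero, pow_one] at hx
      exact hx
    rw [this, Subgroup.card_bot, pow_zero]
  | succ k ih =>
    have h1 : (powMonoidHom (2 ^ (k + 1)) : A →* A) =
        (powMonoidHom 2 : A →* A).comp (powMonoidHom (2 ^ k)) := by
      ext x
      rw [MonoidHom.comp_apply, powMonoidHom_apply, powMonoidHom_apply, powMonoidHom_apply,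
        ← pow_mul, pow_succ]
    have h2 : Nat.card (powMonoidHom 2 : A →* A).ker ∣ 2 := by
      by_cases hz1 : z * z = 1
      · by_cases hz2 : z = 1
        · have : (powMonoidHom 2 : A →* A).ker = ⊥ := by
            rw [eq_bot_iff]
            intro x hx
            rw [MonoidHom.mem_ker, powMonoidHom_apply, sq] at hx
            rcases hz x hx with h | h
            · exact h
            · rw [h, hz2]; exact one_mem _
          rw [this, Subgroup.card_bot]
          exact one_dvd _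
        · have : (powMonoidHom 2 : A →* A).ker = Subgroup.zpowers z := by
            apply le_antisymm
            · intro x hx
              rw [MonoidHom.mem_ker, powMonoidHom_apply, sq] at hx
              rcases hz x hx with h | h
              · rw [h]; exact one_mem _
              · rw [h]; exact Subgroup.mem_zpowers z
            · rw [Subgroup.zpowers_le, MonoidHom.mem_ker, powMonoidHom_apply, sq]
              exact hz1
          rw [this, Nat.card_zpowers, orderOf_eq_prime (by rw [sq]; exact hz1) hz2]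
      · have : (powMonoidHom 2 : A →* A).ker = ⊥ := by
          rw [eq_bot_iff]
          intro x hx
          rw [MonoidHom.mem_ker, powMonoidHom_apply, sq] at hx
          rcases hz x hx with h | h
          · exact h
          · rw [h] at hx
            exact absurd hx hz1
        rw [this, Subgroup.card_bot]
        exact one_dvd _
    rw [h1, pow_succ]
    exact (card_ker_comp_dvd _ _).trans (Nat.mul_dvd_mul ih h2)

/-- In an abelian group with a unique involution `z` whose order is divisible by `2 ^ (k + 1)`,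
`z` is a `2 ^ k`-th power. -/
theorem exists_pow_eq {A : Type*} [CommGroup A] [Finite A] {z : A}
    (hz : ∀ x : A, x * x = 1 → x = 1 ∨ x = z) {k : ℕ} (hd : 2 ^ (k + 1) ∣ Nat.card A) :
    ∃ y : A, y ^ 2 ^ k = z := by
  have : Fact (Nat.Prime 2) := ⟨Nat.prime_two⟩
  set f : A →* A := powMonoidHom (2 ^ k) with hf
  have h1 : Nat.card A = Nat.card f.ker * Nat.card f.range := by
    rw [← Subgroup.index_ker, Subgroup.card_mul_index]
  obtain ⟨c, hc⟩ := card_ker_pow_dvd hz k
  rw [← hf] at hc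
  have h2 : 2 ∣ Nat.card f.range := by
    have h3 : 2 ^ (k + 1) ∣ Nat.card f.ker * Nat.card f.range := by rwa [← h1]
    rw [pow_succ, hc] at h3
    have h4 : 0 < Nat.card f.ker := Nat.card_pos
    have h5 : Nat.card f.ker * (c * 2) ∣ Nat.card f.ker * Nat.card f.range := by
      rwa [← mul_assoc]
    exact (Dvd.intro_left c rfl).trans (Nat.dvd_of_mul_dvd_mul_left h4 h5)
  obtain ⟨w, hw⟩ := exists_prime_orderOf_dvd_card' 2 h2
  obtain ⟨y, hy⟩ := w.2
  refine ⟨y, ?_⟩
  have hw1 : (w : A) * w = 1 := by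
    have := pow_orderOf_eq_one w
    rw [hw, sq] at this
    exact congrArg Subtype.val this
  have hw2 : (w : A) ≠ 1 := by
    intro h
    have : w = 1 := Subtype.ext h
    rw [this, orderOf_one] at hw
    omega
  have h6 : y ^ 2 ^ k = w := hy
  rw [h6]
  exact (hz w hw1).resolve_left hw2

end Pow

theorem units_sq {w : ℂˣ} (h : w * w = 1) : w = 1 ∨ w = -1 := by
  have h1 : (w : ℂ) * w = 1 := by rw [← Units.val_mul, h, Units.val_one]
  have h3 : ((w : ℂ) - 1) * ((w : ℂ) + 1) = 0 := by linear_combination h1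
  rcases mul_eq_zero.1 h3 with h4 | h4
  · exact Or.inl (Units.ext (sub_eq_zero.1 h4))
  · exact Or.inr (Units.ext (by rw [Units.val_neg, Units.val_one]; linear_combination h4))

/-- The hypotheses on `A`, `σ`. -/
structure Hyp {A : Type*} [CommGroup A] (σ : A →* A) (z u : A) (m : ℕ) (β : A →* ℂˣ) : Prop where
  one_le : 1 ≤ m
  invol : ∀ x, σ (σ x) = x
  z_sq : z * z = 1
  z_ne : z ≠ 1
  u_sq : u * u = 1
  u_ne : u ≠ 1
  σ_z : σ z = z
  σ_u : σ u = z * u
  two : ∀ x, x * x = 1 → x = 1 ∨ x = z ∨ x = u ∨ x = z * u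
  card_fix : ∃ k, Odd k ∧ Nat.card (MonoidHom.eqLocus σ (MonoidHom.id A)) = 2 ^ m * k
  card_norm : ∃ k, Odd k ∧ Nat.card ((MonoidHom.id A) * σ).ker = 2 ^ m * k
  β_norm : ∀ x, x * σ x = 1 → β x = 1
  β_pow : ∀ x, β x ^ 2 ^ m = 1
  β_order : ∃ x, orderOf (β x) = 2 ^ m
  card : Nat.card A = Nat.card (MonoidHom.eqLocus σ (MonoidHom.id A)) *
    Nat.card ((MonoidHom.id A) * σ).ker

namespace Hyp

variable {A : Type*} [CommGroup A] [Finite A] {σ : A →* A} {z u : A} {m : ℕ} {β : A →* ℂˣ}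

theorem eq_or_of_fix (h : Hyp σ z u m β) {x : A} (hx : x * x = 1) (hf : σ x = x) :
    x = 1 ∨ x = z := by
  rcases h.two x hx with h1 | h1 | h1 | h1
  · exact Or.inl h1
  · exact Or.inr h1
  · exfalso
    rw [h1, h.σ_u] at hf
    exact h.z_ne (mul_eq_right.1 hf)
  · exfalso
    rw [h1, map_mul, h.σ_u, h.σ_z] at hf
    exact h.z_ne (mul_eq_right.1 hf)

theorem eq_or_of_norm (h : Hyp σ z u m β) {x : A} (hx : x * x = 1) (hf : x * σ x = 1) :
    x = 1 ∨ x = z := by
  refine h.eq_or_of_fix hx ?_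
  rw [← mul_right_inj x, hf, hx]

/-- The norm map onto the fixed points. -/
theorem exists_norm (h : Hyp σ z u m β) {w : A} (hw : σ w = w) : ∃ x, x * σ x = w := by
  set N : A →* A := (MonoidHom.id A) * σ with hN
  set F := MonoidHom.eqLocus σ (MonoidHom.id A) with hF
  have h1 : N.range ≤ F := by
    rintro _ ⟨x, rfl⟩
    change σ (x * σ x) = x * σ x
    rw [map_mul, h.invol, mul_comm]
  have h2 : Nat.card A = Nat.card N.ker * Nat.card N.range := by
    rw [← Subgroup.index_ker, Subgroup.card_mul_index]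
  have h3 : Nat.card N.range = Nat.card F := by
    have h4 := h.card
    rw [h2, mul_comm (Nat.card F)] at h4
    exact Nat.eq_of_mul_eq_mul_left Nat.card_pos h4
  have h5 : N.range = F := Subgroup.eq_of_le_of_card_ge h1 h3.ge
  have h6 : w ∈ F := hw
  rw [← h5] at h6
  obtain ⟨x, hx⟩ := h6
  exact ⟨x, hx⟩

/-- The map `x ↦ x (σ x)⁻¹` onto the elements of norm one. -/
theorem exists_quot (h : Hyp σ z u m β) {w : A} (hw : w * σ w = 1) : ∃ x, x * (σ x)⁻¹ = w := by
  set N : A →* A := (MonoidHom.id A) * σ with hN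
  set M : A →* A := (MonoidHom.id A) / σ with hM
  set F := MonoidHom.eqLocus σ (MonoidHom.id A) with hF
  have hMx : ∀ x, M x = x * (σ x)⁻¹ := fun x => div_eq_mul_inv _ _
  have h1 : M.range ≤ N.ker := by
    rintro _ ⟨x, rfl⟩
    change M x * σ (M x) = 1
    rw [hMx, map_mul, map_inv, h.invol]
    group
  have h0 : M.ker = F := by
    ext x
    rw [MonoidHom.mem_ker, hMx, mul_inv_eq_one]
    exact eq_comm
  have h2 : Nat.card A = Nat.card M.ker * Nat.card M.range := by
    rw [← Subgroup.index_ker, Subgroup.card_mul_index]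
  have h3 : Nat.card M.range = Nat.card N.ker := by
    have h4 := h.card
    rw [h2, h0] at h4
    exact Nat.eq_of_mul_eq_mul_left Nat.card_pos h4
  have h5 : M.range = N.ker := Subgroup.eq_of_le_of_card_ge h1 h3.ge
  have h6 : w ∈ N.ker := hw
  rw [← h5] at h6
  obtain ⟨x, hx⟩ := h6
  exact ⟨x, by rw [← hMx]; exact hx⟩

/-- The generator of the `2`-part of the elements of norm one. -/
theorem exists_y (h : Hyp σ z u m β) : ∃ y : A, y * σ y = 1 ∧ y ^ 2 ^ (m - 1) = z := by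
  obtain ⟨k, hk, hc⟩ := h.card_norm
  set N : A →* A := (MonoidHom.id A) * σ with hN
  have hzN : z ∈ N.ker := by
    change z * σ z = 1
    rw [h.σ_z, h.z_sq]
  obtain ⟨y, hy⟩ := exists_pow_eq (A := N.ker) (z := ⟨z, hzN⟩) (fun x hx => by
    rcases h.eq_or_of_norm (congrArg Subtype.val hx) x.2 with h1 | h1
    · exact Or.inl (Subtype.ext h1)
    · exact Or.inr (Subtype.ext h1)) (k := m - 1) (by
      rw [hc, Nat.sub_add_cancel h.one_le]; exact dvd_mul_right _ _)
  exact ⟨y, y.2, congrArg Subtype.val hy⟩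

/-- A homomorphism to `±1` trivial on the fixed points of `σ` and at one element `x` with
`x (σ x)⁻¹ = y`, is trivial. -/
theorem eq_one_of (h : Hyp σ z u m β) {y x₀ : A} (hy : y ^ 2 ^ (m - 1) = z)
    (hy1 : y * σ y = 1) (hx₀ : x₀ * (σ x₀)⁻¹ = y) {δ : A →* ℂˣ} (hδ : ∀ x, δ x ^ 2 = 1)
    (hδ1 : ∀ w, σ w = w → δ w = 1) (hδx : δ x₀ = 1) (x : A) : δ x = 1 := by
  obtain ⟨k, hk, hc⟩ := h.card_norm
  set N : A →* A := (MonoidHom.id A) * σ with hN
  have hyo : orderOf y = 2 ^ m := by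
    have : Fact (Nat.Prime 2) := ⟨Nat.prime_two⟩
    have h1 := orderOf_eq_prime_pow (x := y) (p := 2) (n := m - 1) (by rw [hy]; exact h.z_ne)
      (by rw [pow_succ, pow_mul, hy, sq]; exact h.z_sq)
    rwa [Nat.sub_add_cancel h.one_le] at h1
  -- the elements of norm one modulo `⟨y⟩`
  have hyN : y ∈ N.ker := hy1
  set Y : Subgroup N.ker := Subgroup.zpowers ⟨y, hyN⟩ with hY
  have hYi : Y.index = k := by
    have h1 := Y.card_mul_index
    rw [hY, Nat.card_zpowers, Subgroup.orderOf_mk, hyo, hc] at h1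
    exact Nat.eq_of_mul_eq_mul_left (by positivity) h1
  have h2 : x * (σ x)⁻¹ ∈ N.ker := by
    change x * (σ x)⁻¹ * σ (x * (σ x)⁻¹) = 1
    rw [map_mul, map_inv, h.invol]
    group
  have h3 : (⟨x * (σ x)⁻¹, h2⟩ : N.ker) ^ k ∈ Y := by
    rw [← hYi]
    exact Subgroup.pow_index_mem _ _
  obtain ⟨j, hj⟩ := Subgroup.mem_zpowers_iff.1 h3
  have h4 : y ^ j = (x * (σ x)⁻¹) ^ k := congrArg Subtype.val hj
  -- so `x ^ k * x₀ ^ (-j)` is fixed
  have h5 : σ (x ^ k * x₀ ^ (-j)) = x ^ k * x₀ ^ (-j) := by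
    rw [← hx₀] at h4
    rw [map_mul, map_pow, map_zpow]
    have h6 : σ x = x * (x * (σ x)⁻¹)⁻¹ := by rw [mul_inv, inv_inv, mul_inv_cancel_left]
    have h7 : σ x₀ = x₀ * (x₀ * (σ x₀)⁻¹)⁻¹ := by rw [mul_inv, inv_inv, mul_inv_cancel_left]
    rw [h6, h7, mul_pow, mul_zpow, inv_pow, ← h4, inv_zpow, zpow_neg (x₀ * (σ x₀)⁻¹), inv_inv]
    rw [mul_mul_mul_comm, inv_mul_cancel, mul_one]
  have h6 := hδ1 _ h5
  rw [map_mul, map_pow, map_zpow, hδx, one_zpow, mul_one] at h6
  obtain ⟨n, hn⟩ := hk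
  rw [hn, pow_succ, pow_mul, hδ, one_pow, one_mul] at h6
  exact h6

theorem half (h : Hyp σ z u m β) : 2 ^ m = 2 ^ (m - 1) * 2 := by
  rw [← pow_succ, Nat.sub_add_cancel h.one_le]

/-- **Existence of `ξ`.** -/
theorem exists_xi (h : Hyp σ z u m β) : ∃ ξ : A →* ℂˣ, (∀ x, ξ x * ξ (σ x) = β x) ∧
    (∀ x, ξ x ^ 2 ^ m = 1) ∧ ξ z = -1 ∧
    ∀ i j : ℤ, (∀ x, ξ x ^ i * ξ (σ x) ^ j = 1) → (2 ^ m : ℤ) ∣ i ∧ (2 ^ m : ℤ) ∣ j := by
  classical
  set N : A →* A := (MonoidHom.id A) * σ with hN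
  set F := MonoidHom.eqLocus σ (MonoidHom.id A) with hF
  have hNF : ∀ x, x * σ x ∈ F := by
    intro x
    change σ (x * σ x) = x * σ x
    rw [map_mul, h.invol, mul_comm]
  -- `ω` on the fixed points
  obtain ⟨ω, hω⟩ : ∃ ω : F →* ℂˣ, ∀ x, ω ⟨x * σ x, hNF x⟩ = β x := by
    let N' : A →* F := N.codRestrict F hNF
    have hN' : Function.Surjective N' := by
      rintro ⟨w, hw⟩
      obtain ⟨x, hx⟩ := h.exists_norm hw
      exact ⟨x, Subtype.ext hx⟩
    have hker : N'.ker ≤ β.ker := by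
      intro x hx
      exact h.β_norm x (congrArg Subtype.val hx)
    refine ⟨N'.liftOfSurjective hN' ⟨β, hker⟩, fun x => ?_⟩
    exact MonoidHom.liftOfRightInverse_comp_apply _ _ _ ⟨β, hker⟩ x
  have hωpow : ∀ w : F, ω w ^ 2 ^ m = 1 := by
    rintro ⟨w, hw⟩
    obtain ⟨x, hx⟩ := h.exists_norm hw
    have : (⟨w, hw⟩ : F) = ⟨x * σ x, hNF x⟩ := Subtype.ext hx.symm
    rw [this, hω, h.β_pow]
  -- an extension
  obtain ⟨ξ₀, hξ₀⟩ := MonoidHom.domRestrict_surjective (M := ℂ) F ω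
  have hξ₀' : ∀ w : F, ξ₀ w = ω w := fun w => by rw [← hξ₀]; rfl
  -- the `2`-part
  obtain ⟨k₁, hk₁, hc₁⟩ := h.card_fix
  obtain ⟨k₂, hk₂, hc₂⟩ := h.card_norm
  rw [← hF] at hc₁
  rw [← hN] at hc₂
  have hcard : Nat.card A = 2 ^ m * (2 ^ m * (k₁ * k₂)) := by
    rw [h.card, ← hF, ← hN, hc₁, hc₂]; ring
  have hkk : Odd (k₁ * k₂) := hk₁.mul hk₂
  have hcop : Nat.Coprime (2 ^ m) (k₁ * k₂) :=
    Nat.Coprime.pow_left _ (Nat.coprime_two_left.2 hkk)
  obtain ⟨e, he1, he2⟩ := Nat.chineseRemainder hcop 1 0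
  obtain ⟨c, hec⟩ := (Nat.modEq_zero_iff_dvd).1 he2
  have hξp : ∀ x, (ξ₀ x ^ e) ^ (2 ^ m * 2 ^ m) = 1 := by
    intro x
    rw [← pow_mul, hec]
    have h1 : k₁ * k₂ * c * (2 ^ m * 2 ^ m) = Nat.card A * c := by rw [hcard]; ring
    rw [h1, pow_mul, ← map_pow, pow_card_eq_one', map_one, one_pow]
  -- the homomorphism `ξ`
  set ξ : A →* ℂˣ := ξ₀ ^ e with hξ
  have hξx : ∀ x, ξ x = ξ₀ x ^ e := fun x => rfl
  have hξF : ∀ w (hw : w ∈ F), ξ w = ω ⟨w, hw⟩ := by
    intro w hw
    rw [hξx]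
    have h1 : ξ₀ w = ω ⟨w, hw⟩ := hξ₀' ⟨w, hw⟩
    rw [h1]
    have h2 : e ≡ 1 [MOD orderOf (ω ⟨w, hw⟩)] :=
      he1.of_dvd (orderOf_dvd_of_pow_eq_one (hωpow _))
    have := (pow_eq_pow_iff_modEq (x := ω ⟨w, hw⟩)).2 h2
    rw [this, pow_one]
  have hnorm : ∀ x, ξ x * ξ (σ x) = β x := by
    intro x
    rw [← map_mul, hξF _ (hNF x), hω]
  have hp2 : ∀ x, ξ x ^ (2 ^ m * 2 ^ m) = 1 := hξp
  -- value at `z`
  have hzF : z ∈ F := h.σ_z
  have hξz : ξ z = -1 := by
    have h1 : ξ z * ξ z = 1 := by rw [← map_mul, h.z_sq, map_one]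
    have h2 : ξ z ≠ 1 := by
      intro h3
      rw [hξF z hzF] at h3
      -- `|ker ω|` is odd
      have h4 : Nat.card ω.range = 2 ^ m := by
        obtain ⟨x, hx⟩ := h.β_order
        have h5 : 2 ^ m ∣ Nat.card ω.range := by
          rw [← hx, ← hω x, ← Subgroup.orderOf_mk (H := ω.range) _ ⟨_, rfl⟩]
          exact orderOf_dvd_natCard _
        refine Nat.dvd_antisymm ?_ h5
        have hfin : Finite ω.range := Finite.of_surjective _ ω.rangeRestrict_surjective
        have h6 : IsCyclic ω.range := inferInstance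
        obtain ⟨g, hg⟩ := h6.exists_generator
        rw [← orderOf_eq_card_of_forall_mem_zpowers hg]
        refine orderOf_dvd_of_pow_eq_one (Subtype.ext ?_)
        obtain ⟨w, hw⟩ := g.2
        rw [Subgroup.coe_pow, ← hw, Subgroup.coe_one]
        exact hωpow w
      have h5 : Nat.card ω.ker = k₁ := by
        have h6 := Subgroup.card_mul_index ω.ker
        rw [Subgroup.index_ker, h4, hc₁, mul_comm] at h6
        exact Nat.eq_of_mul_eq_mul_left (by positivity) h6
      have h6 : (⟨⟨z, hzF⟩, h3⟩ : ω.ker) ^ Nat.card ω.ker = 1 := pow_card_eq_one'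
      rw [h5] at h6
      have h7 : z ^ k₁ = 1 := congrArg (fun x : ω.ker => ((x : F) : A)) h6
      obtain ⟨n, hn⟩ := hk₁
      rw [hn, pow_succ, pow_mul, sq, h.z_sq, one_pow, one_mul] at h7
      exact h.z_ne h7
    exact (units_sq h1).resolve_left h2
  obtain ⟨y, hy1, hy⟩ := h.exists_y
  obtain ⟨x₀, hx₀⟩ := h.exists_quot hy1
  -- `ξ ^ r = 1` on the elements of norm one
  have hT0 : ∀ x, x * σ x = 1 → ξ x ^ 2 ^ m = 1 := by
    intro x hx
    have h1 : (⟨x, hx⟩ : N.ker) ^ Nat.card N.ker = 1 := pow_card_eq_one'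
    have h2 : x ^ (2 ^ m * k₂) = 1 := by
      rw [hc₂] at h1
      exact congrArg Subtype.val h1
    have h3 : ξ x ^ (2 ^ m * k₂) = 1 := by rw [← map_pow, h2, map_one]
    have h4 := Nat.dvd_gcd (orderOf_dvd_of_pow_eq_one h3) (orderOf_dvd_of_pow_eq_one (hp2 x))
    rw [Nat.gcd_mul_left] at h4
    have h5 : Nat.gcd k₂ (2 ^ m) = 1 :=
      Nat.Coprime.pow_right _ (Nat.coprime_two_right.2 hk₂)
    rw [h5, mul_one] at h4
    exact orderOf_dvd_iff_pow_eq_one.1 h4
  have hβhalf : ∀ x, (β x ^ 2 ^ (m - 1)) ^ 2 = 1 := by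
    intro x
    rw [← pow_mul, ← h.half, h.β_pow]
  have hβx₀ : β x₀ ^ 2 ^ (m - 1) = -1 := by
    have h1 : β x₀ ^ 2 ^ (m - 1) ≠ 1 := by
      intro h2
      have h3 : ∀ x, (β ^ 2 ^ (m - 1) : A →* ℂˣ) x = 1 := by
        refine h.eq_one_of hy hy1 hx₀ (fun x => hβhalf x) (fun w hw => ?_) h2
        change β w ^ 2 ^ (m - 1) = 1
        have h4 : ξ w * ξ w = β w := by
          have := hnorm w
          rwa [hw] at this
        rw [← h4, ← sq, ← pow_mul, mul_comm 2, ← h.half, hξF w hw, hωpow]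
      obtain ⟨x, hx⟩ := h.β_order
      have h4 : orderOf (β x) ∣ 2 ^ (m - 1) := orderOf_dvd_of_pow_eq_one (h3 x)
      rw [hx] at h4
      have h5 := Nat.le_of_dvd (by positivity) h4
      have h6 := h.half
      have h7 : 0 < 2 ^ (m - 1) := by positivity
      omega
    exact (units_sq (by rw [← sq]; exact hβhalf x₀)).resolve_left h1
  have hpow : ∀ x, ξ x ^ 2 ^ m = 1 := by
    refine h.eq_one_of hy hy1 hx₀ (δ := ξ ^ 2 ^ m) (fun x => ?_) (fun w hw => ?_) ?_
    · change (ξ x ^ 2 ^ m) ^ 2 = 1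
      have h1 : ξ x ^ 2 = β x * ξ (x * (σ x)⁻¹) := by
        rw [← hnorm x, map_mul, map_inv, mul_assoc, mul_inv_cancel_comm_assoc, sq]
      have h2 : x * (σ x)⁻¹ * σ (x * (σ x)⁻¹) = 1 := by
        rw [map_mul, map_inv, h.invol]; group
      rw [← pow_mul, mul_comm, pow_mul, h1, mul_pow, h.β_pow, hT0 _ h2, one_mul]
    · change ξ w ^ 2 ^ m = 1
      rw [hξF w hw, hωpow]
    · change ξ x₀ ^ 2 ^ m = 1
      have h1 : ξ x₀ ^ 2 = β x₀ * ξ y := by
        rw [← hnorm x₀, ← hx₀, map_mul, map_inv, mul_assoc, mul_inv_cancel_comm_assoc, sq]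
      rw [h.half, mul_comm, pow_mul, h1, mul_pow, ← map_pow ξ, hy, hξz, hβx₀]
      norm_num
  refine ⟨ξ, hnorm, hpow, hξz, fun i j hij => ?_⟩
  have hr : (2 ^ m : ℤ) = 2 ^ (m - 1) * 2 := by exact_mod_cast h.half
  -- `i + j`
  have h1 : (2 ^ m : ℤ) ∣ i + j := by
    obtain ⟨x, hx⟩ := h.β_order
    have h2 := hij (x * σ x)
    rw [hNF x, MonoidHom.id_apply, ← zpow_add, map_mul, hnorm] at h2
    have := orderOf_dvd_iff_zpow_eq_one.2 h2
    rw [hx] at this
    exact_mod_cast this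
  have h2 : (2 ^ m : ℤ) ∣ i - j := by
    have h3 := hij y
    have h4 : σ y = y⁻¹ := by rw [eq_inv_iff_mul_eq_one, mul_comm]; exact hy1
    rw [h4, map_inv, inv_zpow, ← zpow_neg, ← zpow_add, ← sub_eq_add_neg] at h3
    have h5 := orderOf_dvd_iff_zpow_eq_one.2 h3
    have h6 : orderOf (ξ y) = 2 ^ m := by
      have : Fact (Nat.Prime 2) := ⟨Nat.prime_two⟩
      have h7 : (-1 : ℂˣ) ≠ 1 := by
        intro h8
        have := congrArg Units.val h8
        norm_num at this
      have h1 := orderOf_eq_prime_pow (x := ξ y) (p := 2) (n := m - 1)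
        (by rw [← map_pow, hy, hξz]; exact h7)
        (by rw [pow_succ, pow_mul, ← map_pow, hy, hξz]; norm_num)
      rwa [Nat.sub_add_cancel h.one_le] at h1
    rw [h6] at h5
    exact_mod_cast h5
  obtain ⟨a, ha⟩ := h1
  obtain ⟨c', hc'⟩ := h2
  have hi : i = 2 ^ (m - 1) * (a + c') := by
    have : 2 * i = 2 * (2 ^ (m - 1) * (a + c')) := by
      rw [hr] at ha hc'
      linear_combination ha + hc'
    linarith
  have hj : j = 2 ^ (m - 1) * (a - c') := by
    have : 2 * j = 2 * (2 ^ (m - 1) * (a - c')) := by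
      rw [hr] at ha hc'
      linear_combination ha - hc'
    linarith
  rcases Int.even_or_odd (a + c') with hev | hodd
  · obtain ⟨d, hd⟩ := hev
    refine ⟨⟨d, ?_⟩, ⟨d - c', ?_⟩⟩
    · rw [hi, hr, hd]; ring
    · rw [hj, hr]
      have : a - c' = 2 * (d - c') := by linarith
      rw [this]; ring
  · exfalso
    obtain ⟨d, hd⟩ := hodd
    obtain ⟨x, hx⟩ := h.β_order
    have h3 := hij x
    have h4 : ∀ w : ℂˣ, w ^ 2 ^ m = 1 → ∀ n : ℤ, w ^ ((2 : ℤ) ^ (m - 1) * (2 * n + 1)) = w ^ 2 ^ (m - 1) := by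
      intro w hw n
      have h5 : (2 : ℤ) ^ (m - 1) * (2 * n + 1) = ((2 ^ m : ℕ) : ℤ) * n + ((2 ^ (m - 1) : ℕ) : ℤ) := by
        push_cast
        rw [hr]; ring
      rw [h5, zpow_add, zpow_mul, zpow_natCast, zpow_natCast, hw, one_zpow, one_mul]
    have h5 : a - c' = 2 * (d - c') + 1 := by linarith
    rw [hi, hj, hd, h5, h4 _ (hpow x), h4 _ (hpow _), ← mul_pow, hnorm] at h3
    have h6 := orderOf_dvd_of_pow_eq_one h3
    rw [hx] at h6
    have h7 := Nat.le_of_dvd (by positivity) h6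
    have h8 := h.half
    have h9 : 0 < 2 ^ (m - 1) := by positivity
    omega

end Hyp

end Cfsg.Agent.Classification.InvCent.WrXi
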