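import Mathlib
import Cfsg.Agent.Classification.InvCent.LinChar
import Cfsg.Agent.Classification.InvCent.WrXi

/-!
# The linear characters `ξ` of `T` and `θ` of `T'` (wreathed case, `4 ∣ q - ε`)
-/

set_option autoImplicit false
set_option linter.unusedSectionVars false

open Cfsg
open scoped ComplexConjugate

namespace Cfsg.Agent.Classification.InvCent.WrChar

open Cfsg.Agent.Characters Cfsg.Agent.Classification.InvCent
  Cfsg.Agent.Classification.InvCent.LinChar

variable {C : Type*} [Group C] {z : C} {q : ℕ} {ε : ℤ} {Z T T' U : Subgroup C} {s s' u : C}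
  {r : ℕ} {b : C →* ℂˣ}

section Numbers

theorem card_Z (hC : CHyp z q ε Z T T' U s s' u) (hD : DetHyp q ε T T' U s s' u r b) :
    ∃ k, Odd k ∧ Nat.card Z = r * k := by
  obtain ⟨z₀, hz₀, h1⟩ := hC.card_Z
  obtain ⟨k, hk, h2⟩ := hD.r_dvd
  obtain ⟨m, -, hm⟩ := hD.r_pow
  have h3 : (r : ℤ) ∣ (Nat.card Z : ℤ) * z₀ := ⟨k, by rw [h1, h2]⟩
  have h4 : IsCoprime (r : ℤ) (z₀ : ℤ) := by
    rw [Nat.isCoprime_iff_coprime, hm]
    exact Nat.Coprime.pow_left _ (Nat.coprime_two_left.2 hz₀)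
  obtain ⟨k', hk'⟩ := h4.dvd_of_dvd_mul_right h3
  have hr : (r : ℤ) ≠ 0 := by
    rw [hm]; positivity
  have h5 : k' * z₀ = k := by
    have h6 : (r : ℤ) * (k' * z₀) = r * k := by rw [← mul_assoc, ← hk', h1, h2]
    exact mul_left_cancel₀ hr h6
  have h6 : Odd k' := by
    rw [← h5] at hk
    exact (Int.odd_mul.1 hk).1
  have h7 : 0 ≤ k' := by
    by_contra h8
    push Not at h8
    have h9 : (0 : ℤ) ≤ Nat.card Z := by positivity
    rw [hk'] at h9
    have h10 : (0 : ℤ) < r := lt_of_le_of_ne (by positivity) hr.symm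
    nlinarith
  obtain ⟨n, rfl⟩ := Int.eq_ofNat_of_zero_le h7
  exact ⟨n, by exact_mod_cast h6, by exact_mod_cast hk'⟩

theorem odd_half (hC : CHyp z q ε Z T T' U s s' u) (hD : DetHyp q ε T T' U s s' u r b)
    (hr : 4 ∣ r) : ∃ k : ℕ, Odd k ∧ ((q : ℤ) + ε) = 2 * k := by
  obtain ⟨k, -, h2⟩ := hD.r_dvd
  obtain ⟨c, hc⟩ := hr
  have h3 : (q : ℤ) - ε = 4 * (c * k) := by rw [h2, hc]; push_cast; ring
  have h4 := hC.one_lt_q
  rcases hC.eps with h5 | h5
  · have h6 : (0 : ℤ) ≤ 2 * (c * k) + 1 := by omega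
    obtain ⟨n, hn⟩ := Int.eq_ofNat_of_zero_le h6
    refine ⟨n, ?_, by omega⟩
    have : Odd (n : ℤ) := ⟨c * k, by omega⟩
    exact_mod_cast this
  · have h6 : (0 : ℤ) ≤ 2 * (c * k) - 1 := by omega
    obtain ⟨n, hn⟩ := Int.eq_ofNat_of_zero_le h6
    refine ⟨n, ?_, by omega⟩
    have : Odd (n : ℤ) := ⟨c * k - 1, by omega⟩
    exact_mod_cast this

end Numbers

section Group

variable [Finite C]

theorem z_mul_z (hC : CHyp z q ε Z T T' U s s' u) : z * z = 1 := by
  have := pow_orderOf_eq_one z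
  rwa [hC.orderOf_t, sq] at this

theorem z_ne (hC : CHyp z q ε Z T T' U s s' u) : z ≠ 1 := by
  rintro rfl
  have := hC.orderOf_t
  rw [orderOf_one] at this
  omega

theorem u_mul_u (hC : CHyp z q ε Z T T' U s s' u) : u * u = 1 := by
  have := pow_orderOf_eq_one u
  rwa [hC.orderOf_u, sq] at this

theorem u_ne_one (hC : CHyp z q ε Z T T' U s s' u) : u ≠ 1 := by
  rintro rfl
  have := hC.orderOf_u
  rw [orderOf_one] at this
  omega

theorem z_mem (hC : CHyp z q ε Z T T' U s s' u) : z ∈ T := hC.Z_le_T hC.t_mem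

/-- Fixed points of `s` on `T`. -/
theorem card_fix (hC : CHyp z q ε Z T T' U s s' u) :
    Nat.card {x : T // sg hC.torus x = x} = Nat.card Z := by
  refine Nat.card_congr
    { toFun := fun x => ⟨x.1, (sg_fix hC.torus hC.base).1 x.2⟩
      invFun := fun x => ⟨⟨x.1, hC.Z_le_T x.2⟩, (sg_fix hC.torus hC.base).2 x.2⟩
      left_inv := fun x => rfl
      right_inv := fun x => rfl }

theorem card_norm (hC : CHyp z q ε Z T T' U s s' u) :
    (Nat.card {x : T // x * sg hC.torus x = 1} : ℤ) = q - ε := by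
  rw [← hC.card_T₀]
  congr 1
  refine Nat.card_congr (Equiv.subtypeEquivRight fun x => ?_)
  rw [Subtype.ext_iff]
  rfl

/-- The linear character `ξ` of `T`. -/
theorem exists_xi (hC : CHyp z q ε Z T T' U s s' u) (hD : DetHyp q ε T T' U s s' u r b) :
    ∃ ξ : T →* ℂˣ, (∀ x, ξ x * ξ (sg hC.torus x) = b x) ∧ (∀ x, ξ x ^ r = 1) ∧
      ξ ⟨z, z_mem hC⟩ = -1 ∧
      ∀ i j : ℤ, (∀ x, ξ x ^ i * ξ (sg hC.torus x) ^ j = 1) → (r : ℤ) ∣ i ∧ (r : ℤ) ∣ j := by
  obtain ⟨m, hm1, hm⟩ := hD.r_pow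
  obtain ⟨k₁, hk₁, hc₁⟩ := card_Z hC hD
  obtain ⟨k₂, hk₂, hc₂⟩ := hD.r_dvd
  let _ : CommGroup T := { (inferInstance : Group T) with
    mul_comm := fun x y => Subtype.ext (hC.T_comm x x.2 y y.2) }
  have hk₂0 : 0 ≤ k₂ := by
    by_contra h8
    push Not at h8
    have h9 : (0 : ℤ) < q - ε := by
      have := hC.one_lt_q
      rcases hC.eps with h | h <;> omega
    have h10 : (0 : ℤ) < r := by rw [hm]; positivity
    nlinarith
  obtain ⟨k₂', rfl⟩ := Int.eq_ofNat_of_zero_le hk₂0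
  have hker : Nat.card ((MonoidHom.id T) * sg hC.torus).ker = r * k₂' := by
    have h1 : (Nat.card {x : T // x * sg hC.torus x = 1} : ℤ) = r * k₂' := by
      rw [card_norm hC, hc₂]
    have h2 : Nat.card {x : T // x * sg hC.torus x = 1} = r * k₂' := by exact_mod_cast h1
    rw [← h2]
    rfl
  have hfix : Nat.card (MonoidHom.eqLocus (sg hC.torus) (MonoidHom.id T)) = r * k₁ := by
    rw [← hc₁, ← card_fix hC]
    rfl
  have hyp : WrXi.Hyp (sg hC.torus) (⟨z, z_mem hC⟩ : T) ⟨u, hC.u_mem⟩ m (b.comp T.subtype) :=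
    { one_le := hm1
      invol := fun x => sg_sg hC.torus x
      z_sq := Subtype.ext (z_mul_z hC)
      z_ne := fun h => z_ne hC (congrArg Subtype.val h)
      u_sq := Subtype.ext (u_mul_u hC)
      u_ne := fun h => u_ne_one hC (congrArg Subtype.val h)
      σ_z := (sg_fix hC.torus hC.base).2 hC.t_mem
      σ_u := Subtype.ext hC.s_u
      two := fun x hx => by
        rcases hC.invol_T x x.2 (congrArg Subtype.val hx) with h | h | h | h
        · exact Or.inl (Subtype.ext h)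
        · exact Or.inr (Or.inl (Subtype.ext h))
        · exact Or.inr (Or.inr (Or.inl (Subtype.ext h)))
        · exact Or.inr (Or.inr (Or.inr (Subtype.ext h)))
      card_fix := ⟨k₁, hk₁, by rw [hfix, hm]⟩
      card_norm := ⟨k₂', by exact_mod_cast hk₂, by rw [hker, hm]⟩
      β_norm := fun x hx => hD.b_T₀ x x.2 (congrArg Subtype.val hx)
      β_pow := fun x => by rw [← hm]; exact hD.pow_eq_one x
      β_order := by
        obtain ⟨x, hx, ho⟩ := hD.exists_T
        exact ⟨⟨x, hx⟩, by rw [← hm]; exact ho⟩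
      card := by
        rw [hfix, hker]
        have h1 := hC.card_T
        rw [hc₂, hc₁] at h1
        exact_mod_cast h1 }
  obtain ⟨ξ, h1, h2, h3, h4⟩ := hyp.exists_xi
  refine ⟨ξ, h1, ?_, h3, ?_⟩
  · rw [hm]; exact h2
  · rw [hm]; exact_mod_cast h4

theorem z_mem' (hC : CHyp z q ε Z T T' U s s' u) : z ∈ T' := hC.Z_le_T' hC.t_mem

/-- The order of `T'`. -/
theorem card_T' (hC : CHyp z q ε Z T T' U s s' u) (hD : DetHyp q ε T T' U s s' u r b)
    (hr : 4 ∣ r) : ∃ k, Odd k ∧ Nat.card T' = 2 * r * k := by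
  obtain ⟨k₁, hk₁, hc₁⟩ := card_Z hC hD
  obtain ⟨k₂, hk₂, hc₂⟩ := odd_half hC hD hr
  refine ⟨k₁ * k₂, hk₁.mul hk₂, ?_⟩
  have h1 := hC.card_T'
  rw [hc₁, hc₂] at h1
  have h2 : (Nat.card T' : ℤ) = ((2 * r * (k₁ * k₂) : ℕ) : ℤ) := by rw [h1]; push_cast; ring
  exact_mod_cast h2

/-- A finite cyclic group has at most one involution. -/
theorem unique_involution {A : Type*} [Group A] [Finite A] [IsCyclic A] {a b : A}
    (ha : orderOf a = 2) (hb : orderOf b = 2) : a = b := by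
  classical
  have := Fintype.ofFinite A
  have h2 : 2 ∣ Fintype.card A := by
    rw [← ha, ← Nat.card_eq_fintype_card]; exact orderOf_dvd_natCard a
  have h := IsCyclic.card_orderOf_eq_totient (α := A) h2
  have h1 : Finset.card {c : A | orderOf c = 2} = 1 := by rw [h]; rfl
  rw [Finset.card_eq_one] at h1
  obtain ⟨c, hc⟩ := h1
  have ha' : a ∈ ({c : A | orderOf c = 2} : Finset A) := by simpa using ha
  have hb' : b ∈ ({c : A | orderOf c = 2} : Finset A) := by simpa using hb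
  rw [hc, Finset.mem_singleton] at ha' hb'
  rw [ha', hb']

/-- `z` is the only involution of `T'`. -/
theorem eq_z_of_sq (hC : CHyp z q ε Z T T' U s s' u) {x : C} (hx : x ∈ T') (h2 : x * x = 1)
    (h1 : x ≠ 1) : x = z := by
  have hcyc := hC.T'_cyclic
  have hx' : orderOf (⟨x, hx⟩ : T') = 2 := orderOf_eq_prime (by
    rw [sq]; exact Subtype.ext h2) (fun h => h1 (congrArg Subtype.val h))
  have hz' : orderOf (⟨z, z_mem' hC⟩ : T') = 2 := orderOf_eq_prime (by
    rw [sq]; exact Subtype.ext (z_mul_z hC)) (fun h => z_ne hC (congrArg Subtype.val h))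
  exact congrArg Subtype.val (unique_involution hx' hz')

theorem b_z (hC : CHyp z q ε Z T T' U s s' u) (hD : DetHyp q ε T T' U s s' u r b) : b z = 1 := by
  refine hD.b_T₀ z (z_mem hC) ?_
  rw [hC.Z_central z hC.t_mem s, mul_inv_cancel_right, z_mul_z hC]

/-- The linear character `θ` of `T'`. -/
theorem exists_theta (hC : CHyp z q ε Z T T' U s s' u) (hD : DetHyp q ε T T' U s s' u r b)
    (hr : 4 ∣ r) : ∃ θ : T' →* ℂˣ, (∀ x, θ x ^ 2 = b x) ∧ θ ⟨z, z_mem' hC⟩ = -1 ∧
      (∀ x, θ (sg hC.torus' x) = θ x * b x ^ (r / 2)) ∧ ∃ x, orderOf (θ x) = 2 * r := by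
  obtain ⟨m, hm1, hm⟩ := hD.r_pow
  obtain ⟨k, hk, hc⟩ := card_T' hC hD hr
  have hcyc := hC.T'_cyclic
  obtain ⟨g, hg⟩ := hcyc.exists_generator
  have hgo : orderOf g = Nat.card T' := orderOf_eq_card_of_forall_mem_zpowers hg
  have hr2 : r = r / 2 * 2 := by omega
  have hr0 : 0 < r := by rw [hm]; positivity
  -- `b g` has order `r`
  have hbr : b g ^ r = 1 := hD.pow_eq_one g
  have hbh : b g ^ (r / 2) ≠ 1 := by
    intro h1
    obtain ⟨x, hx, ho⟩ := hD.exists_T'
    obtain ⟨j, hj⟩ := Subgroup.mem_zpowers_iff.1 (hg ⟨x, hx⟩)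
    have h2 : (g : C) ^ j = x := congrArg Subtype.val hj
    have h3 : b x ^ (r / 2) = 1 := by
      rw [← h2, map_zpow, ← zpow_natCast, ← zpow_mul, mul_comm, zpow_mul, zpow_natCast, h1,
        one_zpow]
    have h4 := orderOf_dvd_of_pow_eq_one h3
    rw [ho] at h4
    have := Nat.le_of_dvd (by omega) h4
    omega
  have hbh' : b g ^ (r / 2) = -1 := by
    refine (WrXi.units_sq ?_).resolve_left hbh
    rw [← pow_two, ← pow_mul, ← hr2, hbr]
  -- a square root
  obtain ⟨w, hw⟩ : ∃ w : ℂˣ, w ^ 2 = b g := by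
    obtain ⟨w, hw⟩ := IsAlgClosed.exists_pow_nat_eq (b g : ℂ) (n := 2) (by norm_num)
    have hw0 : w ≠ 0 := by
      rintro rfl
      rw [zero_pow (by norm_num)] at hw
      exact (b (g : C)).ne_zero hw.symm
    exact ⟨Units.mk0 w hw0, Units.ext (by rw [Units.val_pow_eq_pow_val]; exact hw)⟩
  have hwr : w ^ r = -1 := by rw [hr2, mul_comm, pow_mul, hw, hbh']
  have hneg : (-1 : ℂˣ) ≠ 1 := by
    intro h8
    have := congrArg Units.val h8
    norm_num at this
  have hwo : orderOf w = 2 * r := by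
    have : Fact (Nat.Prime 2) := ⟨Nat.prime_two⟩
    have h1 := orderOf_eq_prime_pow (x := w) (p := 2) (n := m)
      (by rw [← hm, hwr]; exact hneg) (by rw [pow_succ, ← hm, pow_mul, hwr]; norm_num)
    rw [h1, pow_succ, ← hm, mul_comm]
  have hdvd : orderOf w ∣ orderOf g := by
    rw [hwo, hgo, hc]
    exact dvd_mul_right _ _
  set θ : T' →* ℂˣ := monoidHomOfForallMemZpowers hg hdvd with hθ
  have hθg : θ g = w := monoidHomOfForallMemZpowers_apply_gen hg hdvd
  have hθsq : ∀ x, θ x ^ 2 = b x := by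
    intro x
    obtain ⟨j, hj⟩ := Subgroup.mem_zpowers_iff.1 (hg x)
    have h2 : (g : C) ^ j = x := congrArg Subtype.val hj
    rw [← h2, map_zpow, ← hj, map_zpow, hθg, ← hw, ← zpow_natCast, ← zpow_natCast, ← zpow_mul,
      ← zpow_mul, mul_comm]
  have hθz : θ ⟨z, z_mem' hC⟩ = -1 := by
    have h1 : θ ⟨z, z_mem' hC⟩ * θ ⟨z, z_mem' hC⟩ = 1 := by
      rw [← sq, hθsq]
      exact b_z hC hD
    refine (WrXi.units_sq h1).resolve_left fun h2 => ?_
    -- `|ker θ|` is odd
    have h3 : Nat.card θ.range = 2 * r := by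
      have h4 : θ.range = Subgroup.zpowers w := by
        apply le_antisymm
        · rintro _ ⟨x, rfl⟩
          obtain ⟨j, hj⟩ := Subgroup.mem_zpowers_iff.1 (hg x)
          rw [← hj, map_zpow, hθg]
          exact zpow_mem (Subgroup.mem_zpowers w) j
        · rw [Subgroup.zpowers_le]
          exact ⟨g, hθg⟩
      rw [h4, Nat.card_zpowers, hwo]
    have h5 : Nat.card θ.ker = k := by
      have h6 := Subgroup.card_mul_index θ.ker
      rw [Subgroup.index_ker, h3, hc, mul_comm] at h6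
      exact Nat.eq_of_mul_eq_mul_left (by omega) h6
    have h6 : (⟨⟨z, z_mem' hC⟩, h2⟩ : θ.ker) ^ Nat.card θ.ker = 1 := pow_card_eq_one'
    rw [h5] at h6
    have h7 : z ^ k = 1 := congrArg (fun x : θ.ker => ((x : T') : C)) h6
    obtain ⟨n, hn⟩ := hk
    rw [hn, pow_succ, pow_mul, sq, z_mul_z hC, one_pow, one_mul] at h7
    exact z_ne hC h7
  refine ⟨θ, hθsq, hθz, ?_, g, by rw [hθg, hwo]⟩
  -- the action of `s'`
  set κ : T' →* ℂˣ := θ⁻¹ * θ.comp (sg hC.torus') with hκ
  have hκx : ∀ x, κ x = (θ x)⁻¹ * θ (sg hC.torus' x) := fun x => rfl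
  have hbs : ∀ x : T', b (sg hC.torus' x : T') = b x := by
    intro x
    rw [sg_coe, map_mul, map_mul, map_inv, mul_comm (b s'), mul_inv_cancel_right]
  have hκ2 : ∀ x, κ x * κ x = 1 := by
    intro x
    have h1 : κ x * κ x = (θ x ^ 2)⁻¹ * θ (sg hC.torus' x) ^ 2 := by
      rw [hκx, sq, sq, mul_inv]
      exact mul_mul_mul_comm _ _ _ _
    rw [h1, hθsq, hθsq, hbs, inv_mul_cancel]
  have hκg : κ g ≠ 1 := by
    intro h1
    -- then `θ` is `s'`-invariant
    have h2 : ∀ x, κ x = 1 := by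
      intro x
      obtain ⟨j, hj⟩ := Subgroup.mem_zpowers_iff.1 (hg x)
      rw [← hj, map_zpow, h1, one_zpow]
    let _ : CommGroup T' := { (inferInstance : Group T') with
      mul_comm := fun x y => Subtype.ext (hC.T'_comm x x.2 y y.2) }
    set M : T' →* T' := (MonoidHom.id T') / sg hC.torus' with hM
    have hMx : ∀ x, M x = x * (sg hC.torus' x)⁻¹ := fun x => div_eq_mul_inv _ _
    have hker : Nat.card M.ker = Nat.card Z := by
      refine Nat.card_congr
        { toFun := fun x => ⟨x.1, (sg_fix hC.torus' hC.base).1 ?_⟩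
          invFun := fun x => ⟨⟨x.1, hC.Z_le_T' x.2⟩, ?_⟩
          left_inv := fun x => rfl
          right_inv := fun x => rfl }
      · have h3 := x.2
        rw [MonoidHom.mem_ker, hMx, mul_inv_eq_one] at h3
        exact h3.symm
      · rw [MonoidHom.mem_ker, hMx, mul_inv_eq_one]
        exact ((sg_fix hC.torus' hC.base).2 x.2).symm
    have h3 : Nat.card T' = Nat.card M.ker * Nat.card M.range := by
      rw [← Subgroup.index_ker, Subgroup.card_mul_index]
    obtain ⟨k₂, hk₂, hc₂⟩ := odd_half hC hD hr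
    have h4 : Nat.card M.range = 2 * k₂ := by
      have h5 := hC.card_T'
      rw [h3, hker, hc₂] at h5
      have h6 : (Nat.card Z : ℤ) ≠ 0 := by exact_mod_cast Nat.card_pos.ne'
      push_cast at h5
      exact_mod_cast mul_left_cancel₀ h6 h5
    have : Fact (Nat.Prime 2) := ⟨Nat.prime_two⟩
    obtain ⟨v, hv⟩ := exists_prime_orderOf_dvd_card' (G := M.range) 2 (by rw [h4]; exact dvd_mul_right _ _)
    obtain ⟨x, hx⟩ := v.2
    have hv1 : (((v : T') : C)) * ((v : T') : C) = 1 := by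
      have := pow_orderOf_eq_one v
      rw [hv, sq] at this
      exact congrArg (fun y : M.range => ((y : T') : C)) this
    have hv2 : ((v : T') : C) ≠ 1 := by
      intro h5
      have : v = 1 := Subtype.ext (Subtype.ext h5)
      rw [this, orderOf_one] at hv
      omega
    have h5 := eq_z_of_sq hC (v : T').2 hv1 hv2
    have h6 : (v : T') = ⟨z, z_mem' hC⟩ := Subtype.ext h5
    apply hneg
    rw [← hθz, ← h6, ← hx, hMx, map_mul, map_inv]
    have h7 := h2 x
    rw [hκx, inv_mul_eq_one] at h7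
    rw [← h7, mul_inv_cancel]
  have hκg' : κ g = -1 := (WrXi.units_sq (hκ2 g)).resolve_left hκg
  intro x
  have h1 : κ x = b x ^ (r / 2) := by
    obtain ⟨j, hj⟩ := Subgroup.mem_zpowers_iff.1 (hg x)
    have h2 : (g : C) ^ j = x := congrArg Subtype.val hj
    rw [← h2, map_zpow, ← hj, map_zpow, hκg', ← hbh', ← zpow_natCast, ← zpow_natCast, ← zpow_mul,
      ← zpow_mul, mul_comm]
  rw [← h1, hκx, mul_inv_cancel_left]

end Group

end Cfsg.Agent.Classification.InvCent.WrChar
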