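import Mathlib
import Cfsg.Agent.Classification.InvCent.WrChar
import Cfsg.Agent.Classification.InvCent.PairCount

/-!
# The class functions of the wreathed case on `C`

`Rt χ = R_T(χ)`, `Rt' χ = R_T'(χ)`; `Phi l i = R_T'(θ^(2l) - θ^(2i+1))`; `Wf k = R_T(f_k)`,
`f_k = ∑_i ξ^i (ξ^s)^(k-i)`; `Psi`.
-/

set_option autoImplicit false
set_option linter.unusedSectionVars false

open Cfsg
open scoped ComplexConjugate

namespace Cfsg.Agent.Classification.InvCent.WrFun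

open Cfsg.Agent.Characters Cfsg.Agent.Classification.InvCent
  Cfsg.Agent.Classification.InvCent.LinChar Cfsg.Agent.Classification.InvCent.WrChar

variable {C : Type*} [Group C] {z : C} {q : ℕ} {ε : ℤ} {Z T T' U : Subgroup C} {s s' u : C}
  {r : ℕ} {b : C →* ℂˣ}

/-- The character `ξ`. -/
structure XiHyp [Finite C] (hC : CHyp z q ε Z T T' U s s' u) (r : ℕ) (b : C →* ℂˣ)
    (ξ : T →* ℂˣ) : Prop where
  mul : ∀ x, ξ x * ξ (sg hC.torus x) = b x
  pow : ∀ x, ξ x ^ r = 1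
  at_z : ξ ⟨z, z_mem hC⟩ = -1
  indep : ∀ i j : ℤ, (∀ x, ξ x ^ i * ξ (sg hC.torus x) ^ j = 1) → (r : ℤ) ∣ i ∧ (r : ℤ) ∣ j

/-- The character `θ`. -/
structure ThetaHyp [Finite C] (hC : CHyp z q ε Z T T' U s s' u) (r : ℕ) (b : C →* ℂˣ)
    (θ : T' →* ℂˣ) : Prop where
  sq : ∀ x, θ x ^ 2 = b x
  at_z : θ ⟨z, z_mem' hC⟩ = -1
  sconj : ∀ x, θ (sg hC.torus' x) = θ x * b x ^ (r / 2)
  order : ∃ x, orderOf (θ x) = 2 * r

section Basic

variable [Finite C]

theorem exists_xiHyp (hC : CHyp z q ε Z T T' U s s' u) (hD : DetHyp q ε T T' U s s' u r b) :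
    ∃ ξ, XiHyp hC r b ξ := by
  obtain ⟨ξ, h1, h2, h3, h4⟩ := exists_xi hC hD
  exact ⟨ξ, h1, h2, h3, h4⟩

theorem exists_thetaHyp (hC : CHyp z q ε Z T T' U s s' u) (hD : DetHyp q ε T T' U s s' u r b)
    (hr : 4 ∣ r) : ∃ θ, ThetaHyp hC r b θ := by
  obtain ⟨θ, h1, h2, h3, h4⟩ := exists_theta hC hD hr
  exact ⟨θ, h1, h2, h3, h4⟩

variable {hC : CHyp z q ε Z T T' U s s' u} {ξ : T →* ℂˣ} {θ : T' →* ℂˣ}

/-- The restriction of `b` to `T'`. -/
theorem theta_sq (hθ : ThetaHyp hC r b θ) : θ ^ 2 = b.comp T'.subtype := by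
  ext x
  rw [MonoidHom.pow_apply, hθ.sq]
  rfl

theorem orderOf_theta (hD : DetHyp q ε T T' U s s' u r b) (hθ : ThetaHyp hC r b θ) :
    orderOf θ = 2 * r := by
  apply Nat.dvd_antisymm
  · apply orderOf_dvd_of_pow_eq_one
    ext x
    rw [MonoidHom.pow_apply, pow_mul, hθ.sq, hD.pow_eq_one, MonoidHom.one_apply]
  · obtain ⟨x, hx⟩ := hθ.order
    rw [← hx]
    refine orderOf_dvd_of_pow_eq_one ?_
    rw [← MonoidHom.pow_apply, pow_orderOf_eq_one, MonoidHom.one_apply]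

theorem theta_pow_eq_iff (hD : DetHyp q ε T T' U s s' u r b) (hθ : ThetaHyp hC r b θ) {m n : ℕ} :
    θ ^ m = θ ^ n ↔ m ≡ n [MOD 2 * r] := by
  rw [← orderOf_theta hD hθ]
  exact pow_eq_pow_iff_modEq (x := θ)

theorem theta_comp (hr : 4 ∣ r) (hθ : ThetaHyp hC r b θ) (n : ℕ) :
    (θ ^ n).comp (sg hC.torus') = θ ^ (n * (1 + r)) := by
  ext x
  rw [MonoidHom.comp_apply, MonoidHom.pow_apply, hθ.sconj, MonoidHom.pow_apply]
  congr 1
  rw [mul_comm n, pow_mul, pow_add, pow_one, ← hθ.sq, ← pow_mul]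
  congr 3
  omega

theorem two_r (hD : DetHyp q ε T T' U s s' u r b) : 0 < r := by
  obtain ⟨m, -, rfl⟩ := hD.r_pow
  positivity

/-- The characters `ξ^i (ξ^s)^j`, `i j` modulo `r`. -/
noncomputable def X (hC : CHyp z q ε Z T T' U s s' u) (ξ : T →* ℂˣ) (i j : ℕ) : T →* ℂˣ :=
  ξ ^ i * (ξ.comp (sg hC.torus)) ^ j

theorem X_apply (i j : ℕ) (x : T) :
    X hC ξ i j x = ξ x ^ i * ξ (sg hC.torus x) ^ j := rfl

theorem X_comp (i j : ℕ) : (X hC ξ i j).comp (sg hC.torus) = X hC ξ j i := by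
  ext x
  rw [MonoidHom.comp_apply, X_apply, X_apply, sg_sg, mul_comm]

theorem X_eq_iff (hξ : XiHyp hC r b ξ) {i j i' j' : ℕ} :
    X hC ξ i j = X hC ξ i' j' ↔ i ≡ i' [MOD r] ∧ j ≡ j' [MOD r] := by
  constructor
  · intro h
    have h1 := hξ.indep ((i' : ℤ) - i) ((j' : ℤ) - j) (fun x => by
      have h2 := DFunLike.congr_fun h x
      rw [X_apply, X_apply] at h2
      rw [zpow_sub, zpow_sub, zpow_natCast, zpow_natCast, zpow_natCast, zpow_natCast]
      have h3 : ξ x ^ i' * (ξ x ^ i)⁻¹ * (ξ (sg hC.torus x) ^ j' * (ξ (sg hC.torus x) ^ j)⁻¹) =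
          (ξ x ^ i' * ξ (sg hC.torus x) ^ j') * (ξ x ^ i * ξ (sg hC.torus x) ^ j)⁻¹ := by
        rw [mul_inv]
        exact mul_mul_mul_comm _ _ _ _
      rw [h3, h2, mul_inv_cancel])
    exact ⟨Nat.modEq_iff_dvd.2 h1.1, Nat.modEq_iff_dvd.2 h1.2⟩
  · rintro ⟨h1, h2⟩
    ext x
    rw [X_apply, X_apply]
    have h3 : ξ x ^ i = ξ x ^ i' := pow_eq_pow_iff_modEq.2
      (h1.of_dvd (orderOf_dvd_of_pow_eq_one (hξ.pow x)))
    have h4 : ξ (sg hC.torus x) ^ j = ξ (sg hC.torus x) ^ j' := pow_eq_pow_iff_modEq.2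
      (h2.of_dvd (orderOf_dvd_of_pow_eq_one (hξ.pow _)))
    rw [h3, h4]

/-- The restriction of `b ^ l` to `T`. -/
theorem X_diag (hξ : XiHyp hC r b ξ) (l : ℕ) (x : T) : X hC ξ l l x = b x ^ l := by
  rw [X_apply, ← mul_pow, hξ.mul]

end Basic

section Fun

variable [Fintype C] {hC : CHyp z q ε Z T T' U s s' u} {μ : U →* ℂˣ}
  {ξ : T →* ℂˣ} {θ : T' →* ℂˣ}

/-- `R_T(χ)`. -/
noncomputable abbrev Rt (hC : CHyp z q ε Z T T' U s s' u) (μ : U →* ℂˣ) (χ : T →* ℂˣ) : C → ℂ :=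
  Torus.R T hC.base μ (lin T χ)

/-- `R_T'(χ)`. -/
noncomputable abbrev Rt' (hC : CHyp z q ε Z T T' U s s' u) (μ : U →* ℂˣ) (χ : T' →* ℂˣ) : C → ℂ :=
  Torus.R T' hC.base μ (lin T' χ)

theorem Rt_Rt' (hμ : ∃ v : U, μ v ≠ 1) (χ : T →* ℂˣ) (ψ : T' →* ℂˣ) :
    classInner (Rt hC μ χ) (Rt' hC μ ψ) = 0 :=
  hC.torus.classInner_R_R' hC.torus' rfl hC.base hμ _ _

theorem Rt'_Rt (hμ : ∃ v : U, μ v ≠ 1) (χ : T →* ℂˣ) (ψ : T' →* ℂˣ) :
    classInner (Rt' hC μ ψ) (Rt hC μ χ) = 0 := by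
  have h1 := Rt_Rt' (hC := hC) hμ χ ψ
  rw [← Core.classInner_conj_symm, h1, map_zero]

open Classical in
theorem inner_Rt (hμ : ∃ v : U, μ v ≠ 1) (χ ψ : T →* ℂˣ) :
    classInner (Rt hC μ χ) (Rt hC μ ψ) =
      (if χ = ψ then 1 else 0) + (if χ = ψ.comp (sg hC.torus) then 1 else 0) :=
  inner_lin hC.torus hC.base hμ χ ψ

open Classical in
theorem inner_Rt' (hμ : ∃ v : U, μ v ≠ 1) (χ ψ : T' →* ℂˣ) :
    classInner (Rt' hC μ χ) (Rt' hC μ ψ) =
      (if χ = ψ then 1 else 0) + (if χ = ψ.comp (sg hC.torus') then 1 else 0) :=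
  inner_lin hC.torus' hC.base hμ χ ψ

/-- `(R_T ξ^i (ξ^s)^j, R_T ξ^k (ξ^s)^l)`. -/
theorem inner_X (hξ : XiHyp hC r b ξ) (hμ : ∃ v : U, μ v ≠ 1) (i j k l : ℕ) :
    classInner (Rt hC μ (X hC ξ i j)) (Rt hC μ (X hC ξ k l)) =
      (if i ≡ k [MOD r] ∧ j ≡ l [MOD r] then 1 else 0) +
        (if i ≡ l [MOD r] ∧ j ≡ k [MOD r] then 1 else 0) := by
  classical
  rw [inner_Rt hμ, X_comp]
  simp only [X_eq_iff hξ]

/-- `(R_T' θ^m, R_T' θ^n)`. -/
theorem inner_theta (hD : DetHyp q ε T T' U s s' u r b) (hr : 4 ∣ r) (hθ : ThetaHyp hC r b θ)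
    (hμ : ∃ v : U, μ v ≠ 1) (m n : ℕ) :
    classInner (Rt' hC μ (θ ^ m)) (Rt' hC μ (θ ^ n)) =
      (if m ≡ n [MOD 2 * r] then 1 else 0) + (if m ≡ n * (1 + r) [MOD 2 * r] then 1 else 0) := by
  classical
  rw [inner_Rt' hμ, theta_comp hr hθ]
  simp only [theta_pow_eq_iff hD hθ]

/-- `Phi l i = R_T'(θ^(2l) - θ^(2i+1))`. -/
noncomputable def Phi (hC : CHyp z q ε Z T T' U s s' u) (μ : U →* ℂˣ) (θ : T' →* ℂˣ) (l i : ℕ) :
    C → ℂ := Rt' hC μ (θ ^ (2 * l)) - Rt' hC μ (θ ^ (2 * i + 1))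

theorem inner_even_even (hD : DetHyp q ε T T' U s s' u r b) (hr : 4 ∣ r)
    (hθ : ThetaHyp hC r b θ) (hμ : ∃ v : U, μ v ≠ 1) {l l' : ℕ} (hl : l < r) (hl' : l' < r) :
    classInner (Rt' hC μ (θ ^ (2 * l))) (Rt' hC μ (θ ^ (2 * l'))) =
      if l = l' then 2 else 0 := by
  rw [inner_theta hD hr hθ hμ]
  have h1 : 2 * l ≡ 2 * l' * (1 + r) [MOD 2 * r] ↔ 2 * l ≡ 2 * l' [MOD 2 * r] := by
    have h2 : 2 * l' * (1 + r) ≡ 2 * l' [MOD 2 * r] := by
      have h3 : 2 * l' * (1 + r) = 2 * l' + 2 * r * l' := by ring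
      rw [h3]
      unfold Nat.ModEq
      rw [Nat.add_mul_mod_self_left]
    exact ⟨fun h => h.trans h2, fun h => h.trans h2.symm⟩
  have h2 : 2 * l ≡ 2 * l' [MOD 2 * r] ↔ l = l' := by
    constructor
    · intro h
      have := Nat.ModEq.eq_of_lt_of_lt h (by omega) (by omega)
      omega
    · rintro rfl; rfl
  simp only [h1, h2]
  split_ifs <;> norm_num

theorem inner_odd_odd (hD : DetHyp q ε T T' U s s' u r b) (hr : 4 ∣ r)
    (hθ : ThetaHyp hC r b θ) (hμ : ∃ v : U, μ v ≠ 1) {i i' : ℕ} (hi : i < r / 2)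
    (hi' : i' < r / 2) :
    classInner (Rt' hC μ (θ ^ (2 * i + 1))) (Rt' hC μ (θ ^ (2 * i' + 1))) =
      if i = i' then 1 else 0 := by
  rw [inner_theta hD hr hθ hμ]
  have h0 := two_r hD
  have h1 : ¬ (2 * i + 1 ≡ (2 * i' + 1) * (1 + r) [MOD 2 * r]) := by
    intro h
    have h3 : (2 * i' + 1) * (1 + r) = (2 * i' + 1 + r) + 2 * r * i' := by ring
    rw [h3] at h
    have h4 : 2 * i + 1 ≡ 2 * i' + 1 + r [MOD 2 * r] := by
      unfold Nat.ModEq at h ⊢
      rwa [Nat.add_mul_mod_self_left] at h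
    have := Nat.ModEq.eq_of_lt_of_lt h4 (by omega) (by omega)
    omega
  have h2 : 2 * i + 1 ≡ 2 * i' + 1 [MOD 2 * r] ↔ i = i' := by
    constructor
    · intro h
      have := Nat.ModEq.eq_of_lt_of_lt h (by omega) (by omega)
      omega
    · rintro rfl; rfl
  rw [if_neg h1, add_zero]
  simp only [h2]

theorem inner_even_odd (hD : DetHyp q ε T T' U s s' u r b) (hr : 4 ∣ r)
    (hθ : ThetaHyp hC r b θ) (hμ : ∃ v : U, μ v ≠ 1) (l i : ℕ) :
    classInner (Rt' hC μ (θ ^ (2 * l))) (Rt' hC μ (θ ^ (2 * i + 1))) = 0 := by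
  rw [inner_theta hD hr hθ hμ]
  have h0 : (2 : ℕ) ∣ 2 * r := dvd_mul_right _ _
  obtain ⟨c, rfl⟩ := hr
  have h1 : ¬ (2 * l ≡ 2 * i + 1 [MOD 2 * (4 * c)]) := by
    intro h
    have := h.of_dvd h0
    unfold Nat.ModEq at this
    omega
  have h2 : ¬ (2 * l ≡ (2 * i + 1) * (1 + 4 * c) [MOD 2 * (4 * c)]) := by
    intro h
    have := h.of_dvd h0
    have h3 : (2 * i + 1) * (1 + 4 * c) = 2 * (i + (2 * i + 1) * (2 * c)) + 1 := by ring
    rw [h3] at this
    unfold Nat.ModEq at this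
    omega
  simp only [h1, h2]
  norm_num

theorem inner_odd_even (hD : DetHyp q ε T T' U s s' u r b) (hr : 4 ∣ r)
    (hθ : ThetaHyp hC r b θ) (hμ : ∃ v : U, μ v ≠ 1) (l i : ℕ) :
    classInner (Rt' hC μ (θ ^ (2 * i + 1))) (Rt' hC μ (θ ^ (2 * l))) = 0 := by
  have h1 := inner_even_odd hD hr hθ hμ l i
  rw [← Core.classInner_conj_symm, h1, map_zero]

/-- The Gram matrix of the `Phi l i`. -/
theorem inner_Phi (hD : DetHyp q ε T T' U s s' u r b) (hr : 4 ∣ r)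
    (hθ : ThetaHyp hC r b θ) (hμ : ∃ v : U, μ v ≠ 1) {l i l' i' : ℕ} (hl : l < r)
    (hi : i < r / 2) (hl' : l' < r) (hi' : i' < r / 2) :
    classInner (Phi hC μ θ l i) (Phi hC μ θ l' i') =
      (if l = l' then 2 else 0) + (if i = i' then 1 else 0) := by
  unfold Phi
  rw [Core.classInner_sub_left, Core.classInner_sub_right, Core.classInner_sub_right,
    inner_even_even hD hr hθ hμ hl hl', inner_odd_odd hD hr hθ hμ hi hi',
    inner_even_odd hD hr hθ hμ, inner_odd_even hD hr hθ hμ]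
  ring

theorem isGeneralized_Rt (χ : T →* ℂˣ) : IsGeneralizedCharacter C (Rt hC μ χ) :=
  isGeneralized_lin hC.torus hC.base χ

theorem isGeneralized_Rt' (χ : T' →* ℂˣ) : IsGeneralizedCharacter C (Rt' hC μ χ) :=
  isGeneralized_lin hC.torus' hC.base χ

theorem isGeneralized_Phi (l i : ℕ) : IsGeneralizedCharacter C (Phi hC μ θ l i) :=
  Brauer.isGeneralizedCharacter_sub (isGeneralized_Rt' _) (isGeneralized_Rt' _)

open Classical in
theorem inner_Rt_one (hμ : ∃ v : U, μ v ≠ 1) (χ : T →* ℂˣ) :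
    classInner (Rt hC μ χ) 1 = if χ = 1 then 1 else 0 :=
  inner_lin_one hC.torus hC.torus' hC.base hμ hC.exhaust χ

theorem exhaust' (hC : CHyp z q ε Z T T' U s s' u) (c : C) :
    ∃ g : C, g * c * g⁻¹ ∈ T' ∨ g * c * g⁻¹ ∈ T ∨
      ∃ z ∈ Z, ∃ v ∈ U, g * c * g⁻¹ = z * v := by
  obtain ⟨g, h | h | h⟩ := hC.exhaust c
  · exact ⟨g, Or.inr (Or.inl h)⟩
  · exact ⟨g, Or.inl h⟩
  · exact ⟨g, Or.inr (Or.inr h)⟩

theorem torus_neg_neg (hC : CHyp z q ε Z T T' U s s' u) : Torus q (- -ε) Z T s := by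
  rw [neg_neg]
  exact hC.torus

open Classical in
theorem inner_Rt'_one (hμ : ∃ v : U, μ v ≠ 1) (χ : T' →* ℂˣ) :
    classInner (Rt' hC μ χ) 1 = if χ = 1 then 1 else 0 :=
  inner_lin_one hC.torus' (torus_neg_neg hC) hC.base hμ (exhaust' hC) χ

theorem inner_Phi_one (hD : DetHyp q ε T T' U s s' u r b)
    (hθ : ThetaHyp hC r b θ) (hμ : ∃ v : U, μ v ≠ 1) {l i : ℕ} (hl : l < r) :
    classInner (Phi hC μ θ l i) 1 = if l = 0 then 1 else 0 := by
  classical
  have h0 := two_r hD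
  have h1 : ∀ n : ℕ, θ ^ n = 1 ↔ 2 * r ∣ n := by
    intro n
    rw [← orderOf_theta hD hθ, orderOf_dvd_iff_pow_eq_one]
  unfold Phi
  rw [Core.classInner_sub_left, inner_Rt'_one hμ, inner_Rt'_one hμ]
  have h2 : ¬ (2 * r ∣ 2 * i + 1) := by
    intro h
    have := (dvd_mul_right 2 r).trans h
    omega
  have h3 : 2 * r ∣ 2 * l ↔ l = 0 := by
    constructor
    · intro h
      by_contra hne
      have := Nat.le_of_dvd (by omega) h
      omega
    · rintro rfl; exact dvd_zero _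
  simp only [h1, h2, h3]
  simp

end Fun

section Kernel

theorem exists_neg_one {w : ℂˣ} {m : ℕ} (h : w ^ 2 ^ m = 1) (h1 : w ≠ 1) :
    ∃ k, w ^ 2 ^ k = -1 := by
  induction m with
  | zero => rw [pow_zero, pow_one] at h; exact absurd h h1
  | succ m ih =>
    by_cases h2 : w ^ 2 ^ m = 1
    · exact ih h2
    · refine ⟨m, (WrXi.units_sq ?_).resolve_left h2⟩
      rw [← sq, ← pow_mul, ← pow_succ, h]

variable [Finite C] {hC : CHyp z q ε Z T T' U s s' u} {ξ : T →* ℂˣ} {θ : T' →* ℂˣ}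

theorem neg_one_ne : (-1 : ℂˣ) ≠ 1 := by
  intro h8
  have := congrArg Units.val h8
  norm_num at this

/-- An element of even order has an involution among its powers. -/
theorem exists_invol {x : C} (hx : ¬ Odd (orderOf x)) :
    ∃ k : ℕ, x ^ k * x ^ k = 1 ∧ x ^ k ≠ 1 := by
  rw [Nat.not_odd_iff_even] at hx
  obtain ⟨k, hk⟩ := hx
  have h0 := orderOf_pos x
  refine ⟨k, by rw [← pow_add, ← hk, pow_orderOf_eq_one], fun h1 => ?_⟩
  have := Nat.le_of_dvd (by omega) (orderOf_dvd_of_pow_eq_one h1)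
  omega

theorem odd_of_xi (hD : DetHyp q ε T T' U s s' u r b) (hξ : XiHyp hC r b ξ) {x : T}
    (h1 : ξ x = 1) (h2 : ξ (sg hC.torus x) = 1) : Odd (orderOf (x : C)) := by
  by_contra hcon
  obtain ⟨k, hk1, hk2⟩ := exists_invol hcon
  have h3 : ξ (x ^ k) = 1 := by rw [map_pow, h1, one_pow]
  have h4 : ξ (sg hC.torus (x ^ k)) = 1 := by rw [map_pow, map_pow, h2, one_pow]
  have h5 : b ((x : C) ^ k) = 1 := by
    have := hξ.mul (x ^ k)
    rw [h3, h4, one_mul] at this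
    exact this.symm
  have h6 : ((x ^ k : T) : C) = (x : C) ^ k := rfl
  rcases hC.invol_T _ (pow_mem x.2 k) hk1 with h | h | h | h
  · exact hk2 h
  · have h7 : x ^ k = ⟨z, z_mem hC⟩ := Subtype.ext h
    rw [h7, hξ.at_z] at h3
    exact neg_one_ne h3
  · rw [h, hD.b_u] at h5
    exact neg_one_ne h5
  · rw [h, map_mul, b_z hC hD, hD.b_u, one_mul] at h5
    exact neg_one_ne h5

theorem sg_z (hC : CHyp z q ε Z T T' U s s' u) :
    sg hC.torus ⟨z, z_mem hC⟩ = ⟨z, z_mem hC⟩ :=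
  (sg_fix hC.torus hC.base).2 hC.t_mem

theorem zpow_odd {z : C} (hz : z * z = 1) {n : ℕ} (hn : Odd n) : z ^ n = z := by
  obtain ⟨k, rfl⟩ := hn
  rw [pow_succ, pow_mul, sq, hz, one_pow, one_mul]

theorem exists_odd_of_xi (hD : DetHyp q ε T T' U s s' u r b) (hξ : XiHyp hC r b ξ) {x : T}
    (h1 : ξ x = -1) (h2 : ξ (sg hC.torus x) = -1) :
    ∃ y ∈ T, Odd (orderOf y) ∧ (x : C) = z * y := by
  have hz := z_mul_z hC
  refine ⟨z * x, mul_mem (z_mem hC) x.2, ?_, by rw [← mul_assoc, hz, one_mul]⟩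
  have h3 := odd_of_xi hD hξ (x := ⟨z, z_mem hC⟩ * x) (by
    rw [map_mul, h1, hξ.at_z]; norm_num) (by
    rw [map_mul, map_mul, h2, sg_z hC, hξ.at_z]; norm_num)
  exact h3

theorem mem_zpowers_of_eq (hC : CHyp z q ε Z T T' U s s' u) {x y : C} (hy : Odd (orderOf y))
    (hx : x = z * y) : z ∈ Subgroup.zpowers x := by
  have h1 : x ^ orderOf y = z := by
    rw [hx, (show Commute z y from (hC.Z_central z hC.t_mem y).symm).mul_pow,
      pow_orderOf_eq_one, mul_one, zpow_odd (z_mul_z hC) hy]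
  exact Subgroup.mem_zpowers_iff.2 ⟨orderOf y, by rw [zpow_natCast, h1]⟩

theorem mem_zpowers_of_xi (hD : DetHyp q ε T T' U s s' u r b) (hξ : XiHyp hC r b ξ) {x : T}
    (h1 : ξ x = -1) (h2 : ξ (sg hC.torus x) = -1) : z ∈ Subgroup.zpowers (x : C) := by
  obtain ⟨y, -, hy, hx⟩ := exists_odd_of_xi hD hξ h1 h2
  exact mem_zpowers_of_eq hC hy hx

theorem mem_zpowers_of_pow {x : C} {k : ℕ} (h : z ∈ Subgroup.zpowers (x ^ k)) :
    z ∈ Subgroup.zpowers x := by
  have h1 : Subgroup.zpowers (x ^ k) ≤ Subgroup.zpowers x := by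
    rw [Subgroup.zpowers_le]
    exact pow_mem (Subgroup.mem_zpowers x) k
  exact h1 h

theorem mem_zpowers_of_xi_ne (hD : DetHyp q ε T T' U s s' u r b) (hξ : XiHyp hC r b ξ) {x : T}
    (h1 : ξ x = ξ (sg hC.torus x)) (h2 : ξ x ≠ 1) : z ∈ Subgroup.zpowers (x : C) := by
  obtain ⟨m, -, hm⟩ := hD.r_pow
  obtain ⟨k, hk⟩ := exists_neg_one (w := ξ x) (m := m) (by rw [← hm]; exact hξ.pow x) h2
  refine mem_zpowers_of_pow (k := 2 ^ k) ?_
  have h3 := mem_zpowers_of_xi hD hξ (x := x ^ 2 ^ k) (by rw [map_pow, hk])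
    (by rw [map_pow, map_pow, ← h1, hk])
  exact h3

theorem mem_zpowers_of_xi_half (hD : DetHyp q ε T T' U s s' u r b) (hξ : XiHyp hC r b ξ) {x : T}
    (h1 : ξ x ^ (r / 2) = -1) (h2 : ξ (sg hC.torus x) ^ (r / 2) = -1) :
    z ∈ Subgroup.zpowers (x : C) := by
  refine mem_zpowers_of_pow (k := r / 2) ?_
  exact mem_zpowers_of_xi hD hξ (x := x ^ (r / 2)) (by rw [map_pow, h1])
    (by rw [map_pow, map_pow, h2])

theorem odd_of_theta (hθ : ThetaHyp hC r b θ) {x : T'} (h1 : θ x = 1) :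
    Odd (orderOf (x : C)) := by
  by_contra hcon
  obtain ⟨k, hk1, hk2⟩ := exists_invol hcon
  have h3 : θ (x ^ k) = 1 := by rw [map_pow, h1, one_pow]
  have h4 := eq_z_of_sq hC (pow_mem x.2 k) hk1 hk2
  have h7 : x ^ k = ⟨z, z_mem' hC⟩ := Subtype.ext h4
  rw [h7, hθ.at_z] at h3
  exact neg_one_ne h3

theorem exists_odd_of_theta (hθ : ThetaHyp hC r b θ) {x : T'} (h1 : θ x = -1) :
    ∃ y ∈ T', Odd (orderOf y) ∧ (x : C) = z * y := by
  have hz := z_mul_z hC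
  refine ⟨z * x, mul_mem (z_mem' hC) x.2, ?_, by rw [← mul_assoc, hz, one_mul]⟩
  exact odd_of_theta hθ (x := ⟨z, z_mem' hC⟩ * x) (by
    rw [map_mul, h1, hθ.at_z]; norm_num)

theorem mem_zpowers_of_theta (hD : DetHyp q ε T T' U s s' u r b) (hθ : ThetaHyp hC r b θ) {x : T'}
    (h2 : θ x ≠ 1) : z ∈ Subgroup.zpowers (x : C) := by
  obtain ⟨m, -, hm⟩ := hD.r_pow
  obtain ⟨k, hk⟩ := exists_neg_one (w := θ x) (m := m + 1) (by
    rw [pow_succ, ← hm, mul_comm, pow_mul, hθ.sq]; exact hD.pow_eq_one x) h2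
  refine mem_zpowers_of_pow (k := 2 ^ k) ?_
  obtain ⟨y, -, hy, hx⟩ := exists_odd_of_theta hθ (x := x ^ 2 ^ k) (by rw [map_pow, hk])
  exact mem_zpowers_of_eq hC hy hx

end Kernel

section Eval

variable [Fintype C] {hC : CHyp z q ε Z T T' U s s' u} {ξ : T →* ℂˣ} {θ : T' →* ℂˣ}

theorem geom {w : ℂ} {n : ℕ} (h : w ^ n = 1) :
    ∑ i ∈ Finset.range n, w ^ i = if w = 1 then (n : ℂ) else 0 := by
  split_ifs with h1
  · subst h1; simp
  · have h2 := mul_neg_geom_sum w n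
    rw [h, sub_self] at h2
    exact (mul_eq_zero.1 h2).resolve_left (sub_ne_zero.2 (Ne.symm h1))

/-- The function `f_k = ∑_i ξ^i (ξ^s)^(k-i)` on `T`. -/
noncomputable def ff (hC : CHyp z q ε Z T T' U s s' u) (ξ : T →* ℂˣ) (r k : ℕ) : C → ℂ :=
  ∑ i ∈ Finset.range r, lin T (X hC ξ i (k + (r - i)))

theorem lin_X (i j : ℕ) {x : C} (hx : x ∈ T) : lin T (X hC ξ i j) x =
    (ξ ⟨x, hx⟩ : ℂ) ^ i * (ξ (sg hC.torus ⟨x, hx⟩) : ℂ) ^ j := by
  rw [lin_apply _ hx, X_apply, Units.val_mul, Units.val_pow_eq_pow_val, Units.val_pow_eq_pow_val]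

theorem ff_apply (hξ : XiHyp hC r b ξ) (k : ℕ) {x : C} (hx : x ∈ T) :
    ff hC ξ r k x = if ξ ⟨x, hx⟩ = ξ (sg hC.torus ⟨x, hx⟩) then
      (r : ℂ) * (ξ ⟨x, hx⟩ : ℂ) ^ k else 0 := by
  classical
  unfold ff
  rw [Finset.sum_apply, Finset.sum_congr rfl (fun i _ => lin_X i (k + (r - i)) hx)]
  set a : ℂˣ := ξ ⟨x, hx⟩ with ha
  set c : ℂˣ := ξ (sg hC.torus ⟨x, hx⟩) with hc
  have har : (a : ℂ) ^ r = 1 := by
    rw [← Units.val_pow_eq_pow_val, ha, hξ.pow, Units.val_one]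
  have hcr : (c : ℂ) ^ r = 1 := by
    rw [← Units.val_pow_eq_pow_val, hc, hξ.pow, Units.val_one]
  have hc0 : (c : ℂ) ≠ 0 := Units.ne_zero c
  have h1 : ∀ i ∈ Finset.range r, (a : ℂ) ^ i * (c : ℂ) ^ (k + (r - i)) =
      (c : ℂ) ^ k * ((a : ℂ) / c) ^ i := by
    intro i hi
    have hi' := Finset.mem_range.1 hi
    have h2 : (c : ℂ) ^ (r - i) * (c : ℂ) ^ i = 1 := by
      rw [← pow_add, Nat.sub_add_cancel hi'.le, hcr]
    have h3 : (c : ℂ) ^ (r - i) = ((c : ℂ) ^ i)⁻¹ := eq_inv_of_mul_eq_one_left h2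
    rw [pow_add, h3, div_pow]
    field_simp
  rw [Finset.sum_congr rfl h1, ← Finset.mul_sum, geom (by rw [div_pow, har, hcr, div_one])]
  have h4 : ((a : ℂ) / c = 1) ↔ a = c := by
    rw [div_eq_one_iff_eq hc0]
    exact ⟨fun h => Units.ext h, fun h => congrArg Units.val h⟩
  simp only [h4]
  split_ifs with h5
  · rw [h5]; ring
  · ring

theorem ff_supp (hD : DetHyp q ε T T' U s s' u r b) (hξ : XiHyp hC r b ξ) (k l : ℕ) {x : C}
    (hx : x ∈ T) (h : (ff hC ξ r k - ff hC ξ r l) x ≠ 0) : z ∈ Subgroup.zpowers x := by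
  rw [Pi.sub_apply, ff_apply hξ k hx, ff_apply hξ l hx] at h
  by_cases h1 : ξ ⟨x, hx⟩ = ξ (sg hC.torus ⟨x, hx⟩)
  · rw [if_pos h1, if_pos h1] at h
    refine mem_zpowers_of_xi_ne hD hξ (x := ⟨x, hx⟩) h1 ?_
    intro h2
    apply h
    rw [h2]
    simp
  · rw [if_neg h1, if_neg h1, sub_zero] at h
    exact absurd rfl h

/-- If the inner products of `a` with all `f_k - f_l` vanish, then `a z = 0`. -/
theorem eq_zero_of_ff (hD : DetHyp q ε T T' U s s' u r b) (hξ : XiHyp hC r b ξ) {a : C → ℂ}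
    (ha : ∀ x ∈ T, z ∈ Subgroup.zpowers x → ∀ y ∈ T, Odd (orderOf y) → a (x * y) = a x)
    (h : ∀ k < r, (Nat.card T : ℂ)⁻¹ * ssum T (fun x => (ff hC ξ r k - ff hC ξ r 0) x *
      conj (a x)) = 0) : a z = 0 := by
  classical
  have h0 := two_r hD
  obtain ⟨m, hm1, hm⟩ := hD.r_pow
  have hre : Even r := by
    rw [hm]
    exact (Nat.even_pow.2 ⟨even_two, by omega⟩)
  have hT0 : (Nat.card T : ℂ)⁻¹ ≠ 0 := inv_ne_zero Core.card_ne_zero_complex
  have h1 : ∀ k < r, ssum T (fun x => (ff hC ξ r k - ff hC ξ r 0) x * conj (a x)) = 0 :=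
    fun k hk => (mul_eq_zero.1 (h k hk)).resolve_left hT0
  have h2 : ∑ k ∈ Finset.range r, (-1 : ℂ) ^ k *
      ssum T (fun x => (ff hC ξ r k - ff hC ξ r 0) x * conj (a x)) = 0 :=
    Finset.sum_eq_zero fun k hk => by rw [h1 k (Finset.mem_range.1 hk), mul_zero]
  have hneg : ∑ k ∈ Finset.range r, (-1 : ℂ) ^ k = 0 := by
    rw [geom (by exact hre.neg_one_pow), if_neg (by norm_num)]
  -- the combination
  have h3 : ssum T (fun x => (if hx : x ∈ T then
      (if ξ ⟨x, hx⟩ = -1 ∧ ξ (sg hC.torus ⟨x, hx⟩) = -1 then (r : ℂ) * r else 0) else 0) *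
        conj (a z)) = 0 := by
    refine Eq.trans ?_ h2
    unfold ssum
    simp only [Finset.mul_sum]
    rw [Finset.sum_comm]
    refine Finset.sum_congr rfl fun x _ => ?_
    by_cases hx : x ∈ T
    swap
    · simp [hx]
    simp only [dif_pos hx, if_pos hx]
    by_cases h4 : ξ ⟨x, hx⟩ = -1 ∧ ξ (sg hC.torus ⟨x, hx⟩) = -1
    · -- the support
      rw [if_pos h4]
      obtain ⟨y, hyT, hy, hxy⟩ := exists_odd_of_xi hD hξ h4.1 h4.2
      have h5 : a x = a z := by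
        have h6 : x = z * y := hxy
        rw [h6]
        exact ha z (z_mem hC) (Subgroup.mem_zpowers z) y hyT hy
      have h6 : ∀ k ∈ Finset.range r, (-1 : ℂ) ^ k * ((ff hC ξ r k - ff hC ξ r 0) x *
          conj (a x)) = (r - (-1 : ℂ) ^ k * r) * conj (a z) := by
        intro k _
        rw [Pi.sub_apply, ff_apply hξ k hx, ff_apply hξ 0 hx, if_pos (h4.1.trans h4.2.symm),
          h4.1, h5, if_pos (h4.2 ▸ rfl)]
        have h7 : (-1 : ℂ) ^ k * (-1 : ℂ) ^ k = 1 := by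
          rw [← mul_pow]; norm_num
        rw [Units.val_neg, Units.val_one]
        linear_combination (r : ℂ) * conj (a z) * h7
      rw [Finset.sum_congr rfl h6, ← Finset.sum_mul, Finset.sum_sub_distrib, ← Finset.sum_mul,
        hneg, Finset.sum_const, Finset.card_range, nsmul_eq_mul]
      ring
    · rw [if_neg h4, zero_mul]
      symm
      have h6 : ∀ k ∈ Finset.range r, (-1 : ℂ) ^ k * ((ff hC ξ r k - ff hC ξ r 0) x *
          conj (a x)) = (if ξ ⟨x, hx⟩ = ξ (sg hC.torus ⟨x, hx⟩) then (r : ℂ) * conj (a x) else 0) *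
            ((-1 * (ξ ⟨x, hx⟩ : ℂ)) ^ k - (-1 : ℂ) ^ k) := by
        intro k _
        rw [Pi.sub_apply, ff_apply hξ k hx, ff_apply hξ 0 hx]
        split_ifs
        · rw [mul_pow]; ring
        · ring
      rw [Finset.sum_congr rfl h6, ← Finset.mul_sum, Finset.sum_sub_distrib, hneg, sub_zero]
      by_cases h7 : ξ ⟨x, hx⟩ = ξ (sg hC.torus ⟨x, hx⟩)
      · have h8 : ξ ⟨x, hx⟩ ≠ -1 := fun h9 => h4 ⟨h9, h7 ▸ h9⟩
        have h9 : ((-1 : ℂ) * (ξ ⟨x, hx⟩ : ℂ)) ^ r = 1 := by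
          rw [mul_pow, hre.neg_one_pow, ← Units.val_pow_eq_pow_val, hξ.pow, Units.val_one, one_mul]
        have h11 : ¬ ((-1 : ℂ) * (ξ ⟨x, hx⟩ : ℂ) = 1) := by
          intro h10
          apply h8
          refine Units.ext ?_
          rw [Units.val_neg, Units.val_one]
          linear_combination -h10
        rw [geom h9, if_neg h11, mul_zero]
      · rw [if_neg h7, zero_mul]
  have h4 : ssum T (fun x => (if hx : x ∈ T then
      (if ξ ⟨x, hx⟩ = -1 ∧ ξ (sg hC.torus ⟨x, hx⟩) = -1 then (r : ℂ) * r else 0) else 0) *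
        conj (a z)) = (∑ x : C, if hx : x ∈ T then
      (if ξ ⟨x, hx⟩ = -1 ∧ ξ (sg hC.torus ⟨x, hx⟩) = -1 then (r : ℂ) * r else 0) else 0) *
        conj (a z) := by
    unfold ssum
    rw [Finset.sum_mul]
    refine Finset.sum_congr rfl fun x _ => ?_
    by_cases hx : x ∈ T
    · rw [if_pos hx]
    · rw [if_neg hx, dif_neg hx, zero_mul]
  rw [h4] at h3
  have h5 : (∑ x : C, if hx : x ∈ T then
      (if ξ ⟨x, hx⟩ = -1 ∧ ξ (sg hC.torus ⟨x, hx⟩) = -1 then (r : ℂ) * r else 0) else 0) ≠ 0 := by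
    have h6 : (∑ x : C, if hx : x ∈ T then
      (if ξ ⟨x, hx⟩ = -1 ∧ ξ (sg hC.torus ⟨x, hx⟩) = -1 then (r : ℂ) * r else 0) else 0) =
        ((∑ x : C, if hx : x ∈ T then
      (if ξ ⟨x, hx⟩ = -1 ∧ ξ (sg hC.torus ⟨x, hx⟩) = -1 then r * r else 0) else 0 : ℕ) : ℂ) := by
      push_cast
      refine Finset.sum_congr rfl fun x _ => ?_
      split_ifs <;> push_cast <;> rfl
    rw [h6, Nat.cast_ne_zero]
    have h7 : 0 < ∑ x : C, (if hx : x ∈ T then
      (if ξ ⟨x, hx⟩ = -1 ∧ ξ (sg hC.torus ⟨x, hx⟩) = -1 then r * r else 0) else 0 : ℕ) := by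
      refine Finset.sum_pos' (fun _ _ => Nat.zero_le _) ⟨z, Finset.mem_univ _, ?_⟩
      rw [dif_pos (z_mem hC), if_pos ⟨hξ.at_z, by rw [sg_z hC]; exact hξ.at_z⟩]
      positivity
    exact h7.ne'
  have h6 := (mul_eq_zero.1 h3).resolve_left h5
  rwa [map_eq_zero] at h6

/-- The combination `∑ (-1)^j θ^j`. -/
noncomputable def ee (T' : Subgroup C) (θ : T' →* ℂˣ) (r : ℕ) : C → ℂ :=
  ∑ l ∈ Finset.range r, (lin T' (θ ^ (2 * l)) - lin T' (θ ^ (2 * l + 1)))

theorem ee_apply (hD : DetHyp q ε T T' U s s' u r b) (hθ : ThetaHyp hC r b θ) {x : C}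
    (hx : x ∈ T') : ee T' θ r x = if θ ⟨x, hx⟩ = -1 then 2 * (r : ℂ) else 0 := by
  unfold ee
  rw [Finset.sum_apply]
  set w : ℂˣ := θ ⟨x, hx⟩ with hw
  have h1 : ∀ l ∈ Finset.range r, (lin T' (θ ^ (2 * l)) - lin T' (θ ^ (2 * l + 1))) x =
      (1 - (w : ℂ)) * ((w : ℂ) ^ 2) ^ l := by
    intro l _
    rw [Pi.sub_apply, lin_pow _ _ hx, lin_pow _ _ hx, lin_apply _ hx, ← hw]
    ring
  have hwr : ((w : ℂ) ^ 2) ^ r = 1 := by
    rw [← Units.val_pow_eq_pow_val, hw, hθ.sq, ← Units.val_pow_eq_pow_val, hD.pow_eq_one,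
      Units.val_one]
  rw [Finset.sum_congr rfl h1, ← Finset.mul_sum, geom hwr]
  by_cases h2 : w = -1
  · rw [if_pos h2, h2, if_pos (by norm_num)]
    rw [Units.val_neg, Units.val_one]
    ring
  · rw [if_neg h2]
    by_cases h3 : w = 1
    · rw [h3, Units.val_one, sub_self, zero_mul]
    · rw [if_neg, mul_zero]
      intro h4
      rcases WrXi.units_sq (w := w) (Units.ext (by
        rw [Units.val_mul, ← sq, h4, Units.val_one])) with h5 | h5
      · exact h3 h5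
      · exact h2 h5

theorem ee_supp (hD : DetHyp q ε T T' U s s' u r b) (hθ : ThetaHyp hC r b θ) {x : C}
    (hx : x ∈ T') (h : ee T' θ r x ≠ 0) : z ∈ Subgroup.zpowers x := by
  rw [ee_apply hD hθ hx] at h
  have h1 : θ ⟨x, hx⟩ = -1 := by
    by_contra h2
    rw [if_neg h2] at h
    exact h rfl
  exact mem_zpowers_of_theta hD hθ (x := ⟨x, hx⟩) (by rw [h1]; exact neg_one_ne)

theorem ssum_ee (hD : DetHyp q ε T T' U s s' u r b) (hθ : ThetaHyp hC r b θ) :
    (Nat.card T' : ℂ)⁻¹ * ssum T' (ee T' θ r) = 1 := by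
  classical
  have h0 := two_r hD
  have h1 : ssum T' (ee T' θ r) = ∑ l ∈ Finset.range r, (ssum T' (lin T' (θ ^ (2 * l))) -
      ssum T' (lin T' (θ ^ (2 * l + 1)))) := by
    unfold ssum ee
    simp only [← Finset.sum_sub_distrib]
    rw [Finset.sum_comm]
    refine Finset.sum_congr rfl fun x _ => ?_
    split_ifs
    · rw [Finset.sum_apply]; rfl
    · simp
  have h2 : ∀ l ∈ Finset.range r, (ssum T' (lin T' (θ ^ (2 * l))) -
      ssum T' (lin T' (θ ^ (2 * l + 1)))) = if l = 0 then (Nat.card T' : ℂ) else 0 := by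
    intro l hl
    have hl' := Finset.mem_range.1 hl
    rw [ssum_lin, ssum_lin]
    have h1 : ∀ n : ℕ, θ ^ n = 1 ↔ 2 * r ∣ n := by
      intro n
      rw [← orderOf_theta hD hθ, orderOf_dvd_iff_pow_eq_one]
    have h2 : ¬ (θ ^ (2 * l + 1) = 1) := by
      intro h
      have := (dvd_mul_right 2 r).trans ((h1 _).1 h)
      omega
    have h3 : θ ^ (2 * l) = 1 ↔ l = 0 := by
      rw [h1]
      constructor
      · intro h
        by_contra hne
        have := Nat.le_of_dvd (by omega) h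
        omega
      · rintro rfl; exact dvd_zero _
    rw [if_neg h2, sub_zero]
    simp only [h3]
  rw [h1, Finset.sum_congr rfl h2, Finset.sum_ite_eq' (Finset.range r) 0,
    if_pos (Finset.mem_range.2 h0)]
  exact inv_mul_cancel₀ Core.card_ne_zero_complex

/-- The inner product of `a` with `∑ (-1)^j θ^j` is `conj (a z)`. -/
theorem inner_ee (hD : DetHyp q ε T T' U s s' u r b) (hθ : ThetaHyp hC r b θ) {a : C → ℂ}
    (ha : ∀ x ∈ T', z ∈ Subgroup.zpowers x → ∀ y ∈ T', Odd (orderOf y) → a (x * y) = a x) :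
    (Nat.card T' : ℂ)⁻¹ * ssum T' (fun x => ee T' θ r x * conj (a x)) = conj (a z) := by
  have h1 : ssum T' (fun x => ee T' θ r x * conj (a x)) =
      conj (a z) * ssum T' (ee T' θ r) := by
    rw [← ssum_mul]
    refine ssum_congr fun x hx => ?_
    rw [ee_apply hD hθ hx]
    split_ifs with h1
    · obtain ⟨y, hyT, hy, hxy⟩ := exists_odd_of_theta hθ h1
      have h6 : x = z * y := hxy
      rw [h6, ha z (z_mem' hC) (Subgroup.mem_zpowers z) y hyT hy, mul_comm]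
    · ring
  rw [h1, mul_left_comm, ssum_ee hD hθ, mul_one]

end Eval

section Even

theorem sum_inv_mod_two {r : ℕ} (hr : 4 ∣ r) (h0 : 0 < r) {k : ℕ} (c : ℕ → ℤ) (K : ℤ)
    (hc : ∀ i < r, ∀ j < r, (i + j) ≡ k [MOD r] → c i = c j)
    (hK : ∀ i < r, 2 * i ≡ k [MOD r] → ∃ n : ℤ, c i = K + 2 * n) :
    ∃ n : ℤ, ∑ i ∈ Finset.range r, c i = 2 * n := by
  classical
  have h2 : ∑ i ∈ Finset.range r, (c i : ZMod 2) = 0 := by
    rw [← Finset.sum_filter_add_sum_filter_not (Finset.range r) (fun i => 2 * i ≡ k [MOD r])]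
    have hzz : ∀ a : ZMod 2, a + a = 0 := by decide
    have e1 : ∑ i ∈ Finset.range r with 2 * i ≡ k [MOD r], (c i : ZMod 2) = 0 := by
      have hcK : ∀ i < r, 2 * i ≡ k [MOD r] → (c i : ZMod 2) = K := by
        intro i hi hik
        obtain ⟨n, hn⟩ := hK i hi hik
        rw [hn]
        push_cast
        have : (2 : ZMod 2) = 0 := by decide
        rw [this]; ring
      have hmod : ∀ i, 2 * ((i + r / 2) % r) ≡ 2 * i [MOD r] := by
        intro i
        have h3 : 2 * ((i + r / 2) % r) ≡ 2 * (i + r / 2) [MOD r] :=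
          (Nat.mod_modEq _ _).mul_left 2
        refine h3.trans ?_
        have h4 : 2 * (i + r / 2) = 2 * i + r * 1 := by omega
        rw [h4]
        unfold Nat.ModEq
        rw [Nat.add_mul_mod_self_left]
      refine Finset.sum_involution (fun i _ => (i + r / 2) % r) ?_ ?_ ?_ ?_
      · intro i hi
        simp only [Finset.mem_filter, Finset.mem_range] at hi
        rw [hcK i hi.1 hi.2, hcK _ (Nat.mod_lt _ h0) ((hmod i).trans hi.2), hzz]
      · intro i hi _ h3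
        simp only [Finset.mem_filter, Finset.mem_range] at hi
        by_cases h4 : i + r / 2 < r
        · rw [Nat.mod_eq_of_lt h4] at h3; omega
        · have h5 : (i + r / 2) % r = i + r / 2 - r := by
            rw [Nat.mod_eq_sub_mod (by omega), Nat.mod_eq_of_lt (by omega)]
          omega
      · intro i hi
        simp only [Finset.mem_filter, Finset.mem_range] at hi ⊢
        exact ⟨Nat.mod_lt _ h0, (hmod i).trans hi.2⟩
      · intro i hi
        simp only [Finset.mem_filter, Finset.mem_range] at hi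
        rw [Nat.mod_add_mod]
        have h4 : i + r / 2 + r / 2 = i + r * 1 := by omega
        rw [h4, Nat.add_mul_mod_self_left, Nat.mod_eq_of_lt hi.1]
    have e2 : ∑ i ∈ Finset.range r with ¬ 2 * i ≡ k [MOD r], (c i : ZMod 2) = 0 := by
      have hsum : ∀ i < r, (i + (k % r + (r - i)) % r) ≡ k [MOD r] := by
        intro i hi
        have h3 : i + (k % r + (r - i)) % r ≡ i + (k % r + (r - i)) [MOD r] :=
          (Nat.mod_modEq _ _).add_left i
        refine h3.trans ?_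
        have h4 : i + (k % r + (r - i)) = k % r + r * 1 := by omega
        rw [h4]
        have h5 : k % r + r * 1 ≡ k % r [MOD r] := by
          unfold Nat.ModEq
          rw [Nat.add_mul_mod_self_left]
        exact h5.trans (Nat.mod_modEq _ _)
      have huniq : ∀ i < r, ∀ j < r, ∀ j' < r, i + j ≡ k [MOD r] → i + j' ≡ k [MOD r] →
          j = j' := by
        intro i _ j hj j' hj' h3 h4
        exact Nat.ModEq.eq_of_lt_of_lt (Nat.ModEq.add_left_cancel' i (h3.trans h4.symm)) hj hj'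
      refine Finset.sum_involution (fun i _ => (k % r + (r - i)) % r) ?_ ?_ ?_ ?_
      · intro i hi
        simp only [Finset.mem_filter, Finset.mem_range] at hi
        rw [hc i hi.1 _ (Nat.mod_lt _ h0) (hsum i hi.1), hzz]
      · intro i hi _ h3
        simp only [Finset.mem_filter, Finset.mem_range] at hi
        have h4 := hsum i hi.1
        rw [h3, ← two_mul] at h4
        exact hi.2 h4
      · intro i hi
        simp only [Finset.mem_filter, Finset.mem_range] at hi ⊢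
        refine ⟨Nat.mod_lt _ h0, fun h3 => hi.2 ?_⟩
        have h4 := hsum i hi.1
        rw [two_mul] at h3
        have h5 := huniq _ (Nat.mod_lt _ h0) _ (Nat.mod_lt _ h0) i hi.1 h3
          (by rw [add_comm]; exact h4)
        rw [h5, ← two_mul] at h4
        exact h4
      · intro i hi
        simp only [Finset.mem_filter, Finset.mem_range] at hi
        have hj : (k % r + (r - i)) % r < r := Nat.mod_lt _ h0
        refine huniq _ hj _ (Nat.mod_lt _ h0) i hi.1 (hsum _ hj) ?_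
        rw [add_comm]
        exact hsum i hi.1
    rw [e1, e2, add_zero]
  have h3 : ((∑ i ∈ Finset.range r, c i : ℤ) : ZMod 2) = 0 := by
    push_cast
    exact h2
  rw [ZMod.intCast_zmod_eq_zero_iff_dvd] at h3
  obtain ⟨n, hn⟩ := h3
  exact ⟨n, by rw [hn]; push_cast; rfl⟩

variable [Fintype C] {hC : CHyp z q ε Z T T' U s s' u} {μ : U →* ℂˣ}
  {ξ : T →* ℂˣ} {θ : T' →* ℂˣ}

/-- `Wf k = R_T(f_k)`. -/
noncomputable def Wf (hC : CHyp z q ε Z T T' U s s' u) (μ : U →* ℂˣ) (ξ : T →* ℂˣ) (r k : ℕ) :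
    C → ℂ := ∑ i ∈ Finset.range r, Rt hC μ (X hC ξ i (k + (r - i)))

theorem Wf_eq (k : ℕ) : Wf hC μ ξ r k = Torus.R T hC.base μ (ff hC ξ r k) := by
  unfold Wf ff
  rw [R_sum]

theorem Rt_X_swap (hμ : ∃ v : U, μ v ≠ 1) (i j : ℕ) :
    Rt hC μ (X hC ξ i j) = Rt hC μ (X hC ξ j i) := by
  rw [← X_comp (hC := hC) (ξ := ξ) j i]
  exact R_sg hC.torus hC.base hμ _

theorem Rt_congr {χ ψ : T →* ℂˣ} (h : χ = ψ) : Rt hC μ χ = Rt hC μ ψ := by rw [h]

/-- The linear character `b ^ l` of `C`. -/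
noncomputable def bb (b : C →* ℂˣ) (l : ℕ) : C → ℂ := fun x => (b x : ℂ) ^ l

theorem isCharacter_bb (l : ℕ) : IsCharacter C (bb b l) := by
  have h1 : bb b l = fun x => ((b ^ l : C →* ℂˣ) x : ℂ) := by
    funext x
    rw [bb, MonoidHom.pow_apply, Units.val_pow_eq_pow_val]
  rw [h1]
  exact Linear.isCharacter_hom _

/-- `2 b^l = R_T(b^l) + R_T'(b^l)`. -/
theorem two_bb (hD : DetHyp q ε T T' U s s' u r b) (hξ : XiHyp hC r b ξ)
    (hθ : ThetaHyp hC r b θ) (hμ : ∃ v : U, μ v ≠ 1) (l : ℕ) :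
    (2 : ℂ) • bb b l = Rt hC μ (X hC ξ l l) + Rt' hC μ (θ ^ (2 * l)) := by
  funext x
  have h1 := hC.torus.R_add_R hC.torus' rfl hC.base hμ hC.exhaust (f := bb b l)
    (fun x c => by
      unfold bb
      rw [map_mul, map_mul, map_inv, mul_comm (b c), mul_inv_cancel_right])
    (fun y _ v hv => by
      unfold bb
      rw [map_mul, hD.b_U v hv, mul_one]) x
  have h2 : Torus.R T hC.base μ (bb b l) = Rt hC μ (X hC ξ l l) :=
    R_congr T hC.torus hC.base μ fun y hy => by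
      rw [lin_apply _ hy, X_diag hξ, Units.val_pow_eq_pow_val]
      rfl
  have h3 : Torus.R T' hC.base μ (bb b l) = Rt' hC μ (θ ^ (2 * l)) :=
    R_congr T' hC.torus' hC.base μ fun y hy => by
      rw [lin_pow _ _ hy, lin_apply _ hy, pow_mul, ← Units.val_pow_eq_pow_val, hθ.sq]
      rfl
  rw [h2, h3] at h1
  rw [Pi.smul_apply, Pi.add_apply, h1, smul_eq_mul]

/-- Evenness of `ν (Wf k)`. -/
theorem even_Wf (hD : DetHyp q ε T T' U s s' u r b) (hr : 4 ∣ r) (hξ : XiHyp hC r b ξ)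
    (hθ : ThetaHyp hC r b θ) (hμ : ∃ v : U, μ v ≠ 1) (ν : (C → ℂ) →ₗ[ℂ] ℂ)
    (hν : ∀ f, IsGeneralizedCharacter C f → ∃ n : ℤ, ν f = n)
    (hK : ∀ l < r, ν (Rt' hC μ (θ ^ (2 * l))) = ν (Rt' hC μ (θ ^ (2 * 0)))) (k : ℕ) :
    ∃ n : ℤ, ν (Wf hC μ ξ r k) = 2 * n := by
  have h0 := two_r hD
  choose c hc using fun i : ℕ => hν _ (isGeneralized_Rt (hC := hC) (μ := μ) (X hC ξ i (k + (r - i))))
  obtain ⟨K, hK'⟩ := hν _ (isGeneralized_Rt' (hC := hC) (μ := μ) (θ ^ (2 * 0)))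
  have hsum : ∀ i < r, ∀ j, i + j ≡ k [MOD r] → X hC ξ i (k + (r - i)) = X hC ξ i j := by
    intro i hi j hij
    rw [X_eq_iff hξ]
    refine ⟨rfl, ?_⟩
    refine Nat.ModEq.add_left_cancel' i ?_
    have h4 : i + (k + (r - i)) = k + r * 1 := by omega
    rw [h4]
    have h5 : k + r * 1 ≡ k [MOD r] := by
      unfold Nat.ModEq
      rw [Nat.add_mul_mod_self_left]
    exact h5.trans hij.symm
  obtain ⟨n, hn⟩ := sum_inv_mod_two hr h0 (k := k) c (-K) (fun i hi j hj hij => by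
    have h1 : ν (Rt hC μ (X hC ξ i (k + (r - i)))) = ν (Rt hC μ (X hC ξ j (k + (r - j)))) := by
      rw [hsum i hi j hij, hsum j hj i (by rw [add_comm]; exact hij), Rt_X_swap hμ]
    rw [hc, hc] at h1
    exact_mod_cast h1) (fun i hi hik => by
    rw [two_mul] at hik
    obtain ⟨n, hn⟩ := hν _ (Brauer.isGeneralizedCharacter_of_isCharacter (isCharacter_bb (b := b) i))
    refine ⟨n, ?_⟩
    have h1 := congrArg ν (two_bb hD hξ hθ hμ i)
    rw [map_smul, map_add, hK i hi, hK', ← hsum i hi i hik, hc, hn, smul_eq_mul] at h1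
    have h2 : ((c i : ℤ) : ℂ) = ((-K + 2 * n : ℤ) : ℂ) := by
      push_cast
      linear_combination -h1
    exact_mod_cast h2)
  refine ⟨n, ?_⟩
  unfold Wf
  rw [map_sum, Finset.sum_congr rfl (fun i _ => hc i)]
  have : ((∑ i ∈ Finset.range r, c i : ℤ) : ℂ) = ((2 * n : ℤ) : ℂ) := by rw [hn]
  push_cast at this
  exact this

theorem add_sub_modEq {r i j k : ℕ} (hi : i < r) :
    (k + (r - i) ≡ j [MOD r]) ↔ (i + j ≡ k [MOD r]) := by
  have h4 : i + (k + (r - i)) = k + r * 1 := by omega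
  have h5 : k + r * 1 ≡ k [MOD r] := by
    unfold Nat.ModEq
    rw [Nat.add_mul_mod_self_left]
  constructor
  · intro h
    have h1 := h.add_left i
    rw [h4] at h1
    exact h1.symm.trans h5
  · intro h
    refine Nat.ModEq.add_left_cancel' i ?_
    rw [h4]
    exact h5.trans h.symm

/-- Inner products of the `Wf k`. -/
theorem inner_Wf (hD : DetHyp q ε T T' U s s' u r b) (hξ : XiHyp hC r b ξ)
    (hμ : ∃ v : U, μ v ≠ 1) {k k' : ℕ} (hk : k < r) (hk' : k' < r) :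
    classInner (Wf hC μ ξ r k) (Wf hC μ ξ r k') = if k = k' then 2 * (r : ℂ) else 0 := by
  classical
  have h0 := two_r hD
  unfold Wf
  rw [Core.classInner_sum_left]
  have h1 : ∀ i ∈ Finset.range r, classInner (Rt hC μ (X hC ξ i (k + (r - i))))
      (∑ j ∈ Finset.range r, Rt hC μ (X hC ξ j (k' + (r - j)))) = if k = k' then 2 else 0 := by
    intro i hi
    have hi' := Finset.mem_range.1 hi
    rw [Core.classInner_sum_right]
    simp only [inner_X hξ hμ]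
    rw [Finset.sum_add_distrib]
    have e1 : ∑ j ∈ Finset.range r, (if i ≡ j [MOD r] ∧ k + (r - i) ≡ k' + (r - j) [MOD r]
        then (1 : ℂ) else 0) = if k = k' then 1 else 0 := by
      rw [Finset.sum_eq_single i]
      · have : (i ≡ i [MOD r] ∧ k + (r - i) ≡ k' + (r - i) [MOD r]) ↔ k = k' := by
          constructor
          · rintro ⟨-, h2⟩
            exact Nat.ModEq.eq_of_lt_of_lt (Nat.ModEq.add_right_cancel' _ h2) hk hk'
          · rintro rfl
            exact ⟨rfl, rfl⟩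
        simp only [this]
      · intro j hj hne
        rw [if_neg]
        rintro ⟨h2, -⟩
        exact hne (Nat.ModEq.eq_of_lt_of_lt h2 hi' (Finset.mem_range.1 hj)).symm
      · intro h2
        exact absurd hi h2
    have e2 : ∑ j ∈ Finset.range r, (if i ≡ k' + (r - j) [MOD r] ∧ k + (r - i) ≡ j [MOD r]
        then (1 : ℂ) else 0) = if k = k' then 1 else 0 := by
      rw [Finset.sum_eq_single ((k + (r - i)) % r)]
      · have hj : (k + (r - i)) % r < r := Nat.mod_lt _ h0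
        have h2 : k + (r - i) ≡ (k + (r - i)) % r [MOD r] := (Nat.mod_modEq _ _).symm
        have h3 := (add_sub_modEq hi').1 h2
        have : (i ≡ k' + (r - (k + (r - i)) % r) [MOD r] ∧
            k + (r - i) ≡ (k + (r - i)) % r [MOD r]) ↔ k = k' := by
          constructor
          · rintro ⟨h4, -⟩
            have h5 := (add_sub_modEq hj).1 h4.symm
            rw [add_comm] at h5
            exact Nat.ModEq.eq_of_lt_of_lt (h3.symm.trans h5) hk hk'
          · rintro rfl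
            refine ⟨((add_sub_modEq hj).2 ?_).symm, h2⟩
            rw [add_comm]
            exact h3
        simp only [this]
      · intro j hj hne
        rw [if_neg]
        rintro ⟨-, h2⟩
        exact hne (Nat.ModEq.eq_of_lt_of_lt ((Nat.mod_modEq _ _).trans h2) (Nat.mod_lt _ h0)
          (Finset.mem_range.1 hj)).symm
      · intro h2
        exact absurd (Finset.mem_range.2 (Nat.mod_lt _ h0)) h2
    rw [e1, e2]
    split_ifs <;> norm_num
  rw [Finset.sum_congr rfl h1, Finset.sum_const, Finset.card_range, nsmul_eq_mul]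
  split_ifs <;> ring

theorem inner_Rt'_Wf (hμ : ∃ v : U, μ v ≠ 1) (χ : T' →* ℂˣ) (k : ℕ) :
    classInner (Rt' hC μ χ) (Wf hC μ ξ r k) = 0 := by
  unfold Wf
  rw [Core.classInner_sum_right]
  exact Finset.sum_eq_zero fun i _ => Rt'_Rt hμ _ _

theorem inner_Phi_Wf (hμ : ∃ v : U, μ v ≠ 1) (l i k : ℕ) :
    classInner (Phi hC μ θ l i) (Wf hC μ ξ r k) = 0 := by
  unfold Phi
  rw [Core.classInner_sub_left, inner_Rt'_Wf hμ, inner_Rt'_Wf hμ, sub_zero]

/-- Support of `Wf k - Wf l`. -/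
theorem Wf_supp (hD : DetHyp q ε T T' U s s' u r b) (hξ : XiHyp hC r b ξ)
    (hμ : ∃ v : U, μ v ≠ 1) (k l : ℕ) {c : C}
    (hc : (Wf hC μ ξ r k - Wf hC μ ξ r l) c ≠ 0) : z ∈ Subgroup.zpowers c := by
  rw [Wf_eq, Wf_eq, ← R_sub] at hc
  exact R_supp hC.torus hC.torus' hC.base hμ hC.exhaust hC.t_mem
    (fun x hx hf => ff_supp hD hξ k l hx hf) hc

theorem Rt'_odd (hr : 4 ∣ r) (hθ : ThetaHyp hC r b θ) (hμ : ∃ v : U, μ v ≠ 1)
    (hD : DetHyp q ε T T' U s s' u r b) {l : ℕ} (hl : l < r) :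
    Rt' hC μ (θ ^ (2 * l + 1)) = Rt' hC μ (θ ^ (2 * (l % (r / 2)) + 1)) := by
  have h0 := two_r hD
  by_cases h1 : l < r / 2
  · rw [Nat.mod_eq_of_lt h1]
  · have h2 : l % (r / 2) = l - r / 2 := by
      rw [Nat.mod_eq_sub_mod (by omega), Nat.mod_eq_of_lt (by omega)]
    have h3 : θ ^ (2 * l + 1) = (θ ^ (2 * (l % (r / 2)) + 1)).comp (sg hC.torus') := by
      rw [theta_comp hr hθ, theta_pow_eq_iff hD hθ, h2]
      have h4 : (2 * (l - r / 2) + 1) * (1 + r) = (2 * l + 1) + 2 * r * (l - r / 2) := by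
        obtain ⟨n, hn⟩ : ∃ n, l = r / 2 + n := ⟨l - r / 2, by omega⟩
        have hr2 : r = 2 * (r / 2) := by omega
        have hn' : l - r / 2 = n := by omega
        rw [hn', hn]
        generalize r / 2 = e at hr2
        subst hr2
        ring
      rw [h4]
      unfold Nat.ModEq
      rw [Nat.add_mul_mod_self_left]
    rw [h3]
    exact R_sg hC.torus' hC.base hμ _

/-- `R_T'` of `∑ (-1)^j θ^j` in terms of the `Phi`. -/
theorem R_ee (hr : 4 ∣ r) (hθ : ThetaHyp hC r b θ) (hμ : ∃ v : U, μ v ≠ 1)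
    (hD : DetHyp q ε T T' U s s' u r b) :
    Torus.R T' hC.base μ (ee T' θ r) = ∑ l ∈ Finset.range r, Phi hC μ θ l (l % (r / 2)) := by
  unfold ee
  rw [R_sum]
  refine Finset.sum_congr rfl fun l hl => ?_
  rw [R_sub, Phi, ← Rt'_odd hr hθ hμ hD (Finset.mem_range.1 hl)]

end Even

end Cfsg.Agent.Classification.InvCent.WrFun
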