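import Mathlib
import Cfsg.Agent.Classification.InvCent.WrFun

/-!
# The class functions `Psi` and `Phi` of the wreathed case on `C`

`2 Psi = R_T(X i i) + R_T(X j j) - 2 R_T(X i j) + R_T'(θ^(2i)) - R_T'(θ^(2j))`, `i = r/4`,
`j = 3r/4`.
-/

set_option autoImplicit false
set_option linter.unusedSectionVars false

open Cfsg
open scoped ComplexConjugate

namespace Cfsg.Agent.Classification.InvCent.WrPsi

open Cfsg.Agent.Characters Cfsg.Agent.Classification.InvCent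
  Cfsg.Agent.Classification.InvCent.LinChar Cfsg.Agent.Classification.InvCent.WrChar
  Cfsg.Agent.Classification.InvCent.WrFun

variable {C : Type*} [Group C] {z : C} {q : ℕ} {ε : ℤ} {Z T T' U : Subgroup C} {s s' u : C}
  {r : ℕ} {b : C →* ℂˣ}

section General

variable [Fintype C] {hC : CHyp z q ε Z T T' U s s' u} {μ : U →* ℂˣ}
  {ξ : T →* ℂˣ} {θ : T' →* ℂˣ}

/-- The complex conjugate of `R_T(f)`. -/
theorem conj_R {δ : ℤ} {T₁ T₂ : Subgroup C} {s₁ s₂ : C} (h₁ : Torus q δ Z T₁ s₁)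
    (h₂ : Torus q (-δ) Z T₂ s₂) (hb : Base q Z U) (hμ : ∃ v : U, μ v ≠ 1)
    (hexh : ∀ c : C, ∃ g : C, g * c * g⁻¹ ∈ T₁ ∨ g * c * g⁻¹ ∈ T₂ ∨
      ∃ z ∈ Z, ∃ v ∈ U, g * c * g⁻¹ = z * v) {f g : C → ℂ} (hfg : ∀ x ∈ T₁, conj (f x) = g x)
    (x : C) : conj (Torus.R T₁ hb μ f x) = Torus.R T₁ hb μ g x := by
  have hne : δ ≠ -δ := by
    rcases h₁.sign with h3 | h3 <;> omega
  obtain ⟨c, hc⟩ := hexh x
  rw [← Torus.R_isClassFunction hb f x c, ← Torus.R_isClassFunction hb g x c]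
  generalize c * x * c⁻¹ = y at hc
  have hZ : ∀ z ∈ Z, conj (Torus.R T₁ hb μ f z) = Torus.R T₁ hb μ g z := by
    intro z hz
    rw [h₁.R_Z hb f hz, h₁.R_Z hb g hz, ← hfg z (h₁.Z_le hz), map_mul, map_add, map_mul, map_one,
      Complex.conj_natCast, map_intCast]
  rcases hc with hy | hy | ⟨z, hz, v, hv, hy⟩
  · by_cases hyZ : y ∈ Z
    · exact hZ y hyZ
    · rw [h₁.R_T hb f hy hyZ, h₁.R_T hb g hy hyZ, map_add, hfg y hy, hfg _ (h₁.s_conj y hy)]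
  · by_cases hyZ : y ∈ Z
    · exact hZ y hyZ
    · rw [h₁.R_T' h₂ hne.symm hb f hy hyZ, h₁.R_T' h₂ hne.symm hb g hy hyZ, map_zero]
  · subst hy
    by_cases hv1 : v = 1
    · rw [hv1, mul_one]
      exact hZ z hz
    · rw [h₁.R_ZU hb hμ f hz hv hv1, h₁.R_ZU hb hμ g hz hv hv1, hfg z (h₁.Z_le hz)]

/-- A homomorphism to `ℂˣ` nontrivial on a subgroup has sum zero. -/
theorem ssum_zero_of_ne {H : Subgroup C} {F : C → ℂ} {y : C} {w : ℂ} (hy : y ∈ H)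
    (hF : ∀ x ∈ H, F (y * x) = w * F x) (hw : w ≠ 1) : ssum H F = 0 := by
  have h1 : ssum H (fun x => F (Equiv.mulLeft y x)) = ssum H F :=
    ssum_equiv (Equiv.mulLeft y) (fun x => by
      rw [Equiv.coe_mulLeft]; exact H.mul_mem_cancel_left hy) F
  have h2 : ssum H (fun x => F (Equiv.mulLeft y x)) = w * ssum H F := by
    rw [← ssum_mul]
    refine ssum_congr fun x hx => ?_
    rw [Equiv.coe_mulLeft, hF x hx]
  rw [h2] at h1
  have h3 : (w - 1) * ssum H F = 0 := by linear_combination h1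
  exact (mul_eq_zero.1 h3).resolve_left (sub_ne_zero.2 hw)

theorem pairSum_add (t : C) (φ ψ : C → ℂ) :
    pairSum t (φ + ψ) = pairSum t φ + pairSum t ψ := by
  unfold pairSum
  simp only [Pi.add_apply, Finset.sum_add_distrib]

theorem pairSum_smul (t : C) (a : ℂ) (φ : C → ℂ) :
    pairSum t (a • φ) = a * pairSum t φ := by
  unfold pairSum
  simp only [Pi.smul_apply, smul_eq_mul, Finset.mul_sum]

theorem r_four (hr : 4 ∣ r) : 4 * (r / 4) = r := Nat.mul_div_cancel' hr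

end General

section Psi

variable [Fintype C] {hC : CHyp z q ε Z T T' U s s' u} {μ : U →* ℂˣ}
  {ξ : T →* ℂˣ} {θ : T' →* ℂˣ}

/-- The class function `Psi`. -/
noncomputable def Psi (hC : CHyp z q ε Z T T' U s s' u) (μ : U →* ℂˣ) (ξ : T →* ℂˣ)
    (b : C →* ℂˣ) (r : ℕ) : C → ℂ :=
  bb b (r / 4) + Rt hC μ (X hC ξ (3 * (r / 4)) (3 * (r / 4))) - bb b (3 * (r / 4)) -
    Rt hC μ (X hC ξ (r / 4) (3 * (r / 4)))

theorem isGeneralized_Psi : IsGeneralizedCharacter C (Psi hC μ ξ b r) := by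
  unfold Psi
  exact Brauer.isGeneralizedCharacter_sub (Brauer.isGeneralizedCharacter_sub
    (Brauer.isGeneralizedCharacter_add
      (Brauer.isGeneralizedCharacter_of_isCharacter (isCharacter_bb _)) (isGeneralized_Rt _))
    (Brauer.isGeneralizedCharacter_of_isCharacter (isCharacter_bb _))) (isGeneralized_Rt _)

/-- The function `F` on `T`. -/
noncomputable def FF (hC : CHyp z q ε Z T T' U s s' u) (ξ : T →* ℂˣ) (r : ℕ) : C → ℂ :=
  (lin T (X hC ξ (r / 4) (r / 4)) + lin T (X hC ξ (3 * (r / 4)) (3 * (r / 4)))) -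
    (lin T (X hC ξ (r / 4) (3 * (r / 4))) + lin T (X hC ξ (3 * (r / 4)) (r / 4)))

/-- The function `F'` on `T'`. -/
noncomputable def FF' (T' : Subgroup C) (θ : T' →* ℂˣ) (r : ℕ) : C → ℂ :=
  lin T' (θ ^ (2 * (r / 4))) - lin T' (θ ^ (2 * (3 * (r / 4))))

theorem two_Psi (hD : DetHyp q ε T T' U s s' u r b) (hξ : XiHyp hC r b ξ)
    (hθ : ThetaHyp hC r b θ) (hμ : ∃ v : U, μ v ≠ 1) :
    (2 : ℂ) • Psi hC μ ξ b r = Torus.R T hC.base μ (FF hC ξ r) +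
      Torus.R T' hC.base μ (FF' T' θ r) := by
  have h1 := two_bb hD hξ hθ hμ (r / 4)
  have h2 := two_bb hD hξ hθ hμ (3 * (r / 4))
  have h3 : Torus.R T hC.base μ (FF hC ξ r) =
      (Rt hC μ (X hC ξ (r / 4) (r / 4)) + Rt hC μ (X hC ξ (3 * (r / 4)) (3 * (r / 4)))) -
        (Rt hC μ (X hC ξ (r / 4) (3 * (r / 4))) + Rt hC μ (X hC ξ (r / 4) (3 * (r / 4)))) := by
    unfold FF
    rw [R_sub, R_add, R_add]
    exact congrArg₂ _ rfl (congrArg₂ _ rfl (Rt_X_swap hμ _ _))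
  have h4 : Torus.R T' hC.base μ (FF' T' θ r) =
      Rt' hC μ (θ ^ (2 * (r / 4))) - Rt' hC μ (θ ^ (2 * (3 * (r / 4)))) := by
    unfold FF'
    rw [R_sub]
  rw [h3, h4]
  funext x
  have h5 := congrFun h1 x
  have h6 := congrFun h2 x
  simp only [Pi.smul_apply, Pi.add_apply, Pi.sub_apply, smul_eq_mul, Psi] at h5 h6 ⊢
  linear_combination h5 - h6

theorem Psi_eq (hD : DetHyp q ε T T' U s s' u r b) (hξ : XiHyp hC r b ξ)
    (hθ : ThetaHyp hC r b θ) (hμ : ∃ v : U, μ v ≠ 1) :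
    Psi hC μ ξ b r = (2 : ℂ)⁻¹ • ((Rt hC μ (X hC ξ (r / 4) (r / 4)) +
      Rt hC μ (X hC ξ (3 * (r / 4)) (3 * (r / 4))) -
        (2 : ℂ) • Rt hC μ (X hC ξ (r / 4) (3 * (r / 4)))) +
      (Rt' hC μ (θ ^ (2 * (r / 4))) - Rt' hC μ (θ ^ (2 * (3 * (r / 4)))))) := by
  have h1 := two_bb hD hξ hθ hμ (r / 4)
  have h2 := two_bb hD hξ hθ hμ (3 * (r / 4))
  funext x
  have h5 := congrFun h1 x
  have h6 := congrFun h2 x
  simp only [Pi.smul_apply, Pi.add_apply, Pi.sub_apply, smul_eq_mul, Psi] at h5 h6 ⊢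
  linear_combination (1 / 2 : ℂ) * h5 - (1 / 2 : ℂ) * h6

theorem not_modEq (hD : DetHyp q ε T T' U s s' u r b) (hr : 4 ∣ r) :
    ¬ (r / 4 ≡ 3 * (r / 4) [MOD r]) := by
  have h0 := two_r hD
  have h4 := r_four hr
  intro h
  have := Nat.ModEq.eq_of_lt_of_lt h (by omega) (by omega)
  omega

theorem not_modEq' (hD : DetHyp q ε T T' U s s' u r b) (hr : 4 ∣ r) :
    ¬ (3 * (r / 4) ≡ r / 4 [MOD r]) := fun h => not_modEq hD hr h.symm

theorem inner_Psi (hD : DetHyp q ε T T' U s s' u r b) (hr : 4 ∣ r) (hξ : XiHyp hC r b ξ)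
    (hθ : ThetaHyp hC r b θ) (hμ : ∃ v : U, μ v ≠ 1) :
    classInner (Psi hC μ ξ b r) (Psi hC μ ξ b r) = 3 := by
  have h0 := two_r hD
  have h4 := r_four hr
  have hne : r / 4 ≠ 3 * (r / 4) := by omega
  have c2 : conj (2 : ℂ) = 2 := map_ofNat _ 2
  have c2' : conj (2 : ℂ)⁻¹ = 2⁻¹ := by rw [map_inv₀, c2]
  rw [Psi_eq hD hξ hθ hμ]
  simp only [Core.classInner_smul_left, Core.classInner_smul_right, Core.classInner_add_left,
    Core.classInner_add_right, Core.classInner_sub_left, Core.classInner_sub_right,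
    inner_X hξ hμ, Rt_Rt' hμ, Rt'_Rt hμ, inner_even_even hD hr hθ hμ
      (show r / 4 < r by omega) (show r / 4 < r by omega),
    inner_even_even hD hr hθ hμ (show r / 4 < r by omega) (show 3 * (r / 4) < r by omega),
    inner_even_even hD hr hθ hμ (show 3 * (r / 4) < r by omega) (show r / 4 < r by omega),
    inner_even_even hD hr hθ hμ (show 3 * (r / 4) < r by omega) (show 3 * (r / 4) < r by omega),
    not_modEq hD hr, not_modEq' hD hr, Nat.ModEq.refl, c2, c2', hne, hne.symm]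
  norm_num

theorem inner_Psi_one (hD : DetHyp q ε T T' U s s' u r b) (hr : 4 ∣ r) (hξ : XiHyp hC r b ξ)
    (hθ : ThetaHyp hC r b θ) (hμ : ∃ v : U, μ v ≠ 1) :
    classInner (Psi hC μ ξ b r) 1 = 0 := by
  classical
  have h0 := two_r hD
  have h4 := r_four hr
  have hX : ∀ i j : ℕ, 0 < i → i < r → X hC ξ i j ≠ 1 := by
    intro i j hi hir h
    have h1 : X hC ξ i j = X hC ξ 0 0 := by
      rw [h]
      ext x
      simp [X_apply]
    rw [X_eq_iff hξ] at h1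
    have := Nat.ModEq.eq_of_lt_of_lt h1.1 hir h0
    omega
  have hθ1 : ∀ n : ℕ, 0 < n → n < 2 * r → θ ^ n ≠ 1 := by
    intro n hn hn2 h
    have h1 : 2 * r ∣ n := by
      rw [← orderOf_theta hD hθ, orderOf_dvd_iff_pow_eq_one]
      exact h
    have := Nat.le_of_dvd hn h1
    omega
  rw [Psi_eq hD hξ hθ hμ]
  simp only [Core.classInner_smul_left, Core.classInner_add_left, Core.classInner_sub_left,
    inner_Rt_one hμ, inner_Rt'_one hμ]
  rw [if_neg (hX _ _ (by omega) (by omega)), if_neg (hX _ _ (by omega) (by omega)),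
    if_neg (hX _ _ (by omega) (by omega)), if_neg (hθ1 _ (by omega) (by omega)),
    if_neg (hθ1 _ (by omega) (by omega))]
  norm_num

theorem inner_Psi_Phi (hD : DetHyp q ε T T' U s s' u r b) (hr : 4 ∣ r) (hξ : XiHyp hC r b ξ)
    (hθ : ThetaHyp hC r b θ) (hμ : ∃ v : U, μ v ≠ 1) {l i : ℕ} (hl : l < r) (_ : i < r / 2) :
    classInner (Psi hC μ ξ b r) (Phi hC μ θ l i) =
      (if l = r / 4 then 1 else 0) - (if l = 3 * (r / 4) then 1 else 0) := by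
  classical
  have h0 := two_r hD
  have h4 := r_four hr
  rw [Psi_eq hD hξ hθ hμ, Phi]
  simp only [Core.classInner_smul_left, Core.classInner_add_left, Core.classInner_sub_left,
    Core.classInner_sub_right, Rt_Rt' hμ, inner_even_odd hD hr hθ hμ,
    inner_even_even hD hr hθ hμ (show r / 4 < r by omega) hl,
    inner_even_even hD hr hθ hμ (show 3 * (r / 4) < r by omega) hl, eq_comm (a := l)]
  split_ifs <;> norm_num

theorem FF_apply (x : T) : FF hC ξ r (x : C) =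
    ((ξ x : ℂ) ^ (r / 4) * (ξ (sg hC.torus x) : ℂ) ^ (r / 4) +
      (ξ x : ℂ) ^ (3 * (r / 4)) * (ξ (sg hC.torus x) : ℂ) ^ (3 * (r / 4))) -
    ((ξ x : ℂ) ^ (r / 4) * (ξ (sg hC.torus x) : ℂ) ^ (3 * (r / 4)) +
      (ξ x : ℂ) ^ (3 * (r / 4)) * (ξ (sg hC.torus x) : ℂ) ^ (r / 4)) := by
  unfold FF
  simp only [Pi.add_apply, Pi.sub_apply, lin_X _ _ x.2]

/-- `F = (α - α³) (γ - γ³)` with `α = ξ^(r/4)`, `γ = (ξ^s)^(r/4)`. -/
theorem FF_apply' (x : T) : FF hC ξ r (x : C) =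
    (((ξ x : ℂ) ^ (r / 4)) - ((ξ x : ℂ) ^ (r / 4)) ^ 3) *
      (((ξ (sg hC.torus x) : ℂ) ^ (r / 4)) - ((ξ (sg hC.torus x) : ℂ) ^ (r / 4)) ^ 3) := by
  rw [FF_apply, mul_comm 3 (r / 4), pow_mul, pow_mul]
  ring

theorem units_half {w : ℂˣ} (hr : 4 ∣ r) (hw : w ^ r = 1)
    (h : ((w : ℂ) ^ (r / 4)) - ((w : ℂ) ^ (r / 4)) ^ 3 ≠ 0) : w ^ (r / 2) = -1 := by
  have h4 := r_four hr
  have h2 : r / 2 = r / 4 * 2 := by omega
  have h1 : (w ^ (r / 2)) * (w ^ (r / 2)) = 1 := by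
    rw [← pow_add]
    have : r / 2 + r / 2 = r := by omega
    rw [this, hw]
  refine (WrXi.units_sq h1).resolve_left fun h3 => h ?_
  rw [h2, pow_mul] at h3
  have h5 := congrArg Units.val h3
  rw [Units.val_pow_eq_pow_val, Units.val_pow_eq_pow_val, Units.val_one] at h5
  linear_combination -((w : ℂ) ^ (r / 4)) * h5

theorem FF_supp (hD : DetHyp q ε T T' U s s' u r b) (hr : 4 ∣ r) (hξ : XiHyp hC r b ξ) :
    ∀ x ∈ T, FF hC ξ r x ≠ 0 → z ∈ Subgroup.zpowers x := by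
  intro x hx h
  rw [FF_apply' (⟨x, hx⟩ : T)] at h
  exact mem_zpowers_of_xi_half hD hξ (x := ⟨x, hx⟩)
    (units_half hr (hξ.pow _) (left_ne_zero_of_mul h))
    (units_half hr (hξ.pow _) (right_ne_zero_of_mul h))

theorem lin_theta_ne (hD : DetHyp q ε T T' U s s' u r b) (hθ : ThetaHyp hC r b θ) (m n : ℕ) :
    ∀ x ∈ T', (lin T' (θ ^ m) - lin T' (θ ^ n)) x ≠ 0 → z ∈ Subgroup.zpowers x := by
  intro x hx h
  refine mem_zpowers_of_theta hD hθ (x := ⟨x, hx⟩) fun h1 => h ?_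
  rw [Pi.sub_apply, lin_pow _ _ hx, lin_pow _ _ hx, lin_apply _ hx, h1, Units.val_one, one_pow,
    one_pow, sub_self]

theorem Psi_supp (hD : DetHyp q ε T T' U s s' u r b) (hr : 4 ∣ r) (hξ : XiHyp hC r b ξ)
    (hθ : ThetaHyp hC r b θ) (hμ : ∃ v : U, μ v ≠ 1) {c : C} (h : Psi hC μ ξ b r c ≠ 0) :
    z ∈ Subgroup.zpowers c := by
  have h1 := congrFun (two_Psi hD hξ hθ hμ) c
  rw [Pi.smul_apply, Pi.add_apply, smul_eq_mul] at h1
  by_cases h2 : Torus.R T hC.base μ (FF hC ξ r) c = 0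
  · refine R_supp hC.torus' (torus_neg_neg hC) hC.base hμ (exhaust' hC) hC.t_mem
      (lin_theta_ne hD hθ (2 * (r / 4)) (2 * (3 * (r / 4)))) (c := c) fun h3 => h ?_
    have h4 : Torus.R T' hC.base μ (FF' T' θ r) c = 0 := h3
    rw [h2, h4, add_zero] at h1
    exact (mul_eq_zero.1 h1).resolve_left (by norm_num)
  · exact R_supp hC.torus hC.torus' hC.base hμ hC.exhaust hC.t_mem (FF_supp hD hr hξ) h2

theorem FF_z (hξ : XiHyp hC r b ξ) : FF hC ξ r z = 0 := by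
  have h1 := FF_apply' (hC := hC) (ξ := ξ) (r := r) ⟨z, z_mem hC⟩
  rw [h1, hξ.at_z, Units.val_neg, Units.val_one]
  rcases Nat.even_or_odd (r / 4) with h2 | h2
  · rw [h2.neg_one_pow]; norm_num
  · rw [h2.neg_one_pow]; norm_num

theorem lin_theta_z (hθ : ThetaHyp hC r b θ) (n : ℕ) : lin T' (θ ^ n) z = (-1) ^ n := by
  rw [lin_pow _ _ (z_mem' hC), lin_apply _ (z_mem' hC), hθ.at_z, Units.val_neg, Units.val_one]

theorem FF'_z (hθ : ThetaHyp hC r b θ) : FF' T' θ r z = 0 := by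
  unfold FF'
  rw [Pi.sub_apply, lin_theta_z hθ, lin_theta_z hθ, pow_mul, pow_mul]
  norm_num

theorem Psi_z (hD : DetHyp q ε T T' U s s' u r b) (hξ : XiHyp hC r b ξ)
    (hθ : ThetaHyp hC r b θ) (hμ : ∃ v : U, μ v ≠ 1) : Psi hC μ ξ b r z = 0 := by
  have h1 := congrFun (two_Psi hD hξ hθ hμ) z
  rw [Pi.smul_apply, Pi.add_apply, smul_eq_mul, hC.torus.R_Z hC.base _ hC.t_mem,
    hC.torus'.R_Z hC.base _ hC.t_mem, FF_z hξ, FF'_z hθ, mul_zero, mul_zero, add_zero] at h1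
  exact (mul_eq_zero.1 h1).resolve_left (by norm_num)

theorem Phi_eq (l i : ℕ) : Phi hC μ θ l i =
    Torus.R T' hC.base μ (lin T' (θ ^ (2 * l)) - lin T' (θ ^ (2 * i + 1))) := by
  unfold Phi
  rw [R_sub]

theorem Phi_supp (hD : DetHyp q ε T T' U s s' u r b)
    (hθ : ThetaHyp hC r b θ) (hμ : ∃ v : U, μ v ≠ 1) {l i : ℕ} {c : C}
    (h : Phi hC μ θ l i c ≠ 0) : z ∈ Subgroup.zpowers c := by
  rw [Phi_eq] at h
  exact R_supp hC.torus' (torus_neg_neg hC) hC.base hμ (exhaust' hC) hC.t_mem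
      (lin_theta_ne hD hθ _ _) h

theorem Phi_z (hθ : ThetaHyp hC r b θ) (l i : ℕ) : Phi hC μ θ l i z = 2 * (1 - ε * q) := by
  rw [Phi_eq, hC.torus'.R_Z hC.base _ hC.t_mem, Pi.sub_apply, lin_theta_z hθ, lin_theta_z hθ,
    pow_succ, pow_mul, pow_mul]
  push_cast
  norm_num
  ring

/-- `ξ^(r/2)` is not trivial on `T₀`. -/
theorem exists_T₀ (hD : DetHyp q ε T T' U s s' u r b) (hr : 4 ∣ r) (hξ : XiHyp hC r b ξ) :
    ∃ y : T, (y : C) ∈ hC.torus.T₀ ∧ ξ y ^ (r / 2) ≠ 1 := by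
  by_contra hcon
  push Not at hcon
  have h0 := two_r hD
  have h4 := r_four hr
  have h1 : X hC ξ (r / 2) 0 = X hC ξ 0 (r / 2) := by
    ext x
    have h2 : ((x * (sg hC.torus x)⁻¹ : T) : C) ∈ hC.torus.T₀ := by
      refine ⟨(x * (sg hC.torus x)⁻¹ : T).2, ?_⟩
      have h3 : (x * (sg hC.torus x)⁻¹) * sg hC.torus (x * (sg hC.torus x)⁻¹) = 1 := by
        rw [map_mul, map_inv, sg_sg]
        have h5 := hC.T_comm x x.2 (sg hC.torus x) (sg hC.torus x).2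
        refine Subtype.ext ?_
        simp only [Subgroup.coe_mul, Subgroup.coe_inv, Subgroup.coe_one]
        group
      exact congrArg Subtype.val h3
    have h3 := hcon _ h2
    rw [map_mul, map_inv, mul_pow, inv_pow, mul_inv_eq_one] at h3
    rw [X_apply, X_apply, pow_zero, pow_zero, mul_one, one_mul, h3]
  rw [X_eq_iff hξ] at h1
  have := Nat.ModEq.eq_of_lt_of_lt h1.1 (by omega) h0
  omega

theorem ssum_xi (hD : DetHyp q ε T T' U s s' u r b) (hr : 4 ∣ r) (hξ : XiHyp hC r b ξ) :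
    ssum hC.torus.T₀ (lin T (ξ ^ (r / 2))) = 0 := by
  obtain ⟨y, hy, hy1⟩ := exists_T₀ hD hr hξ
  refine ssum_zero_of_ne (y := y) (w := ((ξ y ^ (r / 2) : ℂˣ) : ℂ)) hy (fun x hx => ?_) ?_
  · have hxT : x ∈ T := hx.1
    rw [lin_apply _ (mul_mem y.2 hxT), lin_apply _ hxT, ← MonoidHom.pow_apply, ← Units.val_mul,
      ← map_mul]
    rfl
  · intro h
    exact hy1 (Units.ext (by rw [Units.val_one]; exact h))

theorem FF_T₀ (hr : 4 ∣ r) (hξ : XiHyp hC r b ξ) {x : C} (hx : x ∈ hC.torus.T₀) :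
    FF hC ξ r x = 2 - 2 * lin T (ξ ^ (r / 2)) x := by
  have hxT : x ∈ T := hx.1
  have h4 := r_four hr
  have h1 : sg hC.torus ⟨x, hxT⟩ = (⟨x, hxT⟩ : T)⁻¹ := by
    refine eq_inv_of_mul_eq_one_right ?_
    exact Subtype.ext hx.2
  rw [FF_apply' (⟨x, hxT⟩ : T), h1, map_inv, lin_pow _ _ hxT, lin_apply _ hxT]
  set w : ℂˣ := ξ ⟨x, hxT⟩ with hw
  have h2 : (w : ℂ) ^ r = 1 := by
    rw [← Units.val_pow_eq_pow_val, hw, hξ.pow, Units.val_one]
  have h3 : r / 2 = r / 4 * 2 := by omega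
  set a : ℂ := (w : ℂ) ^ (r / 4) with ha
  have ha4 : a ^ 4 = 1 := by
    rw [ha, ← pow_mul]
    have : r / 4 * 4 = r := by omega
    rw [this, h2]
  have ha0 : a ≠ 0 := by
    intro h
    rw [h] at ha4
    norm_num at ha4
  have h5 : ((w⁻¹ : ℂˣ) : ℂ) ^ (r / 4) = a ^ 3 := by
    rw [Units.val_inv_eq_inv_val, inv_pow, ← ha]
    exact inv_eq_of_mul_eq_one_left (by rw [← pow_succ]; exact ha4)
  rw [h5, h3, pow_mul, ← ha]
  linear_combination (2 + a ^ 8 + a ^ 4 - a ^ 2 * (a ^ 4 + 1) - a ^ 2) * ha4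

theorem pairSum_Psi (hD : DetHyp q ε T T' U s s' u r b) (hr : 4 ∣ r) (hξ : XiHyp hC r b ξ)
    (hθ : ThetaHyp hC r b θ) (hμ : ∃ v : U, μ v ≠ 1) :
    pairSum z (Psi hC μ ξ b r) = q * (q ^ 2 - 1) * (q - ε) := by
  have h1 := congrArg (pairSum z) (two_Psi hD hξ hθ hμ)
  have hone : FF hC ξ r 1 = 0 := by
    have h1 := FF_apply' (hC := hC) (ξ := ξ) (r := r) 1
    rw [Subgroup.coe_one] at h1
    rw [h1, map_one, Units.val_one, one_pow]
    norm_num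
  have hone' : FF' T' θ r 1 = 0 := by
    unfold FF'
    rw [Pi.sub_apply, lin_apply _ (one_mem T'), lin_apply _ (one_mem T')]
    have h3 : (⟨1, one_mem T'⟩ : T') = 1 := rfl
    rw [h3, map_one, map_one, sub_self]
  rw [pairSum_smul, pairSum_add, hC.pairSum_R_T hμ _ hone, hC.pairSum_R_T' hμ _ hone', FF_z hξ] at h1
  have h2 : ssum hC.torus.T₀ (FF hC ξ r) = 2 * (q - ε) := by
    rw [ssum_congr (fun x hx => FF_T₀ hr hξ hx), ssum_sub, ssum_mul, ssum_xi hD hr hξ, ssum_const,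
      mul_zero, sub_zero]
    have h3 := hC.torus.card_T₀
    have h4 : (Nat.card hC.torus.T₀ : ℂ) = q - ε := by exact_mod_cast h3
    rw [h4]; ring
  have h3 : ssum hC.torus'.T₀ (FF' T' θ r) = 0 := by
    have h4 : ∀ x ∈ hC.torus'.T₀, FF' T' θ r x = (fun _ => (0 : ℂ)) x := by
      intro x hx
      have hxT : x ∈ T' := hx.1
      unfold FF'
      rw [Pi.sub_apply, lin_pow _ _ hxT, lin_pow _ _ hxT, lin_apply _ hxT, pow_mul, pow_mul,
        ← Units.val_pow_eq_pow_val, hθ.sq]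
      have h5 : b ((⟨x, hxT⟩ : T') : C) = 1 := hD.b_T'₀ x hxT hx.2
      rw [h5, Units.val_one, one_pow, one_pow, sub_self]
    rw [ssum_congr h4, ssum_zero]
  rw [h2, h3] at h1
  linear_combination (1 / 2 : ℂ) * h1

theorem pairSum_Phi (hD : DetHyp q ε T T' U s s' u r b)
    (hθ : ThetaHyp hC r b θ) (hμ : ∃ v : U, μ v ≠ 1) (l i : ℕ) :
    pairSum z (Phi hC μ θ l i) = q * (q ^ 2 - 1) * (q + ε) := by
  have h3 : (⟨1, one_mem T'⟩ : T') = 1 := rfl
  rw [Phi_eq, hC.pairSum_R_T' hμ _ (by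
    rw [Pi.sub_apply, lin_apply _ (one_mem T'), lin_apply _ (one_mem T'), h3, map_one, map_one,
      sub_self])]
  congr 1
  have hval : ∀ x ∈ hC.torus'.T₀, (lin T' (θ ^ (2 * l)) - lin T' (θ ^ (2 * i + 1))) x =
      1 - lin T' θ x := by
    intro x hx
    have hxT : x ∈ T' := hx.1
    have h5 : b ((⟨x, hxT⟩ : T') : C) = 1 := hD.b_T'₀ x hxT hx.2
    rw [Pi.sub_apply, lin_pow _ _ hxT, lin_pow _ _ hxT, lin_apply _ hxT, pow_succ, pow_mul,
      pow_mul, ← Units.val_pow_eq_pow_val, hθ.sq, h5, Units.val_one, one_pow, one_pow, one_mul]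
  have hsum : ssum hC.torus'.T₀ (lin T' θ) = 0 := by
    refine ssum_zero_of_ne (y := z) (w := -1) hC.t_mem_T'₀ (fun x hx => ?_) (by norm_num)
    have hxT : x ∈ T' := hx.1
    have h6 : (⟨z * x, mul_mem (z_mem' hC) hxT⟩ : T') = ⟨z, z_mem' hC⟩ * ⟨x, hxT⟩ := rfl
    rw [lin_apply _ (mul_mem (z_mem' hC) hxT), lin_apply _ hxT, h6, map_mul, Units.val_mul,
      hθ.at_z, Units.val_neg, Units.val_one]
  rw [ssum_congr hval, ssum_sub, hsum, ssum_const, sub_zero, mul_one]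
  have h4 := hC.torus'.card_T₀
  have h5 : ((Nat.card hC.torus'.T₀ : ℤ) : ℂ) = ((q - -ε : ℤ) : ℂ) := by rw [h4]
  push_cast at h5
  rw [h5]
  ring

/-- The complex conjugate of `R_T'(θ^m)`. -/
theorem conj_Rt' (hD : DetHyp q ε T T' U s s' u r b) (hθ : ThetaHyp hC r b θ)
    (hμ : ∃ v : U, μ v ≠ 1) {m n : ℕ} (hmn : 2 * r ∣ m + n) (x : C) :
    conj (Rt' hC μ (θ ^ m) x) = Rt' hC μ (θ ^ n) x := by
  refine conj_R hC.torus' (torus_neg_neg hC) hC.base hμ (exhaust' hC) (fun y hy => ?_) x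
  rw [conj_lin _ hy]
  congr 1
  have h1 : θ ^ (m + n) = 1 := by
    rw [← orderOf_theta hD hθ, orderOf_dvd_iff_pow_eq_one] at hmn
    exact hmn
  ext w
  have h2 := DFunLike.congr_fun h1 w
  rw [MonoidHom.pow_apply, pow_add, MonoidHom.one_apply] at h2
  rw [MonoidHom.inv_apply, MonoidHom.pow_apply, MonoidHom.pow_apply]
  congr 1
  exact inv_eq_of_mul_eq_one_right h2

theorem conj_Phi_sub (hD : DetHyp q ε T T' U s s' u r b) (hr : 4 ∣ r)
    (hθ : ThetaHyp hC r b θ) (hμ : ∃ v : U, μ v ≠ 1) (i : ℕ) (x : C) :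
    conj (Phi hC μ θ (r / 4) i x - Phi hC μ θ 0 i x) =
      Phi hC μ θ (3 * (r / 4)) i x - Phi hC μ θ 0 i x := by
  have h4 := r_four hr
  have h1 : Phi hC μ θ (r / 4) i x - Phi hC μ θ 0 i x =
      Rt' hC μ (θ ^ (2 * (r / 4))) x - Rt' hC μ (θ ^ (2 * 0)) x := by
    unfold Phi
    simp only [Pi.sub_apply]
    ring
  have h2 : Phi hC μ θ (3 * (r / 4)) i x - Phi hC μ θ 0 i x =
      Rt' hC μ (θ ^ (2 * (3 * (r / 4)))) x - Rt' hC μ (θ ^ (2 * 0)) x := by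
    unfold Phi
    simp only [Pi.sub_apply]
    ring
  rw [h1, h2, map_sub, conj_Rt' hD hθ hμ (n := 2 * (3 * (r / 4))) ⟨1, by omega⟩,
    conj_Rt' hD hθ hμ (n := 2 * 0) (by norm_num)]

theorem conj_Phi_zero (hD : DetHyp q ε T T' U s s' u r b) (hr : 4 ∣ r)
    (hθ : ThetaHyp hC r b θ) (hμ : ∃ v : U, μ v ≠ 1) {i : ℕ} (hi : i < r / 2) (x : C) :
    conj (Phi hC μ θ 0 i x) = Phi hC μ θ 0 (r / 2 - 1 - i) x := by
  have h4 := r_four hr
  have h0 := two_r hD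
  unfold Phi
  simp only [Pi.sub_apply]
  rw [map_sub, conj_Rt' hD hθ hμ (n := 2 * 0) (by norm_num),
    conj_Rt' hD hθ hμ (n := 2 * r - (2 * i + 1)) ⟨1, by omega⟩]
  congr 1
  have h1 : θ ^ (2 * (r / 2 - 1 - i) + 1) = (θ ^ (2 * r - (2 * i + 1))).comp (sg hC.torus') := by
    rw [theta_comp hr hθ, theta_pow_eq_iff hD hθ]
    have h2 : (2 * r - (2 * i + 1)) * (1 + r) =
        (2 * (r / 2 - 1 - i) + 1) + 2 * r * (r - i) := by
      obtain ⟨k, hk⟩ : ∃ k, r = 2 * k := ⟨r / 2, by omega⟩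
      obtain ⟨d, hd⟩ : ∃ d, k = i + 1 + d := ⟨r / 2 - 1 - i, by omega⟩
      have e1 : r / 2 - 1 - i = d := by omega
      have e2 : 2 * r - (2 * i + 1) = 2 * i + 4 * d + 3 := by omega
      have e3 : r - i = i + 2 + 2 * d := by omega
      rw [e1, e2, e3]
      have e4 : r = 2 * i + 2 + 2 * d := by omega
      rw [e4]
      ring
    rw [h2]
    unfold Nat.ModEq
    rw [Nat.add_mul_mod_self_left]
  have h5 := R_sg hC.torus' hC.base hμ (θ ^ (2 * r - (2 * i + 1)))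
  rw [← h1] at h5
  exact (congrFun h5 x).symm

end Psi

end Cfsg.Agent.Classification.InvCent.WrPsi
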