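import Mathlib
import Cfsg.Prelude.Def_Characters
import Cfsg.Agent.Characters.Core
import Cfsg.Agent.Classification.BGOrder
import Cfsg.Agent.Classification.BGSplit

/-!
# The Gram matrix argument for the family `λ(1 - St) + disc_θ`

Abstract part of the character computation for a simple group with an involution whose
centralizer is `GL₂(q)/Z` (also `GU₂(q)/Z`), wreathed case.
-/

set_option autoImplicit false
set_option linter.unusedSectionVars false

open Cfsg
open scoped ComplexConjugate

namespace Cfsg.Agent.Classification.InvCent.WreathedGram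

open Cfsg.Agent.Classification.BGOrder Cfsg.Agent.Characters.Core
  Cfsg.Agent.Classification.BGSplit

universe u

variable {G : Type u} [Group G] [Fintype G]

/-- Inner product of a generalized character with a signed irreducible character. -/
theorem inner_int {f X : G → ℂ} (hf : IsGeneralizedCharacter G f) (hX : SignedIrr X) :
    ∃ n : ℤ, classInner f X = n := by
  classical
  have := finite_irr (G := G)
  let _ : Fintype (IrrCharacter G) := Fintype.ofFinite _
  obtain ⟨m, hm⟩ := isGeneralizedCharacter_iff.1 hf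
  rcases hX with h | h
  · refine ⟨m ⟨X, h⟩, ?_⟩
    have := classInner_sum_zsmul_irr m ⟨X, h⟩
    rw [← hm] at this
    exact this
  · refine ⟨-m ⟨-X, h⟩, ?_⟩
    have := classInner_sum_zsmul_irr m ⟨-X, h⟩
    rw [← hm] at this
    change classInner f (-X) = _ at this
    rw [classInner_neg_right] at this
    rw [neg_eq_iff_eq_neg] at this
    rw [this]
    push_cast
    rfl

/-- The degree of a generalized character is an integer. -/
theorem degree_int {f : G → ℂ} (hf : IsGeneralizedCharacter G f) : ∃ n : ℤ, f 1 = n := by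
  obtain ⟨χ, ψ, hχ, hψ, rfl⟩ := hf
  obtain ⟨a, ha⟩ := isCharacter_apply_one hχ
  obtain ⟨b, hb⟩ := isCharacter_apply_one hψ
  refine ⟨(a : ℤ) - b, ?_⟩
  rw [Pi.sub_apply, ha, hb]
  push_cast
  rfl

theorem norm_nonneg {f : G → ℂ} {r : ℝ} (h : classInner f f = (r : ℂ)) : 0 ≤ r := by
  rw [classInner_self_eq_ofReal] at h
  have h' := Complex.ofReal_injective h
  rw [← h']
  exact mul_nonneg (by positivity) (Finset.sum_nonneg fun _ _ => Complex.normSq_nonneg _)

theorem norm_nonneg_int {f : G → ℂ} {N : ℤ} (h : classInner f f = (N : ℂ)) : 0 ≤ N := by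
  have : classInner f f = ((N : ℝ) : ℂ) := by rw [h]; push_cast; rfl
  exact_mod_cast norm_nonneg this

theorem eq_zero_of_norm {f : G → ℂ} {N : ℤ} (h : classInner f f = (N : ℂ)) (hN : N ≤ 0) :
    f = 0 := by
  have h0 := norm_nonneg_int h
  have : N = 0 := le_antisymm hN h0
  rw [this] at h
  exact classInner_self_eq_zero (by rw [h]; simp)

theorem generalized_add {f g : G → ℂ} (hf : IsGeneralizedCharacter G f)
    (hg : IsGeneralizedCharacter G g) : IsGeneralizedCharacter G (f + g) := by
  obtain ⟨χ, ψ, hχ, hψ, rfl⟩ := hf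
  obtain ⟨χ', ψ', hχ', hψ', rfl⟩ := hg
  exact ⟨χ + χ', ψ + ψ', isCharacter_add hχ hχ', isCharacter_add hψ hψ', by abel⟩

theorem generalized_zero : IsGeneralizedCharacter G (0 : G → ℂ) :=
  ⟨0, 0, isCharacter_zero, isCharacter_zero, by simp⟩

theorem generalized_sum {ι : Type*} (s : Finset ι) {f : ι → G → ℂ}
    (hf : ∀ i ∈ s, IsGeneralizedCharacter G (f i)) : IsGeneralizedCharacter G (∑ i ∈ s, f i) := by
  classical
  induction s using Finset.induction_on with
  | empty => simpa using generalized_zero
  | insert a s ha ih =>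
    rw [Finset.sum_insert ha]
    exact generalized_add (hf a (Finset.mem_insert_self _ _))
      (ih fun i hi => hf i (Finset.mem_insert_of_mem hi))

/-- A generalized character of norm one is a signed irreducible character. -/
theorem signed_of_norm_one {f : G → ℂ} (hf : IsGeneralizedCharacter G f)
    (h : classInner f f = 1) : SignedIrr f := by
  obtain ⟨R, hR, h1, h2, h3⟩ := peel (N := 1) hf (by rw [h]; norm_num) (by norm_num) (by norm_num)
  have : f - R = 0 := eq_zero_of_norm (N := 1 - 1) h3 (by norm_num)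
  rw [sub_eq_zero] at this
  rw [this]; exact hR

/-- Bessel's inequality for two orthogonal functions vanishing at `1`, strict because the
signed irreducible character does not vanish at `1`. -/
theorem bessel_two {L v w : G → ℂ} (hL : classInner L L = 1) (hL1 : L 1 ≠ 0)
    (hv1 : v 1 = 0) (hw1 : w 1 = 0) (hvw : classInner v w = 0) {a b A B : ℝ}
    (hA : 0 < A) (hB : 0 < B) (hvv : classInner v v = A) (hww : classInner w w = B)
    (hLv : classInner L v = a) (hLw : classInner L w = b) :
    a ^ 2 / A + b ^ 2 / B < 1 := by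
  have hwv : classInner w v = 0 := inner_symm_zero hvw
  have hvL : classInner v L = a := by
    rw [← classInner_conj_symm, hLv, Complex.conj_ofReal]
  have hwL : classInner w L = b := by
    rw [← classInner_conj_symm, hLw, Complex.conj_ofReal]
  have hA' : (A : ℂ) ≠ 0 := by exact_mod_cast hA.ne'
  have hB' : (B : ℂ) ≠ 0 := by exact_mod_cast hB.ne'
  set f : G → ℂ := L - ((a / A : ℝ) : ℂ) • v - ((b / B : ℝ) : ℂ) • w with hf
  have hff : classInner f f = ((1 - (a ^ 2 / A + b ^ 2 / B) : ℝ) : ℂ) := by
    rw [hf]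
    simp only [classInner_sub_left, classInner_sub_right, classInner_smul_left,
      classInner_smul_right, hL, hLv, hLw, hvL, hwL, hvw, hwv, hvv, hww, Complex.conj_ofReal]
    push_cast
    field_simp
    ring
  have h0 := norm_nonneg hff
  rcases h0.lt_or_eq with h | h
  · linarith
  · exfalso
    rw [← h] at hff
    have : f = 0 := classInner_self_eq_zero (by rw [hff]; simp)
    have h1 := congrFun this 1
    rw [hf] at h1
    simp only [Pi.sub_apply, Pi.smul_apply, smul_eq_mul, hv1, hw1, mul_zero, sub_zero,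
      Pi.zero_apply] at h1
    exact hL1 h1

/-- The Bessel argument: an even inner product with a function of small norm vanishes. -/
theorem inner_eq_zero_of_even {L v w : G → ℂ} (hL : classInner L L = 1) (hL1 : L 1 ≠ 0)
    (hv1 : v 1 = 0) (hw1 : w 1 = 0) (hvw : classInner v w = 0) {k : ℕ} (hk : 2 ≤ k)
    (hvv : classInner v v = 4 * k * (k - 1)) (hLv : classInner L v = 2 * k - 2)
    (hww : classInner w w = 4 * k) {b : ℤ} (hLw : classInner L w = 2 * b) :
    classInner L w = 0 := by
  by_contra hne
  have hb : b ≠ 0 := by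
    rintro rfl
    apply hne
    rw [hLw]
    simp
  have hk' : (2 : ℝ) ≤ k := by exact_mod_cast hk
  have hb2 : (1 : ℝ) ≤ (b : ℝ) ^ 2 := by
    have : (1 : ℤ) ≤ b ^ 2 := by
      have := Int.one_le_abs hb
      nlinarith [sq_abs b, abs_nonneg b]
    exact_mod_cast this
  have h := bessel_two (a := 2 * k - 2) (b := 2 * b) (A := 4 * k * (k - 1)) (B := 4 * k)
    hL hL1 hv1 hw1 hvw (by nlinarith) (by linarith)
    (by rw [hvv]; push_cast; rfl) (by rw [hww]; push_cast; rfl)
    (by rw [hLv]; push_cast; rfl) (by rw [hLw]; push_cast; rfl)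
  have h1 : (2 * (k : ℝ) - 2) ^ 2 / (4 * k * (k - 1)) = (k - 1) / k := by
    have : (k : ℝ) - 1 ≠ 0 := by linarith
    have : (k : ℝ) ≠ 0 := by linarith
    field_simp
    ring
  have h2 : 1 / (k : ℝ) ≤ (2 * (b : ℝ)) ^ 2 / (4 * k) := by
    rw [div_le_div_iff₀ (by linarith) (by linarith)]
    nlinarith
  rw [h1] at h
  have h3 : ((k : ℝ) - 1) / k + 1 / k = 1 := by
    have : (k : ℝ) ≠ 0 := by linarith
    field_simp
    ring
  linarith

theorem signed_generalized {X : G → ℂ} (hX : SignedIrr X) : IsGeneralizedCharacter G X :=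
  generalized_signed hX

/-- Bessel's inequality for three orthonormal functions and integer coefficients. -/
theorem bessel_three {f R₁ R₂ R₃ : G → ℂ} (h₁ : classInner R₁ R₁ = 1) (h₂ : classInner R₂ R₂ = 1)
    (h₃ : classInner R₃ R₃ = 1) (h₁₂ : classInner R₁ R₂ = 0) (h₁₃ : classInner R₁ R₃ = 0)
    (h₂₃ : classInner R₂ R₃ = 0) {N a b c : ℤ} (hN : classInner f f = N)
    (ha : classInner f R₁ = a) (hb : classInner f R₂ = b) (hc : classInner f R₃ = c) :
    classInner (f - (a : ℂ) • R₁ - (b : ℂ) • R₂ - (c : ℂ) • R₃)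
      (f - (a : ℂ) • R₁ - (b : ℂ) • R₂ - (c : ℂ) • R₃) = ((N - a ^ 2 - b ^ 2 - c ^ 2 : ℤ) : ℂ) := by
  have ha' : classInner R₁ f = a := by rw [← classInner_conj_symm, ha]; simp
  have hb' : classInner R₂ f = b := by rw [← classInner_conj_symm, hb]; simp
  have hc' : classInner R₃ f = c := by rw [← classInner_conj_symm, hc]; simp
  have h₂₁ := inner_symm_zero h₁₂
  have h₃₁ := inner_symm_zero h₁₃
  have h₃₂ := inner_symm_zero h₂₃
  simp only [classInner_sub_left, classInner_sub_right, classInner_smul_left,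
    classInner_smul_right, h₁, h₂, h₃, h₁₂, h₁₃, h₂₃, h₂₁, h₃₁, h₃₂, hN, ha, hb, hc, ha', hb', hc',
    map_intCast]
  push_cast
  ring

/-- The hypotheses on the family `Φ λ θ` (`λ` runs over the linear characters of `2`-power
order, `θ` over the discrete series of `2`-power order; `o` is the trivial `λ`). -/
structure Family {Λ Θ : Type*} [DecidableEq Λ] [DecidableEq Θ] (o : Λ)
    (Φ : Λ → Θ → G → ℂ) : Prop where
  gen : ∀ l t, IsGeneralizedCharacter G (Φ l t)
  at_one : ∀ l t, Φ l t 1 = 0
  gram : ∀ l t l' t', classInner (Φ l t) (Φ l' t') =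
    (if l = l' then 2 else 0) + (if t = t' then 1 else 0)
  triv : ∀ l t, classInner (Φ l t) 1 = if l = o then 1 else 0

section

variable {Λ Θ : Type*} [DecidableEq Λ] [DecidableEq Θ] {o : Λ} {Φ : Λ → Θ → G → ℂ}

theorem one_one : classInner (1 : G → ℂ) 1 = 1 := signed_self signedIrr_one

theorem Family.norm (h : Family o Φ) (l : Λ) (t : Θ) : classInner (Φ l t) (Φ l t) = 3 := by
  rw [h.gram, if_pos rfl, if_pos rfl]; norm_num

/-- The decomposition `Φ o θ = 1 - X + L θ`. -/
theorem Family.exists_split [Nontrivial Θ] (h : Family o Φ) :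
    ∃ (X : G → ℂ) (L : Θ → G → ℂ), SignedIrr X ∧ (∀ t, SignedIrr (L t)) ∧
      classInner X 1 = 0 ∧ (∀ t, classInner (L t) 1 = 0) ∧ (∀ t, classInner X (L t) = 0) ∧
      (∀ t t', t ≠ t' → classInner (L t) (L t') = 0) ∧ ∀ t, Φ o t = 1 - X + L t := by
  have htriv : ∀ t, classInner (Φ o t) 1 = 1 := fun t => by rw [h.triv, if_pos rfl]
  have htriv' : ∀ t, classInner 1 (Φ o t) = 1 := fun t => inner_symm_one (htriv t)
  have htwo : ∀ t t', t ≠ t' → classInner (Φ o t) (Φ o t') = 2 := fun t t' htt => by
    rw [h.gram, if_pos rfl, if_neg htt]; norm_num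
  -- a common constituent `C` with `(Φ o t, C) = 1` for all `t`
  have key : ∃ C : G → ℂ, SignedIrr C ∧ classInner C 1 = 0 ∧
      ∀ t, classInner (Φ o t) C = 1 := by
    obtain ⟨t₀, t₁, h01⟩ := exists_pair_ne Θ
    obtain ⟨P, Q, hP, hQ, hP1, hQ1, hPQ, hf⟩ :=
      decomp_three (h.gen o t₀) (htriv t₀) (h.norm o t₀)
    -- general step
    have main : ∀ C D : G → ℂ, SignedIrr C → SignedIrr D → classInner C 1 = 0 →
        classInner D 1 = 0 → classInner C D = 0 → Φ o t₀ = 1 + C + D →
        classInner (Φ o t₁) C = 1 → ∃ C : G → ℂ, SignedIrr C ∧ classInner C 1 = 0 ∧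
          ∀ t, classInner (Φ o t) C = 1 := by
      intro C D hC hD hC1 hD1 hCD hf hC₁
      refine ⟨C, hC, hC1, ?_⟩
      have hCC := signed_self hC
      have hDD := signed_self hD
      have hDC := inner_symm_zero hCD
      have h1C := inner_symm_zero hC1
      have h1D := inner_symm_zero hD1
      set D₁ : G → ℂ := Φ o t₁ - 1 - C with hD₁
      have hC₁' := inner_symm_one hC₁
      have hD₁D₁ : classInner D₁ D₁ = 1 := by
        rw [hD₁]
        simp only [classInner_sub_left, classInner_sub_right, h.norm, htriv, htriv', hC₁, hC₁',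
          one_one, hC1, h1C, hCC]
        norm_num
      have hD₁s : SignedIrr D₁ := signed_of_norm_one
        (generalized_sub (generalized_sub (h.gen o t₁) (generalized_signed signedIrr_one))
          (generalized_signed hC)) hD₁D₁
      have hD₁1 : classInner D₁ 1 = 0 := by
        rw [hD₁]
        simp only [classInner_sub_left, htriv, one_one, hC1]
        norm_num
      have hCD₁ : classInner C D₁ = 0 := by
        rw [hD₁]
        simp only [classInner_sub_right, hC₁', hC1, hCC]
        norm_num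
      have h10 := htwo t₁ t₀ (Ne.symm h01)
      have hDΦ₁ : classInner (Φ o t₁) D = 0 := by
        rw [hf] at h10
        simp only [classInner_add_right, htriv, hC₁] at h10
        linear_combination h10
      have hDD₁ : classInner D D₁ = 0 := by
        rw [hD₁]
        simp only [classInner_sub_right, inner_symm_zero hDΦ₁, hD1, hDC]
        norm_num
      intro t
      by_cases ht0 : t = t₀
      · rw [ht0, hf]
        simp only [classInner_add_left, h1C, hCC, hDC]
        norm_num
      by_cases ht1 : t = t₁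
      · rw [ht1]; exact hC₁
      have e0 := htwo t t₀ ht0
      rw [hf] at e0
      simp only [classInner_add_right, htriv] at e0
      have e1 := htwo t t₁ ht1
      have hfe : Φ o t₁ = 1 + C + D₁ := by rw [hD₁]; abel
      rw [hfe] at e1
      simp only [classInner_add_right, htriv] at e1
      obtain ⟨c, hc⟩ := inner_int (h.gen o t) hC
      have hd0 : classInner (Φ o t) D = ((1 - c : ℤ) : ℂ) := by
        rw [hc] at e0; push_cast; linear_combination e0
      have hd1 : classInner (Φ o t) D₁ = ((1 - c : ℤ) : ℂ) := by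
        rw [hc] at e1; push_cast; linear_combination e1
      set f : G → ℂ := Φ o t - 1 with hfdef
      have hfn : classInner f f = ((2 : ℤ) : ℂ) := by
        rw [hfdef]
        simp only [classInner_sub_left, classInner_sub_right, h.norm, htriv, htriv', one_one]
        norm_num
      have hB := bessel_three (f := f) hCC hDD hD₁D₁ hCD hCD₁ hDD₁ hfn (a := c) (b := 1 - c)
        (c := 1 - c)
        (by rw [hfdef, classInner_sub_left, hc, h1C, sub_zero])
        (by rw [hfdef, classInner_sub_left, hd0, h1D, sub_zero])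
        (by rw [hfdef, classInner_sub_left, hd1, inner_symm_zero hD₁1, sub_zero])
      have hBn := norm_nonneg_int hB
      have hc01 : c = 0 ∨ c = 1 := by
        have h1 : c < 2 := by nlinarith
        have h2 : -1 < c := by nlinarith
        omega
      rcases hc01 with rfl | rfl
      · exfalso
        have hz := eq_zero_of_norm hB (by norm_num)
        have v := congrFun hz 1
        rw [hfdef] at v
        simp only [Pi.sub_apply, Pi.smul_apply, smul_eq_mul, Pi.one_apply, Pi.zero_apply,
          h.at_one] at v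
        have v0 := congrFun hf 1
        simp only [Pi.add_apply, Pi.one_apply, h.at_one] at v0
        have v1 := congrFun hfe 1
        simp only [Pi.add_apply, Pi.one_apply, h.at_one] at v1
        push_cast at v
        obtain ⟨n, hn⟩ := degree_int (generalized_signed hD)
        have : ((2 * n : ℤ) : ℂ) = ((-1 : ℤ) : ℂ) := by
          push_cast
          rw [← hn]
          linear_combination v1 - v0 - v
        have h2 : 2 * n = -1 := by exact_mod_cast this
        omega
      · rw [hc]; norm_num
    have h10 := htwo t₁ t₀ (Ne.symm h01)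
    rw [hf] at h10
    simp only [classInner_add_right, htriv] at h10
    obtain ⟨p, hp⟩ := inner_int (h.gen o t₁) hP
    obtain ⟨q, hq⟩ := inner_int (h.gen o t₁) hQ
    rw [hp, hq] at h10
    have hpq : p + q = 1 := by
      have : ((p + q : ℤ) : ℂ) = ((1 : ℤ) : ℂ) := by push_cast; linear_combination h10
      exact_mod_cast this
    have hPP := signed_self hP
    have hQQ := signed_self hQ
    have hn := bessel_three (f := Φ o t₁) one_one hPP hQQ (inner_symm_zero hP1)
      (inner_symm_zero hQ1) hPQ (N := 3) (a := 1) (by rw [h.norm]; norm_num)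
      (by rw [htriv]; norm_num) hp hq
    have hn' := norm_nonneg_int hn
    have hp01 : p = 0 ∨ p = 1 := by
      have hq' : q = 1 - p := by omega
      subst hq'
      have h1 : p < 2 := by nlinarith
      have h2 : -1 < p := by nlinarith
      omega
    rcases hp01 with rfl | rfl
    · have : q = 1 := by omega
      subst this
      exact main Q P hQ hP hQ1 hP1 (inner_symm_zero hPQ) (by rw [hf]; abel)
        (by rw [hq]; norm_num)
    · exact main P Q hP hQ hP1 hQ1 hPQ hf (by rw [hp]; norm_num)
  obtain ⟨C, hC, hC1, hCΦ⟩ := key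
  have hCC := signed_self hC
  have h1C := inner_symm_zero hC1
  have hCΦ' : ∀ t, classInner C (Φ o t) = 1 := fun t => inner_symm_one (hCΦ t)
  have hLL : ∀ t, classInner (Φ o t - 1 - C) (Φ o t - 1 - C) = 1 := by
    intro t
    simp only [classInner_sub_left, classInner_sub_right, h.norm, htriv, htriv', hCΦ, hCΦ',
      one_one, hC1, h1C, hCC]
    norm_num
  refine ⟨-C, fun t => Φ o t - 1 - C, signed_neg hC, ?_, ?_, ?_, ?_, ?_, ?_⟩
  · intro t
    exact signed_of_norm_one
      (generalized_sub (generalized_sub (h.gen o t) (generalized_signed signedIrr_one))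
        (generalized_signed hC)) (hLL t)
  · rw [classInner_neg_left, hC1, neg_zero]
  · intro t
    simp only [classInner_sub_left, htriv, one_one, hC1]
    norm_num
  · intro t
    simp only [classInner_neg_left, classInner_sub_right, hCΦ', hC1, hCC]
    norm_num
  · intro t t' htt
    simp only [classInner_sub_left, classInner_sub_right, htwo t t' htt, htriv, htriv', hCΦ,
      hCΦ', one_one, hC1, h1C, hCC]
    norm_num
  · intro t
    ext g
    simp only [Pi.add_apply, Pi.sub_apply, Pi.neg_apply, Pi.one_apply]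
    ring

end

section

variable {Λ Θ : Type*} [DecidableEq Λ] [DecidableEq Θ] {o : Λ} {Φ : Λ → Θ → G → ℂ}

theorem inner_conj_int {f g : G → ℂ} {n : ℤ} (h : classInner f g = n) : classInner g f = n := by
  rw [← classInner_conj_symm, h]; simp

theorem signed_degree {X : G → ℂ} (hX : SignedIrr X) : ∃ n : ℤ, n ≠ 0 ∧ X 1 = n := by
  obtain ⟨n, hn⟩ := degree_int (generalized_signed hX)
  refine ⟨n, ?_, hn⟩
  rintro rfl
  exact hX.apply_one_ne_zero (by rw [hn]; simp)

/-- The split data. -/
structure Split {Λ Θ : Type*} [DecidableEq Λ] [DecidableEq Θ] (o : Λ)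
    (Φ : Λ → Θ → G → ℂ) (X : G → ℂ) (L : Θ → G → ℂ) : Prop where
  sX : SignedIrr X
  sL : ∀ t, SignedIrr (L t)
  X1 : classInner X 1 = 0
  L1 : ∀ t, classInner (L t) 1 = 0
  XL : ∀ t, classInner X (L t) = 0
  LL : ∀ t t', t ≠ t' → classInner (L t) (L t') = 0
  eq : ∀ t, Φ o t = 1 - X + L t

/-- The difference `β = Φ l t - Φ o t` against `X` and `L`. -/
theorem Family.beta_basic (h : Family o Φ) {X : G → ℂ} {L : Θ → G → ℂ} (s : Split o Φ X L)
    {l : Λ} (hl : l ≠ o) (t : Θ) :
    IsGeneralizedCharacter G (Φ l t - Φ o t) ∧ (Φ l t - Φ o t) 1 = 0 ∧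
      classInner (Φ l t - Φ o t) (Φ l t - Φ o t) = 4 ∧
      classInner (Φ l t - Φ o t) 1 = -1 ∧
      ∃ n : ℤ, classInner (Φ l t - Φ o t) X = n ∧
        ∀ t', classInner (Φ l t - Φ o t) (L t') = ((n - 1 : ℤ) : ℂ) := by
  refine ⟨generalized_sub (h.gen _ _) (h.gen _ _), ?_, ?_, ?_, ?_⟩
  · rw [Pi.sub_apply, h.at_one, h.at_one, sub_zero]
  · simp only [classInner_sub_left, classInner_sub_right, h.gram, if_neg hl, if_neg (Ne.symm hl),
      if_true]
    norm_num
  · simp only [classInner_sub_left, h.triv, if_neg hl, if_true]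
    norm_num
  · obtain ⟨n, hn⟩ := inner_int (generalized_sub (h.gen l t) (h.gen o t)) s.sX
    refine ⟨n, hn, fun t' => ?_⟩
    have h1 : classInner (Φ l t - Φ o t) (Φ o t') = -2 := by
      simp only [classInner_sub_left, h.gram, if_neg hl, if_true]
      ring
    have h2 : classInner (Φ l t - Φ o t) 1 = -1 := by
      simp only [classInner_sub_left, h.triv, if_neg hl, if_true]
      norm_num
    rw [s.eq t', classInner_add_right, classInner_sub_right, h2, hn] at h1
    push_cast
    linear_combination h1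

/-- Pairwise inner products of the `β`. -/
theorem Family.beta_beta (h : Family o Φ) {l l' : Λ} (hl : l ≠ o) (hl' : l' ≠ o) (hll : l ≠ l')
    (t : Θ) : classInner (Φ l t - Φ o t) (Φ l' t - Φ o t) = 2 := by
  simp only [classInner_sub_left, classInner_sub_right, h.gram, if_neg hl, if_neg (Ne.symm hl'),
    if_neg hll, if_true]
  norm_num

/-- The main lemma: `β` is orthogonal to all `L t`. -/
theorem Family.beta_L [Fintype Λ] [Fintype Θ] (h : Family o Φ) {X : G → ℂ} {L : Θ → G → ℂ}
    (s : Split o Φ X L) (hΛ : 4 ≤ Fintype.card Λ) (hΘ : 2 ≤ Fintype.card Θ) (l : Λ) (t t' : Θ) :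
    classInner (Φ l t - Φ o t) (L t') = 0 := by
  classical
  by_cases hl : l = o
  · rw [hl, sub_self, classInner_zero_left]
  set N : ℤ := (Fintype.card Θ : ℤ) with hN
  have hN2 : 2 ≤ N := by rw [hN]; exact_mod_cast hΘ
  have hXX := signed_self s.sX
  have hLLs : ∀ t, classInner (L t) (L t) = 1 := fun t => signed_self (s.sL t)
  have h1X := inner_symm_zero s.X1
  have h1L : ∀ t, classInner 1 (L t) = 0 := fun t => inner_symm_zero (s.L1 t)
  have hLX : ∀ t, classInner (L t) X = 0 := fun t => inner_symm_zero (s.XL t)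
  have hsum1 : ∀ t, classInner (∑ i, L i) (L t) = 1 := by
    intro t
    rw [classInner_sum_left, Finset.sum_eq_single t]
    · exact hLLs t
    · intro i _ hi; exact s.LL i t hi
    · intro hn; exact absurd (Finset.mem_univ _) hn
  have hsum1' : ∀ t, classInner (L t) (∑ i, L i) = 1 := fun t => inner_symm_one (hsum1 t)
  have hsumsum : classInner (∑ i, L i) (∑ i, L i) = (N : ℂ) := by
    rw [classInner_sum_left, Finset.sum_congr rfl fun i _ => hsum1' i]
    simp [hN]
  have hsum_one : classInner (∑ i, L i) (1 : G → ℂ) = 0 := by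
    rw [classInner_sum_left, Finset.sum_eq_zero fun i _ => s.L1 i]
  have hsum_X : classInner (∑ i, L i) X = 0 := by
    rw [classInner_sum_left, Finset.sum_eq_zero fun i _ => hLX i]
  have hone_sum := inner_symm_zero hsum_one
  have hX_sum := inner_symm_zero hsum_X
  -- the value of `n` for every `l ≠ o`
  have alt : ∀ l : Λ, l ≠ o → ∀ n : ℤ, classInner (Φ l t - Φ o t) X = n →
      (∀ t', classInner (Φ l t - Φ o t) (L t') = ((n - 1 : ℤ) : ℂ)) → n = 1 ∨ n = 0 := by
    intro l hl n hn hn'
    obtain ⟨hg, hb1, hbb, hb0, -⟩ := h.beta_basic s hl t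
    set β : G → ℂ := Φ l t - Φ o t with hβ
    have hbsum : classInner β (∑ i, L i) = ((N * (n - 1) : ℤ) : ℂ) := by
      rw [classInner_sum_right, Finset.sum_congr rfl fun i _ => hn' i]
      rw [Finset.sum_const, Finset.card_univ, nsmul_eq_mul]
      push_cast [hN]
      ring
    have h1b := inner_conj_int (n := -1) (by rw [hb0]; norm_num : classInner β 1 = _)
    have hXb := inner_conj_int hn
    have hsb := inner_conj_int hbsum
    have hnorm : classInner (β + 1 - (n : ℂ) • X - ((n - 1 : ℤ) : ℂ) • ∑ i, L i)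
        (β + 1 - (n : ℂ) • X - ((n - 1 : ℤ) : ℂ) • ∑ i, L i) =
        ((3 - n ^ 2 - N * (n - 1) ^ 2 : ℤ) : ℂ) := by
      simp only [classInner_add_left, classInner_add_right, classInner_sub_left,
        classInner_sub_right, classInner_smul_left, classInner_smul_right, map_intCast,
        hbb, hb0, h1b, hn, hXb, hbsum, hsb, one_one, h1X, s.X1, hXX, hsumsum, hsum_one, hsum_X,
        hone_sum, hX_sum]
      push_cast
      ring
    have h0 := norm_nonneg_int hnorm
    have h2 : n < 2 := by nlinarith
    have h3 : -1 < n := by nlinarith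
    omega
  obtain ⟨f, hf0, hf⟩ := signed_degree s.sX
  have hL1 : ∀ i, L i 1 = ((f - 1 : ℤ) : ℂ) := by
    intro i
    have := congrFun (s.eq i) 1
    simp only [Pi.add_apply, Pi.sub_apply, Pi.one_apply, h.at_one, hf] at this
    push_cast
    linear_combination -this
  have hsumdeg : (∑ i, L i) 1 = ((N * (f - 1) : ℤ) : ℂ) := by
    rw [Finset.sum_apply, Finset.sum_congr rfl fun i _ => hL1 i, Finset.sum_const,
      Finset.card_univ, nsmul_eq_mul]
    push_cast [hN]
    ring
  obtain ⟨-, -, -, -, n, hn, hn'⟩ := h.beta_basic s hl t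
  rcases alt l hl n hn hn' with rfl | rfl
  · rw [hn']; norm_num
  exfalso
  -- the alternative `β = -1 - ∑ L + R`
  obtain ⟨hg, hb1, hbb, hb0, -⟩ := h.beta_basic s hl t
  set β : G → ℂ := Φ l t - Φ o t with hβ
  have hbsum : classInner β (∑ i, L i) = ((-N : ℤ) : ℂ) := by
    rw [classInner_sum_right, Finset.sum_congr rfl fun i _ => hn' i]
    rw [Finset.sum_const, Finset.card_univ, nsmul_eq_mul]
    push_cast [hN]
    ring
  have h1b := inner_conj_int (n := -1) (by rw [hb0]; norm_num : classInner β 1 = _)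
  have hsb := inner_conj_int hbsum
  set R : G → ℂ := β + 1 + ∑ i, L i with hR
  have hRR : classInner R R = ((3 - N : ℤ) : ℂ) := by
    rw [hR]
    simp only [classInner_add_left, classInner_add_right, hbb, hb0, h1b, hbsum, hsb, one_one,
      hsumsum, hsum_one, hone_sum]
    push_cast
    ring
  have hRn := norm_nonneg_int hRR
  have hRgen : IsGeneralizedCharacter G R :=
    generalized_add (generalized_add hg (generalized_signed signedIrr_one))
      (generalized_sum _ fun i _ => generalized_signed (s.sL i))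
  have hR1 : R 1 = ((1 + N * (f - 1) : ℤ) : ℂ) := by
    rw [hR, Pi.add_apply, Pi.add_apply, hb1, hsumdeg, Pi.one_apply]
    push_cast
    ring
  have hN23 : N = 2 ∨ N = 3 := by omega
  rcases hN23 with hN' | hN'
  swap
  · rw [hN'] at hRR
    have := eq_zero_of_norm hRR (by norm_num)
    rw [this, hN', Pi.zero_apply] at hR1
    have h3 : (0 : ℤ) = 1 + 3 * (f - 1) := by exact_mod_cast hR1
    omega
  rw [hN'] at hRR hR1 hbsum hsumsum
  have hRR1 : classInner R R = 1 := by rw [hRR]; norm_num
  have hRone : classInner R 1 = 0 := by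
    rw [hR]
    simp only [classInner_add_left, hb0, one_one, hsum_one]
    norm_num
  have hRX : classInner R X = 0 := by
    rw [hR]
    simp only [classInner_add_left, hn, h1X, hsum_X]
    norm_num
  -- every other `l'` is normal
  have normal : ∀ l' : Λ, l' ≠ o → l' ≠ l → classInner (Φ l' t - Φ o t) X = 1 ∧
      ∀ t', classInner (Φ l' t - Φ o t) (L t') = 0 := by
    intro l' hl' hll'
    obtain ⟨-, -, -, -, n', hm, hm'⟩ := h.beta_basic s hl' t
    rcases alt l' hl' n' hm hm' with rfl | rfl
    · refine ⟨by rw [hm]; norm_num, fun t' => by rw [hm']; norm_num⟩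
    exfalso
    obtain ⟨hg', hb1', hbb', hb0', -⟩ := h.beta_basic s hl' t
    have hbb2 := h.beta_beta hl hl' (Ne.symm hll') t
    rw [← hβ] at hbb2
    set β' : G → ℂ := Φ l' t - Φ o t with hβ'
    have hb'sum : classInner β' (∑ i, L i) = ((-2 : ℤ) : ℂ) := by
      rw [classInner_sum_right, Finset.sum_congr rfl fun i _ => hm' i]
      rw [Finset.sum_const, Finset.card_univ, nsmul_eq_mul]
      have : (Fintype.card Θ : ℂ) = 2 := by
        have := congrArg (fun z : ℤ => (z : ℂ)) hN'
        simpa [hN] using this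
      rw [this]
      push_cast
      ring
    have h1b' := inner_conj_int (n := -1) (by rw [hb0']; norm_num : classInner β' 1 = _)
    have hsb' := inner_conj_int hb'sum
    set R' : G → ℂ := β' + 1 + ∑ i, L i with hR'
    have hR'R' : classInner (R + R') (R + R') = ((0 : ℤ) : ℂ) := by
      have hb'b : classInner β' β = 2 := by
        have := inner_conj_int (n := 2) (by rw [hbb2]; norm_num : classInner β β' = _)
        rw [this]; norm_num
      rw [hR, hR']
      simp only [classInner_add_left, classInner_add_right, hbb, hb0, h1b, hbsum, hsb, one_one,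
        hsumsum, hsum_one, hone_sum, hbb', hb0', h1b', hb'sum, hsb', hbb2, hb'b]
      push_cast [hN']
      ring
    have hz := congrFun (eq_zero_of_norm hR'R' le_rfl) 1
    rw [Pi.add_apply, hR1, hR', Pi.add_apply, Pi.add_apply, hb1', hsumdeg, hN', Pi.one_apply,
      Pi.zero_apply] at hz
    have h3 : (1 + 2 * (f - 1)) + (1 + 2 * (f - 1)) = (0 : ℤ) := by
      have : (((1 + 2 * (f - 1)) + (1 + 2 * (f - 1)) : ℤ) : ℂ) = ((0 : ℤ) : ℂ) := by
        push_cast at hz ⊢
        linear_combination hz
      exact_mod_cast this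
    omega
  -- two further elements of `Λ`
  obtain ⟨l₁, l₂, h1o, h1l, h2o, h2l, h12⟩ :
      ∃ l₁ l₂ : Λ, l₁ ≠ o ∧ l₁ ≠ l ∧ l₂ ≠ o ∧ l₂ ≠ l ∧ l₁ ≠ l₂ := by
    have hc : 2 ≤ ((Finset.univ.erase o).erase l).card := by
      rw [Finset.card_erase_of_mem (Finset.mem_erase.2 ⟨hl, Finset.mem_univ _⟩),
        Finset.card_erase_of_mem (Finset.mem_univ _), Finset.card_univ]
      omega
    obtain ⟨l₁, hm1, l₂, hm2, hne⟩ := Finset.one_lt_card.1 hc
    simp only [Finset.mem_erase, Finset.mem_univ, and_true] at hm1 hm2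
    exact ⟨l₁, l₂, hm1.2, hm1.1, hm2.2, hm2.1, hne⟩
  obtain ⟨n1X, n1L⟩ := normal l₁ h1o h1l
  obtain ⟨n2X, n2L⟩ := normal l₂ h2o h2l
  obtain ⟨g1, b11, bb1, b01, -⟩ := h.beta_basic s h1o t
  obtain ⟨g2, b12, bb2, b02, -⟩ := h.beta_basic s h2o t
  have c1 := h.beta_beta hl h1o (Ne.symm h1l) t
  have c2 := h.beta_beta hl h2o (Ne.symm h2l) t
  have c12 := h.beta_beta h1o h2o h12 t
  rw [← hβ] at c1 c2
  set β₁ : G → ℂ := Φ l₁ t - Φ o t with hβ₁
  set β₂ : G → ℂ := Φ l₂ t - Φ o t with hβ₂
  have d1 := inner_conj_int (n := -1) (by rw [b01]; norm_num : classInner β₁ 1 = _)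
  have d2 := inner_conj_int (n := -1) (by rw [b02]; norm_num : classInner β₂ 1 = _)
  have e1 := inner_conj_int (n := 1) (by rw [n1X]; norm_num : classInner β₁ X = _)
  have e2 := inner_conj_int (n := 1) (by rw [n2X]; norm_num : classInner β₂ X = _)
  have k1 := inner_conj_int (n := 2) (by rw [c1]; norm_num : classInner β β₁ = _)
  have k2 := inner_conj_int (n := 2) (by rw [c2]; norm_num : classInner β β₂ = _)
  have k12 := inner_conj_int (n := 2) (by rw [c12]; norm_num : classInner β₁ β₂ = _)
  have s1 : classInner β₁ (∑ i, L i) = 0 := by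
    rw [classInner_sum_right, Finset.sum_eq_zero fun i _ => n1L i]
  have s2 : classInner β₂ (∑ i, L i) = 0 := by
    rw [classInner_sum_right, Finset.sum_eq_zero fun i _ => n2L i]
  have s1' := inner_symm_zero s1
  have s2' := inner_symm_zero s2
  have hXb := inner_conj_int hn
  -- `S₁ = β₁ + 1 - X - R`, `S₂ = β₂ + 1 - X - R`, `S₁ + S₂ = 0`
  have hSS : classInner ((β₁ + 1 - X - R) + (β₂ + 1 - X - R))
      ((β₁ + 1 - X - R) + (β₂ + 1 - X - R)) = ((0 : ℤ) : ℂ) := by
    rw [hR]
    simp only [classInner_add_left, classInner_add_right, classInner_sub_left,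
      classInner_sub_right, hbb, hb0, h1b, hbsum, hsb, one_one, hsumsum, hsum_one, hone_sum,
      hsum_X, hX_sum, bb1, bb2, b01, b02, d1, d2, e1, e2, c1, c2, c12, k1, k2, k12, s1, s2, s1',
      s2', n1X, n2X, hn, hXb, h1X, s.X1, hXX]
    push_cast [hN']
    ring
  have hz := congrFun (eq_zero_of_norm hSS le_rfl) 1
  simp only [Pi.add_apply, Pi.sub_apply, b11, b12, Pi.one_apply, hf, hR1, Pi.zero_apply] at hz
  have h3 : (1 - f - (1 + 2 * (f - 1))) + (1 - f - (1 + 2 * (f - 1))) = (0 : ℤ) := by
    have : (((1 - f - (1 + 2 * (f - 1))) + (1 - f - (1 + 2 * (f - 1))) : ℤ) : ℂ) =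
        ((0 : ℤ) : ℂ) := by
      push_cast at hz ⊢
      linear_combination hz
    exact_mod_cast this
  omega

end

section

variable {Λ Θ : Type*} [DecidableEq Λ] [DecidableEq Θ] {o : Λ} {Φ : Λ → Θ → G → ℂ}

/-- `Φ o t` against `L t'`. -/
theorem Split.phi_o_L {X : G → ℂ} {L : Θ → G → ℂ} (s : Split o Φ X L) (t t' : Θ) :
    classInner (Φ o t) (L t') = if t = t' then 1 else 0 := by
  rw [s.eq t, classInner_add_left, classInner_sub_left, inner_symm_zero (s.L1 t'), s.XL t']
  by_cases h : t = t'
  · rw [if_pos h, h, signed_self (s.sL t')]; norm_num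
  · rw [if_neg h, s.LL t t' h]; norm_num

/-- `Φ l t` against `L t'`. -/
theorem Family.phi_L [Fintype Λ] [Fintype Θ] (h : Family o Φ) {X : G → ℂ} {L : Θ → G → ℂ}
    (s : Split o Φ X L) (hΛ : 4 ≤ Fintype.card Λ) (hΘ : 2 ≤ Fintype.card Θ) (l : Λ) (t t' : Θ) :
    classInner (Φ l t) (L t') = if t = t' then 1 else 0 := by
  have h1 := h.beta_L s hΛ hΘ l t t'
  rw [classInner_sub_left, s.phi_o_L t t'] at h1
  linear_combination h1

/-- `Φ l t` against `X`. -/
theorem Family.phi_X [Fintype Λ] [Fintype Θ] (h : Family o Φ) {X : G → ℂ} {L : Θ → G → ℂ}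
    (s : Split o Φ X L) (hΛ : 4 ≤ Fintype.card Λ) (hΘ : 2 ≤ Fintype.card Θ) (l : Λ) (t : Θ) :
    classInner (Φ l t) X = if l = o then -1 else 0 := by
  have hX : classInner (Φ o t) X = -1 := by
    rw [s.eq t, classInner_add_left, classInner_sub_left, inner_symm_zero s.X1,
      signed_self s.sX, inner_symm_zero (s.XL t)]
    norm_num
  by_cases hl : l = o
  · rw [if_pos hl, hl, hX]
  · rw [if_neg hl]
    obtain ⟨-, -, -, -, n, hn, hn'⟩ := h.beta_basic s hl t
    have h1 := h.beta_L s hΛ hΘ l t t
    rw [hn'] at h1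
    have : (n - 1 : ℤ) = 0 := by exact_mod_cast h1
    have hn1 : n = 1 := by omega
    rw [hn1, classInner_sub_left, hX] at hn
    push_cast at hn
    linear_combination hn

/-- Inner product of `Φ l t` with a combination. -/
theorem Family.inner_comb_right [Fintype Λ] [Fintype Θ] (h : Family o Φ) (d : Λ → Θ → ℝ)
    (l : Λ) (t : Θ) :
    classInner (Φ l t) (∑ l', ∑ t', ((d l' t' : ℝ) : ℂ) • Φ l' t') =
      2 * ∑ t', (d l t' : ℂ) + ∑ l', (d l' t : ℂ) := by
  simp only [classInner_sum_right, classInner_smul_right, h.gram, Complex.conj_ofReal, mul_add,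
    Finset.sum_add_distrib, mul_ite, mul_zero, mul_one]
  congr 1
  · rw [Finset.sum_comm]
    simp only [Finset.sum_ite_eq, Finset.mem_univ, if_true, Finset.mul_sum]
    exact Finset.sum_congr rfl fun _ _ => by ring
  · simp only [Finset.sum_ite_eq, Finset.mem_univ, if_true]

/-- Inner product of two combinations of the `Φ l t`. -/
theorem Family.inner_comb [Fintype Λ] [Fintype Θ] (h : Family o Φ) (c d : Λ → Θ → ℝ) :
    classInner (∑ l, ∑ t, ((c l t : ℝ) : ℂ) • Φ l t) (∑ l, ∑ t, ((d l t : ℝ) : ℂ) • Φ l t) =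
      ((2 * ∑ l, (∑ t, c l t) * (∑ t, d l t) + ∑ t, (∑ l, c l t) * (∑ l, d l t) : ℝ) : ℂ) := by
  simp only [classInner_sum_left, classInner_smul_left, h.inner_comb_right]
  push_cast
  simp only [mul_add, Finset.sum_add_distrib]
  congr 1
  · rw [Finset.mul_sum]
    refine Finset.sum_congr rfl fun l _ => ?_
    rw [← Finset.sum_mul]
    ring
  · rw [Finset.sum_comm]
    refine Finset.sum_congr rfl fun t _ => ?_
    rw [← Finset.sum_mul]

/-- The conclusion: `L t` is orthogonal to every `w` of norm `4 |Λ|` which is orthogonal to the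
family and has even inner product with `L t`. -/
theorem Family.inner_eq_zero [Fintype Λ] [Fintype Θ] (h : Family o Φ) {X : G → ℂ}
    {L : Θ → G → ℂ} (s : Split o Φ X L) (hΘ : 2 ≤ Fintype.card Θ)
    (hcard : Fintype.card Λ = 2 * Fintype.card Θ) {w : G → ℂ} (hw1 : w 1 = 0)
    (hww : classInner w w = 4 * Fintype.card Λ) (hΦw : ∀ l t, classInner (Φ l t) w = 0) (t : Θ)
    {b : ℤ} (hb : classInner (L t) w = 2 * b) : classInner (L t) w = 0 := by
  have hΛ : 4 ≤ Fintype.card Λ := by omega
  set k : ℕ := Fintype.card Λ with hk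
  have hk0 : (k : ℝ) ≠ 0 := by
    have : (4 : ℝ) ≤ k := by exact_mod_cast hΛ
    linarith
  have hΘk : (Fintype.card Θ : ℝ) = k / 2 := by
    have : (k : ℝ) = 2 * Fintype.card Θ := by exact_mod_cast hcard
    linarith
  set c : Λ → Θ → ℝ := fun _ t' => (if t' = t then 2 else 0) - 2 / k with hc
  have hcr : ∀ l, ∑ t', c l t' = 1 := by
    intro l
    simp only [hc, Finset.sum_sub_distrib, Finset.sum_ite_eq', Finset.mem_univ, if_true,
      Finset.sum_const, Finset.card_univ, nsmul_eq_mul, hΘk]
    field_simp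
    ring
  have hcc : ∀ t', ∑ l, c l t' = (if t' = t then 2 * (k : ℝ) else 0) - 2 := by
    intro t'
    simp only [hc, Finset.sum_const, Finset.card_univ, nsmul_eq_mul, ← hk]
    by_cases ht : t' = t
    · rw [if_pos ht, if_pos ht]; field_simp
    · rw [if_neg ht, if_neg ht]; field_simp; ring
  set v : G → ℂ := ∑ l, ∑ t', ((c l t' : ℝ) : ℂ) • Φ l t' with hv
  have hv1 : v 1 = 0 := by
    rw [hv]
    simp only [Finset.sum_apply, Pi.smul_apply, h.at_one, smul_zero, Finset.sum_const_zero]
  have hvw : classInner v w = 0 := by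
    rw [hv]
    simp only [classInner_sum_left, classInner_smul_left, hΦw, mul_zero, Finset.sum_const_zero]
  have hvv : classInner v v = 4 * k * (k - 1) := by
    rw [hv, h.inner_comb]
    simp only [hcr, hcc, mul_one, Finset.sum_const, Finset.card_univ, nsmul_eq_mul]
    have : ∑ t' : Θ, ((if t' = t then 2 * (k : ℝ) else 0) - 2) *
        ((if t' = t then 2 * (k : ℝ) else 0) - 2) = (2 * k - 2) ^ 2 + (k / 2 - 1) * 4 := by
      have h1 : ∀ t' : Θ, ((if t' = t then 2 * (k : ℝ) else 0) - 2) *
        ((if t' = t then 2 * (k : ℝ) else 0) - 2) =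
        (if t' = t then (2 * (k : ℝ) - 2) ^ 2 - 4 else 0) + 4 := by
        intro t'
        by_cases ht : t' = t
        · rw [if_pos ht, if_pos ht]; ring
        · rw [if_neg ht, if_neg ht]; ring
      rw [Finset.sum_congr rfl fun t' _ => h1 t', Finset.sum_add_distrib]
      simp only [Finset.sum_ite_eq', Finset.mem_univ, if_true, Finset.sum_const,
        Finset.card_univ, nsmul_eq_mul, hΘk]
      ring
    rw [this, ← hk]
    push_cast
    ring
  have hLΦ : ∀ l t', classInner (L t) (Φ l t') = if t' = t then 1 else 0 := by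
    intro l t'
    have h1 := h.phi_L s hΛ hΘ l t' t
    by_cases ht : t' = t
    · rw [if_pos ht] at h1 ⊢; exact inner_symm_one h1
    · rw [if_neg ht] at h1 ⊢; exact inner_symm_zero h1
  have hLv : classInner (L t) v = 2 * k - 2 := by
    rw [hv]
    simp only [classInner_sum_right, classInner_smul_right, hLΦ, Complex.conj_ofReal, mul_ite,
      mul_one, mul_zero, Finset.sum_ite_eq', Finset.mem_univ, if_true]
    have h2 := hcc t
    rw [if_pos rfl] at h2
    have : ((∑ l, c l t : ℝ) : ℂ) = ((2 * (k : ℝ) - 2 : ℝ) : ℂ) := by rw [h2]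
    push_cast at this
    exact this
  exact inner_eq_zero_of_even (signed_self (s.sL t)) (s.sL t).apply_one_ne_zero hv1 hw1 hvw
    (k := k) (by omega) hvv hLv hww hb

end

end Cfsg.Agent.Classification.InvCent.WreathedGram
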