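import Mathlib
import Cfsg.Agent.Classification.InvCent.WrFun
import Cfsg.Agent.Classification.InvCent.WreathedGram
import Cfsg.Agent.Classification.InvCent.BlockEval

/-!
# Wreathed case, `G`-level: the values of `L θ` and `X` at `t`
-/

set_option autoImplicit false
set_option linter.unusedSectionVars false

open Cfsg
open scoped ComplexConjugate

namespace Cfsg.Agent.Classification.InvCent.WrVal

open Cfsg.Agent.Characters Cfsg.Agent.Classification.InvCent
  Cfsg.Agent.Classification.InvCent.LinChar Cfsg.Agent.Classification.InvCent.WrChar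
  Cfsg.Agent.Classification.InvCent.WrFun Cfsg.Agent.Classification.InvCent.WreathedGram
  Cfsg.Agent.Classification.RTwo.General Cfsg.Agent.Classification.BGOrder
  Cfsg.Agent.Classification.BGBlockB0 Cfsg.Agent.Classification.BGIsometry
  Cfsg.Agent.Classification.BGSplit

universe v w

section Ind

variable {G : Type v} [Group G] [Fintype G] {C : Type w} [Group C] [Fintype C] {t : G} {z : C}

/-- Inflation to `C(t)` followed by induction to `G`. -/
noncomputable def II (π : (Subgroup.centralizer ({t} : Set G)) →* C) : (C → ℂ) →ₗ[ℂ] (G → ℂ) where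
  toFun f := indFun (Subgroup.centralizer ({t} : Set G)) (fun x => f (π x))
  map_add' _ _ := Brauer.indFun_add _ _ _
  map_smul' _ _ := Brauer.indFun_smul _ _ _

variable {π : (Subgroup.centralizer ({t} : Set G)) →* C}

theorem II_apply (f : C → ℂ) :
    II π f = indFun (Subgroup.centralizer ({t} : Set G)) (fun x => f (π x)) := rfl

theorem conj_II (f : C → ℂ) (g : G) : conj (II π f g) = II π (fun c => conj (f c)) g := by
  rw [II_apply, II_apply, Core.indFun_apply, Core.indFun_apply, map_mul, map_inv₀,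
    Complex.conj_natCast, map_sum]
  congr 1
  refine Finset.sum_congr rfl fun x _ => ?_
  by_cases h : x⁻¹ * g * x ∈ Subgroup.centralizer ({t} : Set G)
  · rw [Core.extendByZero_of_mem _ _ h, Core.extendByZero_of_mem _ _ h]
  · rw [Core.extendByZero_of_notMem _ _ h, Core.extendByZero_of_notMem _ _ h, map_zero]

theorem II_t (h : Hyp t z π) {f : C → ℂ} (hf : IsClassFunction C f)
    (hf0 : ∀ c, f c ≠ 0 → z ∈ Subgroup.zpowers c) : II π f t = f z := by
  have h1 := BGIsometry.indFun_eq h.orderOf_t (isClassFunction_comp π hf) (supp_comp h hf0)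
    (h := tt t) (Subgroup.mem_zpowers t)
  rw [map_tt h] at h1
  exact h1

/-- Inner product with a fixed function as a linear form. -/
noncomputable def nu (π : (Subgroup.centralizer ({t} : Set G)) →* C) (X : G → ℂ) :
    (C → ℂ) →ₗ[ℂ] ℂ where
  toFun f := classInner (II π f) X
  map_add' f g := by rw [map_add, Core.classInner_add_left]
  map_smul' a f := by rw [map_smul, Core.classInner_smul_left]; rfl

theorem nu_apply (X : G → ℂ) (f : C → ℂ) : nu π X f = classInner (II π f) X := rfl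

theorem nu_int {X : G → ℂ} (hX : SignedIrr X) (f : C → ℂ) (hf : IsGeneralizedCharacter C f) :
    ∃ n : ℤ, nu π X f = n :=
  inner_int (isGeneralized_ind_comp hf) hX

end Ind

section Fam

variable {G : Type v} [Group G] [Fintype G] {C : Type w} [Group C] [Fintype C] {t : G} {z : C}
  {π : (Subgroup.centralizer ({t} : Set G)) →* C} {q : ℕ} {ε : ℤ} {Z T T' U : Subgroup C}
  {s s' u : C} {r : ℕ} {b : C →* ℂˣ} {hC : CHyp z q ε Z T T' U s s' u} {μ : U →* ℂˣ}
  {ξ : T →* ℂˣ} {θ : T' →* ℂˣ}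

theorem isClassFunction_sub {f g : C → ℂ} (hf : IsClassFunction C f) (hg : IsClassFunction C g) :
    IsClassFunction C (f - g) := by
  intro x c
  rw [Pi.sub_apply, Pi.sub_apply, hf x c, hg x c]

theorem isClassFunction_Phi (l i : ℕ) : IsClassFunction C (Phi hC μ θ l i) :=
  isClassFunction_sub (Torus.R_isClassFunction hC.base _) (Torus.R_isClassFunction hC.base _)

theorem isClassFunction_Wf (k : ℕ) : IsClassFunction C (Wf hC μ ξ r k) := by
  rw [Wf_eq]
  exact Torus.R_isClassFunction hC.base _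

/-- Support of `Phi`. -/
theorem Phi_supp' (hD : DetHyp q ε T T' U s s' u r b) (hθ : ThetaHyp hC r b θ)
    (hμ : ∃ v : U, μ v ≠ 1) (l i : ℕ) {c : C} (hc : Phi hC μ θ l i c ≠ 0) :
    z ∈ Subgroup.zpowers c := by
  unfold Phi at hc
  rw [← R_sub] at hc
  refine R_supp hC.torus' (torus_neg_neg hC) hC.base hμ (exhaust' hC) hC.t_mem
    (fun x hx hf => ?_) hc
  refine mem_zpowers_of_theta hD hθ (x := ⟨x, hx⟩) fun h1 => hf ?_
  rw [Pi.sub_apply, lin_pow _ _ hx, lin_pow _ _ hx, lin_apply _ hx, h1]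
  simp

/-- The family on `G`. -/
noncomputable def PhiG (π : (Subgroup.centralizer ({t} : Set G)) →* C)
    (hC : CHyp z q ε Z T T' U s s' u) (μ : U →* ℂˣ) (θ : T' →* ℂˣ) (r : ℕ) :
    Fin r → Fin (r / 2) → G → ℂ := fun l i => II π (Phi hC μ θ l i)

theorem PhiG_apply (l : Fin r) (i : Fin (r / 2)) :
    PhiG π hC μ θ r l i = II π (Phi hC μ θ l i) := rfl

theorem inner_PhiG (h : Hyp t z π) (hD : DetHyp q ε T T' U s s' u r b) (hr : 4 ∣ r)
    (hθ : ThetaHyp hC r b θ) (hμ : ∃ v : U, μ v ≠ 1) (l : Fin r) (i : Fin (r / 2))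
    (l' : Fin r) (i' : Fin (r / 2)) :
    classInner (PhiG π hC μ θ r l i) (PhiG π hC μ θ r l' i') =
      (if l = l' then 2 else 0) + (if i = i' then 1 else 0) := by
  rw [PhiG_apply, PhiG_apply, II_apply, II_apply, classInner_ind_comp h (isClassFunction_Phi _ _)
      (isClassFunction_Phi _ _) (fun c hc => Phi_supp' hD hθ hμ _ _ hc)
      (fun c hc => Phi_supp' hD hθ hμ _ _ hc), inner_Phi hD hr hθ hμ l.2 i.2 l'.2 i'.2]
  simp only [Fin.ext_iff]

theorem inner_PhiG_one (h : Hyp t z π) (hD : DetHyp q ε T T' U s s' u r b)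
    (hθ : ThetaHyp hC r b θ) (hμ : ∃ v : U, μ v ≠ 1) (l : Fin r) (i : Fin (r / 2)) :
    classInner (PhiG π hC μ θ r l i) 1 = if l = ⟨0, two_r hD⟩ then 1 else 0 := by
  rw [PhiG_apply, II_apply, classInner_ind_one h, inner_Phi_one hD hθ hμ l.2]
  simp only [Fin.ext_iff]

theorem isGeneralized_PhiG (l : Fin r) (i : Fin (r / 2)) :
    IsGeneralizedCharacter G (PhiG π hC μ θ r l i) := by
  rw [PhiG_apply, II_apply]
  exact isGeneralized_ind_comp (b := Phi hC μ θ l i) (isGeneralized_Phi _ _)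

theorem PhiG_odd (h : Hyp t z π) (hD : DetHyp q ε T T' U s s' u r b)
    (hθ : ThetaHyp hC r b θ) (hμ : ∃ v : U, μ v ≠ 1) (l : Fin r) (i : Fin (r / 2)) {g : G}
    (hg : Odd (orderOf g)) : PhiG π hC μ θ r l i g = 0 := by
  rw [PhiG_apply, II_apply]
  exact ind_odd h (b := Phi hC μ θ l i) (fun _ hc => Phi_supp' hD hθ hμ _ _ hc) hg

/-- **The family.** -/
theorem family (h : Hyp t z π) (hD : DetHyp q ε T T' U s s' u r b) (hr : 4 ∣ r)
    (hθ : ThetaHyp hC r b θ) (hμ : ∃ v : U, μ v ≠ 1) :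
    Family (⟨0, two_r hD⟩ : Fin r) (PhiG π hC μ θ r) where
  gen l i := isGeneralized_PhiG l i
  at_one l i := PhiG_odd h hD hθ hμ l i (by rw [orderOf_one]; exact odd_one)
  gram l i l' i' := inner_PhiG h hD hr hθ hμ l i l' i'
  triv l i := inner_PhiG_one h hD hθ hμ l i

theorem inB_of_split {M : Ideal AlgInt} (hM : IsPModular 2 M) {X L Φ : G → ℂ}
    (hX : SignedIrr X) (hL : SignedIrr L) (hΦ : Φ = 1 - X + L)
    (hodd : ∀ g, Odd (orderOf g) → Φ g = 0) :
    InB (principalBlock M G) X ∧ InB (principalBlock M G) L := by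
  have h1o : Odd (orderOf (1 : G)) := by rw [orderOf_one]; exact odd_one
  have hcl : IsClassFunction G (1 - X + L) := by
    intro g k
    have h1 := isClassFunction_signed hX g k
    have h2 := isClassFunction_signed hL g k
    simp only [Pi.sub_apply, Pi.add_apply, Pi.one_apply, h1, h2]
  have key := blockPart_odd hM hcl (fun g hg => by rw [← hΦ]; exact hodd g hg) h1o
  rw [blockPart_add, blockPart_sub, blockPart_of_inB (one_inB hM)] at key
  have e0 : 1 - X 1 + L 1 = 0 := by
    have := hodd 1 h1o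
    rw [hΦ] at this
    simpa using this
  rcases blockPart_cases (principalBlock M G) hX with ⟨hXB, hX'⟩ | ⟨hXB, hX'⟩ <;>
    rcases blockPart_cases (principalBlock M G) hL with ⟨hLB, hL'⟩ | ⟨hLB, hL'⟩
  · exact ⟨hXB, hLB⟩
  · exfalso
    rw [hX', hL'] at key
    simp only [Pi.add_apply, Pi.sub_apply, Pi.one_apply, Pi.zero_apply] at key
    exact hL.apply_one_ne_zero (by linear_combination e0 - key)
  · exfalso
    rw [hX', hL'] at key
    simp only [Pi.add_apply, Pi.sub_apply, Pi.one_apply, Pi.zero_apply] at key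
    exact hX.apply_one_ne_zero (by linear_combination key - e0)
  · exfalso
    rw [hX', hL'] at key
    simp at key

theorem two_le_half (hD : DetHyp q ε T T' U s s' u r b) (hr : 4 ∣ r) :
    2 ≤ Fintype.card (Fin (r / 2)) := by
  have := two_r hD
  rw [Fintype.card_fin]
  obtain ⟨c, rfl⟩ := hr
  omega

theorem card_eq (hr : 4 ∣ r) : Fintype.card (Fin r) = 2 * Fintype.card (Fin (r / 2)) := by
  rw [Fintype.card_fin, Fintype.card_fin]
  obtain ⟨c, rfl⟩ := hr
  omega

/-- `(L, Wf k - Wf 0) = 0`. -/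
theorem inner_L_Wf (h : Hyp t z π) (hD : DetHyp q ε T T' U s s' u r b) (hr : 4 ∣ r)
    (hξ : XiHyp hC r b ξ) (hθ : ThetaHyp hC r b θ) (hμ : ∃ v : U, μ v ≠ 1)
    {X : G → ℂ} {L : Fin (r / 2) → G → ℂ}
    (hs : Split (⟨0, two_r hD⟩ : Fin r) (PhiG π hC μ θ r) X L) (i : Fin (r / 2)) (k : ℕ)
    (hk : k < r) : classInner (II π (Wf hC μ ξ r k - Wf hC μ ξ r 0)) (L i) = 0 := by
  have hfam := family (hC := hC) h hD hr hθ hμ
  have h0 := two_r hD
  have hΘ := two_le_half hD hr
  by_cases hk0 : k = 0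
  · rw [hk0, sub_self, map_zero, Core.classInner_zero_left]
  set w : G → ℂ := II π (Wf hC μ ξ r k - Wf hC μ ξ r 0) with hw
  have hsupp : ∀ c, (Wf hC μ ξ r k - Wf hC μ ξ r 0) c ≠ 0 → z ∈ Subgroup.zpowers c :=
    fun c hc => Wf_supp hD hξ hμ k 0 hc
  have hcl : IsClassFunction C (Wf hC μ ξ r k - Wf hC μ ξ r 0) :=
    isClassFunction_sub (isClassFunction_Wf k) (isClassFunction_Wf 0)
  have hw1 : w 1 = 0 := ind_one h hsupp
  have hww : classInner w w = 4 * Fintype.card (Fin r) := by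
    rw [hw, II_apply, classInner_ind_comp h hcl hcl hsupp hsupp, Core.classInner_sub_left,
      Core.classInner_sub_right, Core.classInner_sub_right, inner_Wf hD hξ hμ hk hk,
      inner_Wf hD hξ hμ hk h0, inner_Wf hD hξ hμ h0 hk, inner_Wf hD hξ hμ h0 h0, if_pos rfl,
      if_neg hk0, if_neg (Ne.symm hk0), if_pos rfl, Fintype.card_fin]
    ring
  have hΦw : ∀ (l : Fin r) (i : Fin (r / 2)), classInner (PhiG π hC μ θ r l i) w = 0 := by
    intro l i
    rw [hw, PhiG_apply, II_apply, II_apply, classInner_ind_comp h (isClassFunction_Phi _ _) hcl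
      (fun c hc => Phi_supp' hD hθ hμ _ _ hc) hsupp, Core.classInner_sub_right,
      inner_Phi_Wf hμ, inner_Phi_Wf hμ, sub_zero]
  -- evenness
  have hK : ∀ l < r, nu π (L i) (Rt' hC μ (θ ^ (2 * l))) =
      nu π (L i) (Rt' hC μ (θ ^ (2 * 0))) := by
    intro l hl
    have h1 := hfam.phi_L hs (by rw [card_eq hr]; omega) hΘ ⟨l, hl⟩ i i
    have h2 := hfam.phi_L hs (by rw [card_eq hr]; omega) hΘ ⟨0, h0⟩ i i
    rw [if_pos rfl, PhiG_apply, ← nu_apply, Phi, map_sub] at h1 h2
    linear_combination h1 - h2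
  obtain ⟨n, hn⟩ := even_Wf hD hr hξ hθ hμ (nu π (L i)) (nu_int (hs.sL i)) hK k
  obtain ⟨n', hn'⟩ := even_Wf hD hr hξ hθ hμ (nu π (L i)) (nu_int (hs.sL i)) hK 0
  have hwL : classInner w (L i) = ((2 * (n - n') : ℤ) : ℂ) := by
    rw [hw, ← nu_apply, map_sub, hn, hn']
    push_cast
    ring
  have hLw := inner_conj_int hwL
  have h1 := hfam.inner_eq_zero hs hΘ (card_eq hr) hw1 hww hΦw i (b := n - n')
    (by rw [hLw]; push_cast; ring)
  exact inner_symm_zero h1

/-- **The values of `L i` and of `X` at `t`.** -/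
theorem value_L (h : Hyp t z π) (hD : DetHyp q ε T T' U s s' u r b) (hr : 4 ∣ r)
    (hξ : XiHyp hC r b ξ) (hθ : ThetaHyp hC r b θ) (hμ : ∃ v : U, μ v ≠ 1)
    {M : Ideal AlgInt} (hM : IsPModular 2 M)
    {X : G → ℂ} {L : Fin (r / 2) → G → ℂ}
    (hs : Split (⟨0, two_r hD⟩ : Fin r) (PhiG π hC μ θ r) X L) (i : Fin (r / 2)) :
    L i t = 1 - ε * q := by
  have hfam := family (hC := hC) h hD hr hθ hμ
  have h0 := two_r hD
  have hΘ := two_le_half hD hr
  have hodd : ∀ g, Odd (orderOf g) → PhiG π hC μ θ r ⟨0, h0⟩ i g = 0 :=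
    fun g hg => PhiG_odd h hD hθ hμ _ i hg
  obtain ⟨-, hLB⟩ := inB_of_split hM hs.sX (hs.sL i) (hs.eq i) hodd
  obtain ⟨a, a', ha, ha', hT, hT', -, -, -, -, hval⟩ := exists_functions h hC hM hLB hμ
  have haz : a z = 0 := by
    refine eq_zero_of_ff hD hξ ha fun k hk => ?_
    rw [← hT (ff hC ξ r k - ff hC ξ r 0) (fun x hx hf => ff_supp hD hξ k 0 hx hf)]
    have h1 := inner_L_Wf h hD hr hξ hθ hμ hs i k hk
    rw [Wf_eq, Wf_eq, ← R_sub] at h1
    exact h1
  have haz' : a' z = 2 := by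
    have h1 := hT' (ee T' θ r) (fun x hx hf => ee_supp hD hθ hx hf)
    rw [inner_ee hD hθ ha', R_ee hr hθ hμ hD] at h1
    have h2 : classInner (indFun (Subgroup.centralizer ({t} : Set G)) (fun x =>
        (∑ l ∈ Finset.range r, Phi hC μ θ l (l % (r / 2))) (π x))) (L i) = 2 := by
      have h3 : classInner (indFun (Subgroup.centralizer ({t} : Set G)) (fun x =>
        (∑ l ∈ Finset.range r, Phi hC μ θ l (l % (r / 2))) (π x))) (L i) =
          nu π (L i) (∑ l ∈ Finset.range r, Phi hC μ θ l (l % (r / 2))) := rfl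
      rw [h3, map_sum]
      have h4 : ∀ l ∈ Finset.range r, nu π (L i) (Phi hC μ θ l (l % (r / 2))) =
          if l % (r / 2) = (i : ℕ) then 1 else 0 := by
        intro l hl
        have h5 := hfam.phi_L hs (by rw [card_eq hr]; omega) hΘ ⟨l, Finset.mem_range.1 hl⟩
          ⟨l % (r / 2), Nat.mod_lt _ (by
            rw [Fintype.card_fin] at hΘ; omega)⟩ i
        rw [PhiG_apply, ← nu_apply] at h5
        simp only [Fin.ext_iff] at h5
        exact h5
      rw [Finset.sum_congr rfl h4]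
      -- exactly two indices
      have hi := i.2
      have h6 : ∀ l ∈ Finset.range r, (if l % (r / 2) = (i : ℕ) then (1 : ℂ) else 0) =
          (if l = (i : ℕ) then 1 else 0) + (if l = (i : ℕ) + r / 2 then 1 else 0) := by
        intro l hl
        have hl' := Finset.mem_range.1 hl
        obtain ⟨c, hc⟩ := hr
        by_cases h7 : l < r / 2
        · rw [Nat.mod_eq_of_lt h7, if_neg (show ¬ l = (i : ℕ) + r / 2 by omega), add_zero]
        · rw [Nat.mod_eq_sub_mod (by omega), Nat.mod_eq_of_lt (by omega),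
            if_neg (show ¬ l = (i : ℕ) by omega), zero_add]
          by_cases h8 : l = (i : ℕ) + r / 2
          · rw [if_pos h8, if_pos (by omega)]
          · rw [if_neg h8, if_neg (by omega)]
      rw [Finset.sum_congr rfl h6, Finset.sum_add_distrib, Finset.sum_ite_eq' (Finset.range r),
        Finset.sum_ite_eq' (Finset.range r), if_pos (Finset.mem_range.2 (by omega)),
        if_pos (Finset.mem_range.2 (by omega))]
      norm_num
    rw [h2] at h1
    have h3 := congrArg conj h1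
    rw [Complex.conj_conj] at h3
    rw [← h3]
    exact (map_ofNat _ 2)
  rw [hval, haz, haz']
  ring

theorem value_X (h : Hyp t z π) (hD : DetHyp q ε T T' U s s' u r b) (hr : 4 ∣ r)
    (hξ : XiHyp hC r b ξ) (hθ : ThetaHyp hC r b θ) (hμ : ∃ v : U, μ v ≠ 1)
    {M : Ideal AlgInt} (hM : IsPModular 2 M)
    {X : G → ℂ} {L : Fin (r / 2) → G → ℂ}
    (hs : Split (⟨0, two_r hD⟩ : Fin r) (PhiG π hC μ θ r) X L) (i : Fin (r / 2))
    (hz : Phi hC μ θ 0 i z = 2 * (1 - ε * q)) : X t = ε * q := by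
  have h1 := value_L h hD hr hξ hθ hμ hM hs i
  have h2 := congrFun (hs.eq i) t
  simp only [Pi.add_apply, Pi.sub_apply, Pi.one_apply] at h2
  rw [PhiG_apply, II_t h (isClassFunction_Phi _ _) (fun c hc => Phi_supp' hD hθ hμ _ _ hc), hz, h1] at h2
  linear_combination h2

end Fam

end Cfsg.Agent.Classification.InvCent.WrVal
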