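import Mathlib

/-!
# Wreathed case of S0484 / S0485: the numerical solution

The three class equations of the wreathed case have the only solution `f = Q ^ 3`, `n = Q ^ 2 (Q ^ 2 + Q + 1)`.
-/

set_option autoImplicit false

namespace Cfsg.Agent.Classification.InvCent.WreathedNum

/-- The Diophantine part. -/
theorem dioph {Q f h : ℤ} (hQ : 3 ≤ |Q|) (hfQ : f ≠ Q)
    (key : Q * (f - Q) ^ 2 = f * (Q ^ 2 - 1) ^ 2 * h ^ 2) : f = Q ^ 3 := by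
  have hQ0 : Q ≠ 0 := by
    rintro rfl
    norm_num at hQ
  have hf : f ∣ Q ^ 3 := by
    refine ⟨(Q ^ 2 - 1) ^ 2 * h ^ 2 - Q * (f - 2 * Q), ?_⟩
    linear_combination key
  have hcop : IsCoprime (Q ^ 2 - 1) Q := ⟨-1, Q, by ring⟩
  have hd : Q ^ 2 - 1 ∣ f - Q := by
    have h1 : (Q ^ 2 - 1) ^ 2 ∣ Q * (f - Q) ^ 2 := by
      rw [key]
      exact ⟨f * h ^ 2, by ring⟩
    have h2 : (Q ^ 2 - 1) ^ 2 ∣ (f - Q) ^ 2 := (hcop.pow_left).dvd_of_dvd_mul_left h1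
    exact (Int.pow_dvd_pow_iff two_ne_zero).1 h2
  obtain ⟨g, hg⟩ := hf
  obtain ⟨j, hj⟩ := hd
  have hj0 : j ≠ 0 := by
    rintro rfl
    apply hfQ
    linear_combination hj
  -- `g = 1` modulo `Q ^ 2 - 1`
  have hg1 : Q ^ 2 - 1 ∣ g - 1 := by
    have h1 : Q ^ 2 - 1 ∣ Q * (g - 1) := by
      refine ⟨Q - j * g, ?_⟩
      linear_combination -hg - g * hj
    exact hcop.dvd_of_dvd_mul_left h1
  have hQsq : Q ^ 2 = |Q| ^ 2 := (sq_abs Q).symm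
  by_cases hg2 : g = 1
  · rw [hg, hg2, mul_one]
  · exfalso
    obtain ⟨i, hi⟩ := hg1
    have hi0 : i ≠ 0 := by
      rintro rfl
      apply hg2
      linear_combination hi
    have hN : 0 < Q ^ 2 - 1 := by rw [hQsq]; nlinarith
    have hga : Q ^ 2 - 2 ≤ |g| := by
      have h1 : Q ^ 2 - 1 ≤ |g - 1| := by
        rw [hi, abs_mul, abs_of_pos hN]
        have : 1 ≤ |i| := Int.one_le_abs hi0
        nlinarith
      have h2 : |g - 1| ≤ |g| + |1| := abs_sub _ _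
      rw [abs_one] at h2
      linarith
    have hfa : Q ^ 2 - 1 - |Q| ≤ |f| := by
      have h1 : Q ^ 2 - 1 ≤ |f - Q| := by
        rw [hj, abs_mul, abs_of_pos hN]
        have : 1 ≤ |j| := Int.one_le_abs hj0
        nlinarith
      have h2 : |f - Q| ≤ |f| + |Q| := abs_sub _ _
      linarith
    have hprod : |Q| ^ 3 = |f| * |g| := by
      rw [← abs_mul, ← hg, abs_pow]
    rw [hQsq] at hga hfa
    have h3 : (|Q| ^ 2 - 1 - |Q|) * (|Q| ^ 2 - 2) ≤ |Q| ^ 3 := by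
      rw [hprod]
      refine mul_le_mul hfa hga ?_ (abs_nonneg f)
      nlinarith
    nlinarith [h3, hQ, sq_nonneg (|Q|), mul_nonneg (sub_nonneg.2 hQ) (sub_nonneg.2 hQ)]

/-- **The numerical solution.** -/
theorem num {Q f y A h : ℤ} {n : ℂ} (hQ : 3 ≤ |Q|) (hf0 : f ≠ 0) (hf1 : f ≠ 1) (hy : y ≠ 0)
    (hv : y + f - 1 ≠ 0) (hw : 2 * y + f - 1 ≠ 0) (hA : A = 1 + (Q + 1) * h)
    (e1 : -1 + (Q : ℂ) ^ 2 / f + (A : ℂ) ^ 2 / y - (A + Q - 1 : ℂ) ^ 2 / (y + f - 1) = 0)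
    (e2 : n * ((A : ℂ) ^ 2 / y + (A + Q - 1 : ℂ) ^ 2 / (y + f - 1) -
      (2 * A + Q - 1 : ℂ) ^ 2 / (2 * y + f - 1)) = Q * (Q ^ 2 - 1) * (Q - 1))
    (e3 : n * (1 - (Q : ℂ) ^ 2 / f + (1 - Q : ℂ) ^ 2 / (f - 1)) = Q * (Q ^ 2 - 1) * (Q + 1)) :
    f = Q ^ 3 ∧ n = Q ^ 2 * (Q ^ 2 + Q + 1) ∧ y = Q ^ 2 + Q + 1 := by
  have hQ0 : Q ≠ 0 := by
    rintro rfl
    norm_num at hQ
  have hQ1 : Q ≠ 1 := by
    rintro rfl
    norm_num at hQ
  have hQ2 : Q ≠ -1 := by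
    rintro rfl
    norm_num at hQ
  have cQ0 : (Q : ℂ) ≠ 0 := by exact_mod_cast hQ0
  have cQ1 : (Q : ℂ) - 1 ≠ 0 := sub_ne_zero.2 (by exact_mod_cast hQ1)
  have cQ2 : (Q : ℂ) + 1 ≠ 0 := by
    intro h0
    apply hQ2
    have : (Q : ℂ) = ((-1 : ℤ) : ℂ) := by push_cast; linear_combination h0
    exact_mod_cast this
  have cf : (f : ℂ) ≠ 0 := by exact_mod_cast hf0
  have cf1 : (f : ℂ) - 1 ≠ 0 := sub_ne_zero.2 (by exact_mod_cast hf1)
  have cy : (y : ℂ) ≠ 0 := by exact_mod_cast hy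
  have cv : (y : ℂ) + f - 1 ≠ 0 := by exact_mod_cast hv
  have cw : 2 * (y : ℂ) + f - 1 ≠ 0 := by exact_mod_cast hw
  -- the three equations without denominators
  have E1 : ((f : ℂ) - Q) ^ 2 * (y * (y + f - 1)) =
      f * (A * (y + f - 1) - (A + Q - 1) * y) ^ 2 := by
    field_simp at e1
    linear_combination (1 - f : ℂ) * e1
  have E2 : n * ((A : ℂ) * (y + f - 1) - (A + Q - 1) * y) ^ 2 =
      Q * (Q + 1) * (Q - 1) ^ 2 * (y * (y + f - 1)) * (2 * y + f - 1) := by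
    have cw' : (y : ℂ) * 2 + f - 1 ≠ 0 := by rwa [mul_comm (y : ℂ) 2]
    field_simp at e2
    linear_combination e2
  have E3 : n * ((f : ℂ) - Q) ^ 2 = Q * (Q - 1) * (Q + 1) ^ 2 * f * (f - 1) := by
    field_simp at e3
    linear_combination e3
  have hfQ : f ≠ Q := by
    intro h0
    rw [h0] at E3
    have : (Q : ℂ) * (Q - 1) * (Q + 1) ^ 2 * Q * (Q - 1) = 0 := by
      linear_combination -E3
    simp [cQ0, cQ1, cQ2] at this
  have E4 : ((Q : ℂ) + 1) * (f - 1) = (Q - 1) * (2 * y + f - 1) := by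
    have h1 : ((Q : ℂ) * (Q - 1) * (Q + 1) * f * (y * (y + f - 1))) *
        (((Q : ℂ) + 1) * (f - 1) - (Q - 1) * (2 * y + f - 1)) = 0 := by
      linear_combination (-(y * (y + f - 1)) : ℂ) * E3 + (f : ℂ) * E2 + n * E1
    have h2 : ((Q : ℂ) * (Q - 1) * (Q + 1) * f * (y * (y + f - 1))) ≠ 0 := by
      simp [cQ0, cQ1, cQ2, cf, cy, cv]
    exact sub_eq_zero.1 ((mul_eq_zero.1 h1).resolve_left h2)
  have E5 : f - 1 = (Q - 1) * y := by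
    have h1 : (Q + 1) * (f - 1) = (Q - 1) * (2 * y + f - 1) := by exact_mod_cast E4
    linarith
  have E1' : (f - Q) ^ 2 * (y * (y + f - 1)) = f * (A * (y + f - 1) - (A + Q - 1) * y) ^ 2 := by
    exact_mod_cast E1
  have hv' : y + f - 1 = Q * y := by linarith
  have key : Q * (f - Q) ^ 2 = f * (Q ^ 2 - 1) ^ 2 * h ^ 2 := by
    rw [hv', hA] at E1'
    have h1 : y ^ 2 * (Q * (f - Q) ^ 2) = y ^ 2 * (f * (Q ^ 2 - 1) ^ 2 * h ^ 2) := by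
      linear_combination E1'
    exact mul_left_cancel₀ (pow_ne_zero 2 hy) h1
  have hf := dioph hQ hfQ key
  refine ⟨hf, ?_, ?_⟩
  rotate_left
  · have h1 : (Q - 1) * y = (Q - 1) * (Q ^ 2 + Q + 1) := by
      rw [← E5, hf]
      ring
    exact mul_left_cancel₀ (sub_ne_zero.2 hQ1) h1
  have cfQ : (f : ℂ) = (Q : ℂ) ^ 3 := by exact_mod_cast hf
  rw [cfQ] at E3
  have h1 : ((Q : ℂ) ^ 2 * (Q - 1) ^ 2 * (Q + 1) ^ 2) * n =
      ((Q : ℂ) ^ 2 * (Q - 1) ^ 2 * (Q + 1) ^ 2) * (Q ^ 2 * (Q ^ 2 + Q + 1)) := by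
    linear_combination E3
  have h2 : ((Q : ℂ) ^ 2 * (Q - 1) ^ 2 * (Q + 1) ^ 2) ≠ 0 := by
    simp [cQ0, cQ1, cQ2]
  exact mul_left_cancel₀ h2 h1

end Cfsg.Agent.Classification.InvCent.WreathedNum
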