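import Mathlib
import Cfsg.Agent.Classification.InvCent.WrVal
import Cfsg.Agent.Classification.InvCent.WrPsi
import Cfsg.Agent.Classification.InvCent.WreathedGramTwo
import Cfsg.Agent.Classification.InvCent.WreathedNum
import Cfsg.Agent.Classification.InvCent.GPair
import Cfsg.Agent.Blocks.ExistsModular
import Cfsg.Agent.Characters.GaloisBasic

/-!
# Wreathed case: the index of the centralizer of an involution

`G` finite with one class of involutions, `π : C(t) →* C` onto, with odd kernel, `C` a group of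
type `GL₂(q)/Z₀` (`ε = 1`) or `GU₂(q)/Z₀` (`ε = -1`), `4 ∣ q - ε`. With `Q = ε q`:
`|G : C(t)| = κ² Q² (Q² + Q + 1)`.
-/

set_option autoImplicit false
set_option linter.unusedSectionVars false

open Cfsg
open scoped ComplexConjugate

namespace Cfsg.Agent.Classification.InvCent.Wreathed

open Cfsg.Agent.Characters Cfsg.Agent.Classification.InvCent
  Cfsg.Agent.Classification.InvCent.LinChar Cfsg.Agent.Classification.InvCent.WrChar
  Cfsg.Agent.Classification.InvCent.WrFun Cfsg.Agent.Classification.InvCent.WreathedGram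
  Cfsg.Agent.Classification.InvCent.WreathedGramTwo Cfsg.Agent.Classification.InvCent.WrVal
  Cfsg.Agent.Classification.InvCent.WrPsi
  Cfsg.Agent.Classification.RTwo.General Cfsg.Agent.Classification.BGOrder
  Cfsg.Agent.Classification.BGBlockB0 Cfsg.Agent.Classification.BGIsometry
  Cfsg.Agent.Classification.BGSplit Cfsg.Agent.Characters.GaloisBasic
  Cfsg.Agent.Classification.InvCent.GPair

universe v w

section Aux

variable {G : Type v} [Group G] [Finite G]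

theorem char_invol {χ : G → ℂ} (hχ : IsCharacter G χ) {t : G} (ht : t ^ 2 = 1) :
    ∃ n : ℤ, χ t = n := by
  obtain ⟨d, m, -, h1, h2⟩ := isCharacter_exists_fin_pow hχ t two_ne_zero ht
  have h3 := h2 1
  rw [pow_one] at h3
  rw [h3]
  have h4 : ∀ i, ∃ n : ℤ, m i ^ 1 = n := by
    intro i
    rcases sq_eq_one_iff.1 (h1 i) with h | h
    · exact ⟨1, by rw [h]; norm_num⟩
    · exact ⟨-1, by rw [h]; norm_num⟩
  choose n hn using h4
  exact ⟨∑ i, n i, by rw [Finset.sum_congr rfl fun i _ => hn i]; push_cast; rfl⟩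

theorem signed_invol {X : G → ℂ} (hX : SignedIrr X) {t : G} (ht : t ^ 2 = 1) :
    ∃ n : ℤ, X t = n := by
  rcases hX with h | h
  · exact char_invol (Core.isIrr_isCharacter h) ht
  · obtain ⟨n, hn⟩ := char_invol (Core.isIrr_isCharacter h) ht
    refine ⟨-n, ?_⟩
    rw [Pi.neg_apply] at hn
    push_cast
    linear_combination -hn

theorem signed_isIntegral {X : G → ℂ} (hX : SignedIrr X) (g : G) : IsIntegral ℤ (X g) := by
  rcases hX with h | h
  · exact isIntegral_apply (Core.isIrr_isCharacter h) g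
  · have h1 := isIntegral_apply (Core.isIrr_isCharacter h) g
    rw [Pi.neg_apply] at h1
    have h2 := h1.neg
    rwa [neg_neg] at h2

end Aux

section Main

variable {G : Type v} [Group G] [Fintype G] {C : Type w} [Group C] [Fintype C] {t : G} {z : C}
  {π : (Subgroup.centralizer ({t} : Set G)) →* C} {q : ℕ} {ε : ℤ} {Z T T' U : Subgroup C}
  {s s' u : C} {r : ℕ} {b : C →* ℂˣ} {hC : CHyp z q ε Z T T' U s s' u} {μ : U →* ℂˣ}
  {ξ : T →* ℂˣ} {θ : T' →* ℂˣ}

theorem quarter_lt (hD : DetHyp q ε T T' U s s' u r b) (hr : 4 ∣ r) : r / 4 < r := by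
  have := two_r hD
  omega

theorem three_quarter_lt (hD : DetHyp q ε T T' U s s' u r b) (hr : 4 ∣ r) :
    3 * (r / 4) < r := by
  have := two_r hD
  obtain ⟨c, rfl⟩ := hr
  omega

theorem exists_split (h : Hyp t z π) (hD : DetHyp q ε T T' U s s' u r b) (hr : 4 ∣ r)
    (hθ : ThetaHyp hC r b θ) (hμ : ∃ v : U, μ v ≠ 1) :
    ∃ (X : G → ℂ) (L : Fin (r / 2) → G → ℂ),
      Split (⟨0, two_r hD⟩ : Fin r) (PhiG π hC μ θ r) X L := by
  have hΘ := two_le_half hD hr
  have : Nontrivial (Fin (r / 2)) := Fintype.one_lt_card_iff_nontrivial.1 (by omega)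
  obtain ⟨X, L, h1, h2, h3, h4, h5, h6, h7⟩ := (family h hD hr hθ hμ).exists_split
  exact ⟨X, L, h1, h2, h3, h4, h5, h6, h7⟩

/-- `Psi` on `G`. -/
theorem psi_facts (h : Hyp t z π) (hD : DetHyp q ε T T' U s s' u r b) (hr : 4 ∣ r)
    (hξ : XiHyp hC r b ξ) (hθ : ThetaHyp hC r b θ) (hμ : ∃ v : U, μ v ≠ 1) :
    IsGeneralizedCharacter G (II π (Psi hC μ ξ b r)) ∧ II π (Psi hC μ ξ b r) 1 = 0 ∧
      classInner (II π (Psi hC μ ξ b r)) (II π (Psi hC μ ξ b r)) = 3 ∧
      classInner (II π (Psi hC μ ξ b r)) 1 = 0 ∧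
      (∀ (l : Fin r) (i : Fin (r / 2)), classInner (II π (Psi hC μ ξ b r))
        (PhiG π hC μ θ r l i) = (if l = ⟨r / 4, quarter_lt hD hr⟩ then 1 else 0) -
          (if l = ⟨3 * (r / 4), three_quarter_lt hD hr⟩ then 1 else 0)) ∧
      II π (Psi hC μ ξ b r) t = 0 := by
  have hcl : IsClassFunction C (Psi hC μ ξ b r) :=
    isClassFunction_of_generalized isGeneralized_Psi
  have hs : ∀ c, Psi hC μ ξ b r c ≠ 0 → z ∈ Subgroup.zpowers c :=
    fun c hc => Psi_supp hD hr hξ hθ hμ hc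
  refine ⟨isGeneralized_ind_comp (b := Psi hC μ ξ b r) isGeneralized_Psi, ind_one h hs, ?_, ?_,
    ?_, ?_⟩
  · rw [II_apply, classInner_ind_comp h hcl hcl hs hs, inner_Psi hD hr hξ hθ hμ]
  · rw [II_apply, classInner_ind_one h, inner_Psi_one hD hr hξ hθ hμ]
  · intro l i
    rw [PhiG_apply, II_apply, II_apply, classInner_ind_comp h hcl (isClassFunction_Phi _ _) hs
      (fun c hc => Phi_supp' hD hθ hμ _ _ hc), inner_Psi_Phi hD hr hξ hθ hμ l.2 i.2]
    simp only [Fin.ext_iff]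
  · rw [II_t h hcl hs, Psi_z hD hξ hθ hμ]

theorem conj_facts (hD : DetHyp q ε T T' U s s' u r b) (hr : 4 ∣ r)
    (hθ : ThetaHyp hC r b θ) (hμ : ∃ v : U, μ v ≠ 1) :
    (∀ (i : Fin (r / 2)) (g : G),
      conj ((PhiG π hC μ θ r ⟨r / 4, quarter_lt hD hr⟩ i -
        PhiG π hC μ θ r ⟨0, two_r hD⟩ i) g) =
      (PhiG π hC μ θ r ⟨3 * (r / 4), three_quarter_lt hD hr⟩ i -
        PhiG π hC μ θ r ⟨0, two_r hD⟩ i) g) ∧
    (∀ i : Fin (r / 2), ∃ i' : Fin (r / 2), ∀ g : G,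
      conj (PhiG π hC μ θ r ⟨0, two_r hD⟩ i g) = PhiG π hC μ θ r ⟨0, two_r hD⟩ i' g) := by
  constructor
  · intro i g
    have h1 : PhiG π hC μ θ r ⟨r / 4, quarter_lt hD hr⟩ i - PhiG π hC μ θ r ⟨0, two_r hD⟩ i =
        II π (Phi hC μ θ (r / 4) i - Phi hC μ θ 0 i) := by
      rw [map_sub]; rfl
    have h2 : PhiG π hC μ θ r ⟨3 * (r / 4), three_quarter_lt hD hr⟩ i -
        PhiG π hC μ θ r ⟨0, two_r hD⟩ i =
        II π (Phi hC μ θ (3 * (r / 4)) i - Phi hC μ θ 0 i) := by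
      rw [map_sub]; rfl
    have h3 : (fun c => conj ((Phi hC μ θ (r / 4) i - Phi hC μ θ 0 i) c)) =
        Phi hC μ θ (3 * (r / 4)) i - Phi hC μ θ 0 i := by
      funext x
      rw [Pi.sub_apply, Pi.sub_apply]
      exact conj_Phi_sub hD hr hθ hμ i x
    rw [h1, h2, conj_II, h3]
  · intro i
    have hi := i.2
    refine ⟨⟨r / 2 - 1 - i, by omega⟩, fun g => ?_⟩
    have h3 : (fun c => conj (Phi hC μ θ 0 i c)) = Phi hC μ θ 0 (r / 2 - 1 - i) :=
      funext fun x => conj_Phi_zero hD hr hθ hμ hi x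
    rw [PhiG_apply, PhiG_apply, conj_II, h3]

/-- The characters `Y`, `V`, `W`. -/
theorem exists_YVW' (h : Hyp t z π) (hD : DetHyp q ε T T' U s s' u r b) (hr : 4 ∣ r)
    (hξ : XiHyp hC r b ξ) (hθ : ThetaHyp hC r b θ) (hμ : ∃ v : U, μ v ≠ 1)
    {X : G → ℂ} {L : Fin (r / 2) → G → ℂ}
    (hs : Split (⟨0, two_r hD⟩ : Fin r) (PhiG π hC μ θ r) X L) :
    ∃ Y V W : G → ℂ, SignedIrr Y ∧ SignedIrr V ∧ SignedIrr W ∧
      (∀ i, PhiG π hC μ θ r ⟨r / 4, quarter_lt hD hr⟩ i =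
        PhiG π hC μ θ r ⟨0, two_r hD⟩ i - 1 + X + Y - V) ∧
      (II π (Psi hC μ ξ b r) = Y + (fun g => conj (V g)) - W) ∧
      (∀ (l : Fin r) (i : Fin (r / 2)), classInner (PhiG π hC μ θ r l i) Y =
        if l = ⟨r / 4, quarter_lt hD hr⟩ then 1 else 0) := by
  have h0 := two_r hD
  have h4 := r_four hr
  obtain ⟨p1, p2, p3, p4, p5, -⟩ := psi_facts h hD hr hξ hθ hμ
  obtain ⟨c1, c2⟩ := conj_facts (π := π) hD hr hθ hμ
  exact exists_YVW (family h hD hr hθ hμ) hs (by rw [Fintype.card_fin]; omega)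
    (two_le_half hD hr) (i := ⟨r / 4, quarter_lt hD hr⟩)
    (j := ⟨3 * (r / 4), three_quarter_lt hD hr⟩)
    (by rw [Ne, Fin.ext_iff]; simp only; omega) (by rw [Ne, Fin.ext_iff]; simp only; omega)
    (by rw [Ne, Fin.ext_iff]; simp only; omega) c1 c2 p1 p2 p3 p4 p5

theorem inB_YV {M : Ideal AlgInt} (hM : IsPModular 2 M) {X Y V : G → ℂ}
    (hX : InB (principalBlock M G) X) (hX1 : X 1 ≠ 1) (hY : SignedIrr Y) (hV : SignedIrr V)
    (hodd : ∀ g, Odd (orderOf g) → (-1 + X + Y - V : G → ℂ) g = 0) :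
    InB (principalBlock M G) Y ∧ InB (principalBlock M G) V := by
  have h1o : Odd (orderOf (1 : G)) := by rw [orderOf_one]; exact odd_one
  have hcl : IsClassFunction G (-1 + X + Y - V : G → ℂ) := by
    intro g k
    have h1 := isClassFunction_signed hX.signedIrr g k
    have h2 := isClassFunction_signed hY g k
    have h3 := isClassFunction_signed hV g k
    simp only [Pi.sub_apply, Pi.add_apply, Pi.neg_apply, Pi.one_apply, h1, h2, h3]
  have key := blockPart_odd hM hcl hodd h1o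
  rw [blockPart_sub, blockPart_add, blockPart_add, blockPart_neg,
    blockPart_of_inB (one_inB hM), blockPart_of_inB hX] at key
  have e0 := hodd 1 h1o
  simp only [Pi.add_apply, Pi.sub_apply, Pi.one_apply, Pi.neg_apply] at e0
  rcases blockPart_cases (principalBlock M G) hY with ⟨hYB, hY'⟩ | ⟨hYB, hY'⟩ <;>
    rcases blockPart_cases (principalBlock M G) hV with ⟨hVB, hV'⟩ | ⟨hVB, hV'⟩
  · exact ⟨hYB, hVB⟩
  · exfalso
    rw [hY', hV'] at key
    simp only [Pi.add_apply, Pi.sub_apply, Pi.one_apply, Pi.neg_apply, Pi.zero_apply] at key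
    exact hV.apply_one_ne_zero (by linear_combination key - e0)
  · exfalso
    rw [hY', hV'] at key
    simp only [Pi.add_apply, Pi.sub_apply, Pi.one_apply, Pi.neg_apply, Pi.zero_apply] at key
    exact hY.apply_one_ne_zero (by linear_combination e0 - key)
  · exfalso
    rw [hY', hV'] at key
    simp only [Pi.add_apply, Pi.sub_apply, Pi.one_apply, Pi.neg_apply, Pi.zero_apply] at key
    exact hX1 (by linear_combination key)

/-- The value of `Y` at `t`. -/
theorem value_Y (h : Hyp t z π) (hD : DetHyp q ε T T' U s s' u r b) (hr : 4 ∣ r)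
    (hθ : ThetaHyp hC r b θ) (hμ : ∃ v : U, μ v ≠ 1)
    {M : Ideal AlgInt} (hM : IsPModular 2 M) {Y : G → ℂ} (hYB : InB (principalBlock M G) Y)
    (hY : ∀ (l : Fin r) (i : Fin (r / 2)), classInner (PhiG π hC μ θ r l i) Y =
        if l = ⟨r / 4, quarter_lt hD hr⟩ then 1 else 0) {v : C} (hv : v ∈ U) (hv1 : v ≠ 1)
    {x : Subgroup.centralizer ({t} : Set G)} (hx : π x = z * v) :
    Y t = 1 + (ε * q + 1) * (Y x - 1) := by
  have h0 := two_r hD
  have h4 := r_four hr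
  obtain ⟨a, a', ha, ha', hT, hT', -, -, -, hvals, hval⟩ := exists_functions h hC hM hYB hμ
  have haz' : a' z = 1 := by
    have h1 := hT' (ee T' θ r) (fun x hx hf => ee_supp hD hθ hx hf)
    rw [inner_ee hD hθ ha', R_ee hr hθ hμ hD] at h1
    have h2 : classInner (indFun (Subgroup.centralizer ({t} : Set G)) (fun x =>
        (∑ l ∈ Finset.range r, Phi hC μ θ l (l % (r / 2))) (π x))) Y = 1 := by
      have h3 : classInner (indFun (Subgroup.centralizer ({t} : Set G)) (fun x =>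
        (∑ l ∈ Finset.range r, Phi hC μ θ l (l % (r / 2))) (π x))) Y =
          nu π Y (∑ l ∈ Finset.range r, Phi hC μ θ l (l % (r / 2))) := rfl
      rw [h3, map_sum]
      have h5 : ∀ l ∈ Finset.range r, nu π Y (Phi hC μ θ l (l % (r / 2))) =
          if l = r / 4 then 1 else 0 := by
        intro l hl
        have h6 := hY ⟨l, Finset.mem_range.1 hl⟩ ⟨l % (r / 2), Nat.mod_lt _ (by omega)⟩
        rw [PhiG_apply, ← nu_apply] at h6
        simp only [Fin.ext_iff] at h6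
        exact h6
      rw [Finset.sum_congr rfl h5, Finset.sum_ite_eq' (Finset.range r),
        if_pos (Finset.mem_range.2 (by omega))]
    rw [h2] at h1
    have h3 := congrArg conj h1
    rw [Complex.conj_conj] at h3
    rw [← h3, map_one]
  have h5 := hvals z hC.t_mem (Subgroup.mem_zpowers z) v hv hv1 x hx
  rw [h5, hval, haz']
  ring

theorem sum_three {α : Type*} [AddCommMonoid α] (f : Fin 3 → α) :
    ∑ j ∈ Finset.univ, f j = f 0 + f 1 + f 2 := Fin.sum_univ_three f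

/-- The class formula for a combination of three signed irreducible characters. -/
theorem class_three (h : Hyp t z π) (hC : CHyp z q ε Z T T' U s s' u) {f : C → ℂ}
    (hf : ∀ c, f c ≠ 0 → z ∈ Subgroup.zpowers c) {c₁ c₂ c₃ : ℂ} {X₁ X₂ X₃ : G → ℂ}
    (h₁ : SignedIrr X₁) (h₂ : SignedIrr X₂) (h₃ : SignedIrr X₃)
    (hind : II π f = c₁ • X₁ + c₂ • X₂ + c₃ • X₃) :
    ((Subgroup.centralizer ({t} : Set G)).index : ℂ) *
      (c₁ * (X₁ t ^ 2 / X₁ 1) + c₂ * (X₂ t ^ 2 / X₂ 1) + c₃ * (X₃ t ^ 2 / X₃ 1)) =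
      (kap π u : ℂ) ^ 2 * pairSum z f := by
  have h1 := classFormula h hC hf (Finset.univ : Finset (Fin 3)) ![c₁, c₂, c₃] ![X₁, X₂, X₃]
    (fun j _ => by fin_cases j <;> assumption) (by
      rw [← II_apply, hind]
      funext g
      rw [Fin.sum_univ_three]
      rfl)
  rw [Fin.sum_univ_three] at h1
  exact h1

end Main

section Final

variable {G : Type v} [Group G] [Fintype G] {C : Type w} [Group C] [Fintype C] {t : G} {z : C}
  {π : (Subgroup.centralizer ({t} : Set G)) →* C} {q : ℕ} {ε : ℤ} {Z T T' U : Subgroup C}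
  {s s' u : C} {r : ℕ} {b : C →* ℂˣ} {hC : CHyp z q ε Z T T' U s s' u} {μ : U →* ℂˣ}
  {ξ : T →* ℂˣ} {θ : T' →* ℂˣ}

/-- **The wreathed case: all characters.** -/
theorem main (h : Hyp t z π) (hD : DetHyp q ε T T' U s s' u r b) (hr : 4 ∣ r) (hq : 3 ≤ q)
    (hξ : XiHyp hC r b ξ) (hθ : ThetaHyp hC r b θ) (hμ : ∃ v : U, μ v ≠ 1)
    {M : Ideal AlgInt} (hM : IsPModular 2 M) :
    ∃ (X : G → ℂ) (L : Fin (r / 2) → G → ℂ) (Y V W : G → ℂ),
      Split (⟨0, two_r hD⟩ : Fin r) (PhiG π hC μ θ r) X L ∧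
      SignedIrr Y ∧ SignedIrr V ∧ SignedIrr W ∧
      InB (principalBlock M G) X ∧ (∀ i, InB (principalBlock M G) (L i)) ∧
      InB (principalBlock M G) Y ∧ InB (principalBlock M G) V ∧
      (∀ i, PhiG π hC μ θ r ⟨r / 4, quarter_lt hD hr⟩ i =
        PhiG π hC μ θ r ⟨0, two_r hD⟩ i - 1 + X + Y - V) ∧
      (II π (Psi hC μ ξ b r) = Y + (fun g => conj (V g)) - W) ∧
      (∀ (l : Fin r) (i : Fin (r / 2)), classInner (PhiG π hC μ θ r l i) Y =
        if l = ⟨r / 4, quarter_lt hD hr⟩ then 1 else 0) ∧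
      X 1 = (ε * q) ^ 3 ∧ Y 1 = (ε * q) ^ 2 + ε * q + 1 ∧
      X t = ε * q ∧ (∀ i, L i t = 1 - ε * q) ∧
      ((Subgroup.centralizer ({t} : Set G)).index : ℂ) =
        (kap π u : ℂ) ^ 2 * ((ε * q) ^ 2 * ((ε * q) ^ 2 + ε * q + 1)) := by
  have h0 := two_r hD
  have h4 := r_four hr
  have hε : ε = 1 ∨ ε = -1 := hC.torus.sign
  obtain ⟨X, L, hs⟩ := exists_split h hD hr hθ hμ
  obtain ⟨Y, V, W, hY, hV, hW, hYV, hYW, hYi⟩ := exists_YVW' h hD hr hξ hθ hμ hs
  have i₀ : Fin (r / 2) := ⟨0, by omega⟩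
  have hXt : X t = ε * q := value_X h hD hr hξ hθ hμ hM hs i₀ (Phi_z hθ _ _)
  have hLt : ∀ i, L i t = 1 - ε * q := fun i => value_L h hD hr hξ hθ hμ hM hs i
  have hB := fun i => inB_of_split hM hs.sX (hs.sL i) (hs.eq i)
    (fun g hg => PhiG_odd h hD hθ hμ _ i hg)
  -- degrees
  obtain ⟨f, hf0, hf⟩ := signed_degree hs.sX
  obtain ⟨y, hy0, hy⟩ := signed_degree hY
  obtain ⟨vv, hvv0, hvv⟩ := signed_degree hV
  obtain ⟨ww, hww0, hww⟩ := signed_degree hW
  have hL1 : L i₀ 1 = f - 1 := by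
    have h1 := congrFun (hs.eq i₀) 1
    simp only [Pi.add_apply, Pi.sub_apply, Pi.one_apply] at h1
    rw [PhiG_odd h hD hθ hμ _ i₀ (by rw [orderOf_one]; exact odd_one), hf] at h1
    linear_combination -h1
  have hf1 : f ≠ 1 := by
    rintro rfl
    exact (hs.sL i₀).apply_one_ne_zero (by rw [hL1]; norm_num)
  have hdiff : (-1 + X + Y - V : G → ℂ) = PhiG π hC μ θ r ⟨r / 4, quarter_lt hD hr⟩ i₀ -
      PhiG π hC μ θ r ⟨0, two_r hD⟩ i₀ := by
    rw [hYV i₀]; abel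
  obtain ⟨hYB, hVB⟩ := inB_YV hM (hB i₀).1 (by rw [hf]; exact_mod_cast hf1) hY hV (by
    intro g hg
    rw [hdiff, Pi.sub_apply, PhiG_odd h hD hθ hμ _ i₀ hg, PhiG_odd h hD hθ hμ _ i₀ hg, sub_zero])
  have hv1 : (vv : ℂ) = y + f - 1 := by
    have h1 := congrFun hdiff 1
    simp only [Pi.add_apply, Pi.sub_apply, Pi.neg_apply, Pi.one_apply, hf, hy, hvv] at h1
    rw [PhiG_odd h hD hθ hμ _ i₀ (by rw [orderOf_one]; exact odd_one),
      PhiG_odd h hD hθ hμ _ i₀ (by rw [orderOf_one]; exact odd_one)] at h1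
    linear_combination -h1
  have hvz : vv = y + f - 1 := by exact_mod_cast hv1
  have hcV1 : conj (V 1) = V 1 := by rw [hvv]; exact map_intCast _ _
  have hw1 : (ww : ℂ) = 2 * y + f - 1 := by
    have h1 := congrFun hYW 1
    rw [(psi_facts h hD hr hξ hθ hμ).2.1] at h1
    simp only [Pi.add_apply, Pi.sub_apply, hcV1] at h1
    rw [hy, hvv, hww, hv1] at h1
    linear_combination h1
  have hwz : ww = 2 * y + f - 1 := by exact_mod_cast hw1
  -- values
  have ht2 : t ^ 2 = 1 := by rw [sq]; exact t_mul_t h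
  obtain ⟨A, hA⟩ := signed_invol hY ht2
  obtain ⟨B, hBt⟩ := signed_invol hV ht2
  have hPt : ∀ l i, PhiG π hC μ θ r l i t = 2 * (1 - ε * q) := by
    intro l i
    rw [PhiG_apply, II_t h (isClassFunction_Phi _ _) (fun c hc => Phi_supp' hD hθ hμ _ _ hc),
      Phi_z hθ]
  have hBA : (B : ℂ) = A + ε * q - 1 := by
    have h1 := congrFun hdiff t
    simp only [Pi.add_apply, Pi.sub_apply, Pi.neg_apply, Pi.one_apply, hA, hBt, hXt, hPt] at h1
    linear_combination -h1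
  have hcVt : conj (V t) = V t := by rw [hBt]; exact map_intCast _ _
  have hWt : W t = 2 * A + ε * q - 1 := by
    have h1 := congrFun hYW t
    rw [(psi_facts h hD hr hξ hθ hμ).2.2.2.2.2] at h1
    simp only [Pi.add_apply, Pi.sub_apply, hcVt] at h1
    rw [hA, hBt, hBA] at h1
    linear_combination h1
  -- the congruence for `A`
  have hA' : ∃ k : ℤ, A = 1 + (ε * q + 1) * k := by
    obtain ⟨v, hv⟩ := hμ
    have hv1 : (v : C) ≠ 1 := by
      intro h1
      apply hv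
      have : v = 1 := Subtype.ext h1
      rw [this, map_one]
    obtain ⟨x, hx⟩ := h.surj (z * v)
    have h1 := value_Y h hD hr hθ ⟨v, hv⟩ hM hYB hYi v.2 hv1 hx
    have hQ1 : ((ε : ℂ) * q + 1) ≠ 0 := by
      have h2 : ε * q + 1 ≠ 0 := by
        rcases hε with rfl | rfl <;> omega
      exact_mod_cast h2
    obtain ⟨k, hk⟩ := exists_int_of_isIntegral (signed_isIntegral hY (x : G))
      ⟨((A - 1 : ℤ) : ℚ) / ((ε * q + 1 : ℤ) : ℚ) + 1, by
        rw [hA] at h1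
        push_cast
        field_simp
        linear_combination -h1⟩
    refine ⟨k - 1, ?_⟩
    rw [hA, hk] at h1
    exact_mod_cast h1
  obtain ⟨k, hk⟩ := hA'
  -- the class formulas
  have hidx : ((Subgroup.centralizer ({t} : Set G)).index : ℂ) ≠ 0 := by
    have : (Subgroup.centralizer ({t} : Set G)).index ≠ 0 := Subgroup.index_ne_zero_of_finite
    exact_mod_cast this
  have hkap : (kap π u : ℂ) ≠ 0 := by
    have := (kap_odd h hC).pos
    exact_mod_cast this.ne'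
  have hee : (ε : ℂ) * ε = 1 := by
    rcases hε with h1 | h1 <;> rw [h1] <;> norm_num
  have F1 := class_three h hC (f := Phi hC μ θ 0 i₀) (c₁ := 1) (c₂ := -1) (c₃ := 1)
    (fun c hc => Phi_supp' hD hθ hμ _ _ hc) signedIrr_one hs.sX (hs.sL i₀) (by
      have h1 := hs.eq i₀
      rw [PhiG_apply] at h1
      rw [h1]
      module)
  have F2 := class_three h hC (f := Phi hC μ θ (r / 4) i₀) (c₁ := 1) (c₂ := 1) (c₃ := -1)
    (fun c hc => Phi_supp' hD hθ hμ _ _ hc) (hs.sL i₀) hY hV (by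
      have h1 := hYV i₀
      rw [hs.eq i₀, PhiG_apply] at h1
      rw [h1]
      module)
  have F3 := class_three h hC (f := Psi hC μ ξ b r) (c₁ := 1) (c₂ := 1) (c₃ := -1)
    (fun c hc => Psi_supp hD hr hξ hθ hμ hc) hY (signed_cj hV) hW (by
      rw [hYW]
      show Y + cj V - W = _
      module)
  rw [pairSum_Phi hD hθ hμ] at F1 F2
  rw [pairSum_Psi hD hr hξ hθ hμ] at F3
  rw [hXt, hLt, hf, hL1] at F1
  rw [hLt, hL1, hy, hA, hvv, hBt, hBA, hv1] at F2
  rw [cj_apply, cj_apply, hcV1, hcVt, hy, hA, hvv, hBt, hBA, hv1, hWt, hww, hw1] at F3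
  simp only [Pi.one_apply] at F1
  have hQ : 3 ≤ |ε * (q : ℤ)| := by
    rcases hε with rfl | rfl
    · rw [one_mul, Nat.abs_cast]; exact_mod_cast hq
    · rw [neg_one_mul, abs_neg, Nat.abs_cast]; exact_mod_cast hq
  have e1 : -1 + ((ε * q : ℤ) : ℂ) ^ 2 / f + (A : ℂ) ^ 2 / y -
      (A + (ε * q : ℤ) - 1 : ℂ) ^ 2 / (y + f - 1) = 0 := by
    refine (mul_eq_zero.1 (?_ : ((Subgroup.centralizer ({t} : Set G)).index : ℂ) * _ = 0)).resolve_left hidx
    push_cast
    linear_combination F2 - F1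
  have e2 : (((Subgroup.centralizer ({t} : Set G)).index : ℂ) / (kap π u : ℂ) ^ 2) *
      ((A : ℂ) ^ 2 / y + (A + (ε * q : ℤ) - 1 : ℂ) ^ 2 / (y + f - 1) -
      (2 * A + (ε * q : ℤ) - 1 : ℂ) ^ 2 / (2 * y + f - 1)) =
      (ε * q : ℤ) * (((ε * q : ℤ) : ℂ) ^ 2 - 1) * ((ε * q : ℤ) - 1) := by
    rw [div_mul_eq_mul_div, div_eq_iff (pow_ne_zero 2 hkap)]
    push_cast
    linear_combination F3 + (kap π u : ℂ) ^ 2 * (-(q : ℂ) ^ 2 * ((ε : ℂ) ^ 2 * q ^ 2 - 1) - q ^ 2 * q ^ 2 + ε * q ^ 3) * hee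
  have e3 : (((Subgroup.centralizer ({t} : Set G)).index : ℂ) / (kap π u : ℂ) ^ 2) *
      (1 - ((ε * q : ℤ) : ℂ) ^ 2 / f + (1 - (ε * q : ℤ) : ℂ) ^ 2 / (f - 1)) =
      (ε * q : ℤ) * (((ε * q : ℤ) : ℂ) ^ 2 - 1) * ((ε * q : ℤ) + 1) := by
    rw [div_mul_eq_mul_div, div_eq_iff (pow_ne_zero 2 hkap)]
    push_cast
    linear_combination F1 + (kap π u : ℂ) ^ 2 * (-(q : ℂ) ^ 2 * ((ε : ℂ) ^ 2 * q ^ 2 - 1) - q ^ 2 * q ^ 2 - ε * q ^ 3) * hee
  obtain ⟨r1, r2, r3⟩ := WreathedNum.num hQ hf0 hf1 hy0 (by rw [← hvz]; exact hvv0)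
    (by rw [← hwz]; exact hww0) hk e1 e2 e3
  refine ⟨X, L, Y, V, W, hs, hY, hV, hW, (hB i₀).1, fun i => (hB i).2, hYB, hVB, hYV, hYW, hYi,
    ?_, ?_, hXt, hLt, ?_⟩
  · rw [hf, r1]; push_cast; ring
  · rw [hy, r3]; push_cast; ring
  · rw [div_eq_iff (pow_ne_zero 2 hkap)] at r2
    rw [r2]; push_cast; ring

/-- **The index of the centralizer of an involution, wreathed case, odd kernel.** -/
theorem index_eq (h : Hyp t z π) (hC : CHyp z q ε Z T T' U s s' u)
    (hD : DetHyp q ε T T' U s s' u r b) (hr : 4 ∣ r) (hq : 3 ≤ q) :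
    ((Subgroup.centralizer ({t} : Set G)).index : ℤ) =
      (kap π u : ℤ) ^ 2 * ((ε * q) ^ 2 * ((ε * q) ^ 2 + ε * q + 1)) := by
  obtain ⟨M, hM⟩ := Blocks.ExistsModular.exists_isPModular Nat.prime_two
  obtain ⟨μ, hμ⟩ := hC.base.exists_mu
  obtain ⟨ξ, hξ⟩ := exists_xiHyp hC hD
  obtain ⟨θ, hθ⟩ := exists_thetaHyp hC hD hr
  obtain ⟨X, L, Y, V, W, -, -, -, -, -, -, -, -, -, -, -, -, -, -, -, h1⟩ :=
    main h hD hr hq hξ hθ hμ hM
  exact_mod_cast h1

/-- **The index of the centralizer of an involution, wreathed case.** -/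
theorem index_eq' (h : Hyp t z π) (hinj : Function.Injective π)
    (hC : CHyp z q ε Z T T' U s s' u) (hD : DetHyp q ε T T' U s s' u r b) (hr : 4 ∣ r)
    (hq : 3 ≤ q) : ((Subgroup.centralizer ({t} : Set G)).index : ℤ) =
      (ε * q) ^ 2 * ((ε * q) ^ 2 + ε * q + 1) := by
  rw [index_eq h hC hD hr hq, kap_eq_one h hC hinj]
  ring

end Final

end Cfsg.Agent.Classification.InvCent.Wreathed
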