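import Mathlib
import Cfsg.Agent.Classification.InvCent.Wreathed
import Cfsg.Agent.Classification.InvCent.SDEnd

/-!
# Wreathed case: the index for `C = C_G(t)`
-/

set_option autoImplicit false

open Cfsg

namespace Cfsg.Agent.Classification.InvCent.WrEnd

open Cfsg.Agent.Classification.InvCent

universe u

variable {G : Type u} [Group G] {t₀ : G} {t : Subgroup.centralizer ({t₀} : Set G)} {q : ℕ} {ε : ℤ}
  {Z T T' U : Subgroup (Subgroup.centralizer ({t₀} : Set G))}
  {s s' u : Subgroup.centralizer ({t₀} : Set G)} {r : ℕ}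
  {b : Subgroup.centralizer ({t₀} : Set G) →* ℂˣ}

theorem four_dvd (hD : DetHyp q ε T T' U s s' u r b) (h4 : (4 : ℤ) ∣ q - ε) : 4 ∣ r := by
  obtain ⟨k, hk, hqk⟩ := hD.r_dvd
  rw [hqk] at h4
  have h1 : IsCoprime (4 : ℤ) k := by
    have h2 : IsCoprime (2 : ℤ) k := by
      obtain ⟨l, rfl⟩ := hk
      exact ⟨-l, 1, by ring⟩
    have h3 := h2.pow_left (m := 2)
    norm_num at h3
    exact h3
  have h2 := h1.dvd_of_dvd_mul_right h4
  exact_mod_cast h2

/-- **The index of the centralizer of an involution, wreathed case.** -/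
theorem index_eq [Finite G] [IsSimpleGroup G] (ht : (t : G) = t₀)
    (h : CHyp t q ε Z T T' U s s' u) (hD : DetHyp q ε T T' U s s' u r b)
    (h4 : (4 : ℤ) ∣ q - ε) (hq : 3 ≤ q) :
    ((Subgroup.centralizer ({t₀} : Set G)).index : ℤ) =
      (ε * q) ^ 2 * ((ε * q) ^ 2 + ε * q + 1) := by
  let _ : Fintype G := Fintype.ofFinite G
  let _ : Fintype (Subgroup.centralizer ({t₀} : Set G)) := Fintype.ofFinite _
  exact Wreathed.index_eq' (SDEnd.hyp ht h) Function.injective_id h hD (four_dvd hD h4) hq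

end Cfsg.Agent.Classification.InvCent.WrEnd
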