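import Mathlib
import Cfsg.Prelude.Def_LieClassical
import Cfsg.Agent.TwoFusion.GUTwo
import Cfsg.Agent.Classification.InvCent.GLTwo

/-!
# `GU₂(q)`, `q` odd: tori, root group, conjugacy classes

`F` is the field with `q²` elements, `σ x = x ^ q`, `κ * σ κ = -1`.

* the torus `T` of order `(q+1)²` is `GLTwo.Tor` cut with `GU 2 F q`;
* the torus `T'` of order `q²-1` is `GLTwo.Tns (κ⁻²)` cut with `GU 2 F q`, its elements are `tp a`;
* the root group is `{uq μ : σ μ = -μ}`.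
-/

set_option autoImplicit false
set_option linter.unusedSectionVars false

open Matrix

namespace Cfsg.Agent.Classification.InvCent.GUTwo

open GLTwo

/-- The parameters. -/
structure Par (F : Type*) [Field F] [Fintype F] (q : ℕ) (σ : F →+* F) (κ : Fˣ) : Prop where
  card : Fintype.card F = q ^ 2
  odd : Odd q
  sig : ∀ x, σ x = x ^ q
  kap : (κ : F) * σ κ = -1

variable {F : Type*} [Field F] [Fintype F] {q : ℕ} {σ : F →+* F} {κ : Fˣ}

theorem exists_par (hF : Fintype.card F = q ^ 2) (hq : Odd q) :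
    ∃ (σ : F →+* F) (κ : Fˣ), Par F q σ κ := by
  have h2 := Cfsg.Agent.TwoFusion.GUTwo.two_le hF
  let σ : F →+* F :=
    { toFun := fun x => x ^ q
      map_one' := one_pow q
      map_mul' := fun x y => mul_pow x y q
      map_zero' := zero_pow (by omega)
      map_add' := fun x y => Cfsg.Agent.TwoFusion.GUTwo.add_pow_q hF x y }
  obtain ⟨k, hk⟩ := Cfsg.Agent.TwoFusion.GUTwo.exists_norm_eq hF (k := (-1 : F))
    (by simp) (by rw [hq.neg_one_pow])
  have hk0 : k ≠ 0 := by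
    rintro rfl
    rw [zero_pow (by omega)] at hk
    have h3 : (1 : F) = 0 := by linear_combination hk
    exact one_ne_zero h3
  refine ⟨σ, Units.mk0 k hk0, hF, hq, fun x => rfl, ?_⟩
  change k * k ^ q = -1
  rw [← hk, pow_succ']

theorem Par.two_ne_zero (P : Par F q σ κ) : (2 : F) ≠ 0 := by
  apply Ring.two_ne_zero
  intro h
  have h1 := FiniteField.even_card_iff_char_two.mp h
  rw [P.card] at h1
  have h2 := Nat.odd_iff.mp (P.odd.pow (n := 2))
  omega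

theorem Par.invol (P : Par F q σ κ) (x : F) : σ (σ x) = x := by
  rw [P.sig, P.sig, Cfsg.Agent.TwoFusion.GUTwo.pow_q_pow_q P.card]

theorem Par.sig_kap (P : Par F q σ κ) : σ κ = -(κ : F)⁻¹ := by
  have h := P.kap
  have hk : (κ : F) ≠ 0 := κ.ne_zero
  field_simp
  linear_combination h

theorem Par.norm_surj (P : Par F q σ κ) {k : F} (hk0 : k ≠ 0) (hk : σ k = k) :
    ∃ a : F, a * σ a = k := by
  rw [P.sig] at hk
  obtain ⟨a, ha⟩ := Cfsg.Agent.TwoFusion.GUTwo.exists_norm_eq P.card hk0 hk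
  exact ⟨a, by rw [P.sig, ← ha, pow_succ']⟩

theorem Par.pow_succ_eq (P : Par F q σ κ) (x : F) : x ^ (q + 1) = x * σ x := by
  rw [P.sig, pow_succ']

theorem Par.two_le (P : Par F q σ κ) : 2 ≤ q := Cfsg.Agent.TwoFusion.GUTwo.two_le P.card

theorem Par.mem_iff (P : Par F q σ κ) {g : GL (Fin 2) F} :
    g ∈ Cfsg.GU 2 F q ↔ g.1 0 0 * σ (g.1 0 0) + g.1 1 0 * σ (g.1 1 0) = 1 ∧
       g.1 0 1 * σ (g.1 0 1) + g.1 1 1 * σ (g.1 1 1) = 1 ∧
       g.1 0 0 * σ (g.1 0 1) + g.1 1 0 * σ (g.1 1 1) = 0 := by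
  simp only [P.sig]
  exact Cfsg.Agent.TwoFusion.GUTwo.mem_iff P.card g

/-- Entries of the inverse. -/
theorem Par.entries (P : Par F q σ κ) {g : GL (Fin 2) F} (hg : g ∈ Cfsg.GU 2 F q) :
    σ (g.1 0 0) * (g.1 0 0 * g.1 1 1 - g.1 0 1 * g.1 1 0) = g.1 1 1 ∧
    σ (g.1 0 1) * (g.1 0 0 * g.1 1 1 - g.1 0 1 * g.1 1 0) = -g.1 1 0 ∧
    σ (g.1 1 0) * (g.1 0 0 * g.1 1 1 - g.1 0 1 * g.1 1 0) = -g.1 0 1 ∧
    σ (g.1 1 1) * (g.1 0 0 * g.1 1 1 - g.1 0 1 * g.1 1 0) = g.1 0 0 := by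
  obtain ⟨h1, h2, h3⟩ := P.mem_iff.mp hg
  have h4 : g.1 0 1 * σ (g.1 0 0) + g.1 1 1 * σ (g.1 1 0) = 0 := by
    have := congrArg σ h3
    rw [map_add, map_mul, map_mul, P.invol, P.invol, map_zero] at this
    linear_combination this
  refine ⟨?_, ?_, ?_, ?_⟩
  · linear_combination (g.1 1 1) * h1 - (g.1 1 0) * h4
  · linear_combination (g.1 1 1) * h3 - (g.1 1 0) * h2
  · linear_combination (g.1 0 0) * h4 - (g.1 0 1) * h1
  · linear_combination (g.1 0 0) * h2 - (g.1 0 1) * h3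

/-- The determinant has norm one. -/
theorem Par.det_norm (P : Par F q σ κ) {g : GL (Fin 2) F} (hg : g ∈ Cfsg.GU 2 F q) :
    (g.1 0 0 * g.1 1 1 - g.1 0 1 * g.1 1 0) * σ (g.1 0 0 * g.1 1 1 - g.1 0 1 * g.1 1 0) = 1 := by
  obtain ⟨h1, h2, h3, h4⟩ := P.entries hg
  have hd := det_ne g
  rw [map_sub, map_mul, map_mul]
  apply (mul_right_inj' hd).mp
  linear_combination (σ (g.1 1 1) * (g.1 0 0 * g.1 1 1 - g.1 0 1 * g.1 1 0)) * h1 +
    (g.1 1 1) * h4 - (σ (g.1 1 0) * (g.1 0 0 * g.1 1 1 - g.1 0 1 * g.1 1 0)) * h2 +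
    (g.1 1 0) * h3

theorem Par.dg_mem (P : Par F q σ κ) {a b : Fˣ} :
    dg a b ∈ Cfsg.GU 2 F q ↔ (a : F) * σ a = 1 ∧ (b : F) * σ b = 1 := by
  rw [P.mem_iff]
  simp

theorem Par.sg_mem (P : Par F q σ κ) : (sg : GL (Fin 2) F) ∈ Cfsg.GU 2 F q := by
  rw [sg, P.dg_mem]
  simp

theorem Par.wt_mem (P : Par F q σ κ) : (wt : GL (Fin 2) F) ∈ Cfsg.GU 2 F q := by
  rw [P.mem_iff]
  simp

/-- The centre of `GU₂(q)`. -/
theorem Par.mem_center_iff (P : Par F q σ κ) (g : Cfsg.GU 2 F q) :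
    g ∈ Subgroup.center (Cfsg.GU 2 F q) ↔ (g : GL (Fin 2) F) ∈ Subgroup.center (GL (Fin 2) F) := by
  constructor
  · intro h
    have h1 := congrArg Subtype.val (Subgroup.mem_center_iff.mp h ⟨sg, P.sg_mem⟩)
    have h2 := congrArg Subtype.val (Subgroup.mem_center_iff.mp h ⟨wt, P.wt_mem⟩)
    have h3 : (g : GL (Fin 2) F) ∈ (Tor : Subgroup (GL (Fin 2) F)) := by
      rw [Tor, Subgroup.mem_centralizer_singleton_iff]
      exact h1.symm
    obtain ⟨a, b, hab⟩ := exists_dg P.two_ne_zero h3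
    have h4 : wt * dg a b * wt⁻¹ = dg a b := by
      rw [mul_inv_eq_iff_eq_mul, ← hab]
      exact h2
    rw [wt_conj] at h4
    rw [hab, dg_mem_center, (dg_injective h4).1]
  · intro h
    rw [Subgroup.mem_center_iff]
    intro x
    exact Subtype.ext (Subgroup.mem_center_iff.mp h x)

/-! ### The torus `T'` -/

/-- `κ⁻²` -/
noncomputable def dk (κ : Fˣ) : Fˣ := κ⁻¹ * κ⁻¹

omit [Fintype F] in
theorem tp_aux (h2 : (2 : F) ≠ 0) (a b κ : Fˣ) :
    ((a + b : F) / 2) * ((a + b : F) / 2) - ((a - b : F) / 2 * (κ : F)⁻¹) * ((a - b : F) / 2 * κ) ≠ 0 := by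
  have hk : (κ : F) ≠ 0 := κ.ne_zero
  have : ((a + b : F) / 2) * ((a + b : F) / 2) -
      ((a - b : F) / 2 * (κ : F)⁻¹) * ((a - b : F) / 2 * κ) = a * b := by
    field_simp
    ring
  rw [this]
  exact mul_ne_zero a.ne_zero b.ne_zero

/-- The matrix with eigenvalues `a` on `(1,κ)` and `b` on `(1,-κ)`. -/
noncomputable def tq (h2 : (2 : F) ≠ 0) (κ a b : Fˣ) : GL (Fin 2) F :=
  mk2 ((a + b) / 2) ((a - b) / 2 * (κ : F)⁻¹) ((a - b) / 2 * κ) ((a + b) / 2) (tp_aux h2 a b κ)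

section

variable (h2 : (2 : F) ≠ 0) (κ a b : Fˣ)

@[simp] theorem tq00 : (tq h2 κ a b).1 0 0 = (a + b : F) / 2 := rfl
@[simp] theorem tq01 : (tq h2 κ a b).1 0 1 = (a - b : F) / 2 * (κ : F)⁻¹ := rfl
@[simp] theorem tq10 : (tq h2 κ a b).1 1 0 = (a - b : F) / 2 * κ := rfl
@[simp] theorem tq11 : (tq h2 κ a b).1 1 1 = (a + b : F) / 2 := rfl

omit [Fintype F] in
theorem tq_mem : tq h2 κ a b ∈ Tns (dk κ) := by
  rw [mem_Tns]
  have hk : (κ : F) ≠ 0 := κ.ne_zero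
  refine ⟨rfl, ?_⟩
  simp only [tq01, tq10, dk, Units.val_mul, Units.val_inv_eq_inv_val]
  field_simp

end

theorem Par.tq_mem_GU (P : Par F q σ κ) {a b : Fˣ} (hab : (a : F) * σ b = 1) :
    tq P.two_ne_zero κ a b ∈ Cfsg.GU 2 F q := by
  have h2 := P.two_ne_zero
  have hk : (κ : F) ≠ 0 := κ.ne_zero
  have hsk := P.sig_kap
  have hba : σ a * (b : F) = 1 := by
    have := congrArg σ hab
    rwa [map_mul, P.invol, map_one] at this
  rw [P.mem_iff]
  simp only [tq00, tq01, tq10, tq11, map_mul, map_div₀, map_add, map_sub, map_inv₀, hsk, map_ofNat]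
  refine ⟨?_, ?_, ?_⟩
  · field_simp
    linear_combination 2 * hab + 2 * hba
  · field_simp
    linear_combination 2 * hab + 2 * hba
  · field_simp
    linear_combination (2 * κ : F) * hab - (2 * κ : F) * hba

theorem det_tq (h2 : (2 : F) ≠ 0) (κ a b : Fˣ) :
    GeneralLinearGroup.det (tq h2 κ a b) = a * b := by
  have hk : (κ : F) ≠ 0 := κ.ne_zero
  ext
  rw [GeneralLinearGroup.val_det_apply, det_fin_two]
  simp only [tq00, tq01, tq10, tq11, Units.val_mul]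
  field_simp
  ring

theorem tq_injective (h2 : (2 : F) ≠ 0) (κ : Fˣ) {a b a' b' : Fˣ}
    (h : tq h2 κ a b = tq h2 κ a' b') : a = a' ∧ b = b' := by
  have hk : (κ : F) ≠ 0 := κ.ne_zero
  have e1 := congrArg (fun g : GL (Fin 2) F => g.1 0 0) h
  have e2 := congrArg (fun g : GL (Fin 2) F => g.1 1 0) h
  simp only [tq00, tq10] at e1 e2
  have e3 : (a - b : F) / 2 = (a' - b') / 2 := mul_right_cancel₀ hk e2
  have e4 : (a + b : F) = a' + b' := (div_left_inj' h2).mp e1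
  have e5 : (a - b : F) = a' - b' := (div_left_inj' h2).mp e3
  constructor
  · apply Units.ext
    apply (mul_right_inj' h2).mp
    linear_combination e4 + e5
  · apply Units.ext
    apply (mul_right_inj' h2).mp
    linear_combination e4 - e5

/-- The elements of `T'`. -/
theorem Par.exists_tq (P : Par F q σ κ) {g : GL (Fin 2) F} (hg : g ∈ Cfsg.GU 2 F q)
    (hT : g ∈ Tns (dk κ)) : ∃ a b : Fˣ, (a : F) * σ b = 1 ∧ g = tq P.two_ne_zero κ a b := by
  have h2 := P.two_ne_zero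
  have hk : (κ : F) ≠ 0 := κ.ne_zero
  have hsk := P.sig_kap
  obtain ⟨h1, -, h3⟩ := P.mem_iff.mp hg
  obtain ⟨t1, t2⟩ := (mem_Tns _).mp hT
  simp only [dk, Units.val_mul, Units.val_inv_eq_inv_val] at t2
  rw [t2, ← t1, map_mul, map_mul, map_inv₀, hsk, inv_neg, inv_inv] at h3
  have key : (g.1 0 0 + g.1 1 0 * (κ : F)⁻¹) * σ (g.1 0 0 - g.1 1 0 * (κ : F)⁻¹) = 1 := by
    rw [map_sub, map_mul, map_inv₀, hsk, inv_neg, inv_inv]
    field_simp
    linear_combination (κ : F) * h1 + h3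
  have ha : (g.1 0 0 + g.1 1 0 * (κ : F)⁻¹) ≠ 0 := left_ne_zero_of_mul_eq_one key
  have hb : (g.1 0 0 - g.1 1 0 * (κ : F)⁻¹) ≠ 0 := by
    intro h0
    rw [h0, map_zero, mul_zero] at key
    exact zero_ne_one key
  refine ⟨Units.mk0 _ ha, Units.mk0 _ hb, key, ?_⟩
  apply ext2
  · simp only [tq00, Units.val_mk0]
    field_simp
    ring
  · simp only [tq01, Units.val_mk0, t2]
    field_simp
    ring
  · simp only [tq10, Units.val_mk0]
    field_simp
    ring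
  · simp only [tq11, Units.val_mk0, ← t1]
    field_simp
    ring

/-- `σ` on units, inverted -/
noncomputable def sa (σ : F →+* F) (a : Fˣ) : Fˣ := (Units.map (σ : F →* F) a)⁻¹

theorem sa_val (σ : F →+* F) (a : Fˣ) : ((sa σ a : Fˣ) : F) = (σ a)⁻¹ := by
  rw [sa, Units.val_inv_eq_inv_val]; rfl

theorem Par.sa_spec (P : Par F q σ κ) (a : Fˣ) : (a : F) * σ (sa σ a) = 1 := by
  rw [sa_val, map_inv₀, P.invol, mul_inv_cancel₀ a.ne_zero]

theorem Par.eq_sa (P : Par F q σ κ) {a b : Fˣ} (h : (a : F) * σ b = 1) : b = sa σ a := by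
  have := congrArg σ h
  rw [map_mul, P.invol, map_one] at this
  apply Units.ext
  rw [sa_val]
  exact eq_inv_of_mul_eq_one_right this

/-- element of `T'` with eigenvalue `a` on `(1,κ)` -/
noncomputable def Par.tp (P : Par F q σ κ) (a : Fˣ) : GL (Fin 2) F :=
  tq P.two_ne_zero κ a (sa σ a)

theorem Par.tp_mem (P : Par F q σ κ) (a : Fˣ) : P.tp a ∈ Cfsg.GU 2 F q :=
  P.tq_mem_GU (P.sa_spec a)

theorem Par.tp_mem_Tns (P : Par F q σ κ) (a : Fˣ) : P.tp a ∈ Tns (dk κ) := tq_mem _ _ _ _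

theorem Par.card_T' (P : Par F q σ κ) :
    Nat.card ((Tns (dk κ)).subgroupOf (Cfsg.GU 2 F q)) = Nat.card Fˣ := by
  refine (Nat.card_congr (Equiv.ofBijective (fun a : Fˣ =>
    (⟨⟨P.tp a, P.tp_mem a⟩, P.tp_mem_Tns a⟩ : (Tns (dk κ)).subgroupOf (Cfsg.GU 2 F q))) ⟨?_, ?_⟩)).symm
  · intro a b h
    have h1 : P.tp a = P.tp b := congrArg Subtype.val (congrArg Subtype.val h)
    exact (tq_injective _ _ h1).1
  · rintro ⟨⟨g, hg⟩, hT⟩
    obtain ⟨a, b, hab, rfl⟩ := P.exists_tq hg hT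
    refine ⟨a, ?_⟩
    apply Subtype.ext
    apply Subtype.ext
    change P.tp a = tq P.two_ne_zero κ a b
    rw [Par.tp, P.eq_sa hab]

/-- `T'` is cyclic. -/
theorem Par.isCyclic_T' (P : Par F q σ κ) :
    IsCyclic ((Tns (dk κ)).subgroupOf (Cfsg.GU 2 F q)) := by
  have hk : (κ : F) ≠ 0 := κ.ne_zero
  let f : (Tns (dk κ)).subgroupOf (Cfsg.GU 2 F q) →* F :=
    { toFun := fun g => g.1.1.1 0 0 + g.1.1.1 1 0 * (κ : F)⁻¹
      map_one' := by simp
      map_mul' := by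
        rintro ⟨⟨x, hx⟩, hxT⟩ ⟨⟨y, hy⟩, hyT⟩
        obtain ⟨x1, x2⟩ := (mem_Tns _).mp (Subgroup.mem_subgroupOf.mp hxT)
        simp only [dk, Units.val_mul, Units.val_inv_eq_inv_val] at x1 x2
        change (x * y).1 0 0 + (x * y).1 1 0 * (κ : F)⁻¹ = (x.1 0 0 + x.1 1 0 * (κ : F)⁻¹) *
          (y.1 0 0 + y.1 1 0 * (κ : F)⁻¹)
        rw [m00, m10, x2, ← x1]
        field_simp
        ring }
  have hf : Function.Injective f := by
    rw [injective_iff_map_eq_one]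
    rintro ⟨⟨g, hg⟩, hT⟩ h1
    obtain ⟨a, b, hab, rfl⟩ := P.exists_tq hg hT
    change (tq P.two_ne_zero κ a b).1 0 0 + (tq P.two_ne_zero κ a b).1 1 0 * (κ : F)⁻¹ = 1 at h1
    have h2 := P.two_ne_zero
    have ha : (a : F) = 1 := by
      rw [← h1, tq00, tq10]
      field_simp
      ring
    rw [ha, one_mul] at hab
    have hb : (b : F) = 1 := by
      have := congrArg σ hab
      rwa [P.invol, map_one] at this
    apply Subtype.ext
    apply Subtype.ext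
    change tq P.two_ne_zero κ a b = 1
    apply ext2
    · rw [tq00, ha, hb, one_add_one_eq_two, div_self h2, one00]
    · simp [ha, hb]
    · simp [ha, hb]
    · rw [tq11, ha, hb, one_add_one_eq_two, div_self h2, one11]
  exact isCyclic_of_injective_ringHom f hf

/-! ### Norm one elements -/

/-- The group of elements of norm one. -/
noncomputable def Nm (F : Type*) [Field F] (q : ℕ) : Subgroup Fˣ :=
  (powMonoidHom (q + 1) : Fˣ →* Fˣ).ker

theorem Par.mem_Nm (P : Par F q σ κ) {a : Fˣ} : a ∈ Nm F q ↔ (a : F) * σ a = 1 := by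
  rw [Nm, MonoidHom.mem_ker, powMonoidHom_apply, Units.ext_iff, Units.val_pow_eq_pow_val,
    P.pow_succ_eq, Units.val_one]

theorem Par.card_units (P : Par F q σ κ) : Nat.card Fˣ = (q - 1) * (q + 1) :=
  Cfsg.Agent.TwoFusion.GUTwo.card_units_eq P.card

theorem Par.card_Nm (P : Par F q σ κ) : Nat.card (Nm F q) = q + 1 := by
  rw [Nm, IsCyclic.card_powMonoidHom_ker, P.card_units, Nat.gcd_eq_right (Dvd.intro_left _ rfl)]

/-- Hilbert 90. -/
theorem Par.exists_pow (P : Par F q σ κ) {c : Fˣ} (hc : c ∈ Nm F q) :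
    ∃ a : Fˣ, a ^ (q - 1) = c := by
  have h2 := P.two_le
  have hcard := P.card_units
  have hle : (powMonoidHom (q - 1) : Fˣ →* Fˣ).range ≤ Nm F q := by
    rintro _ ⟨a, rfl⟩
    rw [Nm, MonoidHom.mem_ker]
    show (a ^ (q - 1)) ^ (q + 1) = 1
    rw [← pow_mul, ← hcard]
    exact pow_card_eq_one'
  have heq : (powMonoidHom (q - 1) : Fˣ →* Fˣ).range = Nm F q := by
    apply Subgroup.eq_of_le_of_card_ge hle
    rw [P.card_Nm, IsCyclic.card_powMonoidHom_range, hcard, Nat.gcd_eq_right (Dvd.intro _ rfl),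
      Nat.mul_div_cancel_left _ (by omega)]
  rw [← heq] at hc
  exact hc

theorem Par.pow_pred (P : Par F q σ κ) (a : Fˣ) : ((a ^ (q - 1) : Fˣ) : F) * a = σ a := by
  have h2 := P.two_le
  rw [Units.val_pow_eq_pow_val, ← pow_succ, P.sig]
  congr 1
  omega

/-- The determinant is onto on `T'`. -/
theorem Par.exists_T'_det (P : Par F q σ κ) {c : Fˣ} (hc : c ∈ Nm F q) :
    ∃ a : Fˣ, GeneralLinearGroup.det (P.tp a) = c := by
  obtain ⟨a, rfl⟩ := P.exists_pow hc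
  refine ⟨a⁻¹, ?_⟩
  rw [Par.tp, det_tq]
  have h := P.pow_pred a
  have ha : (a : F) ≠ 0 := a.ne_zero
  apply Units.ext
  rw [Units.val_mul, sa_val, Units.val_inv_eq_inv_val, map_inv₀, inv_inv, ← h]
  field_simp

theorem Par.card_T (P : Par F q σ κ) :
    Nat.card ((Tor : Subgroup (GL (Fin 2) F)).subgroupOf (Cfsg.GU 2 F q)) = (q + 1) * (q + 1) := by
  rw [← P.card_Nm, ← Nat.card_prod]
  refine (Nat.card_congr (Equiv.ofBijective (fun p : Nm F q × Nm F q =>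
    (⟨⟨dg p.1.1 p.2.1, P.dg_mem.mpr ⟨P.mem_Nm.mp p.1.2, P.mem_Nm.mp p.2.2⟩⟩,
      dg_mem_Tor P.two_ne_zero _ _⟩ :
        (Tor : Subgroup (GL (Fin 2) F)).subgroupOf (Cfsg.GU 2 F q))) ⟨?_, ?_⟩)).symm
  · rintro ⟨a, b⟩ ⟨a', b'⟩ h
    have h1 : dg a.1 b.1 = dg a'.1 b'.1 :=
      congrArg Subtype.val (congrArg Subtype.val h)
    have h2 := dg_injective h1
    exact Prod.ext (Subtype.ext h2.1) (Subtype.ext h2.2)
  · rintro ⟨⟨g, hg⟩, hT⟩
    obtain ⟨a, b, rfl⟩ := exists_dg P.two_ne_zero (Subgroup.mem_subgroupOf.mp hT)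
    have h1 := P.dg_mem.mp hg
    exact ⟨(⟨a, P.mem_Nm.mpr h1.1⟩, ⟨b, P.mem_Nm.mpr h1.2⟩), rfl⟩

theorem Par.card_center (P : Par F q σ κ) :
    Nat.card (Subgroup.center (Cfsg.GU 2 F q)) = q + 1 := by
  rw [← P.card_Nm]
  refine (Nat.card_congr (Equiv.ofBijective (fun p : Nm F q =>
    (⟨⟨dg p.1 p.1, P.dg_mem.mpr ⟨P.mem_Nm.mp p.2, P.mem_Nm.mp p.2⟩⟩,
      (P.mem_center_iff _).mpr (dg_mem_center.mpr rfl)⟩ :
        Subgroup.center (Cfsg.GU 2 F q))) ⟨?_, ?_⟩)).symm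
  · rintro a a' h
    have h1 : dg a.1 a.1 = dg a'.1 a'.1 :=
      congrArg Subtype.val (congrArg Subtype.val h)
    exact Subtype.ext (dg_injective h1).1
  · rintro ⟨⟨g, hg⟩, hT⟩
    rw [P.mem_center_iff] at hT
    obtain ⟨a, b, rfl⟩ := exists_dg P.two_ne_zero (center_le_Tor hT)
    have h2 := dg_mem_center.mp hT
    subst h2
    have h1 := P.dg_mem.mp hg
    exact ⟨⟨a, P.mem_Nm.mpr h1.1⟩, rfl⟩

theorem Par.card_GU (P : Par F q σ κ) :
    Nat.card (Cfsg.GU 2 F q) = (q + 1) * (q * (q - 1)) * (q + 1) :=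
  Cfsg.Agent.TwoFusion.GUTwo.card_GU2 P.card

/-! ### The root group -/

/-- `1 + μ [[1,-κ⁻¹],[κ,-1]]` -/
noncomputable def uq (κ : Fˣ) (μ : F) : GL (Fin 2) F :=
  mk2 (1 + μ) (-(μ * (κ : F)⁻¹)) (μ * κ) (1 - μ) (by
    have hk : (κ : F) ≠ 0 := κ.ne_zero
    have : (1 + μ) * (1 - μ) - -(μ * (κ : F)⁻¹) * (μ * κ) = 1 := by
      field_simp
      ring
    rw [this]
    exact one_ne_zero)

section

variable (κ : Fˣ) (μ : F)

@[simp] theorem uq00 : (uq κ μ).1 0 0 = 1 + μ := rfl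
@[simp] theorem uq01 : (uq κ μ).1 0 1 = -(μ * (κ : F)⁻¹) := rfl
@[simp] theorem uq10 : (uq κ μ).1 1 0 = μ * κ := rfl
@[simp] theorem uq11 : (uq κ μ).1 1 1 = 1 - μ := rfl

end

theorem uq_mul (κ : Fˣ) (μ ν : F) : uq κ μ * uq κ ν = uq κ (μ + ν) := by
  have hk : (κ : F) ≠ 0 := κ.ne_zero
  apply ext2
  · simp only [m00, uq00, uq01, uq10]
    field_simp
    ring
  · simp only [m01, uq00, uq01, uq11]
    field_simp
    ring
  · simp only [m10, uq00, uq10, uq11]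
    ring
  · simp only [m11, uq01, uq10, uq11]
    field_simp
    ring

theorem uq_zero (κ : Fˣ) : uq κ (0 : F) = 1 := by
  apply ext2 <;> simp

theorem uq_injective (κ : Fˣ) {μ ν : F} (h : uq κ μ = uq κ ν) : μ = ν := by
  have := congrArg (fun g : GL (Fin 2) F => g.1 0 0) h
  simpa using this

theorem det_uq (κ : Fˣ) (μ : F) : GeneralLinearGroup.det (uq κ μ) = 1 := by
  have hk : (κ : F) ≠ 0 := κ.ne_zero
  ext
  rw [GeneralLinearGroup.val_det_apply, det_fin_two]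
  simp only [uq00, uq01, uq10, uq11, Units.val_one]
  field_simp
  ring

theorem Par.uq_mem (P : Par F q σ κ) {μ : F} :
    uq κ μ ∈ Cfsg.GU 2 F q ↔ σ μ = -μ := by
  have hk : (κ : F) ≠ 0 := κ.ne_zero
  have hsk := P.sig_kap
  have h2 := P.two_ne_zero
  rw [P.mem_iff]
  simp only [uq00, uq01, uq10, uq11, map_mul, map_add, map_sub, map_neg, map_one, map_inv₀, hsk]
  constructor
  · rintro ⟨h1, -, -⟩
    field_simp at h1
    linear_combination h1
  · intro h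
    rw [h]
    refine ⟨?_, ?_, ?_⟩
    · field_simp
      ring
    · field_simp
      ring
    · field_simp
      ring

/-- The root group of `GU₂(q)`. -/
noncomputable def Ru (σ : F →+* F) (κ : Fˣ) : Subgroup (GL (Fin 2) F) where
  carrier := {g | ∃ μ : F, σ μ = -μ ∧ uq κ μ = g}
  mul_mem' := by
    rintro _ _ ⟨μ, hμ, rfl⟩ ⟨ν, hν, rfl⟩
    exact ⟨μ + ν, by rw [map_add, hμ, hν]; ring, (uq_mul κ μ ν).symm⟩
  one_mem' := ⟨0, by simp, uq_zero κ⟩
  inv_mem' := by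
    rintro _ ⟨μ, hμ, rfl⟩
    exact ⟨-μ, by rw [map_neg, hμ], by
      rw [eq_comm, inv_eq_iff_mul_eq_one, uq_mul, add_neg_cancel, uq_zero]⟩

theorem tq_mul_uq (h2 : (2 : F) ≠ 0) (κ a b : Fˣ) (μ : F) :
    tq h2 κ a b * uq κ μ = uq κ (a * (b : F)⁻¹ * μ) * tq h2 κ a b := by
  have hk : (κ : F) ≠ 0 := κ.ne_zero
  have hb : (b : F) ≠ 0 := b.ne_zero
  apply ext2
  · simp only [m00, uq00, uq01, uq10, tq00, tq01, tq10]
    field_simp
    ring
  · simp only [m01, uq00, uq01, uq11, tq00, tq01, tq11]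
    field_simp
    ring
  · simp only [m10, uq00, uq10, uq11, tq00, tq10, tq11]
    field_simp
    ring
  · simp only [m11, uq01, uq10, uq11, tq01, tq10, tq11]
    field_simp
    ring

/-- Fusion in the root group. -/
theorem Par.exists_conj_uq (P : Par F q σ κ) {μ ν : F} (hμ : σ μ = -μ) (hν : σ ν = -ν)
    (hμ0 : μ ≠ 0) (hν0 : ν ≠ 0) : ∃ a : Fˣ, P.tp a * uq κ μ * (P.tp a)⁻¹ = uq κ ν := by
  have hr : σ (ν / μ) = ν / μ := by
    rw [map_div₀, hμ, hν, neg_div_neg_eq]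
  obtain ⟨a, ha⟩ := P.norm_surj (div_ne_zero hν0 hμ0) hr
  have ha0 : a ≠ 0 := by
    rintro rfl
    rw [zero_mul] at ha
    exact (div_ne_zero hν0 hμ0) ha.symm
  refine ⟨Units.mk0 a ha0, ?_⟩
  rw [mul_inv_eq_iff_eq_mul, Par.tp, tq_mul_uq, sa_val, inv_inv, Units.val_mk0, ha,
    div_mul_cancel₀ _ hμ0]

/-- Centralizers of root elements. -/
theorem Par.exists_of_comm_uq (P : Par F q σ κ) {μ : F} (hμ0 : μ ≠ 0) {c : GL (Fin 2) F}
    (hc : c ∈ Cfsg.GU 2 F q) (h : c * uq κ μ = uq κ μ * c) :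
    ∃ z ∈ Nm F q, ∃ ν : F, σ ν = -ν ∧ c = dg z z * uq κ ν := by
  have hk : (κ : F) ≠ 0 := κ.ne_zero
  have hsk := P.sig_kap
  have h2 := P.two_ne_zero
  have e1 := congrArg (fun g : GL (Fin 2) F => g.1 0 0) h
  have e2 := congrArg (fun g : GL (Fin 2) F => g.1 0 1) h
  simp only [m00, m01, uq00, uq01, uq10, uq11] at e1 e2
  obtain ⟨ν, hν⟩ : ∃ ν, ν = c.1 1 0 * (κ : F)⁻¹ := ⟨_, rfl⟩
  have h10 : c.1 1 0 = ν * κ := by rw [hν]; field_simp
  have h01 : c.1 0 1 = -(ν * (κ : F)⁻¹) := by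
    apply (mul_right_inj' (mul_ne_zero hμ0 hk)).mp
    rw [h10] at e1
    have hkk : (κ : F) * (κ : F)⁻¹ = 1 := mul_inv_cancel₀ hk
    field_simp at e1
    linear_combination e1 + (μ * ν) * hkk
  obtain ⟨z, hz⟩ : ∃ z, z = c.1 1 1 + ν := ⟨_, rfl⟩
  have h11 : c.1 1 1 = z - ν := by rw [hz]; ring
  have h00 : c.1 0 0 = z + ν := by
    rw [h01, h11] at e2
    apply (mul_right_inj' hμ0).mp
    field_simp at e2
    linear_combination -e2
  obtain ⟨h1, -, h3⟩ := P.mem_iff.mp hc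
  have hn : z * σ z = 1 := by
    obtain ⟨-, h4, -⟩ := P.mem_iff.mp hc
    rw [h00, h10, map_add, map_mul, hsk] at h1
    rw [h01, h11, map_sub, map_neg, map_mul, map_inv₀, hsk] at h4
    field_simp at h1 h4
    apply (mul_right_inj' h2).mp
    linear_combination h1 + h4
  have hz0 : z ≠ 0 := left_ne_zero_of_mul_eq_one hn
  have hs : z * σ ν + ν * σ z = 0 := by
    rw [h00, h10, map_add, map_mul, hsk] at h1
    field_simp at h1
    linear_combination h1 - hn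
  have hsz : σ z ≠ 0 := right_ne_zero_of_mul_eq_one hn
  refine ⟨Units.mk0 z hz0, P.mem_Nm.mpr hn, ν / z, ?_, ?_⟩
  · rw [map_div₀]
    field_simp
    linear_combination hs
  · apply ext2
    · simp only [m00, dg00, dg01, uq00, uq10, h00, Units.val_mk0]
      field_simp
      ring
    · simp only [m01, dg00, dg01, uq01, uq11, h01, Units.val_mk0]
      field_simp
      ring
    · simp only [m10, dg10, dg11, uq00, uq10, h10, Units.val_mk0]
      field_simp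
      ring
    · simp only [m11, dg10, dg11, uq01, uq11, h11, Units.val_mk0]
      field_simp
      ring

theorem Par.neg_one_mem (P : Par F q σ κ) : (-1 : Fˣ) ∈ Nm F q := by
  rw [P.mem_Nm]
  simp

/-- A skew element. -/
theorem Par.exists_skew (P : Par F q σ κ) : ∃ δ : Fˣ, σ δ = -(δ : F) := by
  obtain ⟨a, ha⟩ := P.exists_pow P.neg_one_mem
  refine ⟨a, ?_⟩
  rw [← P.pow_pred a, ha]
  simp

theorem Par.card_skew (P : Par F q σ κ) : Nat.card {μ : F // σ μ = -μ} = q := by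
  obtain ⟨δ, hδ⟩ := P.exists_skew
  have h2 := P.two_le
  have hδ0 : (δ : F) ≠ 0 := δ.ne_zero
  have hK : Nat.card (powMonoidHom (q - 1) : Fˣ →* Fˣ).ker = q - 1 := by
    rw [IsCyclic.card_powMonoidHom_ker, P.card_units, Nat.gcd_eq_right (Dvd.intro _ rfl)]
  have hmem : ∀ x : Fˣ, x ∈ (powMonoidHom (q - 1) : Fˣ →* Fˣ).ker ↔ σ x = x := by
    intro x
    rw [MonoidHom.mem_ker, powMonoidHom_apply, ← P.pow_pred x]
    constructor
    · intro h
      rw [h, Units.val_one, one_mul]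
    · intro h
      apply Units.ext
      rw [Units.val_one]
      exact mul_right_cancel₀ x.ne_zero (by rw [h, one_mul])
  have hcard : Nat.card (Option (powMonoidHom (q - 1) : Fˣ →* Fˣ).ker) = q := by
    rw [Finite.card_option, hK]
    omega
  rw [← hcard]
  refine (Nat.card_congr (Equiv.ofBijective (fun x : Option (powMonoidHom (q - 1) : Fˣ →* Fˣ).ker =>
    (match x with
      | none => ⟨0, by simp⟩
      | some y => ⟨δ * (y : Fˣ), by
          rw [map_mul, hδ, (hmem y.1).mp y.2, neg_mul]⟩ : {μ : F // σ μ = -μ})) ⟨?_, ?_⟩)).symm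
  · rintro (_ | x) (_ | y) h
    · rfl
    · exfalso
      have h1 := congrArg Subtype.val h
      change (0 : F) = δ * (y : Fˣ) at h1
      exact (mul_ne_zero hδ0 (y : Fˣ).ne_zero) h1.symm
    · exfalso
      have h1 := congrArg Subtype.val h
      change δ * ((x : Fˣ) : F) = 0 at h1
      exact (mul_ne_zero hδ0 (x : Fˣ).ne_zero) h1
    · have h1 := congrArg Subtype.val h
      change δ * ((x : Fˣ) : F) = δ * ((y : Fˣ) : F) at h1
      exact congrArg some (Subtype.ext (Units.ext (mul_left_cancel₀ hδ0 h1)))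
  · rintro ⟨μ, hμ⟩
    by_cases h0 : μ = 0
    · exact ⟨none, Subtype.ext h0.symm⟩
    · refine ⟨some ⟨Units.mk0 (μ / δ) (div_ne_zero h0 hδ0), ?_⟩, ?_⟩
      · rw [hmem, Units.val_mk0, map_div₀, hμ, hδ, neg_div_neg_eq]
      · apply Subtype.ext
        change (δ : F) * (μ / δ) = μ
        field_simp

theorem Par.card_Ru (P : Par F q σ κ) :
    Nat.card ((Ru σ κ).subgroupOf (Cfsg.GU 2 F q)) = q := by
  refine Eq.trans ?_ P.card_skew
  refine (Nat.card_congr (Equiv.ofBijective (fun μ : {μ : F // σ μ = -μ} =>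
    (⟨⟨uq κ μ.1, P.uq_mem.mpr μ.2⟩, ⟨μ.1, μ.2, rfl⟩⟩ :
        (Ru σ κ).subgroupOf (Cfsg.GU 2 F q))) ⟨?_, ?_⟩)).symm
  · rintro ⟨μ, hμ⟩ ⟨ν, hν⟩ h
    have h1 : uq κ μ = uq κ ν := congrArg Subtype.val (congrArg Subtype.val h)
    exact Subtype.ext (uq_injective κ h1)
  · rintro ⟨⟨g, hg⟩, hR⟩
    obtain ⟨μ, hμ, h⟩ := Subgroup.mem_subgroupOf.mp hR
    exact ⟨⟨μ, hμ⟩, Subtype.ext (Subtype.ext h)⟩

/-! ### Conjugacy classes -/

/-- The discriminant of an element of `GU₂(q)` is a square. -/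
theorem Par.isSquare_disc (P : Par F q σ κ) {g : GL (Fin 2) F} (hg : g ∈ Cfsg.GU 2 F q) :
    IsSquare ((g.1 0 0 - g.1 1 1) ^ 2 + 4 * (g.1 0 1 * g.1 1 0)) := by
  obtain ⟨D, hD⟩ : ∃ D : F, D = (g.1 0 0 - g.1 1 1) ^ 2 + 4 * (g.1 0 1 * g.1 1 0) := ⟨_, rfl⟩
  rw [← hD]
  by_cases hD0 : D = 0
  · rw [hD0]; exact IsSquare.zero
  have hchar : ringChar F ≠ 2 := by
    intro h
    have h1 := FiniteField.even_card_iff_char_two.mp h
    rw [P.card] at h1
    have h2 := Nat.odd_iff.mp (P.odd.pow (n := 2))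
    omega
  rw [FiniteField.isSquare_iff hchar hD0]
  obtain ⟨Δ, hΔ⟩ : ∃ Δ : F, Δ = g.1 0 0 * g.1 1 1 - g.1 0 1 * g.1 1 0 := ⟨_, rfl⟩
  have hΔ0 : Δ ≠ 0 := by rw [hΔ]; exact det_ne g
  have hn := P.det_norm hg
  obtain ⟨h1, h2, h3, h4⟩ := P.entries hg
  rw [← hΔ] at hn h1 h2 h3 h4
  have hs : σ D * Δ ^ 2 = D := by
    rw [hD, map_add, map_pow, map_sub, map_mul, map_mul, map_ofNat]
    linear_combination (σ (g.1 0 0) * Δ + g.1 1 1 - σ (g.1 1 1) * Δ - g.1 0 0) * (h1 - h4) +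
      4 * (σ (g.1 1 0) * Δ) * h2 - 4 * (g.1 1 0) * h3
  have h2le := P.two_le
  obtain ⟨m, hm⟩ := P.odd
  have hm1 : 1 ≤ m := by omega
  have hpow : D ^ (2 * m) * Δ ^ 2 = 1 := by
    apply mul_right_cancel₀ hD0
    rw [P.sig] at hs
    rw [one_mul]
    calc D ^ (2 * m) * Δ ^ 2 * D = D ^ (2 * m + 1) * Δ ^ 2 := by ring
      _ = D := by rw [← hm]; exact hs
  have hcard : Fintype.card F / 2 = 2 * m * (m + 1) := by
    rw [P.card, hm, show (2 * m + 1) ^ 2 = 2 * (2 * m * (m + 1)) + 1 by ring]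
    omega
  rw [hcard]
  have hΔn : Δ ^ (2 * (m + 1)) = 1 := by
    rw [show 2 * (m + 1) = q + 1 by omega, P.pow_succ_eq]
    exact hn
  calc D ^ (2 * m * (m + 1)) = (D ^ (2 * m) * Δ ^ 2) ^ (m + 1) := by
        rw [mul_pow, ← pow_mul, ← pow_mul, hΔn, mul_one]
    _ = 1 := by rw [hpow, one_pow]

/-- Elements with the eigenvector `(1,κ)`. -/
theorem Par.exhaust_iso (P : Par F q σ κ) {g : GL (Fin 2) F} (hg : g ∈ Cfsg.GU 2 F q)
    (he : g.1 1 0 + g.1 1 1 * κ = (g.1 0 0 + g.1 0 1 * κ) * κ) :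
    ∃ c ∈ Cfsg.GU 2 F q, c * g * c⁻¹ ∈ Tns (dk κ) ∨
      ∃ z ∈ Nm F q, ∃ ν : F, σ ν = -ν ∧ c * g * c⁻¹ = dg z z * uq κ ν := by
  have hk : (κ : F) ≠ 0 := κ.ne_zero
  have hsk := P.sig_kap
  have h2 := P.two_ne_zero
  obtain ⟨l, hl⟩ : ∃ l : F, l = g.1 0 0 + g.1 0 1 * κ := ⟨_, rfl⟩
  obtain ⟨m, hm⟩ : ∃ m : F, m = g.1 1 1 - g.1 0 1 * κ := ⟨_, rfl⟩
  obtain ⟨γ, hγ⟩ : ∃ γ : F, γ = g.1 0 0 - g.1 1 1 := ⟨_, rfl⟩
  have hdet : g.1 0 0 * g.1 1 1 - g.1 0 1 * g.1 1 0 = l * m := by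
    rw [hl, hm]
    linear_combination (-g.1 0 1) * he
  have hlm0 : l * m ≠ 0 := by rw [← hdet]; exact det_ne g
  have hl0 : l ≠ 0 := left_ne_zero_of_mul hlm0
  have hm0 : m ≠ 0 := right_ne_zero_of_mul hlm0
  obtain ⟨h1, h3, h4, h5⟩ := P.entries hg
  rw [hdet] at h1 h3 h4 h5
  have hc : g.1 1 0 = (l - g.1 1 1) * κ := by
    rw [hl]; linear_combination he
  have hsγ : σ γ * (l * m) = -γ := by
    rw [hγ, map_sub]
    linear_combination h1 - h5
  have hsl : σ l * m = 1 := by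
    apply (mul_right_inj' hl0).mp
    rw [hl, map_add, map_mul, hsk]
    rw [hl] at h1 h3 hc
    have e1 : g.1 1 0 * (κ : F)⁻¹ = g.1 0 0 + g.1 0 1 * κ - g.1 1 1 := by
      rw [hc]; field_simp
    linear_combination h1 - (κ : F)⁻¹ * h3 + e1
  have hsm : σ m * l = 1 := by
    have := congrArg σ hsl
    rw [map_mul, P.invol, map_one] at this
    linear_combination this
  -- entries
  have e00 : g.1 0 0 = (l + γ + m) / 2 := by
    rw [hl, hm, hγ]; field_simp; ring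
  have e11 : g.1 1 1 = (l - γ + m) / 2 := by
    rw [hl, hm, hγ]; field_simp; ring
  have e01 : g.1 0 1 = (l - γ - m) / 2 * (κ : F)⁻¹ := by
    rw [hl, hm, hγ]; field_simp; ring
  have e10 : g.1 1 0 = (l + γ - m) / 2 * κ := by
    rw [hc, e11]; field_simp; ring
  by_cases hlm : l = m
  · refine ⟨1, Subgroup.one_mem _, Or.inr ⟨Units.mk0 l hl0, P.mem_Nm.mpr ?_, γ / (2 * l), ?_, ?_⟩⟩
    · rw [Units.val_mk0]
      linear_combination hsl - (σ l) * hlm.symm
    · subst hlm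
      rw [map_div₀, map_mul, map_ofNat]
      have hsl0 : σ l ≠ 0 := left_ne_zero_of_mul_eq_one hsl
      field_simp
      apply mul_right_cancel₀ hl0
      linear_combination hsγ + γ * hsl
    · rw [one_mul, inv_one, mul_one]
      apply ext2
      · simp only [m00, dg00, dg01, uq00, uq10, Units.val_mk0, e00, ← hlm]
        field_simp
        ring
      · simp only [m01, dg00, dg01, uq01, uq11, Units.val_mk0, e01, ← hlm]
        field_simp
        ring
      · simp only [m10, dg10, dg11, uq00, uq10, Units.val_mk0, e10, ← hlm]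
        field_simp
        ring
      · simp only [m11, dg10, dg11, uq01, uq11, Units.val_mk0, e11, ← hlm]
        field_simp
        ring
  · have hml : m - l ≠ 0 := sub_ne_zero.mpr (Ne.symm hlm)
    obtain ⟨μ, hμ⟩ : ∃ μ : F, μ = γ / (2 * (m - l)) := ⟨_, rfl⟩
    have hμs : σ μ = -μ := by
      have hd : σ (m - l) * (l * m) = m - l := by
        rw [map_sub]
        linear_combination m * hsm - l * hsl
      have hsd : σ (m - l) ≠ 0 := by
        intro h0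
        rw [h0, zero_mul] at hd
        exact hml hd.symm
      rw [hμ, map_div₀, map_mul, map_ofNat, div_eq_iff (mul_ne_zero h2 hsd)]
      apply mul_right_cancel₀ hlm0
      rw [hsγ]
      have : -(γ / (2 * (m - l))) * (2 * σ (m - l)) * (l * m) =
          -(γ / (2 * (m - l))) * 2 * (σ (m - l) * (l * m)) := by ring
      rw [this, hd]
      field_simp
    refine ⟨(uq κ μ)⁻¹, Subgroup.inv_mem _ (P.uq_mem.mpr hμs), Or.inl ?_⟩
    have hγμ : γ = μ * (2 * (m - l)) := by rw [hμ]; field_simp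
    rw [conj_eq (h := tq h2 κ (Units.mk0 l hl0) (Units.mk0 m hm0))]
    · exact tq_mem _ _ _ _
    · apply ext2
      · simp only [m00, uq00, uq01, uq10, tq00, tq10, Units.val_mk0, e00, e01, hγμ]
        field_simp
        ring
      · simp only [m01, uq00, uq01, uq11, tq01, tq11, Units.val_mk0, e00, e01, hγμ]
        field_simp
        ring
      · simp only [m10, uq00, uq10, uq11, tq00, tq10, Units.val_mk0, e10, e11, hγμ]
        field_simp
        ring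
      · simp only [m11, uq01, uq10, uq11, tq01, tq11, Units.val_mk0, e10, e11, hγμ]
        field_simp
        ring

/-- The element of `GU₂(q)` with first column `(x, y)` of norm one. -/
theorem Par.exists_col (P : Par F q σ κ) {x y : F} (h : x * σ x + y * σ y = 1) :
    ∃ p ∈ Cfsg.GU 2 F q, p.1 0 0 = x ∧ p.1 1 0 = y := by
  have hd : x * σ x - (-σ y) * y ≠ 0 := by
    have : x * σ x - (-σ y) * y = 1 := by linear_combination h
    rw [this]; exact one_ne_zero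
  refine ⟨mk2 x (-σ y) y (σ x) hd, ?_, rfl, rfl⟩
  rw [P.mem_iff]
  simp only [mk2_val, of_apply, cons_val', cons_val_zero, cons_val_one,
    empty_val', cons_val_fin_one, map_neg, P.invol]
  refine ⟨h, ?_, ?_⟩
  · linear_combination h
  · ring

theorem conj_entry (p g : GL (Fin 2) F) (l : F)
    (h0 : g.1 0 0 * p.1 0 0 + g.1 0 1 * p.1 1 0 = l * p.1 0 0)
    (h1 : g.1 1 0 * p.1 0 0 + g.1 1 1 * p.1 1 0 = l * p.1 1 0) :
    (p⁻¹ * g * (p⁻¹)⁻¹).1 1 0 = 0 := by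
  obtain ⟨r, hr⟩ : ∃ r, r = p⁻¹ * g * (p⁻¹)⁻¹ := ⟨_, rfl⟩
  have h2 : p * r = g * p := by rw [hr]; group
  rw [← hr]
  have e0 := congrArg (fun g : GL (Fin 2) F => g.1 0 0) h2
  have e1 := congrArg (fun g : GL (Fin 2) F => g.1 1 0) h2
  simp only [m00, m10] at e0 e1
  apply (mul_right_inj' (det_ne p)).mp
  linear_combination (p.1 0 0) * e1 - (p.1 1 0) * e0 + (p.1 0 0) * h1 - (p.1 1 0) * h0

/-- **Conjugacy classes of `GU₂(q)`.** -/
theorem Par.exhaust (P : Par F q σ κ) {g : GL (Fin 2) F} (hg : g ∈ Cfsg.GU 2 F q) :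
    ∃ c ∈ Cfsg.GU 2 F q, c * g * c⁻¹ ∈ (Tor : Subgroup (GL (Fin 2) F)) ∨
      c * g * c⁻¹ ∈ Tns (dk κ) ∨
      ∃ z ∈ Nm F q, ∃ ν : F, σ ν = -ν ∧ c * g * c⁻¹ = dg z z * uq κ ν := by
  have hk : (κ : F) ≠ 0 := κ.ne_zero
  have h2 := P.two_ne_zero
  have tri : ∀ h ∈ Cfsg.GU 2 F q, h.1 1 0 = 0 → h ∈ (Tor : Subgroup (GL (Fin 2) F)) := by
    intro h hh h0
    rw [mem_Tor h2]
    obtain ⟨-, -, h3, -⟩ := P.entries hh
    rw [h0, map_zero, zero_mul] at h3
    exact ⟨by linear_combination h3, h0⟩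
  by_cases h10 : g.1 1 0 = 0
  · exact ⟨1, Subgroup.one_mem _, Or.inl (by rw [one_mul, inv_one, mul_one]; exact tri g hg h10)⟩
  obtain ⟨e, he⟩ := P.isSquare_disc hg
  obtain ⟨m, hm⟩ : ∃ m : F, m = (g.1 0 0 + g.1 1 1 - e) / 2 := ⟨_, rfl⟩
  obtain ⟨l, hl⟩ : ∃ l : F, l = (g.1 0 0 + g.1 1 1 + e) / 2 := ⟨_, rfl⟩
  have hlm : l + m = g.1 0 0 + g.1 1 1 := by rw [hl, hm]; field_simp; ring
  have hlm2 : l * m = g.1 0 0 * g.1 1 1 - g.1 0 1 * g.1 1 0 := by
    rw [hl, hm]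
    field_simp
    linear_combination he
  clear hm hl
  -- eigenvector `(x, y) = (g00 - m, g10)`
  obtain ⟨x, hx⟩ : ∃ x : F, x = g.1 0 0 - m := ⟨_, rfl⟩
  obtain ⟨y, hy⟩ : ∃ y : F, y = g.1 1 0 := ⟨_, rfl⟩
  have hy0 : y ≠ 0 := by rw [hy]; exact h10
  have e0 : g.1 0 0 * x + g.1 0 1 * y = l * x := by
    rw [hx, hy]
    linear_combination (-g.1 0 0) * hlm + hlm2
  have e1 : g.1 1 0 * x + g.1 1 1 * y = l * y := by
    rw [hx, hy]
    linear_combination -(g.1 1 0) * hlm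
  by_cases hn : x * σ x + y * σ y = 0
  · -- isotropic
    have hx0 : x ≠ 0 := by
      rintro rfl
      rw [zero_mul, zero_add] at hn
      rcases mul_eq_zero.mp hn with h | h
      · exact hy0 h
      · exact hy0 ((map_eq_zero σ).mp h)
    have hsx : σ x ≠ 0 := by rwa [Ne, map_eq_zero]
    have hsy : σ y ≠ 0 := by rwa [Ne, map_eq_zero]
    -- conjugate by `diag(1, κ x / y)`
    obtain ⟨w, hw⟩ : ∃ w : Fˣ, w = κ * Units.mk0 x hx0 * (Units.mk0 y hy0)⁻¹ := ⟨_, rfl⟩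
    have hwv : (w : F) = κ * x / y := by
      rw [hw]
      push_cast [Units.val_mk0, Units.val_inv_eq_inv_val]
      rw [div_eq_mul_inv]
    have hwn : (w : F) * σ w = 1 := by
      rw [hwv, map_div₀, map_mul]
      field_simp
      linear_combination (x * σ x) * P.kap - hn
    have hdm : dg (1 : Fˣ) w ∈ Cfsg.GU 2 F q := by
      rw [P.dg_mem]
      exact ⟨by simp, hwn⟩
    obtain ⟨g', hg'⟩ : ∃ g', g' = dg (1 : Fˣ) w * g * (dg (1 : Fˣ) w)⁻¹ := ⟨_, rfl⟩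
    have hg'm : g' ∈ Cfsg.GU 2 F q := by
      rw [hg']
      exact Subgroup.mul_mem _ (Subgroup.mul_mem _ hdm hg) (Subgroup.inv_mem _ hdm)
    have hcomm : g' * dg (1 : Fˣ) w = dg (1 : Fˣ) w * g := by rw [hg']; group
    have c00 := congrArg (fun g : GL (Fin 2) F => g.1 0 0) hcomm
    have c01 := congrArg (fun g : GL (Fin 2) F => g.1 0 1) hcomm
    have c10 := congrArg (fun g : GL (Fin 2) F => g.1 1 0) hcomm
    have c11 := congrArg (fun g : GL (Fin 2) F => g.1 1 1) hcomm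
    simp only [m00, m01, m10, m11, dg00, dg01, dg10, dg11, mul_zero, zero_mul, add_zero,
      zero_add, Units.val_one, mul_one, one_mul] at c00 c01 c10 c11
    have hwk : (w : F) * y = κ * x := by rw [hwv]; field_simp
    have c11' : g'.1 1 1 = g.1 1 1 := by
      apply mul_right_cancel₀ w.ne_zero
      rw [c11, mul_comm]
    have key : g'.1 1 0 + g'.1 1 1 * κ = (g'.1 0 0 + g'.1 0 1 * κ) * κ := by
      have k1 : g'.1 0 0 + g'.1 0 1 * κ = l := by
        apply mul_right_cancel₀ hx0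
        rw [c00]
        linear_combination e0 - (g'.1 0 1) * hwk + y * c01
      rw [k1, c10, c11']
      apply mul_right_cancel₀ hx0
      linear_combination (w : F) * e1 - (g.1 1 1 - l) * hwk
    obtain ⟨c, hc, h⟩ := P.exhaust_iso hg'm key
    refine ⟨c * dg (1 : Fˣ) w, Subgroup.mul_mem _ hc hdm, Or.inr ?_⟩
    have hcc : c * dg (1 : Fˣ) w * g * (c * dg (1 : Fˣ) w)⁻¹ = c * g' * c⁻¹ := by
      rw [hg']; group
    rw [hcc]
    exact h
  · -- anisotropic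
    have hs : σ (x * σ x + y * σ y) = x * σ x + y * σ y := by
      rw [map_add, map_mul, map_mul, P.invol, P.invol]
      ring
    obtain ⟨r, hr⟩ := P.norm_surj hn hs
    have hr0 : r ≠ 0 := by
      rintro rfl
      rw [zero_mul] at hr
      exact hn hr.symm
    have hsr : σ r ≠ 0 := by rwa [Ne, map_eq_zero]
    obtain ⟨p, hp, hp0, hp1⟩ := P.exists_col (x := x / r) (y := y / r) (by
      rw [map_div₀, map_div₀]
      field_simp
      linear_combination -hr)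
    refine ⟨p⁻¹, Subgroup.inv_mem _ hp, Or.inl ?_⟩
    apply tri
    · exact Subgroup.mul_mem _ (Subgroup.mul_mem _ (Subgroup.inv_mem _ hp) hg)
        (Subgroup.inv_mem _ (Subgroup.inv_mem _ hp))
    · apply conj_entry p g l
      · rw [hp0, hp1]
        field_simp
        linear_combination e0
      · rw [hp0, hp1]
        field_simp
        linear_combination e1

end Cfsg.Agent.Classification.InvCent.GUTwo
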