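import Mathlib

/-!
# Wreathed case: the degree and the value at `t` of the character `χ`
-/

set_option autoImplicit false

namespace Cfsg.Agent.Classification.InvCent.WrChiNum

/-- The degree equations of `χ`. -/
theorem chi_num {Q d c : ℂ} (hQ0 : Q ≠ 0) (hQ1 : Q - 1 ≠ 0) (hQ2 : Q + 1 ≠ 0)
    (hN : Q ^ 2 + Q + 1 ≠ 0) (hd : d ≠ 0) (hy : 1 + d ≠ 0) (hV : Q ^ 3 + d ≠ 0)
    (e1 : Q ^ 2 * (Q ^ 2 + Q + 1) * (1 + c ^ 2 / d - (1 + c) ^ 2 / (1 + d)) =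
      Q * (Q ^ 2 - 1) * (Q - 1))
    (e2 : Q ^ 2 * (Q ^ 2 + Q + 1) * ((1 - Q) ^ 2 / (Q ^ 3 - 1) + (1 + c) ^ 2 / (1 + d) -
      (Q + c) ^ 2 / (Q ^ 3 + d)) = Q * (Q ^ 2 - 1) * (Q + 1)) :
    d = Q ^ 2 + Q ∧ c = Q + 1 := by
  have h3 : Q ^ 3 - 1 = (Q - 1) * (Q ^ 2 + Q + 1) := by ring
  have hN' : Q * (Q + 1) + 1 ≠ 0 := by
    intro h
    apply hN
    linear_combination h
  have E1 : Q * (Q ^ 2 + Q + 1) * (d - c) ^ 2 = (Q - 1) ^ 2 * (Q + 1) * (d * (1 + d)) := by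
    have h1 : Q * (Q * (Q ^ 2 + Q + 1) * (d - c) ^ 2) =
        Q * ((Q - 1) ^ 2 * (Q + 1) * (d * (1 + d))) := by
      field_simp at e1
      linear_combination Q * e1
    exact mul_left_cancel₀ hQ0 h1
  have E2 : Q * ((1 + c) ^ 2 * (Q ^ 2 + Q + 1) - 2 * (1 + c) * (1 + d) - (Q - 1) * (1 + d)) =
      (1 + d) * (Q ^ 3 + d) := by
    have h1 : (1 - Q) ^ 2 / (Q ^ 3 - 1) = (Q - 1) / (Q ^ 2 + Q + 1) := by
      rw [h3]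
      field_simp
      ring
    rw [h1] at e2
    have h2 : ((Q ^ 2 + Q + 1) * (Q - 1)) *
        (Q * ((1 + c) ^ 2 * (Q ^ 2 + Q + 1) - 2 * (1 + c) * (1 + d) - (Q - 1) * (1 + d))) =
        ((Q ^ 2 + Q + 1) * (Q - 1)) * ((1 + d) * (Q ^ 3 + d)) := by
      field_simp at e2
      linear_combination e2
    exact mul_left_cancel₀ (mul_ne_zero hN hQ1) h2
  have E3 : Q * c = d := by
    have h1 : ((1 + d) * (2 * Q * (Q + 1))) * (Q * c - d) = 0 := by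
      linear_combination E2 - E1
    have h2 : (1 + d) * (2 * Q * (Q + 1)) ≠ 0 := by simp [hy, hQ0, hQ2]
    exact sub_eq_zero.1 ((mul_eq_zero.1 h1).resolve_left h2)
  have hc : c ≠ 0 := by
    rintro rfl
    exact hd (by rw [← E3, mul_zero])
  have E4 : c = Q + 1 := by
    rw [← E3] at E1
    have h1 : (Q * (Q - 1) ^ 2 * c) * (c - (Q + 1)) = 0 := by
      linear_combination E1
    have h2 : Q * (Q - 1) ^ 2 * c ≠ 0 := by simp [hQ0, hQ1, hc]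
    exact sub_eq_zero.1 ((mul_eq_zero.1 h1).resolve_left h2)
  refine ⟨?_, E4⟩
  rw [← E3, E4]
  ring

/-- The contradiction for the vectors `uu i j`. -/
theorem uu_num {Q : ℤ} (hQ0 : Q ≠ 0) (hQ1 : Q ≠ 1) (hQ2 : Q ≠ -1) {e : ℂ} (he : e ≠ 0)
    (h : e * (((Q : ℂ) + 1) ^ 2 / ((Q : ℂ) ^ 2 + Q)) +
      e * ((1 + ((Q : ℂ) + 1)) ^ 2 / (1 + ((Q : ℂ) ^ 2 + Q))) +
      e * (((Q : ℂ) + (Q + 1)) ^ 2 / ((Q : ℂ) ^ 3 + (Q ^ 2 + Q))) +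
      1 * ((-e * (4 * ((Q : ℂ) + 1))) ^ 2 / (-e * ((Q : ℂ) + 1) ^ 3)) = 0) : False := by
  have cQ0 : (Q : ℂ) ≠ 0 := by exact_mod_cast hQ0
  have cQ2 : (Q : ℂ) + 1 ≠ 0 := by
    intro h0
    apply hQ2
    have : (Q : ℂ) = ((-1 : ℤ) : ℂ) := by push_cast; linear_combination h0
    exact_mod_cast this
  have hN : (Q : ℂ) ^ 2 + Q + 1 ≠ 0 := by
    have : Q ^ 2 + Q + 1 ≠ 0 := by nlinarith [sq_nonneg (2 * Q + 1)]
    exact_mod_cast this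
  have e1 : (Q : ℂ) ^ 2 + Q = Q * (Q + 1) := by ring
  have e2 : 1 + ((Q : ℂ) ^ 2 + Q) = Q ^ 2 + Q + 1 := by ring
  have e3 : (Q : ℂ) ^ 3 + (Q ^ 2 + Q) = Q * (Q ^ 2 + Q + 1) := by ring
  have e4 : (-e * (4 * ((Q : ℂ) + 1))) ^ 2 / (-e * ((Q : ℂ) + 1) ^ 3) =
      -e * (16 / ((Q : ℂ) + 1)) := by
    field_simp
    ring
  rw [e2, e3, e1, e4] at h
  have h5 : e * ((((Q : ℂ) + 1) ^ 2 / (Q * (Q + 1))) + ((1 + ((Q : ℂ) + 1)) ^ 2 /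
      (Q ^ 2 + Q + 1)) + (((Q : ℂ) + (Q + 1)) ^ 2 / (Q * (Q ^ 2 + Q + 1))) -
      16 / ((Q : ℂ) + 1)) = 0 := by
    linear_combination h
  have h6 := (mul_eq_zero.1 h5).resolve_left he
  have hN' : (Q : ℂ) * (Q + 1) + 1 ≠ 0 := by
    intro h
    apply hN
    linear_combination h
  have h7 : 2 * (((Q : ℂ) ^ 2 + 1) * (Q - 1) ^ 2) = 0 := by
    field_simp at h6
    linear_combination h6
  have h8 : 2 * ((Q ^ 2 + 1) * (Q - 1) ^ 2) = 0 := by exact_mod_cast h7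
  have h9 : Q ^ 2 + 1 ≠ 0 := by positivity
  have h10 : (Q - 1) ^ 2 ≠ 0 := pow_ne_zero 2 (sub_ne_zero.2 hQ1)
  simp [h9, h10] at h8

end Cfsg.Agent.Classification.InvCent.WrChiNum
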