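import Cfsg.Agent.Classification.InvCent.WreathedGramTwo

/-!
# The Gram matrix argument, third part

From the family `Φ l t` (`Φ o t = 1 - X + L t`) and a generalized character `v` of norm `3` with
`(v, 1) = 1` and `(v, Φ l t) = [l = o] - [l = k]`: `v = 1 + χ - P` and
`Φ k t = Φ o t - 1 + X + P - V`; `χ` is orthogonal to all `Φ l t`.
-/

set_option autoImplicit false
set_option linter.unusedSectionVars false
set_option linter.unusedVariables false

open Cfsg
open scoped ComplexConjugate

namespace Cfsg.Agent.Classification.InvCent.WrGramThree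

open Cfsg.Agent.Classification.BGOrder Cfsg.Agent.Characters.Core
  Cfsg.Agent.Classification.BGSplit Cfsg.Agent.Classification.InvCent.WreathedGram
  Cfsg.Agent.Classification.InvCent.WreathedGramTwo

universe u

variable {G : Type u} [Group G] [Fintype G]

/-- Two signed irreducible characters with nonzero inner product are equal up to sign. -/
theorem eq_or_neg {X Y : G → ℂ} (hX : SignedIrr X) (hY : SignedIrr Y)
    (h : classInner X Y ≠ 0) : X = Y ∨ X = -Y := by
  rcases signed_inner hX hY with h1 | h1 | h1
  · exact absurd h1 h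
  · exact Or.inl h1
  · exact Or.inr h1

theorem inner_values {X Y : G → ℂ} (hX : SignedIrr X) (hY : SignedIrr Y) :
    classInner X Y = 0 ∨ (classInner X Y = 1 ∧ X = Y) ∨ (classInner X Y = -1 ∧ X = -Y) := by
  rcases signed_inner hX hY with h1 | h1 | h1
  · exact Or.inl h1
  · exact Or.inr (Or.inl ⟨by rw [h1]; exact signed_self hY, h1⟩)
  · exact Or.inr (Or.inr ⟨by rw [h1, classInner_neg_left, signed_self hY], h1⟩)

section

variable {Λ Θ : Type*} [DecidableEq Λ] [DecidableEq Θ] {o : Λ} {Φ : Λ → Θ → G → ℂ}

/-- The decomposition of `v`. -/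
structure ChiData (o k : Λ) (Φ : Λ → Θ → G → ℂ) (X : G → ℂ) (L : Θ → G → ℂ) (v χ P V : G → ℂ) :
    Prop where
  sχ : SignedIrr χ
  sP : SignedIrr P
  sV : SignedIrr V
  eq_v : v = 1 + χ - P
  eq_R : ∀ t, Φ k t = Φ o t - 1 + X + P - V
  χ1 : classInner χ 1 = 0
  P1 : classInner P 1 = 0
  χP : classInner χ P = 0
  χV : classInner χ V = 0
  PV : classInner P V = 0
  χX : classInner χ X = 0
  PX : classInner P X = 0
  VX : classInner V X = 0
  χL : ∀ t, classInner χ (L t) = 0
  PL : ∀ t, classInner P (L t) = 0
  VL : ∀ t, classInner V (L t) = 0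
  Φχ : ∀ l t, classInner (Φ l t) χ = 0

theorem exists_chi [Fintype Λ] [Fintype Θ] (h : Family o Φ) {X : G → ℂ} {L : Θ → G → ℂ}
    (s : Split o Φ X L) (hΛ : 4 ≤ Fintype.card Λ) (hΘ : 2 ≤ Fintype.card Θ) {k : Λ}
    (hk : k ≠ o) {v : G → ℂ} (hvg : IsGeneralizedCharacter G v) (hvv : classInner v v = 3)
    (hv1 : classInner v 1 = 1)
    (hvΦ : ∀ l t, classInner v (Φ l t) = (if l = o then 1 else 0) - (if l = k then 1 else 0)) :
    ∃ χ P V : G → ℂ, ChiData o k Φ X L v χ P V := by
  obtain ⟨t₀, t₁, h01⟩ : ∃ t₀ t₁ : Θ, t₀ ≠ t₁ :=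
    (Fintype.one_lt_card_iff_nontrivial.1 (by omega)).exists_pair_ne
  -- `v = 1 + A + B`
  obtain ⟨A, B, hA, hB, hA1, hB1, hAB, hf⟩ := decomp_three hvg hv1 hvv
  have hvo : ∀ t, classInner v (Φ o t) = 1 := fun t => by
    rw [hvΦ, if_pos rfl, if_neg (Ne.symm hk), sub_zero]
  have h11 := one_one (G := G)
  have h1X := inner_symm_zero s.X1
  have h1L : ∀ t, classInner 1 (L t) = 0 := fun t => inner_symm_zero (s.L1 t)
  have hABX : ∀ t, classInner A (L t) + classInner B (L t) = classInner A X + classInner B X := by
    intro t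
    have h1 := hvo t
    rw [s.eq t, hf] at h1
    simp only [classInner_add_left, classInner_add_right, classInner_sub_right, h11, hA1, hB1,
      h1X, h1L] at h1
    linear_combination h1
  -- `A`, `B` are orthogonal to `X` and all `L t`
  have key : ∀ A B : G → ℂ, SignedIrr A → SignedIrr B → classInner A B = 0 →
      (∀ t, classInner A (L t) + classInner B (L t) = classInner A X + classInner B X) →
      classInner A X = 0 := by
    intro A B hA hB hAB hABX
    by_contra hne
    have hLX : ∀ t, classInner (L t) X = 0 := fun t => inner_symm_zero (s.XL t)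
    -- `A = ± X`, so `A` is orthogonal to all `L t` and `B` to `X`
    have hAL : ∀ t, classInner A (L t) = 0 := by
      intro t
      rcases eq_or_neg hA s.sX hne with h1 | h1
      · rw [h1]; exact s.XL t
      · rw [h1, classInner_neg_left, s.XL, neg_zero]
    have hBX : classInner B X = 0 := by
      have hBA := inner_symm_zero hAB
      rcases eq_or_neg hA s.sX hne with h1 | h1
      · rwa [h1] at hBA
      · rw [h1, classInner_neg_right] at hBA
        exact neg_eq_zero.1 hBA
    have hBL : ∀ t, classInner B (L t) ≠ 0 := by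
      intro t h1
      apply hne
      have := hABX t
      rw [hAL, h1, hBX] at this
      linear_combination -this
    have h1 : classInner (L t₀) (L t₁) ≠ 0 := by
      rcases eq_or_neg hB (s.sL t₀) (hBL t₀) with h2 | h2 <;>
        rcases eq_or_neg hB (s.sL t₁) (hBL t₁) with h3 | h3
      · rw [← h2, ← h3, signed_self hB]; norm_num
      · have : L t₁ = -B := by rw [h3, neg_neg]
        rw [← h2, this, classInner_neg_right, signed_self hB]; norm_num
      · have : L t₀ = -B := by rw [h2, neg_neg]
        rw [← h3, this, classInner_neg_left, signed_self hB]; norm_num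
      · have e0 : L t₀ = -B := by rw [h2, neg_neg]
        have e1 : L t₁ = -B := by rw [h3, neg_neg]
        rw [e0, e1, classInner_neg_left, classInner_neg_right, signed_self hB]; norm_num
    exact h1 (s.LL t₀ t₁ h01)
  have hAX := key A B hA hB hAB hABX
  have hBX := key B A hB hA (inner_symm_zero hAB) (fun t => by
    rw [add_comm, add_comm (classInner B X)]; exact hABX t)
  have hsum0 : ∀ t, classInner A (L t) + classInner B (L t) = 0 := fun t => by
    rw [hABX, hAX, hBX, add_zero]
  -- `A`, `B` are orthogonal to `L t`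
  obtain ⟨hRg, hRR, hR1, hRX, hRL, hRd⟩ := R_facts h s hΛ hΘ hk t₀
  have hvX : classInner v X = 0 := by
    rw [hf, classInner_add_left, classInner_add_left, h1X, hAX, hBX]; ring
  have hvR : classInner v (Φ k t₀ - Φ o t₀ + 1 - X) = -1 := by
    rw [classInner_sub_right, classInner_add_right, classInner_sub_right, hvΦ, hvo, hv1, hvX,
      if_neg hk, if_pos rfl]
    ring
  obtain ⟨P, V, hP, hV, hPV, hR⟩ := decomp_two hRg hRR
  rw [hR] at hR1 hRX hRL hRd hvR
  obtain ⟨hP1, hV1⟩ := inner_eq_zero_of_sub hP hV signedIrr_one hPV hR1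
  obtain ⟨hPX, hVX⟩ := inner_eq_zero_of_sub hP hV s.sX hPV hRX
  have hPL : ∀ t, classInner P (L t) = 0 ∧ classInner V (L t) = 0 := fun t =>
    inner_eq_zero_of_sub hP hV (s.sL t) hPV (hRL t)
  have hAR : classInner A (P - V) + classInner B (P - V) = -1 := by
    rw [← hvR, hf]
    have : classInner 1 (P - V) = 0 := by
      rw [classInner_sub_right, inner_symm_zero hP1, inner_symm_zero hV1, sub_zero]
    simp only [classInner_add_left, this]
    ring
  -- one of `A`, `B` is `- P` or `V`
  have main : ∀ A B : G → ℂ, SignedIrr A → SignedIrr B → classInner A B = 0 →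
      classInner A 1 = 0 → classInner B 1 = 0 → classInner A X = 0 → classInner B X = 0 →
      (∀ t, classInner A (L t) + classInner B (L t) = 0) → v = 1 + A + B →
      classInner A (P - V) = 0 → classInner B (P - V) = -1 →
      ∃ χ P V : G → ℂ, ChiData o k Φ X L v χ P V := by
    intro A B hA hB hAB hA1 hB1 hAX hBX hABL hf hA0 hB0
    -- `B = - P` or `B = V`
    have hcase : ∀ P V : G → ℂ, SignedIrr P → SignedIrr V → classInner P V = 0 →
        Φ k t₀ - Φ o t₀ + 1 - X = P - V → classInner V X = 0 →
        (∀ t, classInner P (L t) = 0) → (∀ t, classInner V (L t) = 0) → B = -P →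
        classInner A V = 0 → ∃ χ P V : G → ℂ, ChiData o k Φ X L v χ P V := by
      intro P V hP hV hPV hR hVX hPL hVL hBP hAV
      have hAP : classInner A P = 0 := by
        rw [hBP, classInner_neg_right] at hAB
        exact neg_eq_zero.1 hAB
      have hP1 : classInner P 1 = 0 := by
        rw [hBP, classInner_neg_left] at hB1
        exact neg_eq_zero.1 hB1
      have hPX : classInner P X = 0 := by
        rw [hBP, classInner_neg_left] at hBX
        exact neg_eq_zero.1 hBX
      have hAL : ∀ t, classInner A (L t) = 0 := by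
        intro t
        have h1 := hABL t
        rw [hBP, classInner_neg_left, hPL t] at h1
        linear_combination h1
      have hvP : v = 1 + A - P := by rw [hf, hBP]; abel
      have hRk : ∀ t, Φ k t = Φ o t - 1 + X + P - V := by
        intro t
        have h1 := beta_const h k t t₀
        have h2 : Φ k t - Φ o t + 1 - X = P - V := by rw [h1]; exact hR
        calc Φ k t = (Φ k t - Φ o t + 1 - X) + (Φ o t - 1 + X) := by abel
          _ = P - V + (Φ o t - 1 + X) := by rw [h2]
          _ = Φ o t - 1 + X + P - V := by abel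
      have h1A := inner_symm_zero hA1
      have hXA := inner_symm_zero hAX
      have hoA : ∀ t, classInner (Φ o t) A = 0 := by
        intro t
        rw [s.eq t, classInner_add_left, classInner_sub_left, h1A, hXA,
          inner_symm_zero (hAL t)]
        ring
      refine ⟨A, P, V, hA, hP, hV, hvP, hRk, hA1, hP1, hAP, hAV, hPV, hAX, hPX, hVX, hAL, hPL,
        hVL, ?_⟩
      intro l t
      by_cases hl : l = o
      · rw [hl]; exact hoA t
      by_cases hlk : l = k
      · rw [hlk, hRk t]
        simp only [classInner_add_left, classInner_sub_left, hoA, h1A, hXA,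
          inner_symm_zero hAP, inner_symm_zero hAV]
        ring
      · -- `(v, R l) = 0`
        obtain ⟨hRg', hRR', hR1', hRX', hRL', hRd'⟩ := R_facts h s hΛ hΘ hl t₀
        have hRR'' := R_R h s hΛ hΘ hk hl (Ne.symm hlk) t₀
        obtain ⟨P', Q', hP', hQ', hPQ', hRl⟩ := decomp_two hRg' hRR'
        have hvl : classInner v (Φ l t₀ - Φ o t₀ + 1 - X) = 0 := by
          rw [classInner_sub_right, classInner_add_right, classInner_sub_right, hvΦ, hvo, hv1,
            hvX, if_neg hl, if_neg hlk]
          ring
        rw [hRl] at hRR'' hRd' hvl hR1'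
        rw [hR] at hRR''
        obtain ⟨hRg2, hRR2, hR12, hRX2, hRL2, hRd2⟩ := R_facts h s hΛ hΘ hk t₀
        rw [hR] at hRd2
        rw [Pi.sub_apply] at hRd2 hRd'
        obtain ⟨d1, d2, -, -⟩ := disjoint hP hV hP' hQ' hPV hPQ' hRR'' (by rw [hRd2, hRd'])
        have hPR : classInner P (P' - Q') = 0 := by
          rw [classInner_sub_right, d1, d2, sub_zero]
        have hAR' : classInner A (P' - Q') = 0 := by
          rw [hvP, classInner_sub_left, classInner_add_left, hPR, inner_symm_zero hR1'] at hvl
          linear_combination hvl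
        have h1 := beta_const h l t t₀
        have h2 : Φ l t = (P' - Q') + (Φ o t - 1 + X) := by
          rw [← hRl, ← h1]; abel
        rw [h2, classInner_add_left, inner_symm_zero hAR', classInner_add_left,
          classInner_sub_left, hoA, h1A, hXA]
        ring
    rcases inner_values hB hP with h1 | ⟨h1, h2⟩ | ⟨h1, h2⟩
    · -- `(B, V) = 1`
      rw [classInner_sub_right, h1] at hB0
      have hBV : classInner B V = 1 := by linear_combination -hB0
      have h2 := signed_eq_of_inner_one hB hV hBV
      have hAV : classInner A V = 0 := by rw [← h2]; exact hAB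
      have hAP : classInner A P = 0 := by
        rw [classInner_sub_right, hAV] at hA0
        linear_combination hA0
      refine hcase (-V) (-P) (signed_neg hV) (signed_neg hP) ?_ ?_ ?_ ?_ ?_ ?_ ?_
      · rw [classInner_neg_left, classInner_neg_right, inner_symm_zero hPV, neg_zero, neg_zero]
      · rw [hR]; abel
      · rw [classInner_neg_left, hPX, neg_zero]
      · intro t; rw [classInner_neg_left, (hPL t).2, neg_zero]
      · intro t; rw [classInner_neg_left, (hPL t).1, neg_zero]
      · rw [h2, neg_neg]
      · rw [classInner_neg_right, hAP, neg_zero]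
    · exfalso
      rw [classInner_sub_right, h1, h2, hPV] at hB0
      norm_num at hB0
    · have hAP : classInner A P = 0 := by
        rw [h2, classInner_neg_right] at hAB
        exact neg_eq_zero.1 hAB
      refine hcase P V hP hV hPV hR hVX (fun t => (hPL t).1) (fun t => (hPL t).2) h2 ?_
      rw [classInner_sub_right, hAP] at hA0
      linear_combination -hA0
  -- the possible values of `(A, P - V)`
  have hval : ∀ A : G → ℂ, SignedIrr A → classInner A (P - V) = 0 ∨ classInner A (P - V) = 1 ∨
      classInner A (P - V) = -1 := by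
    intro A hA
    rw [classInner_sub_right]
    rcases inner_values hA hP with h1 | ⟨h1, h2⟩ | ⟨h1, h2⟩
    · rcases inner_values hA hV with h3 | ⟨h3, h4⟩ | ⟨h3, h4⟩ <;> rw [h1, h3] <;> norm_num
    · rw [h1, h2, hPV]; norm_num
    · rw [h1, h2, classInner_neg_left, hPV]; norm_num
  rcases hval A hA with h1 | h1 | h1
  · exact main A B hA hB hAB hA1 hB1 hAX hBX hsum0 hf h1 (by rw [h1] at hAR; linear_combination hAR)
  · exfalso
    rw [h1] at hAR
    rcases hval B hB with h2 | h2 | h2 <;> rw [h2] at hAR <;> norm_num at hAR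
  · refine main B A hB hA (inner_symm_zero hAB) hB1 hA1 hBX hAX
      (fun t => by rw [add_comm]; exact hsum0 t) (by rw [hf]; abel) ?_ h1
    rw [h1] at hAR
    linear_combination hAR

/-- A function of small norm orthogonal to `1`, `v`, `Φ o t`, `Φ k t`. -/
theorem ChiData.small [Fintype Λ] [Fintype Θ] {k : Λ} {X : G → ℂ} {L : Θ → G → ℂ}
    (s : Split o Φ X L) (hΘ : 2 ≤ Fintype.card Θ) {v χ P V : G → ℂ}
    (D : ChiData o k Φ X L v χ P V) {w : G → ℂ} (hw : IsGeneralizedCharacter G w)
    (hw1 : classInner w 1 = 0) (hwv : classInner w v = 0) (hwo : ∀ t, classInner w (Φ o t) = 0)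
    (hwk : ∀ t, classInner w (Φ k t) = 0) {N : ℤ} (hN : classInner w w = (N : ℂ)) (hN4 : N ≤ 4) :
    classInner w χ = 0 ∨
      (∃ (e : ℤ), (e = 1 ∨ e = -1) ∧ classInner w χ = e ∧
        classInner (w - (e : ℂ) • (χ + P + V)) (w - (e : ℂ) • (χ + P + V)) = ((N - 3 : ℤ) : ℂ)) := by
  obtain ⟨e, he⟩ := inner_int hw D.sχ
  by_cases he0 : e = 0
  · left; rw [he, he0]; norm_num
  obtain ⟨g, hg⟩ := inner_int hw s.sX
  obtain ⟨p, hp⟩ := inner_int hw D.sP
  obtain ⟨q, hq⟩ := inner_int hw D.sV
  have hL : ∀ t, classInner w (L t) = g := by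
    intro t
    have h1 := hwo t
    rw [s.eq t, classInner_add_right, classInner_sub_right, hw1, hg] at h1
    linear_combination h1
  have hpe : p = e := by
    have h1 := hwv
    rw [D.eq_v, classInner_sub_right, classInner_add_right, hw1, he, hp] at h1
    have h2 : ((p : ℤ) : ℂ) = ((e : ℤ) : ℂ) := by linear_combination -h1
    exact_mod_cast h2
  obtain ⟨t₀, t₁, h01⟩ : ∃ t₀ t₁ : Θ, t₀ ≠ t₁ :=
    (Fintype.one_lt_card_iff_nontrivial.1 (by omega)).exists_pair_ne
  have hqg : q = g + e := by
    have h1 := hwk t₀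
    rw [D.eq_R, classInner_sub_right, classInner_add_right, classInner_add_right,
      classInner_sub_right, hwo, hw1, hg, hp, hq, hpe] at h1
    have h2 : ((q : ℤ) : ℂ) = ((g + e : ℤ) : ℂ) := by push_cast; linear_combination -h1
    exact_mod_cast h2
  subst hpe
  right
  -- the norm of `w - g X - g L t₀ - g L t₁ - p χ - p P - q V`
  have cχ := inner_conj_int he
  have cP := inner_conj_int hp
  have cV := inner_conj_int hq
  have cX := inner_conj_int hg
  have cL : ∀ t, classInner (L t) w = g := fun t => inner_conj_int (hL t)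
  have sχχ := signed_self D.sχ
  have sPP := signed_self D.sP
  have sVV := signed_self D.sV
  have sXX := signed_self s.sX
  have sLL : ∀ t, classInner (L t) (L t) = 1 := fun t => signed_self (s.sL t)
  have hnorm : classInner (w - (g : ℂ) • X - (g : ℂ) • L t₀ - (g : ℂ) • L t₁ - (p : ℂ) • χ -
      (p : ℂ) • P - (q : ℂ) • V) (w - (g : ℂ) • X - (g : ℂ) • L t₀ - (g : ℂ) • L t₁ -
      (p : ℂ) • χ - (p : ℂ) • P - (q : ℂ) • V) = ((N - 3 * g ^ 2 - 2 * p ^ 2 - q ^ 2 : ℤ) : ℂ) := by
    simp only [classInner_sub_left, classInner_sub_right, classInner_smul_left,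
      classInner_smul_right, hN, he, hp, hq, hg, hL, cχ, cP, cV, cX, cL, sχχ, sPP, sVV, sXX, sLL,
      D.χP, D.χV, D.PV, D.χX, D.PX, D.VX, D.χL, D.PL, D.VL, inner_symm_zero D.χP,
      inner_symm_zero D.χV, inner_symm_zero D.PV, inner_symm_zero D.χX, inner_symm_zero D.PX,
      inner_symm_zero D.VX, inner_symm_zero (D.χL _), inner_symm_zero (D.PL _),
      inner_symm_zero (D.VL _), s.XL, inner_symm_zero (s.XL _), s.LL _ _ h01,
      s.LL _ _ (Ne.symm h01), map_intCast]
    push_cast
    ring
  have h0 := norm_nonneg_int hnorm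
  have hp2 : 1 ≤ p ^ 2 := by
    have := Int.one_le_abs he0
    nlinarith [sq_abs p, abs_nonneg p]
  have hg0 : g = 0 := by
    by_contra hne
    have : 1 ≤ g ^ 2 := by
      have := Int.one_le_abs hne
      nlinarith [sq_abs g, abs_nonneg g]
    nlinarith [sq_nonneg q]
  subst hg0
  rw [zero_add] at hqg
  subst hqg
  refine ⟨q, ?_, he, ?_⟩
  · have h1 : q < 2 := by nlinarith
    have h2 : -2 < q := by nlinarith
    omega
  · have h1 : q ^ 2 = 1 := by nlinarith
    have h2 : w - (q : ℂ) • (χ + P + V) = w - ((0 : ℤ) : ℂ) • X - ((0 : ℤ) : ℂ) • L t₀ -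
        ((0 : ℤ) : ℂ) • L t₁ - (q : ℂ) • χ - (q : ℂ) • P - (q : ℂ) • V := by
      rw [Int.cast_zero]
      module
    rw [h2, hnorm]
    congr 1
    linear_combination (-3 : ℤ) * h1

end

end Cfsg.Agent.Classification.InvCent.WrGramThree
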