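import Mathlib
import Cfsg.Agent.Classification.InvCent.WrPsi

/-!
# The vectors of level `0` of the wreathed case on `C`

`F i j = X i j + X (i+h) (j+h) - X (i+h) j - X i (j+h)` on `T`, `h = r/2`;
`uu i j = R_T(F i j)`, `vv i = (R_T(F i i) + R_T'(θ^(2i) - θ^(2(i+h)))) / 2`.
-/

set_option autoImplicit false
set_option linter.unusedSectionVars false

open Cfsg
open scoped ComplexConjugate

namespace Cfsg.Agent.Classification.InvCent.WrVec

open Cfsg.Agent.Characters Cfsg.Agent.Classification.InvCent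
  Cfsg.Agent.Classification.InvCent.LinChar Cfsg.Agent.Classification.InvCent.WrChar
  Cfsg.Agent.Classification.InvCent.WrFun Cfsg.Agent.Classification.InvCent.WrPsi

variable {C : Type*} [Group C] {z : C} {q : ℕ} {ε : ℤ} {Z T T' U : Subgroup C} {s s' u : C}
  {r : ℕ} {b : C →* ℂˣ}

variable [Fintype C] {hC : CHyp z q ε Z T T' U s s' u} {μ : U →* ℂˣ}
  {ξ : T →* ℂˣ} {θ : T' →* ℂˣ}

/-- The function `F i j` on `T`. -/
noncomputable def F (hC : CHyp z q ε Z T T' U s s' u) (ξ : T →* ℂˣ) (r i j : ℕ) : C → ℂ :=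
  (lin T (X hC ξ i j) + lin T (X hC ξ (i + r / 2) (j + r / 2))) -
    (lin T (X hC ξ (i + r / 2) j) + lin T (X hC ξ i (j + r / 2)))

/-- `uu i j = R_T(F i j)`. -/
noncomputable def uu (hC : CHyp z q ε Z T T' U s s' u) (μ : U →* ℂˣ) (ξ : T →* ℂˣ) (r i j : ℕ) :
    C → ℂ := Torus.R T hC.base μ (F hC ξ r i j)

/-- `vv i = b^i + R_T(X (i+h) (i+h)) - b^(i+h) - R_T(X i (i+h))`. -/
noncomputable def vv (hC : CHyp z q ε Z T T' U s s' u) (μ : U →* ℂˣ) (ξ : T →* ℂˣ)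
    (b : C →* ℂˣ) (r i : ℕ) : C → ℂ :=
  bb b i + Rt hC μ (X hC ξ (i + r / 2) (i + r / 2)) - bb b (i + r / 2) -
    Rt hC μ (X hC ξ i (i + r / 2))

theorem uu_eq (i j : ℕ) : uu hC μ ξ r i j =
    (Rt hC μ (X hC ξ i j) + Rt hC μ (X hC ξ (i + r / 2) (j + r / 2))) -
      (Rt hC μ (X hC ξ (i + r / 2) j) + Rt hC μ (X hC ξ i (j + r / 2))) := by
  unfold uu F
  rw [R_sub, R_add, R_add]

theorem isGeneralized_uu (i j : ℕ) : IsGeneralizedCharacter C (uu hC μ ξ r i j) := by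
  rw [uu_eq]
  exact Brauer.isGeneralizedCharacter_sub
    (Brauer.isGeneralizedCharacter_add (isGeneralized_Rt _) (isGeneralized_Rt _))
    (Brauer.isGeneralizedCharacter_add (isGeneralized_Rt _) (isGeneralized_Rt _))

theorem isGeneralized_vv (i : ℕ) : IsGeneralizedCharacter C (vv hC μ ξ b r i) := by
  unfold vv
  exact Brauer.isGeneralizedCharacter_sub (Brauer.isGeneralizedCharacter_sub
    (Brauer.isGeneralizedCharacter_add
      (Brauer.isGeneralizedCharacter_of_isCharacter (isCharacter_bb _)) (isGeneralized_Rt _))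
    (Brauer.isGeneralizedCharacter_of_isCharacter (isCharacter_bb _))) (isGeneralized_Rt _)

/-- `2 vv i` in terms of `uu i i`. -/
theorem two_vv (hD : DetHyp q ε T T' U s s' u r b) (hξ : XiHyp hC r b ξ)
    (hθ : ThetaHyp hC r b θ) (hμ : ∃ v : U, μ v ≠ 1) (i : ℕ) :
    (2 : ℂ) • vv hC μ ξ b r i = uu hC μ ξ r i i +
      (Rt' hC μ (θ ^ (2 * i)) - Rt' hC μ (θ ^ (2 * (i + r / 2)))) := by
  have h1 := two_bb hD hξ hθ hμ i
  have h2 := two_bb hD hξ hθ hμ (i + r / 2)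
  have h3 := Rt_X_swap (hC := hC) (ξ := ξ) hμ (i + r / 2) i
  rw [uu_eq, h3]
  funext x
  have h5 := congrFun h1 x
  have h6 := congrFun h2 x
  simp only [Pi.smul_apply, Pi.add_apply, Pi.sub_apply, smul_eq_mul, vv] at h5 h6 ⊢
  linear_combination h5 - h6

theorem vv_eq (hD : DetHyp q ε T T' U s s' u r b) (hξ : XiHyp hC r b ξ)
    (hθ : ThetaHyp hC r b θ) (hμ : ∃ v : U, μ v ≠ 1) (i : ℕ) :
    vv hC μ ξ b r i = (2 : ℂ)⁻¹ • ((Rt hC μ (X hC ξ i i) +
      Rt hC μ (X hC ξ (i + r / 2) (i + r / 2)) -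
        (2 : ℂ) • Rt hC μ (X hC ξ i (i + r / 2))) +
      (Rt' hC μ (θ ^ (2 * i)) - Rt' hC μ (θ ^ (2 * (i + r / 2))))) := by
  have h1 := two_bb hD hξ hθ hμ i
  have h2 := two_bb hD hξ hθ hμ (i + r / 2)
  funext x
  have h5 := congrFun h1 x
  have h6 := congrFun h2 x
  simp only [Pi.smul_apply, Pi.add_apply, Pi.sub_apply, smul_eq_mul, vv] at h5 h6 ⊢
  linear_combination (1 / 2 : ℂ) * h5 - (1 / 2 : ℂ) * h6

section Arith

variable {r : ℕ}

theorem half_add (hr : 4 ∣ r) : r / 2 + r / 2 = r := by omega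

theorem modEq_half {a c : ℕ} (hr : 4 ∣ r) (h : a ≡ c [MOD r]) : a ≡ c [MOD (r / 2)] :=
  h.of_dvd ⟨2, by omega⟩

theorem add_half_modEq {a : ℕ} : a + r / 2 ≡ a [MOD (r / 2)] := by
  unfold Nat.ModEq
  rw [Nat.add_mod_right]

theorem not_add_half (h0 : 0 < r) (hr : 4 ∣ r) (a : ℕ) : ¬ (a + r / 2 ≡ a [MOD r]) := by
  intro h
  have h1 : r / 2 ≡ 0 [MOD r] := Nat.ModEq.add_left_cancel' a h
  have := Nat.ModEq.eq_of_lt_of_lt h1 (by omega) h0
  omega

theorem not_add_half' (h0 : 0 < r) (hr : 4 ∣ r) (a : ℕ) : ¬ (a ≡ a + r / 2 [MOD r]) :=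
  fun h => not_add_half h0 hr a h.symm

end Arith

/-- Inner products of `R_T` vanish when only one pair is congruent modulo `h`. -/
theorem inner_X_zero (hr : 4 ∣ r) (hξ : XiHyp hC r b ξ) (hμ : ∃ v : U, μ v ≠ 1) {i j k l : ℕ}
    (h1 : ¬ i ≡ j [MOD (r / 2)]) (h2 : k ≡ l [MOD (r / 2)]) :
    classInner (Rt hC μ (X hC ξ i j)) (Rt hC μ (X hC ξ k l)) = 0 := by
  rw [inner_X hξ hμ, if_neg, if_neg, add_zero]
  · rintro ⟨h3, h4⟩
    exact h1 (((modEq_half hr h3).trans h2.symm).trans (modEq_half hr h4).symm)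
  · rintro ⟨h3, h4⟩
    exact h1 (((modEq_half hr h3).trans h2).trans (modEq_half hr h4).symm)

theorem inner_uu_of (hr : 4 ∣ r) (hξ : XiHyp hC r b ξ) (hμ : ∃ v : U, μ v ≠ 1) {i j : ℕ}
    (h1 : ¬ i ≡ j [MOD (r / 2)]) {k l : ℕ} (h2 : k ≡ l [MOD (r / 2)]) :
    classInner (uu hC μ ξ r i j) (Rt hC μ (X hC ξ k l)) = 0 := by
  have e1 : ¬ i + r / 2 ≡ j + r / 2 [MOD (r / 2)] := fun h =>
    h1 (add_half_modEq.symm.trans (h.trans add_half_modEq))
  have e2 : ¬ i + r / 2 ≡ j [MOD (r / 2)] := fun h => h1 (add_half_modEq.symm.trans h)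
  have e3 : ¬ i ≡ j + r / 2 [MOD (r / 2)] := fun h => h1 (h.trans add_half_modEq)
  rw [uu_eq, Core.classInner_sub_left, Core.classInner_add_left, Core.classInner_add_left,
    inner_X_zero hr hξ hμ h1 h2, inner_X_zero hr hξ hμ e1 h2, inner_X_zero hr hξ hμ e2 h2,
    inner_X_zero hr hξ hμ e3 h2]
  ring

theorem inner_uu_Rt' (hμ : ∃ v : U, μ v ≠ 1) (i j : ℕ) (χ : T' →* ℂˣ) :
    classInner (uu hC μ ξ r i j) (Rt' hC μ χ) = 0 := by
  rw [uu_eq, Core.classInner_sub_left, Core.classInner_add_left, Core.classInner_add_left,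
    Rt_Rt' hμ, Rt_Rt' hμ, Rt_Rt' hμ, Rt_Rt' hμ]
  ring

/-- The norm of `uu i j`, `i ≢ j` modulo `h`. -/
theorem inner_uu (hD : DetHyp q ε T T' U s s' u r b) (hr : 4 ∣ r) (hξ : XiHyp hC r b ξ)
    (hμ : ∃ v : U, μ v ≠ 1) {i j : ℕ} (h1 : ¬ i ≡ j [MOD (r / 2)]) :
    classInner (uu hC μ ξ r i j) (uu hC μ ξ r i j) = 4 := by
  have h0 := two_r hD
  have m1 : ¬ i ≡ j [MOD r] := fun h => h1 (modEq_half hr h)
  have m2 : ¬ j ≡ i [MOD r] := fun h => m1 h.symm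
  have m3 : ¬ i + r / 2 ≡ j [MOD r] := fun h =>
    h1 (add_half_modEq.symm.trans (modEq_half hr h))
  have m4 : ¬ j ≡ i + r / 2 [MOD r] := fun h => m3 h.symm
  have m5 : ¬ i ≡ j + r / 2 [MOD r] := fun h =>
    h1 ((modEq_half hr h).trans add_half_modEq)
  have m6 : ¬ j + r / 2 ≡ i [MOD r] := fun h => m5 h.symm
  have m7 : ¬ i + r / 2 ≡ j + r / 2 [MOD r] := fun h => m1 (Nat.ModEq.add_right_cancel' _ h)
  have m8 : ¬ j + r / 2 ≡ i + r / 2 [MOD r] := fun h => m7 h.symm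
  rw [uu_eq]
  simp only [Core.classInner_add_left, Core.classInner_add_right, Core.classInner_sub_left,
    Core.classInner_sub_right, inner_X hξ hμ, m1, m2, m3, m4, m5, m6, m7, m8,
    not_add_half h0 hr, not_add_half' h0 hr, Nat.ModEq.refl]
  norm_num

theorem X_eq_one_iff (hξ : XiHyp hC r b ξ) {i j : ℕ} :
    X hC ξ i j = 1 ↔ i ≡ 0 [MOD r] ∧ j ≡ 0 [MOD r] := by
  rw [← X_eq_iff hξ (hC := hC)]
  have : X hC ξ 0 0 = 1 := by
    ext x
    simp [X_apply]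
  rw [this]

theorem inner_uu_one (hr : 4 ∣ r) (hξ : XiHyp hC r b ξ) (hμ : ∃ v : U, μ v ≠ 1) {i j : ℕ}
    (h1 : ¬ i ≡ j [MOD (r / 2)]) : classInner (uu hC μ ξ r i j) 1 = 0 := by
  classical
  have key : ∀ k l : ℕ, ¬ k ≡ l [MOD (r / 2)] →
      classInner (Rt hC μ (X hC ξ k l)) 1 = 0 := by
    intro k l hkl
    rw [inner_Rt_one hμ, if_neg]
    rw [X_eq_one_iff hξ]
    rintro ⟨h3, h4⟩
    exact hkl ((modEq_half hr h3).trans (modEq_half hr h4).symm)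
  have e1 : ¬ i + r / 2 ≡ j + r / 2 [MOD (r / 2)] := fun h =>
    h1 (add_half_modEq.symm.trans (h.trans add_half_modEq))
  have e2 : ¬ i + r / 2 ≡ j [MOD (r / 2)] := fun h => h1 (add_half_modEq.symm.trans h)
  have e3 : ¬ i ≡ j + r / 2 [MOD (r / 2)] := fun h => h1 (h.trans add_half_modEq)
  rw [uu_eq, Core.classInner_sub_left, Core.classInner_add_left, Core.classInner_add_left,
    key _ _ h1, key _ _ e1, key _ _ e2, key _ _ e3]
  ring

/-- `(uu i j, vv k) = 0`, `i ≢ j` modulo `h`. -/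
theorem inner_uu_vv (hD : DetHyp q ε T T' U s s' u r b) (hr : 4 ∣ r) (hξ : XiHyp hC r b ξ)
    (hθ : ThetaHyp hC r b θ) (hμ : ∃ v : U, μ v ≠ 1) {i j : ℕ} (h1 : ¬ i ≡ j [MOD (r / 2)])
    (k : ℕ) : classInner (uu hC μ ξ r i j) (vv hC μ ξ b r k) = 0 := by
  rw [vv_eq hD hξ hθ hμ]
  simp only [Core.classInner_smul_right, Core.classInner_add_right, Core.classInner_sub_right,
    inner_uu_Rt' hμ]
  rw [inner_uu_of hr hξ hμ h1 (Nat.ModEq.refl k), inner_uu_of hr hξ hμ h1 (Nat.ModEq.refl _),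
    inner_uu_of hr hξ hμ h1 add_half_modEq.symm]
  ring

/-- Inner products of the `vv i`. -/
theorem inner_vv (hD : DetHyp q ε T T' U s s' u r b) (hr : 4 ∣ r) (hξ : XiHyp hC r b ξ)
    (hθ : ThetaHyp hC r b θ) (hμ : ∃ v : U, μ v ≠ 1) {i j : ℕ} (hi : i < r / 2)
    (hj : j < r / 2) :
    classInner (vv hC μ ξ b r i) (vv hC μ ξ b r j) = if i = j then 3 else 0 := by
  have h0 := two_r hD
  have c2 : conj (2 : ℂ) = 2 := map_ofNat _ 2
  have c2' : conj (2 : ℂ)⁻¹ = 2⁻¹ := by rw [map_inv₀, c2]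
  have hlt : ∀ {a c : ℕ}, a < r → c < r → ((a ≡ c [MOD r]) ↔ a = c) := fun ha hc =>
    ⟨fun h => Nat.ModEq.eq_of_lt_of_lt h ha hc, fun h => by rw [h]⟩
  rw [vv_eq hD hξ hθ hμ i, vv_eq hD hξ hθ hμ j]
  simp only [Core.classInner_smul_left, Core.classInner_smul_right, Core.classInner_add_left,
    Core.classInner_add_right, Core.classInner_sub_left, Core.classInner_sub_right,
    inner_X hξ hμ, Rt_Rt' hμ, Rt'_Rt hμ, inner_even_even hD hr hθ hμ
      (show i < r by omega) (show j < r by omega),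
    inner_even_even hD hr hθ hμ (show i < r by omega) (show j + r / 2 < r by omega),
    inner_even_even hD hr hθ hμ (show i + r / 2 < r by omega) (show j < r by omega),
    inner_even_even hD hr hθ hμ (show i + r / 2 < r by omega) (show j + r / 2 < r by omega),
    hlt (show i < r by omega) (show j < r by omega),
    hlt (show i < r by omega) (show j + r / 2 < r by omega),
    hlt (show i + r / 2 < r by omega) (show j < r by omega),
    hlt (show i + r / 2 < r by omega) (show j + r / 2 < r by omega), c2, c2']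
  have e1 : i ≠ j + r / 2 := by omega
  have e2 : i + r / 2 ≠ j := by omega
  by_cases hij : i = j
  · subst hij
    have e3 : i ≠ i + r / 2 := by omega
    simp only [e3, e3.symm]
    norm_num
  · have e3 : i + r / 2 ≠ j + r / 2 := by omega
    simp only [e1, e2, e3, hij]
    norm_num

theorem inner_vv_one (hD : DetHyp q ε T T' U s s' u r b) (hr : 4 ∣ r) (hξ : XiHyp hC r b ξ)
    (hθ : ThetaHyp hC r b θ) (hμ : ∃ v : U, μ v ≠ 1) {i : ℕ} (hi : i < r / 2) :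
    classInner (vv hC μ ξ b r i) 1 = if i = 0 then 1 else 0 := by
  classical
  have h0 := two_r hD
  have hlt : ∀ {a c : ℕ}, a < r → c < r → ((a ≡ c [MOD r]) ↔ a = c) := fun ha hc =>
    ⟨fun h => Nat.ModEq.eq_of_lt_of_lt h ha hc, fun h => by rw [h]⟩
  have hθ1 : ∀ n : ℕ, n < 2 * r → (θ ^ n = 1 ↔ n = 0) := by
    intro n hn2
    have h1 : θ ^ n = 1 ↔ 2 * r ∣ n := by
      rw [← orderOf_theta hD hθ, orderOf_dvd_iff_pow_eq_one]
    rw [h1]
    constructor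
    · intro h
      by_contra hne
      have := Nat.le_of_dvd (by omega) h
      omega
    · rintro rfl; exact dvd_zero _
  rw [vv_eq hD hξ hθ hμ]
  simp only [Core.classInner_smul_left, Core.classInner_add_left, Core.classInner_sub_left,
    inner_Rt_one hμ, inner_Rt'_one hμ, X_eq_one_iff hξ, hθ1 _ (show 2 * i < 2 * r by omega),
    hθ1 _ (show 2 * (i + r / 2) < 2 * r by omega),
    hlt (show i < r by omega) h0, hlt (show i + r / 2 < r by omega) h0]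
  have e1 : i + r / 2 ≠ 0 := by omega
  have e2 : ¬ 2 * (i + r / 2) = 0 := by omega
  by_cases hi0 : i = 0
  · subst hi0
    simp only [e1, e2]
    norm_num
  · have e3 : ¬ 2 * i = 0 := by omega
    simp only [e1, e2, e3, hi0]
    norm_num

theorem inner_vv_Phi (hD : DetHyp q ε T T' U s s' u r b) (hr : 4 ∣ r) (hξ : XiHyp hC r b ξ)
    (hθ : ThetaHyp hC r b θ) (hμ : ∃ v : U, μ v ≠ 1) {i l k : ℕ} (hi : i < r / 2) (hl : l < r) :
    classInner (vv hC μ ξ b r i) (Phi hC μ θ l k) =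
      (if l = i then 1 else 0) - (if l = i + r / 2 then 1 else 0) := by
  classical
  have h0 := two_r hD
  rw [vv_eq hD hξ hθ hμ, Phi]
  simp only [Core.classInner_smul_left, Core.classInner_add_left, Core.classInner_sub_left,
    Core.classInner_sub_right, Rt_Rt' hμ, inner_even_odd hD hr hθ hμ,
    inner_even_even hD hr hθ hμ (show i < r by omega) hl,
    inner_even_even hD hr hθ hμ (show i + r / 2 < r by omega) hl, eq_comm (a := l)]
  split_ifs <;> norm_num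

theorem inner_uu_Phi (hμ : ∃ v : U, μ v ≠ 1) (i j l k : ℕ) :
    classInner (uu hC μ ξ r i j) (Phi hC μ θ l k) = 0 := by
  rw [Phi, Core.classInner_sub_right, inner_uu_Rt' hμ, inner_uu_Rt' hμ, sub_zero]

theorem F_apply (i j : ℕ) {x : C} (hx : x ∈ T) : F hC ξ r i j x =
    (ξ ⟨x, hx⟩ : ℂ) ^ i * (ξ (sg hC.torus ⟨x, hx⟩) : ℂ) ^ j *
      ((1 - (ξ ⟨x, hx⟩ : ℂ) ^ (r / 2)) * (1 - (ξ (sg hC.torus ⟨x, hx⟩) : ℂ) ^ (r / 2))) := by
  unfold F
  simp only [Pi.add_apply, Pi.sub_apply, lin_X _ _ hx, pow_add]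
  ring

/-- `ξ^(r/2) = ± 1`. -/
theorem xi_half (hr : 4 ∣ r) (hξ : XiHyp hC r b ξ) (x : T) :
    ξ x ^ (r / 2) = 1 ∨ ξ x ^ (r / 2) = -1 := by
  refine WrXi.units_sq ?_
  rw [← pow_add, half_add hr, hξ.pow]

theorem F_eq_zero (hr : 4 ∣ r) (hξ : XiHyp hC r b ξ) (i j : ℕ) {x : C} (hx : x ∈ T)
    (h : ¬ (ξ ⟨x, hx⟩ ^ (r / 2) = -1 ∧ ξ (sg hC.torus ⟨x, hx⟩) ^ (r / 2) = -1)) :
    F hC ξ r i j x = 0 := by
  rw [F_apply _ _ hx]
  rcases xi_half hr hξ ⟨x, hx⟩ with h1 | h1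
  · have h2 := congrArg Units.val h1
    rw [Units.val_pow_eq_pow_val, Units.val_one] at h2
    rw [h2]; ring
  · rcases xi_half hr hξ (sg hC.torus ⟨x, hx⟩) with h3 | h3
    · have h2 := congrArg Units.val h3
      rw [Units.val_pow_eq_pow_val, Units.val_one] at h2
      rw [h2]; ring
    · exact absurd ⟨h1, h3⟩ h

theorem F_eq (i j : ℕ) {x : C} (hx : x ∈ T)
    (h1 : ξ ⟨x, hx⟩ ^ (r / 2) = -1) (h2 : ξ (sg hC.torus ⟨x, hx⟩) ^ (r / 2) = -1) :
    F hC ξ r i j x = 4 * ((ξ ⟨x, hx⟩ : ℂ) ^ i * (ξ (sg hC.torus ⟨x, hx⟩) : ℂ) ^ j) := by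
  have e1 := congrArg Units.val h1
  have e2 := congrArg Units.val h2
  rw [Units.val_pow_eq_pow_val, Units.val_neg, Units.val_one] at e1 e2
  rw [F_apply _ _ hx, e1, e2]
  ring

theorem F_supp (hD : DetHyp q ε T T' U s s' u r b) (hr : 4 ∣ r) (hξ : XiHyp hC r b ξ) (i j : ℕ) :
    ∀ x ∈ T, F hC ξ r i j x ≠ 0 → z ∈ Subgroup.zpowers x := by
  intro x hx h
  by_contra hcon
  refine h (F_eq_zero hr hξ i j hx fun h1 => hcon ?_)
  exact mem_zpowers_of_xi_half hD hξ (x := ⟨x, hx⟩) h1.1 h1.2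

theorem uu_supp (hD : DetHyp q ε T T' U s s' u r b) (hr : 4 ∣ r) (hξ : XiHyp hC r b ξ)
    (hμ : ∃ v : U, μ v ≠ 1) (i j : ℕ) {c : C} (h : uu hC μ ξ r i j c ≠ 0) :
    z ∈ Subgroup.zpowers c :=
  R_supp hC.torus hC.torus' hC.base hμ hC.exhaust hC.t_mem (F_supp hD hr hξ i j) h

theorem vv_supp (hD : DetHyp q ε T T' U s s' u r b) (hr : 4 ∣ r) (hξ : XiHyp hC r b ξ)
    (hθ : ThetaHyp hC r b θ) (hμ : ∃ v : U, μ v ≠ 1) (i : ℕ) {c : C}
    (h : vv hC μ ξ b r i c ≠ 0) : z ∈ Subgroup.zpowers c := by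
  have h1 := congrFun (two_vv hD hξ hθ hμ i) c
  rw [Pi.smul_apply, Pi.add_apply, smul_eq_mul, ← R_sub] at h1
  by_cases h2 : uu hC μ ξ r i i c = 0
  · refine R_supp hC.torus' (torus_neg_neg hC) hC.base hμ (exhaust' hC) hC.t_mem
      (lin_theta_ne hD hθ (2 * i) (2 * (i + r / 2))) (c := c) fun h3 => h ?_
    rw [h2, h3, add_zero] at h1
    exact (mul_eq_zero.1 h1).resolve_left (by norm_num)
  · exact uu_supp hD hr hξ hμ i i h2

theorem F_z (hr : 4 ∣ r) (hξ : XiHyp hC r b ξ) (i j : ℕ) : F hC ξ r i j z = 0 := by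
  rw [F_apply _ _ (z_mem hC), hξ.at_z]
  have h2 : Even (r / 2) := by
    obtain ⟨c, rfl⟩ := hr
    exact ⟨c, by omega⟩
  rw [Units.val_neg, Units.val_one, h2.neg_one_pow]
  ring

theorem uu_z (hr : 4 ∣ r) (hξ : XiHyp hC r b ξ) (i j : ℕ) : uu hC μ ξ r i j z = 0 := by
  unfold uu
  rw [hC.torus.R_Z hC.base _ hC.t_mem, F_z hr hξ, mul_zero]

theorem vv_z (hD : DetHyp q ε T T' U s s' u r b) (hr : 4 ∣ r) (hξ : XiHyp hC r b ξ)
    (hθ : ThetaHyp hC r b θ) (hμ : ∃ v : U, μ v ≠ 1) (i : ℕ) : vv hC μ ξ b r i z = 0 := by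
  have h1 := congrFun (two_vv hD hξ hθ hμ i) z
  rw [Pi.smul_apply, Pi.add_apply, smul_eq_mul, ← R_sub, uu_z hr hξ,
    hC.torus'.R_Z hC.base _ hC.t_mem, Pi.sub_apply, lin_theta_z hθ, lin_theta_z hθ, pow_mul,
    pow_mul] at h1
  norm_num at h1
  exact h1

theorem F_one (i j : ℕ) : F hC ξ r i j 1 = 0 := by
  have h3 : (⟨1, one_mem T⟩ : T) = 1 := rfl
  rw [F_apply _ _ (one_mem T), h3, map_one, map_one, Units.val_one, one_pow]
  norm_num

/-- Sum over `T₀` of a nontrivial power of `ξ`. -/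
theorem ssum_xi_pow (hD : DetHyp q ε T T' U s s' u r b) (hξ : XiHyp hC r b ξ) {n : ℕ}
    (hn : ¬ r ∣ n) : ssum hC.torus.T₀ (lin T (ξ ^ n)) = 0 := by
  have h0 := two_r hD
  obtain ⟨y, hy, hy1⟩ : ∃ y : T, (y : C) ∈ hC.torus.T₀ ∧ ξ y ^ n ≠ 1 := by
    by_contra hcon
    push Not at hcon
    have h1 : X hC ξ n 0 = X hC ξ 0 n := by
      ext x
      have h2 : ((x * (sg hC.torus x)⁻¹ : T) : C) ∈ hC.torus.T₀ := by
        refine ⟨(x * (sg hC.torus x)⁻¹ : T).2, ?_⟩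
        have h3 : (x * (sg hC.torus x)⁻¹) * sg hC.torus (x * (sg hC.torus x)⁻¹) = 1 := by
          rw [map_mul, map_inv, sg_sg]
          have h5 := hC.T_comm x x.2 (sg hC.torus x) (sg hC.torus x).2
          refine Subtype.ext ?_
          simp only [Subgroup.coe_mul, Subgroup.coe_inv, Subgroup.coe_one]
          group
        exact congrArg Subtype.val h3
      have h3 := hcon _ h2
      rw [map_mul, map_inv, mul_pow, inv_pow, mul_inv_eq_one] at h3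
      rw [X_apply, X_apply, pow_zero, pow_zero, mul_one, one_mul, h3]
    rw [X_eq_iff hξ] at h1
    exact hn ((Nat.modEq_zero_iff_dvd).1 h1.1)
  refine ssum_zero_of_ne (y := y) (w := ((ξ y ^ n : ℂˣ) : ℂ)) hy (fun x hx => ?_) ?_
  · have hxT : x ∈ T := hx.1
    rw [lin_apply _ (mul_mem y.2 hxT), lin_apply _ hxT, ← MonoidHom.pow_apply, ← Units.val_mul,
      ← map_mul]
    rfl
  · intro h
    exact hy1 (Units.ext (by rw [Units.val_one]; exact h))

/-- `F i j` on `T₀`. -/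
theorem F_T₀ (hr : 4 ∣ r) (hξ : XiHyp hC r b ξ) {i j : ℕ} (hj : j ≤ r) {x : C}
    (hx : x ∈ hC.torus.T₀) : F hC ξ r i j x =
      2 * lin T (ξ ^ (i + (r - j))) x - 2 * lin T (ξ ^ (i + (r - j) + r / 2)) x := by
  have hxT : x ∈ T := hx.1
  have h1 : sg hC.torus ⟨x, hxT⟩ = (⟨x, hxT⟩ : T)⁻¹ := by
    refine eq_inv_of_mul_eq_one_right ?_
    exact Subtype.ext hx.2
  rw [F_apply _ _ hxT, h1, map_inv, lin_pow _ _ hxT, lin_pow _ _ hxT, lin_apply _ hxT, pow_add _ _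
    (r / 2)]
  have h2 := xi_half hr hξ ⟨x, hxT⟩
  have h6 := hξ.pow ⟨x, hxT⟩
  generalize ξ ⟨x, hxT⟩ = w at *
  have h4 : ((w⁻¹ : ℂˣ) : ℂ) ^ (r / 2) = (w : ℂ) ^ (r / 2) := by
    rw [← Units.val_pow_eq_pow_val, ← Units.val_pow_eq_pow_val, inv_pow]
    rcases h2 with h2 | h2 <;> rw [h2] <;> simp
  have h5 : ((w⁻¹ : ℂˣ) : ℂ) ^ j = (w : ℂ) ^ (r - j) := by
    rw [← Units.val_pow_eq_pow_val, ← Units.val_pow_eq_pow_val]
    congr 1
    rw [inv_pow]
    refine inv_eq_of_mul_eq_one_right ?_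
    rw [← pow_add, Nat.add_sub_cancel' hj, h6]
  have h7 : ((w : ℂ) ^ (r / 2)) * (w : ℂ) ^ (r / 2) = 1 := by
    rw [← pow_add, half_add hr, ← Units.val_pow_eq_pow_val, h6, Units.val_one]
  rw [h4, h5, pow_add]
  linear_combination ((w : ℂ) ^ i * (w : ℂ) ^ (r - j)) * h7

/-- The pair sum of `uu i j`, `i ≢ j` modulo `h`. -/
theorem pairSum_uu (hD : DetHyp q ε T T' U s s' u r b) (hr : 4 ∣ r) (hξ : XiHyp hC r b ξ)
    (hμ : ∃ v : U, μ v ≠ 1) {i j : ℕ} (hj : j ≤ r) (h1 : ¬ i ≡ j [MOD (r / 2)]) :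
    pairSum z (uu hC μ ξ r i j) = 0 := by
  have h0 := two_r hD
  unfold uu
  rw [hC.pairSum_R_T hμ _ (F_one i j), F_z hr hξ, ssum_congr (fun x hx => F_T₀ hr hξ hj hx),
    ssum_sub, ssum_mul, ssum_mul]
  have hn : ∀ m : ℕ, m ≡ i + (r - j) [MOD (r / 2)] → ¬ r ∣ m := by
    intro m hm hd
    apply h1
    have h2 : m ≡ 0 [MOD (r / 2)] := modEq_half hr ((Nat.modEq_zero_iff_dvd).2 hd)
    have h3 : i + (r - j) ≡ 0 [MOD (r / 2)] := hm.symm.trans h2
    have h4 : i + (r - j) + j ≡ 0 + j [MOD (r / 2)] := h3.add_right j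
    have h5 : i + (r - j) + j = i + (r / 2 + r / 2) := by omega
    rw [h5, zero_add] at h4
    refine Nat.ModEq.trans ?_ h4
    have h6 : i + (r / 2 + r / 2) = i + r / 2 + r / 2 := by ring
    rw [h6]
    exact (add_half_modEq.trans add_half_modEq).symm
  rw [ssum_xi_pow hD hξ (hn _ (Nat.ModEq.refl _)), ssum_xi_pow hD hξ (hn _ add_half_modEq)]
  ring

/-- The pair sum of `vv 0`. -/
theorem pairSum_vv (hD : DetHyp q ε T T' U s s' u r b) (hr : 4 ∣ r) (hξ : XiHyp hC r b ξ)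
    (hθ : ThetaHyp hC r b θ) (hμ : ∃ v : U, μ v ≠ 1) :
    pairSum z (vv hC μ ξ b r 0) = q * (q ^ 2 - 1) * (q - ε) := by
  have h0 := two_r hD
  have h1 := congrArg (pairSum z) (two_vv hD hξ hθ hμ 0)
  have hone' : (lin T' (θ ^ (2 * 0)) - lin T' (θ ^ (2 * (0 + r / 2)))) 1 = 0 := by
    rw [Pi.sub_apply, lin_apply _ (one_mem T'), lin_apply _ (one_mem T')]
    have h3 : (⟨1, one_mem T'⟩ : T') = 1 := rfl
    rw [h3, map_one, map_one, sub_self]
  rw [pairSum_smul, pairSum_add, ← R_sub, hC.pairSum_R_T' hμ _ hone'] at h1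
  have h5 : pairSum z (uu hC μ ξ r 0 0) = q * (q ^ 2 - 1) * (2 * (q - ε)) := by
    unfold uu
    rw [hC.pairSum_R_T hμ _ (F_one 0 0), F_z hr hξ]
    have h2 : ssum hC.torus.T₀ (F hC ξ r 0 0) = 2 * (q - ε) := by
      have e1 : ∀ x ∈ hC.torus.T₀, F hC ξ r 0 0 x = 2 - 2 * lin T (ξ ^ (r / 2)) x := by
        intro x hx
        have hxT : x ∈ T := hx.1
        rw [F_T₀ hr hξ (Nat.zero_le _) hx]
        have e2 : ξ ^ r = 1 := by
          ext x
          rw [MonoidHom.pow_apply, hξ.pow, MonoidHom.one_apply]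
        have e3 : ξ ^ (r + r / 2) = ξ ^ (r / 2) := by
          ext x
          rw [MonoidHom.pow_apply, MonoidHom.pow_apply, pow_add, hξ.pow, one_mul]
        rw [Nat.zero_add, Nat.sub_zero, e3, e2, lin_one hxT, mul_one]
      rw [ssum_congr e1, ssum_sub, ssum_mul, ssum_xi hD hr hξ, ssum_const, mul_zero, sub_zero]
      have h3 := hC.torus.card_T₀
      have h4 : (Nat.card hC.torus.T₀ : ℂ) = q - ε := by exact_mod_cast h3
      rw [h4]; ring
    rw [h2]; ring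
  have h3 : ssum hC.torus'.T₀ (lin T' (θ ^ (2 * 0)) - lin T' (θ ^ (2 * (0 + r / 2)))) = 0 := by
    have h4 : ∀ x ∈ hC.torus'.T₀, (lin T' (θ ^ (2 * 0)) - lin T' (θ ^ (2 * (0 + r / 2)))) x =
        (fun _ => (0 : ℂ)) x := by
      intro x hx
      have hxT : x ∈ T' := hx.1
      rw [Pi.sub_apply, lin_pow _ _ hxT, lin_pow _ _ hxT, lin_apply _ hxT, pow_mul, pow_mul,
        ← Units.val_pow_eq_pow_val, hθ.sq]
      have h5 : b ((⟨x, hxT⟩ : T') : C) = 1 := hD.b_T'₀ x hxT hx.2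
      rw [h5, Units.val_one, one_pow, one_pow, sub_self]
    rw [ssum_congr h4, ssum_zero]
  rw [h5, h3] at h1
  linear_combination (1 / 2 : ℂ) * h1

end Cfsg.Agent.Classification.InvCent.WrVec
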