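import Mathlib
import Cfsg.Agent.Classification.InvCent.Wreathed
import Cfsg.Agent.Classification.InvCent.WrVec
import Cfsg.Agent.Classification.InvCent.WrGramThree
import Cfsg.Agent.Classification.InvCent.WrChiNum

/-!
# Wreathed case: the character `χ` of degree `q ^ 2 + ε q`

`G` finite with one class of involutions, `π : C(t) →* C` onto, with odd kernel, `C` a group of
type `GL₂(q)/Z₀` or `GU₂(q)/Z₀`, `4 ∣ q - ε`: there is an irreducible character `χ` of the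
principal 2-block of degree `q ^ 2 + ε q` with `χ = R_T(1)` (`= 1 + ε St`) on the elements `g` of
`C(t)` with `π g = z y`, `y` of odd order, and on the elements `g` with `z ∈ ⟨(π g)^(r/2)⟩`.
-/

set_option autoImplicit false
set_option linter.unusedSectionVars false

open Cfsg
open scoped ComplexConjugate

namespace Cfsg.Agent.Classification.InvCent.WrChiQS

open Cfsg.Agent.Characters Cfsg.Agent.Classification.InvCent
  Cfsg.Agent.Classification.InvCent.LinChar Cfsg.Agent.Classification.InvCent.WrChar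
  Cfsg.Agent.Classification.InvCent.WrFun Cfsg.Agent.Classification.InvCent.WreathedGram
  Cfsg.Agent.Classification.InvCent.WreathedGramTwo Cfsg.Agent.Classification.InvCent.WrVal
  Cfsg.Agent.Classification.InvCent.WrPsi Cfsg.Agent.Classification.InvCent.WrVec
  Cfsg.Agent.Classification.InvCent.WrGramThree
  Cfsg.Agent.Classification.RTwo.General Cfsg.Agent.Classification.BGOrder
  Cfsg.Agent.Classification.BGBlockB0 Cfsg.Agent.Classification.BGIsometry
  Cfsg.Agent.Classification.BGSplit Cfsg.Agent.Characters.GaloisBasic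
  Cfsg.Agent.Classification.InvCent.GPair

universe v w

section Four

variable {G : Type v} [Group G] [Fintype G] {C : Type w} [Group C] [Fintype C] {t : G} {z : C}
  {π : (Subgroup.centralizer ({t} : Set G)) →* C} {q : ℕ} {ε : ℤ} {Z T T' U : Subgroup C}
  {s s' u : C}

/-- The class formula for a combination of four signed irreducible characters. -/
theorem class_four (h : Hyp t z π) (hC : CHyp z q ε Z T T' U s s' u) {f : C → ℂ}
    (hf : ∀ c, f c ≠ 0 → z ∈ Subgroup.zpowers c) {c₁ c₂ c₃ c₄ : ℂ} {X₁ X₂ X₃ X₄ : G → ℂ}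
    (h₁ : SignedIrr X₁) (h₂ : SignedIrr X₂) (h₃ : SignedIrr X₃) (h₄ : SignedIrr X₄)
    (hind : II π f = c₁ • X₁ + c₂ • X₂ + c₃ • X₃ + c₄ • X₄) :
    ((Subgroup.centralizer ({t} : Set G)).index : ℂ) *
      (c₁ * (X₁ t ^ 2 / X₁ 1) + c₂ * (X₂ t ^ 2 / X₂ 1) + c₃ * (X₃ t ^ 2 / X₃ 1) +
        c₄ * (X₄ t ^ 2 / X₄ 1)) = (kap π u : ℂ) ^ 2 * pairSum z f := by
  have h1 := classFormula h hC hf (Finset.univ : Finset (Fin 4)) ![c₁, c₂, c₃, c₄]
    ![X₁, X₂, X₃, X₄] (fun j _ => by fin_cases j <;> assumption) (by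
      rw [← II_apply, hind]
      funext g
      rw [Fin.sum_univ_four]
      rfl)
  rw [Fin.sum_univ_four] at h1
  exact h1

end Four

section Main

variable {G : Type v} [Group G] [Fintype G] {C : Type w} [Group C] [Fintype C] {t : G} {z : C}
  {π : (Subgroup.centralizer ({t} : Set G)) →* C} {q : ℕ} {ε : ℤ} {Z T T' U : Subgroup C}
  {s s' u : C} {r : ℕ} {b : C →* ℂˣ} {hC : CHyp z q ε Z T T' U s s' u} {μ : U →* ℂˣ}
  {ξ : T →* ℂˣ} {θ : T' →* ℂˣ}

theorem half_lt (hD : DetHyp q ε T T' U s s' u r b) (hr : 4 ∣ r) : r / 2 < r := by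
  have := two_r hD
  omega

theorem isClassFunction_vv (i : ℕ) : IsClassFunction C (vv hC μ ξ b r i) :=
  isClassFunction_of_generalized (isGeneralized_vv i)

theorem isClassFunction_uu (i j : ℕ) : IsClassFunction C (uu hC μ ξ r i j) :=
  isClassFunction_of_generalized (isGeneralized_uu i j)

/-- `vv i` on `G`. -/
theorem vvG_facts (h : Hyp t z π) (hD : DetHyp q ε T T' U s s' u r b) (hr : 4 ∣ r)
    (hξ : XiHyp hC r b ξ) (hθ : ThetaHyp hC r b θ) (hμ : ∃ v : U, μ v ≠ 1) {i : ℕ}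
    (hi : i < r / 2) :
    IsGeneralizedCharacter G (II π (vv hC μ ξ b r i)) ∧ II π (vv hC μ ξ b r i) 1 = 0 ∧
      classInner (II π (vv hC μ ξ b r i)) 1 = (if i = 0 then 1 else 0) ∧
      (∀ j, j < r / 2 → classInner (II π (vv hC μ ξ b r i)) (II π (vv hC μ ξ b r j)) =
        if i = j then 3 else 0) ∧
      (∀ (l : Fin r) (k : Fin (r / 2)), classInner (II π (vv hC μ ξ b r i))
        (PhiG π hC μ θ r l k) = (if (l : ℕ) = i then 1 else 0) -
          (if (l : ℕ) = i + r / 2 then 1 else 0)) ∧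
      II π (vv hC μ ξ b r i) t = 0 := by
  have hs : ∀ i c, vv hC μ ξ b r i c ≠ 0 → z ∈ Subgroup.zpowers c :=
    fun i c hc => vv_supp hD hr hξ hθ hμ i hc
  refine ⟨isGeneralized_ind_comp (b := vv hC μ ξ b r i) (isGeneralized_vv i),
    ind_one h (hs i), ?_, ?_, ?_, ?_⟩
  · rw [II_apply, classInner_ind_one h, inner_vv_one hD hr hξ hθ hμ hi]
  · intro j hj
    rw [II_apply, II_apply, classInner_ind_comp h (isClassFunction_vv i) (isClassFunction_vv j)
      (hs i) (hs j), inner_vv hD hr hξ hθ hμ hi hj]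
  · intro l k
    rw [PhiG_apply, II_apply, II_apply, classInner_ind_comp h (isClassFunction_vv i)
      (isClassFunction_Phi _ _) (hs i) (fun c hc => Phi_supp' hD hθ hμ _ _ hc),
      inner_vv_Phi hD hr hξ hθ hμ hi l.2]
  · rw [II_t h (isClassFunction_vv i) (hs i), vv_z hD hr hξ hθ hμ]

/-- `uu i j` on `G`. -/
theorem uuG_facts (h : Hyp t z π) (hD : DetHyp q ε T T' U s s' u r b) (hr : 4 ∣ r)
    (hξ : XiHyp hC r b ξ) (hθ : ThetaHyp hC r b θ) (hμ : ∃ v : U, μ v ≠ 1) {i j : ℕ}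
    (hij : ¬ i ≡ j [MOD (r / 2)]) :
    IsGeneralizedCharacter G (II π (uu hC μ ξ r i j)) ∧ II π (uu hC μ ξ r i j) 1 = 0 ∧
      classInner (II π (uu hC μ ξ r i j)) 1 = 0 ∧
      classInner (II π (uu hC μ ξ r i j)) (II π (uu hC μ ξ r i j)) = 4 ∧
      classInner (II π (uu hC μ ξ r i j)) (II π (vv hC μ ξ b r 0)) = 0 ∧
      (∀ (l : Fin r) (k : Fin (r / 2)), classInner (II π (uu hC μ ξ r i j))
        (PhiG π hC μ θ r l k) = 0) ∧
      II π (uu hC μ ξ r i j) t = 0 := by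
  have hs : ∀ c, uu hC μ ξ r i j c ≠ 0 → z ∈ Subgroup.zpowers c :=
    fun c hc => uu_supp hD hr hξ hμ i j hc
  have hs' : ∀ c, vv hC μ ξ b r 0 c ≠ 0 → z ∈ Subgroup.zpowers c :=
    fun c hc => vv_supp hD hr hξ hθ hμ 0 hc
  have hcl := isClassFunction_uu (hC := hC) (μ := μ) (ξ := ξ) (r := r) i j
  refine ⟨isGeneralized_ind_comp (b := uu hC μ ξ r i j) (isGeneralized_uu i j),
    ind_one h hs, ?_, ?_, ?_, ?_, ?_⟩
  · rw [II_apply, classInner_ind_one h, inner_uu_one hr hξ hμ hij]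
  · rw [II_apply, classInner_ind_comp h hcl hcl hs hs, inner_uu hD hr hξ hμ hij]
  · rw [II_apply, II_apply, classInner_ind_comp h hcl (isClassFunction_vv 0) hs hs',
      inner_uu_vv hD hr hξ hθ hμ hij]
  · intro l k
    rw [PhiG_apply, II_apply, II_apply, classInner_ind_comp h hcl
      (isClassFunction_Phi _ _) hs (fun c hc => Phi_supp' hD hθ hμ _ _ hc), inner_uu_Phi hμ]
  · rw [II_t h hcl hs, uu_z hr hξ]

/-- The character `χ`: degree and value at `t`. -/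
theorem exists_data (h : Hyp t z π) (hD : DetHyp q ε T T' U s s' u r b) (hr : 4 ∣ r)
    (hq : 3 ≤ q) (hξ : XiHyp hC r b ξ) (hθ : ThetaHyp hC r b θ) (hμ : ∃ v : U, μ v ≠ 1)
    {M : Ideal AlgInt} (hM : IsPModular 2 M) :
    ∃ (X : G → ℂ) (L : Fin (r / 2) → G → ℂ) (χ P V : G → ℂ),
      Split (⟨0, two_r hD⟩ : Fin r) (PhiG π hC μ θ r) X L ∧
      ChiData (⟨0, two_r hD⟩ : Fin r) ⟨r / 2, half_lt hD hr⟩ (PhiG π hC μ θ r) X L
        (II π (vv hC μ ξ b r 0)) χ P V ∧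
      InB (principalBlock M G) X ∧ (∀ i, InB (principalBlock M G) (L i)) ∧
      InB (principalBlock M G) χ ∧ InB (principalBlock M G) P ∧
      X 1 = (ε * q) ^ 3 ∧ X t = ε * q ∧ χ 1 = (ε * q) ^ 2 + ε * q ∧ χ t = ε * q + 1 ∧
      ((Subgroup.centralizer ({t} : Set G)).index : ℂ) =
        (kap π u : ℂ) ^ 2 * ((ε * q) ^ 2 * ((ε * q) ^ 2 + ε * q + 1)) := by
  have h0 := two_r hD
  have h4 := r_four hr
  have hε : ε = 1 ∨ ε = -1 := hC.torus.sign
  obtain ⟨X, L, Y, V₀, W, hs, -, -, -, hXB, hLB, -, -, -, -, -, hX1, -, hXt, hLt, hidx⟩ :=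
    Wreathed.main h hD hr hq hξ hθ hμ hM
  obtain ⟨p1, p2, p3, p4, p5, p6⟩ := vvG_facts h hD hr hξ hθ hμ (show 0 < r / 2 by omega)
  obtain ⟨χ, P, V, D⟩ := exists_chi (family h hD hr hθ hμ) hs (by rw [Fintype.card_fin]; omega)
    (two_le_half hD hr) (k := ⟨r / 2, half_lt hD hr⟩)
    (by rw [Ne, Fin.ext_iff]; simp only; omega) p1 (by rw [p4 0 (by omega), if_pos rfl])
    (by rw [p3, if_pos rfl]) (fun l k => by
      rw [p5 l k]
      simp only [Fin.ext_iff, zero_add])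
  have i₀ : Fin (r / 2) := ⟨0, by omega⟩
  obtain ⟨hPB, hχB⟩ := inB_of_split hM D.sP D.sχ (Φ := II π (vv hC μ ξ b r 0))
    (by rw [D.eq_v]; abel)
    (fun g hg => ind_odd h (fun c hc => vv_supp hD hr hξ hθ hμ 0 hc) hg)
  -- degrees and values
  have hP1 : P 1 = 1 + χ 1 := by
    have h1 := congrFun D.eq_v 1
    rw [p2] at h1
    simp only [Pi.add_apply, Pi.sub_apply, Pi.one_apply] at h1
    linear_combination h1
  have hPt : P t = 1 + χ t := by
    have h1 := congrFun D.eq_v t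
    rw [p6] at h1
    simp only [Pi.add_apply, Pi.sub_apply, Pi.one_apply] at h1
    linear_combination h1
  have h1o : Odd (orderOf (1 : G)) := by rw [orderOf_one]; exact odd_one
  have hV1 : V 1 = X 1 + χ 1 := by
    have h1 := congrFun (D.eq_R i₀) 1
    simp only [Pi.add_apply, Pi.sub_apply, Pi.one_apply] at h1
    rw [PhiG_odd h hD hθ hμ _ i₀ h1o, PhiG_odd h hD hθ hμ _ i₀ h1o, hP1] at h1
    linear_combination h1
  have hPhit : ∀ l i, PhiG π hC μ θ r l i t = 2 * (1 - ε * q) := by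
    intro l i
    rw [PhiG_apply, II_t h (isClassFunction_Phi _ _) (fun c hc => Phi_supp' hD hθ hμ _ _ hc),
      Phi_z hθ]
  have hVt : V t = X t + χ t := by
    have h1 := congrFun (D.eq_R i₀) t
    simp only [Pi.add_apply, Pi.sub_apply, Pi.one_apply] at h1
    rw [hPhit, hPhit, hPt] at h1
    linear_combination h1
  have hL1 : L i₀ 1 = X 1 - 1 := by
    have h1 := congrFun (hs.eq i₀) 1
    simp only [Pi.add_apply, Pi.sub_apply, Pi.one_apply] at h1
    rw [PhiG_odd h hD hθ hμ _ i₀ h1o] at h1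
    linear_combination -h1
  -- class formulas
  have F1 := Wreathed.class_three h hC (f := vv hC μ ξ b r 0) (c₁ := 1) (c₂ := 1) (c₃ := -1)
    (fun c hc => vv_supp hD hr hξ hθ hμ 0 hc) signedIrr_one D.sχ D.sP (by
      rw [D.eq_v]
      module)
  have F2 := Wreathed.class_three h hC (f := Phi hC μ θ (r / 2) i₀) (c₁ := 1) (c₂ := 1)
    (c₃ := -1) (fun c hc => Phi_supp' hD hθ hμ _ _ hc) (hs.sL i₀) D.sP D.sV (by
      have h1 := D.eq_R i₀
      rw [hs.eq i₀, PhiG_apply] at h1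
      rw [h1]
      module)
  rw [pairSum_vv hD hr hξ hθ hμ, hP1, hPt] at F1
  rw [pairSum_Phi hD hθ hμ, hP1, hPt, hV1, hVt, hL1, hLt, hXt, hX1] at F2
  simp only [Pi.one_apply] at F1
  have hkap : (kap π u : ℂ) ≠ 0 := by
    have := (kap_odd h hC).pos
    exact_mod_cast this.ne'
  have hee : (ε : ℂ) * ε = 1 := by
    rcases hε with h1 | h1 <;> rw [h1] <;> norm_num
  set Q : ℤ := ε * q with hQdef
  have hQc : (Q : ℂ) = ε * q := by rw [hQdef]; push_cast; ring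
  have hQ : 3 ≤ |Q| := by
    rw [hQdef]
    rcases hε with rfl | rfl
    · rw [one_mul, Nat.abs_cast]; exact_mod_cast hq
    · rw [neg_one_mul, abs_neg, Nat.abs_cast]; exact_mod_cast hq
  have hQ0 : (Q : ℂ) ≠ 0 := by
    have : Q ≠ 0 := by rintro h1; rw [h1] at hQ; norm_num at hQ
    exact_mod_cast this
  have hQ1 : (Q : ℂ) - 1 ≠ 0 := by
    have : Q - 1 ≠ 0 := by
      intro h1
      have h2 : Q = 1 := by linarith
      rw [h2] at hQ; norm_num at hQ
    exact_mod_cast this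
  have hQ2 : (Q : ℂ) + 1 ≠ 0 := by
    have : Q + 1 ≠ 0 := by
      intro h1
      have h2 : Q = -1 := by linarith
      rw [h2] at hQ; norm_num at hQ
    exact_mod_cast this
  have hN : (Q : ℂ) ^ 2 + Q + 1 ≠ 0 := by
    have : Q ^ 2 + Q + 1 ≠ 0 := by nlinarith [sq_nonneg (2 * Q + 1)]
    exact_mod_cast this
  have hk2 := pow_ne_zero 2 hkap
  have e1 : (Q : ℂ) ^ 2 * (Q ^ 2 + Q + 1) * (1 + χ t ^ 2 / χ 1 - (1 + χ t) ^ 2 / (1 + χ 1)) =
      Q * (Q ^ 2 - 1) * (Q - 1) := by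
    refine mul_left_cancel₀ hk2 ?_
    rw [hidx] at F1
    rw [hQc]
    linear_combination F1 + (kap π u : ℂ) ^ 2 * (-(q : ℂ) ^ 2 * ((ε : ℂ) ^ 2 * q ^ 2 - 1) -
      q ^ 2 * q ^ 2 + ε * q ^ 3) * hee
  have e2 : (Q : ℂ) ^ 2 * (Q ^ 2 + Q + 1) * ((1 - Q) ^ 2 / (Q ^ 3 - 1) +
      (1 + χ t) ^ 2 / (1 + χ 1) - (Q + χ t) ^ 2 / (Q ^ 3 + χ 1)) =
      Q * (Q ^ 2 - 1) * (Q + 1) := by
    refine mul_left_cancel₀ hk2 ?_
    rw [hidx] at F2
    rw [hQc]
    linear_combination F2 + (kap π u : ℂ) ^ 2 * (-(q : ℂ) ^ 2 * ((ε : ℂ) ^ 2 * q ^ 2 - 1) -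
      q ^ 2 * q ^ 2 - ε * q ^ 3) * hee
  obtain ⟨r1, r2⟩ := WrChiNum.chi_num hQ0 hQ1 hQ2 hN D.sχ.apply_one_ne_zero
    (by rw [← hP1]; exact D.sP.apply_one_ne_zero)
    (by rw [hQc, ← hX1, ← hV1]; exact D.sV.apply_one_ne_zero) e1 e2
  rw [hQc] at r1 r2
  exact ⟨X, L, χ, P, V, hs, D, hXB, hLB, hχB, hPB, hX1, hXt, r1, r2, hidx⟩

/-- The numbers of `exists_data`. -/
structure Nums (π : (Subgroup.centralizer ({t} : Set G)) →* C) (u : C) (q : ℕ) (ε : ℤ)
    (X χ : G → ℂ) : Prop where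
  X1 : X 1 = (ε * q) ^ 3
  Xt : X t = ε * q
  χ1 : χ 1 = (ε * q) ^ 2 + ε * q
  χt : χ t = ε * q + 1
  idx : ((Subgroup.centralizer ({t} : Set G)).index : ℂ) =
        (kap π u : ℂ) ^ 2 * ((ε * q) ^ 2 * ((ε * q) ^ 2 + ε * q + 1))

/-- Degrees and values of `P` and `V`. -/
theorem PV_facts (h : Hyp t z π) (hD : DetHyp q ε T T' U s s' u r b) (hr : 4 ∣ r)
    (hξ : XiHyp hC r b ξ) (hθ : ThetaHyp hC r b θ) (hμ : ∃ v : U, μ v ≠ 1) {X : G → ℂ}
    {L : Fin (r / 2) → G → ℂ} {χ P V : G → ℂ}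
    (D : ChiData (⟨0, two_r hD⟩ : Fin r) ⟨r / 2, half_lt hD hr⟩ (PhiG π hC μ θ r) X L
        (II π (vv hC μ ξ b r 0)) χ P V) :
    P 1 = 1 + χ 1 ∧ P t = 1 + χ t ∧ V 1 = X 1 + χ 1 ∧ V t = X t + χ t := by
  have h0 := two_r hD
  have h4 := r_four hr
  have i₀ : Fin (r / 2) := ⟨0, by omega⟩
  obtain ⟨p1, p2, p3, p4, p5, p6⟩ := vvG_facts h hD hr hξ hθ hμ (show 0 < r / 2 by omega)
  have hP1 : P 1 = 1 + χ 1 := by
    have h1 := congrFun D.eq_v 1
    rw [p2] at h1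
    simp only [Pi.add_apply, Pi.sub_apply, Pi.one_apply] at h1
    linear_combination h1
  have hPt : P t = 1 + χ t := by
    have h1 := congrFun D.eq_v t
    rw [p6] at h1
    simp only [Pi.add_apply, Pi.sub_apply, Pi.one_apply] at h1
    linear_combination h1
  have h1o : Odd (orderOf (1 : G)) := by rw [orderOf_one]; exact odd_one
  have hV1 : V 1 = X 1 + χ 1 := by
    have h1 := congrFun (D.eq_R i₀) 1
    simp only [Pi.add_apply, Pi.sub_apply, Pi.one_apply] at h1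
    rw [PhiG_odd h hD hθ hμ _ i₀ h1o, PhiG_odd h hD hθ hμ _ i₀ h1o, hP1] at h1
    linear_combination h1
  have hPhit : ∀ l i, PhiG π hC μ θ r l i t = 2 * (1 - ε * q) := by
    intro l i
    rw [PhiG_apply, II_t h (isClassFunction_Phi _ _) (fun c hc => Phi_supp' hD hθ hμ _ _ hc),
      Phi_z hθ]
  have hVt : V t = X t + χ t := by
    have h1 := congrFun (D.eq_R i₀) t
    simp only [Pi.add_apply, Pi.sub_apply, Pi.one_apply] at h1
    rw [hPhit, hPhit, hPt] at h1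
    linear_combination h1
  exact ⟨hP1, hPt, hV1, hVt⟩

theorem Q_facts (hC : CHyp z q ε Z T T' U s s' u) (hq : 3 ≤ q) :
    ε * (q : ℤ) ≠ 0 ∧ ε * (q : ℤ) ≠ 1 ∧ ε * (q : ℤ) ≠ -1 := by
  have hε : ε = 1 ∨ ε = -1 := hC.torus.sign
  rcases hε with rfl | rfl <;> refine ⟨?_, ?_, ?_⟩ <;> omega

/-- `(vv i, χ) = [i = 0]`. -/
theorem inner_vvG_chi (h : Hyp t z π) (hD : DetHyp q ε T T' U s s' u r b) (hr : 4 ∣ r)
    (hq : 3 ≤ q) (hξ : XiHyp hC r b ξ) (hθ : ThetaHyp hC r b θ) (hμ : ∃ v : U, μ v ≠ 1)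
    {X : G → ℂ} {L : Fin (r / 2) → G → ℂ} {χ P V : G → ℂ}
    (hs : Split (⟨0, two_r hD⟩ : Fin r) (PhiG π hC μ θ r) X L)
    (D : ChiData (⟨0, two_r hD⟩ : Fin r) ⟨r / 2, half_lt hD hr⟩ (PhiG π hC μ θ r) X L
        (II π (vv hC μ ξ b r 0)) χ P V) (N : Nums π u q ε X χ) {i : ℕ} (hi : i < r / 2) :
    classInner (II π (vv hC μ ξ b r i)) χ = if i = 0 then 1 else 0 := by
  have h0 := two_r hD
  have h4 := r_four hr
  by_cases hi0 : i = 0
  · rw [if_pos hi0, hi0, D.eq_v, Core.classInner_sub_left, Core.classInner_add_left,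
      inner_symm_zero D.χ1, signed_self D.sχ, inner_symm_zero D.χP]
    ring
  rw [if_neg hi0]
  obtain ⟨p1, p2, p3, p4, p5, p6⟩ := vvG_facts h hD hr hξ hθ hμ hi
  rcases D.small hs (two_le_half hD hr) p1 (by rw [p3, if_neg hi0])
    (by rw [p4 0 (by omega), if_neg hi0])
    (fun t' => by
      rw [p5]
      simp only
      rw [if_neg (by omega), if_neg (by omega), sub_zero])
    (fun t' => by
      rw [p5]
      simp only
      rw [if_neg (by omega), if_neg (by omega), sub_zero])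
    (N := 3) (by rw [p4 i hi, if_pos rfl]; norm_num) (by norm_num) with h1 | ⟨e, he, -, h1⟩
  · exact h1
  · exfalso
    have h2 := eq_zero_of_norm h1 (by norm_num)
    have h3 := congrFun h2 1
    obtain ⟨q1, -, q3, -⟩ := PV_facts h hD hr hξ hθ hμ D
    simp only [Pi.sub_apply, Pi.smul_apply, Pi.add_apply, Pi.zero_apply, smul_eq_mul] at h3
    rw [p2, q1, q3, N.X1, N.χ1] at h3
    obtain ⟨k1, k2, k3⟩ := Q_facts hC hq
    have h5 : (e : ℂ) * ((ε : ℂ) * q + 1) ^ 3 = 0 := by linear_combination -h3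
    have h6 : (e : ℂ) ≠ 0 := by rcases he with rfl | rfl <;> norm_num
    have h7 : ((ε : ℂ) * q + 1) ≠ 0 := by
      have : ε * (q : ℤ) + 1 ≠ 0 := fun h8 => k3 (by linarith)
      exact_mod_cast this
    exact (mul_ne_zero h6 (pow_ne_zero 3 h7)) h5

/-- `(uu i j, χ) = 0`. -/
theorem inner_uuG_chi (h : Hyp t z π) (hD : DetHyp q ε T T' U s s' u r b) (hr : 4 ∣ r)
    (hq : 3 ≤ q) (hξ : XiHyp hC r b ξ) (hθ : ThetaHyp hC r b θ) (hμ : ∃ v : U, μ v ≠ 1)
    {X : G → ℂ} {L : Fin (r / 2) → G → ℂ} {χ P V : G → ℂ}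
    (hs : Split (⟨0, two_r hD⟩ : Fin r) (PhiG π hC μ θ r) X L)
    (D : ChiData (⟨0, two_r hD⟩ : Fin r) ⟨r / 2, half_lt hD hr⟩ (PhiG π hC μ θ r) X L
        (II π (vv hC μ ξ b r 0)) χ P V) (N : Nums π u q ε X χ) {i j : ℕ} (hj : j ≤ r)
    (hij : ¬ i ≡ j [MOD (r / 2)]) :
    classInner (II π (uu hC μ ξ r i j)) χ = 0 := by
  have h0 := two_r hD
  have h4 := r_four hr
  obtain ⟨p1, p2, p3, p4, p5, p6, p7⟩ := uuG_facts (θ := θ) h hD hr hξ hθ hμ hij
  rcases D.small hs (two_le_half hD hr) p1 p3 p5 (fun t' => p6 _ t') (fun t' => p6 _ t')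
    (N := 4) (by rw [p4]; norm_num) (by norm_num) with h1 | ⟨e, he, -, h1⟩
  · exact h1
  · exfalso
    set R : G → ℂ := II π (uu hC μ ξ r i j) - (e : ℂ) • (χ + P + V) with hR
    have hRs : SignedIrr R := by
      refine signed_of_norm_one ?_ (by rw [h1]; norm_num)
      have h2 : IsGeneralizedCharacter G (χ + P + V) :=
        generalized_add (generalized_add (generalized_signed D.sχ) (generalized_signed D.sP))
          (generalized_signed D.sV)
      rcases he with rfl | rfl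
      · have h3 : R = II π (uu hC μ ξ r i j) - (χ + P + V) := by
          rw [hR, Int.cast_one, one_smul]
        rw [h3]
        exact generalized_sub p1 h2
      · have h3 : R = II π (uu hC μ ξ r i j) + (χ + P + V) := by
          rw [hR, Int.cast_neg, Int.cast_one, neg_one_smul, sub_neg_eq_add]
        rw [h3]
        exact generalized_add p1 h2
    obtain ⟨q1, q2, q3, q4⟩ := PV_facts h hD hr hξ hθ hμ D
    obtain ⟨k1, k2, k3⟩ := Q_facts hC hq
    have F := class_four h hC (f := uu hC μ ξ r i j) (c₁ := e) (c₂ := e) (c₃ := e) (c₄ := 1)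
      (fun c hc => uu_supp hD hr hξ hμ i j hc) D.sχ D.sP D.sV hRs (by
        rw [hR]
        module)
    rw [pairSum_uu hD hr hξ hμ hj hij, mul_zero] at F
    have hidx : ((Subgroup.centralizer ({t} : Set G)).index : ℂ) ≠ 0 := by
      have : (Subgroup.centralizer ({t} : Set G)).index ≠ 0 := Subgroup.index_ne_zero_of_finite
      exact_mod_cast this
    have F' := (mul_eq_zero.1 F).resolve_left hidx
    have hR1 : R 1 = -(e : ℂ) * (((ε * q : ℤ) : ℂ) + 1) ^ 3 := by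
      rw [hR]
      simp only [Pi.sub_apply, Pi.smul_apply, Pi.add_apply, smul_eq_mul]
      rw [p2, q1, q3, N.X1, N.χ1]
      push_cast
      ring
    have hRt : R t = -(e : ℂ) * (4 * (((ε * q : ℤ) : ℂ) + 1)) := by
      rw [hR]
      simp only [Pi.sub_apply, Pi.smul_apply, Pi.add_apply, smul_eq_mul]
      rw [p7, q2, q4, N.Xt, N.χt]
      push_cast
      ring
    rw [hR1, hRt, q1, q2, q3, q4, N.X1, N.Xt, N.χ1, N.χt] at F'
    have h6 : (e : ℂ) ≠ 0 := by rcases he with rfl | rfl <;> norm_num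
    refine WrChiNum.uu_num k1 k2 k3 h6 ?_
    push_cast at F' ⊢
    linear_combination F'

end Main

end Cfsg.Agent.Classification.InvCent.WrChiQS
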