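import Mathlib
import Cfsg.Agent.Classification.InvCent.SDMain
import Cfsg.Agent.Classification.QDW.CoreConst

/-!
# All values on `{x | t ∈ zpowers x}`, semidihedral case

`ValD h μ π X a b`: `X x = (a R_T(1) (π x) + b R_{T'}(1) (π x)) / 2` for all `x : C(t)` such that `z`
is a power of `π x` (so also for the elements with `2`-part of order `4, 8, ...`).
-/

set_option autoImplicit false
set_option linter.unusedSectionVars false

open Cfsg
open scoped ComplexConjugate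

namespace Cfsg.Agent.Classification.InvCent

open Cfsg.Agent.Characters Cfsg.Agent.Classification.BGIsometry
  Cfsg.Agent.Classification.BGOrder Cfsg.Agent.Classification.BGSplit
  Cfsg.Agent.Classification.BGBlockB0 SDGram GPair

universe w v

section Cside

variable {C : Type*} [Group C] [Fintype C] {t : C} {q : ℕ} {ε : ℤ} {Z T T' U : Subgroup C}
  {s s' u : C} {h : CHyp t q ε Z T T' U s s' u} {b : C →* ℂˣ} {θ : T' →* ℂˣ} {n : ℕ} {μ : U →* ℂˣ}
  {χ : T →* ℂˣ}

/-- The function `2 ^ n` on the elements `x` of `T'` with `θ x = l`, zero on the others (`l ≠ 1`). -/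
noncomputable def secl (θ : T' →* ℂˣ) (n : ℕ) (l : ℂ) : C → ℂ :=
  fun x => ∑ j ∈ Finset.range (2 ^ n), (-(l⁻¹) ^ j) * (1 - lin (θ ^ j) x)

namespace Gen

theorem lin_Z (g : Gen h b θ n) {w : C} (hw : w ∈ Z) : lin θ w = 1 ∨ lin θ w = -1 := by
  have hwT := h.Z_le_T' hw
  have h1 : lin (h.torus'.sc θ * θ) w = lin (θ ^ 2 ^ (n - 1)) w := by rw [g.sc]
  rw [lin_mul_hom, h.torus'.lin_sc θ hwT, lin_pow_hom _ _ hwT] at h1
  have h2 : s' * w * s'⁻¹ = w := by
    rw [h.Z_central w hw s', mul_inv_cancel_right]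
  rw [h2] at h1
  have h3 : lin θ w ^ 2 ^ n = 1 := g.lin_pow hwT
  obtain ⟨k, rfl⟩ : ∃ k, n = k + 3 := ⟨n - 3, by have := g.three_le; omega⟩
  have e1 : k + 3 - 1 = k + 2 := by omega
  rw [e1] at h1
  have h4 : lin θ w ^ 4 = 1 := by
    have h5 : (lin θ w * lin θ w) ^ 2 = 1 := by
      rw [h1, ← pow_mul, ← pow_succ]
      exact h3
    calc lin θ w ^ 4 = (lin θ w * lin θ w) ^ 2 := by ring
      _ = 1 := h5
  have h6 : lin θ w * lin θ w = 1 := by
    rw [h1, show 2 ^ (k + 2) = 4 * 2 ^ k by ring, pow_mul, h4, one_pow]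
  exact mul_self_eq_one_iff.1 h6

theorem sum_inv (g : Gen h b θ n) {x : C} (hx : x ∈ T') (h1 : lin θ x ≠ 1) :
    ∑ j ∈ Finset.range (2 ^ n), ((lin θ x)⁻¹) ^ j = 0 := by
  refine geom_zero ?_ ?_
  · rw [inv_pow, g.lin_pow hx, inv_one]
  · intro h2
    exact h1 (inv_eq_one.1 h2)

open Classical in
theorem secl_eq (g : Gen h b θ n) {y : C} (hy : y ∈ T') (hy1 : lin θ y ≠ 1) {x : C} (hx : x ∈ T') :
    secl θ n (lin θ y) x = if lin θ x = lin θ y then (2 : ℂ) ^ n else 0 := by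
  have hy0 := lin_ne_zero θ hy
  have h2 : secl θ n (lin θ y) x = ∑ j ∈ Finset.range (2 ^ n), ((lin θ y)⁻¹ * lin θ x) ^ j := by
    have h3 : ∀ j ∈ Finset.range (2 ^ n), (-((lin θ y)⁻¹) ^ j) * (1 - lin (θ ^ j) x) =
        -((lin θ y)⁻¹) ^ j + ((lin θ y)⁻¹ * lin θ x) ^ j := by
      intro j _
      rw [lin_pow_hom _ _ hx, mul_pow]
      ring
    unfold secl
    rw [Finset.sum_congr rfl h3, Finset.sum_add_distrib, Finset.sum_neg_distrib, g.sum_inv hy hy1,
      neg_zero, zero_add]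
  rw [h2]
  split_ifs with h4
  · rw [h4, inv_mul_cancel₀ hy0]
    simp
  · refine geom_zero ?_ ?_
    · rw [mul_pow, inv_pow, g.lin_pow hy, g.lin_pow hx, inv_one, one_mul]
    · intro h5
      apply h4
      rw [inv_mul_eq_one₀ hy0] at h5
      exact h5.symm

theorem ssum_secl (g : Gen h b θ n) {y : C} (hy : y ∈ T') (hy1 : lin θ y ≠ 1) :
    ssum T' (secl θ n (lin θ y)) = Nat.card T' := by
  classical
  have h1 : ssum T' (secl θ n (lin θ y)) = ∑ j ∈ Finset.range (2 ^ n),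
      (-((lin θ y)⁻¹) ^ j) * ((Nat.card T' : ℂ) - if θ ^ j = 1 then (Nat.card T' : ℂ) else 0) := by
    have h2 : ∀ j ∈ Finset.range (2 ^ n),
        (-((lin θ y)⁻¹) ^ j) * ((Nat.card T' : ℂ) - if θ ^ j = 1 then (Nat.card T' : ℂ) else 0) =
        ssum T' (fun x => (-((lin θ y)⁻¹) ^ j) * (1 - lin (θ ^ j) x)) := by
      intro j _
      rw [ssum_mul, ssum_sub, ssum_lin_eq, ssum_const, mul_one]
    rw [Finset.sum_congr rfl h2]
    unfold ssum secl
    rw [Finset.sum_comm]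
    refine Finset.sum_congr rfl fun x _ => ?_
    split_ifs <;> simp
  rw [h1]
  have h3 : ∀ j ∈ Finset.range (2 ^ n), (-((lin θ y)⁻¹) ^ j) *
      ((Nat.card T' : ℂ) - if θ ^ j = 1 then (Nat.card T' : ℂ) else 0) =
      (-(Nat.card T' : ℂ)) * ((lin θ y)⁻¹) ^ j + if j = 0 then (Nat.card T' : ℂ) else 0 := by
    intro j hj
    rw [Finset.mem_range] at hj
    by_cases hj0 : j = 0
    · subst hj0
      rw [if_pos ((g.pow_eq_one_iff 0).2 (dvd_zero _)), if_pos rfl]
      ring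
    · rw [if_neg hj0, if_neg]
      · ring
      · rw [g.pow_eq_one_iff]
        intro h4
        exact absurd (Nat.le_of_dvd (Nat.pos_of_ne_zero hj0) h4) (not_le.2 hj)
  rw [Finset.sum_congr rfl h3, Finset.sum_add_distrib, ← Finset.mul_sum, g.sum_inv hy hy1,
    Finset.sum_ite_eq', if_pos (Finset.mem_range.2 (by positivity))]
  ring

theorem R_secl (_ : Gen h b θ n) (l : ℂ) : Torus.R T' h.base μ (secl θ n l) =
    fun x => ∑ j ∈ Finset.range (2 ^ n), (-(l⁻¹) ^ j) * phi h μ θ j x := by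
  unfold secl phi
  exact Torus.R_sum h.base _ _ _

/-- The support of `R_{T'}(secl)`. -/
theorem secl_supp (g : Gen h b θ n) (hμ : ∃ v : U, μ v ≠ 1) {y : C} (hy : y ∈ T')
    (hy1 : lin θ y ≠ 1) (hy2 : lin θ y ≠ -1) {x : C}
    (hx : Torus.R T' h.base μ (secl θ n (lin θ y)) x ≠ 0) :
    ∃ c : C, c * x * c⁻¹ ∈ T' ∧ lin θ (c * x * c⁻¹) = lin θ y := by
  classical
  refine h.support_T' hμ (P := fun x => ∃ c : C, c * x * c⁻¹ ∈ T' ∧
    lin θ (c * x * c⁻¹) = lin θ y) ?_ ?_ (f := secl θ n (lin θ y)) ?_ hx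
  · rintro x c ⟨d, hd1, hd2⟩
    have e : d * (c * x * c⁻¹) * d⁻¹ = (d * c) * x * (d * c)⁻¹ := by group
    rw [e] at hd1 hd2
    exact ⟨_, hd1, hd2⟩
  · rintro w hw v _ ⟨d, -, hd2⟩
    exfalso
    have e : d * w * d⁻¹ = w := by rw [h.Z_central w hw d, mul_inv_cancel_right]
    rw [e] at hd2
    rcases g.lin_Z hw with h1 | h1
    · exact hy1 (hd2.symm.trans h1)
    · exact hy2 (hd2.symm.trans h1)
  · intro x hx1 hx2
    rw [g.secl_eq hy hy1 hx1] at hx2
    refine ⟨1, by simpa using hx1, ?_⟩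
    by_contra h1
    rw [one_mul, inv_one, mul_one] at h1
    rw [if_neg h1] at hx2
    exact hx2 rfl

end Gen

/-- In `T` an element having `t` as a power is in the `2`-section of `t`. -/
theorem odd_of_T (c : Chi h b χ) {y : C} (hy : y ∈ T) (hz : t ∈ Subgroup.zpowers y) :
    Odd (orderOf (t * y)) := by
  have key : ∀ {y : C}, y ∈ T → t ∈ Subgroup.zpowers y → lin χ y = -1 := by
    intro y hy hz
    rcases c.lin_cases hy with h1 | h1
    · exfalso
      obtain ⟨k, hk⟩ := Subgroup.mem_zpowers_iff.1 hz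
      have h2 : lin χ t = 1 := by
        rw [← hk, lin_apply χ (zpow_mem hy k)]
        have h3 : (⟨y ^ k, zpow_mem hy k⟩ : T) = (⟨y, hy⟩ : T) ^ k := rfl
        rw [h3, map_zpow]
        have h4 : χ ⟨y, hy⟩ = 1 := Units.ext (by rw [← lin_apply χ hy, h1, Units.val_one])
        rw [h4, one_zpow, Units.val_one]
      rw [c.lin_t] at h2
      norm_num at h2
    · exact h1
  refine c.odd y hy (key hy hz) (key (h.s_conj y hy) ?_)
  apply h.zpowers_conj (s * y * s⁻¹) s⁻¹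
  have e : s⁻¹ * (s * y * s⁻¹) * s⁻¹⁻¹ = y := by group
  rwa [e]

end Cside

section Gside

variable {G : Type w} [Group G] [Fintype G] {C : Type v} [Group C] [Fintype C] {t : G} {z : C}
  {π : (Subgroup.centralizer ({t} : Set G)) →* C}
  {q : ℕ} {ε : ℤ} {Z T T' U : Subgroup C} {s s' u : C}
  {h : CHyp z q ε Z T T' U s s' u} {b : C →* ℂˣ} {θ : T' →* ℂˣ} {n : ℕ} {μ : U →* ℂˣ}
  {χ : T →* ℂˣ}

/-- A character of the principal `2`-block at an element above `T'` whose `2`-part is not above `Z`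
depends only on the `2`-part. -/
theorem irr_two_part (H : RTwo.General.Hyp t z π) (g : Gen h b θ n) {M : Ideal AlgInt}
    (hM : IsPModular 2 M) (X : IrrCharacter G) (hX : X ∈ principalBlock M G)
    {x : Subgroup.centralizer ({t} : Set G)} (hx : π x ∈ T') (h1 : lin θ (π x) ≠ 1)
    (h2 : lin θ (π x) ≠ -1) {k m r : ℕ} (hk : (x ^ k) ^ 2 ^ m = 1) (hr : Odd r)
    (hkr : ((x ^ k)⁻¹ * x) ^ r = 1) : (X : G → ℂ) x = (X : G → ℂ) (x ^ k : Subgroup.centralizer ({t} : Set G)) := by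
  have : Fact (Nat.Prime 2) := ⟨Nat.prime_two⟩
  set a := x ^ k with ha
  set d := a⁻¹ * x with hd
  have had : Commute a d := ((Commute.refl a).inv_right).mul_right ((Commute.refl x).pow_left k)
  have haT : π a ∈ T' := by rw [ha, map_pow]; exact pow_mem hx k
  have hdT : π d ∈ T' := by rw [hd, map_mul, map_inv]; exact mul_mem (inv_mem haT) hx
  have hdo : Odd (orderOf d) := hr.of_dvd_nat (orderOf_dvd_of_pow_eq_one hkr)
  have hdo' : Odd (orderOf (π d)) := hdo.of_dvd_nat (orderOf_map_dvd π d)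
  have hla : lin θ (π a) = lin θ (π x) := by
    have e : π x = π a * π d := by rw [← map_mul, hd, mul_inv_cancel_left]
    rw [e, lin_mul θ haT hdT, g.lin_odd hdT hdo', mul_one]
  have haZ : π a ∉ Z := by
    intro hZ
    rcases g.lin_Z hZ with h3 | h3
    · exact h1 (hla.symm.trans h3)
    · exact h2 (hla.symm.trans h3)
  -- `t` is a power of `a`
  have hzx : z ∈ Subgroup.zpowers (π a) := by
    refine h.zpowers_T' haT fun ho => ?_
    exact h1 (hla.symm.trans (g.lin_odd haT ho))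
  have hta : t ∈ Subgroup.zpowers (a : G) := RTwo.General.mem_zpowers_of_map H hzx
  have hcent : ∀ c : G, Commute (a : G) c → c ∈ Subgroup.centralizer ({t} : Set G) := by
    intro c hc
    rw [Subgroup.mem_centralizer_singleton_iff]
    obtain ⟨j, hj⟩ := Subgroup.mem_zpowers_iff.1 hta
    rw [← hj]
    exact (hc.symm.zpow_right j).eq
  -- the normal complement
  set K : Subgroup C := θ.ker.map T'.subtype with hK
  have hKmem : ∀ y : C, y ∈ K ↔ ∃ hy : y ∈ T', θ ⟨y, hy⟩ = 1 := by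
    intro y
    rw [hK, Subgroup.mem_map]
    constructor
    · rintro ⟨w, hw, rfl⟩
      exact ⟨w.2, hw⟩
    · rintro ⟨hy, h3⟩
      exact ⟨⟨y, hy⟩, h3, rfl⟩
  have hKodd : Odd (Nat.card K) := by
    by_contra hcon
    rw [Nat.not_odd_iff_even, even_iff_two_dvd] at hcon
    obtain ⟨y, hy⟩ := exists_prime_orderOf_dvd_card' (G := K) 2 hcon
    obtain ⟨hy1, hy2⟩ := (hKmem y).1 y.2
    have h3 : Odd (orderOf ((y : K) : C)) := g.faithful ⟨y, hy1⟩ hy2
    rw [Subgroup.orderOf_coe, hy] at h3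
    norm_num at h3
  set N0 : Subgroup (Subgroup.centralizer ({t} : Set G)) :=
    K.comap π ⊓ Subgroup.centralizer ({a} : Set (Subgroup.centralizer ({t} : Set G))) with hN0
  set N : Subgroup G := N0.map (Subgroup.centralizer ({t} : Set G)).subtype with hN
  have hmem : ∀ x : G, x ∈ N ↔ ∃ y : Subgroup.centralizer ({t} : Set G),
      π y ∈ K ∧ Commute a y ∧ (y : G) = x := by
    intro x
    rw [hN, Subgroup.mem_map]
    constructor
    · rintro ⟨y, hy, rfl⟩
      rw [hN0, Subgroup.mem_inf, Subgroup.mem_comap, Subgroup.mem_centralizer_singleton_iff] at hy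
      exact ⟨y, hy.1, Commute.symm hy.2, rfl⟩
    · rintro ⟨y, h1, h2, rfl⟩
      refine ⟨y, ?_, rfl⟩
      rw [hN0, Subgroup.mem_inf, Subgroup.mem_comap, Subgroup.mem_centralizer_singleton_iff]
      exact ⟨h1, h2.symm⟩
  have hN0odd : Odd (Nat.card N0) := by
    have e1 := Subgroup.card_mul_index ((π.comp N0.subtype).ker)
    rw [Subgroup.index_ker] at e1
    rw [← e1]
    refine Odd.mul ?_ ?_
    · refine H.odd_ker.of_dvd_nat (Subgroup.card_dvd_of_injective
        ((N0.subtype.comp (π.comp N0.subtype).ker.subtype).codRestrict π.ker (fun x => x.2)) ?_)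
      intro x y hxy
      have h3 : (((x : N0) : Subgroup.centralizer ({t} : Set G))) =
          (((y : N0) : Subgroup.centralizer ({t} : Set G))) := by
        have h4 := congrArg (fun w : π.ker => (w : Subgroup.centralizer ({t} : Set G))) hxy
        exact h4
      exact Subtype.ext (Subtype.ext h3)
    · refine hKodd.of_dvd_nat (Subgroup.card_dvd_of_le ?_)
      rintro _ ⟨y, rfl⟩
      exact y.2.1
  have key := Cfsg.Agent.Blocks.PrincipalConstGen.irr_const 2 M hM (u := (a : G)) (y := 1)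
    (n := (d : G)) (by
      have h3 : (a : G) ^ 2 ^ m = 1 := congrArg Subtype.val hk
      obtain ⟨l, -, hl⟩ := (Nat.dvd_prime_pow Nat.prime_two).1 (orderOf_dvd_of_pow_eq_one h3)
      exact ⟨l, hl⟩) N (by
      intro x hx
      obtain ⟨y, -, hy, rfl⟩ := (hmem x).1 hx
      exact congrArg Subtype.val hy.eq) (by
      intro c hc x hx
      obtain ⟨y, hy1, hy2, rfl⟩ := (hmem x).1 hx
      have hcC := hcent c hc
      have hc' : Commute a (⟨c, hcC⟩ : Subgroup.centralizer ({t} : Set G)) := Subtype.ext hc.eq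
      have hcT : π ⟨c, hcC⟩ ∈ T' := by
        refine h.cent_T' (π a) haT haZ _ ?_
        rw [← map_mul, ← map_mul, hc'.eq]
      obtain ⟨hyT, hyθ⟩ := (hKmem _).1 hy1
      refine (hmem _).2 ⟨⟨c, hcC⟩ * y * (⟨c, hcC⟩)⁻¹, ?_, ?_, rfl⟩
      · have e : π (⟨c, hcC⟩ * y * (⟨c, hcC⟩)⁻¹) = π y := by
          rw [map_mul, map_mul, map_inv, h.T'_comm _ hcT _ hyT, mul_inv_cancel_right]
        rw [e]
        exact hy1
      · exact (hc'.mul_right hy2).mul_right hc'.inv_right) (by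
      rw [Nat.coprime_two_right]
      have h3 : Nat.card N = Nat.card N0 :=
        Nat.card_congr (N0.equivMapOfInjective _ (Subgroup.subtype_injective _)).toEquiv.symm
      rw [h3]
      exact hN0odd) (Commute.one_right _) (by rw [orderOf_one]; norm_num) (by
      refine (hmem _).2 ⟨d, (hKmem _).2 ⟨hdT, ?_⟩, had, rfl⟩
      exact Units.ext (by rw [← lin_apply θ hdT, g.lin_odd hdT hdo', Units.val_one])) X hX
  rw [mul_one] at key
  rw [← key, ← Subgroup.coe_mul, hd, mul_inv_cancel_left]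

/-- Two elements above `T'` with the same value of `θ`, `≠ 1, -1`. -/
theorem inB_of_lin (H : RTwo.General.Hyp t z π) (g : Gen h b θ n) {M : Ideal AlgInt}
    (hM : IsPModular 2 M) {X : G → ℂ} (hX : InB (principalBlock M G) X)
    {x y : Subgroup.centralizer ({t} : Set G)} (hx : π x ∈ T') (hy : π y ∈ T')
    (hxy : lin θ (π x) = lin θ (π y)) (h1 : lin θ (π x) ≠ 1) (h2 : lin θ (π x) ≠ -1) :
    X x = X y := by
  obtain ⟨m, r, k, hr, hk, e2, e3⟩ :=
    QDW.CoreConst.exists_exponent (Subgroup.centralizer ({t} : Set G))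
  have key : ∀ X : IrrCharacter G, X ∈ principalBlock M G → (X : G → ℂ) x = (X : G → ℂ) y := by
    intro X hX
    rw [irr_two_part H g hM X hX hx h1 h2 (e2 x) hr (e3 x),
      irr_two_part H g hM X hX hy (by rw [← hxy]; exact h1) (by rw [← hxy]; exact h2) (e2 y) hr
        (e3 y)]
    have hxk : π (x ^ k) ∈ T' := by rw [map_pow]; exact pow_mem hx k
    have hyk : π (y ^ k) ∈ T' := by rw [map_pow]; exact pow_mem hy k
    have hlk : ∀ {w : C}, w ∈ T' → ∀ j : ℕ, lin θ (w ^ j) = lin θ w ^ j := by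
      intro w hw j
      rw [lin_apply θ (pow_mem hw j), lin_apply θ hw, ← Units.val_pow_eq_pow_val, ← map_pow]
      rfl
    have hlin : lin θ (π (x ^ k)) = lin θ (π (y ^ k)) := by
      rw [map_pow, map_pow, hlk hx, hlk hy, hxy]
    -- `π (x ^ k) = π (y ^ k)`
    have hpi : π (x ^ k) = π (y ^ k) := by
      have hc : Commute (π (x ^ k)) (π (y ^ k)) := h.T'_comm _ hxk _ hyk
      have h3 : lin θ ((π (x ^ k))⁻¹ * π (y ^ k)) = 1 := by
        have h4 : lin θ (π (x ^ k)) * lin θ ((π (x ^ k))⁻¹ * π (y ^ k)) = lin θ (π (y ^ k)) := by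
          rw [← lin_mul θ hxk (mul_mem (inv_mem hxk) hyk), mul_inv_cancel_left]
        rw [hlin] at h4
        exact (mul_eq_left₀ (lin_ne_zero θ hyk)).1 h4
      have h5 := (g.lin_eq_one_iff (mul_mem (inv_mem hxk) hyk)).1 h3
      have h6 : ((π (x ^ k))⁻¹ * π (y ^ k)) ^ 2 ^ m = 1 := by
        rw [(hc.inv_left).mul_pow, inv_pow, ← map_pow, ← map_pow, e2, e2, map_one, inv_one,
          one_mul]
      have h7 : orderOf ((π (x ^ k))⁻¹ * π (y ^ k)) = 1 := by
        refine Nat.eq_one_of_dvd_coprimes ?_ (orderOf_dvd_of_pow_eq_one h6) dvd_rfl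
        exact Nat.Coprime.pow_left _ (Nat.coprime_two_left.2 h5)
      rw [orderOf_eq_one_iff] at h7
      exact inv_mul_eq_one.1 h7
    have hz : z ∈ Subgroup.zpowers (π (x ^ k)) := by
      refine h.zpowers_T' hxk fun ho => h1 ?_
      have h3 := g.lin_odd hxk ho
      have h4 : π x = π (x ^ k) * π ((x ^ k)⁻¹ * x) := by
        rw [← map_mul, mul_inv_cancel_left]
      have h5 : π ((x ^ k)⁻¹ * x) ∈ T' := by
        rw [map_mul, map_inv]; exact mul_mem (inv_mem hxk) hx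
      rw [h4, lin_mul θ hxk h5, h3, one_mul]
      refine g.lin_odd h5 (hr.of_dvd_nat (orderOf_dvd_of_pow_eq_one ?_))
      rw [← map_pow, e3, map_one]
    exact QDW.CoreConst.irr_eq_of_map H M hM X hX _ _ hz hpi
  obtain ⟨χ, hχ, rfl | rfl⟩ := hX
  · exact key χ hχ
  · rw [Pi.neg_apply, Pi.neg_apply, key χ hχ]


/-- The value at an element above `T'` whose `2`-part is not above `Z`. -/
theorem val_T' (H : RTwo.General.Hyp t z π) (g : Gen h b θ n) (hμ : ∃ v : U, μ v ≠ 1)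
    {M : Ideal AlgInt} (hM : IsPModular 2 M) {X : G → ℂ} (hX : InB (principalBlock M G) X)
    {xθ xs : ℤ} (h1 : ∀ f ∈ g.Fam μ, classInner (Ind π f) X = xθ)
    (h2 : classInner (Ind π (phi h μ θ (2 ^ (n - 1)))) X = xs)
    {x : Subgroup.centralizer ({t} : Set G)} (hx : π x ∈ T') (hx1 : lin θ (π x) ≠ 1)
    (hx2 : lin θ (π x) ≠ -1) :
    X x = xθ - lin θ (π x) ^ 2 ^ (n - 1) * (xs - xθ) := by
  have hXc : IsClassFunction G X := isClassFunction_signed hX.signedIrr
  have e1 : classInner (Ind π (Torus.R T' h.base μ (secl θ n (lin θ (π x))))) X =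
      classInner (Torus.R T' h.base μ (secl θ n (lin θ (π x)))) (X x • (1 : C → ℂ)) := by
    refine RTwo.General.classInner_ind_values H hXc ?_
    intro y hy
    obtain ⟨c, hc1, hc2⟩ := g.secl_supp hμ hx hx1 hx2 hy
    obtain ⟨d, rfl⟩ := H.surj c
    have e : π (d * y * d⁻¹) = π d * π y * (π d)⁻¹ := by rw [map_mul, map_mul, map_inv]
    rw [← e] at hc1 hc2
    rw [Pi.smul_apply, Pi.one_apply, smul_eq_mul, mul_one, ← hXc (y : G) (d : G)]
    have e' : (d : G) * (y : G) * (d : G)⁻¹ =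
      ((d * y * d⁻¹ : Subgroup.centralizer ({t} : Set G)) : G) := by push_cast; rfl
    rw [e']
    exact inB_of_lin H g hM hX hc1 hx hc2 (by rw [hc2]; exact hx1) (by rw [hc2]; exact hx2)
  rw [Core.classInner_smul_right, h.inner_T'_one hμ, g.ssum_secl hx hx1,
    inv_mul_cancel₀ Core.card_ne_zero_complex, mul_one, g.R_secl, Ind_sum] at e1
  set l := lin θ (π x) with hl
  have e2 : (fun y => ∑ j ∈ Finset.range (2 ^ n), (-(l⁻¹) ^ j) * Ind π (phi h μ θ j) y) =
      ∑ j ∈ Finset.range (2 ^ n), (-(l⁻¹) ^ j) • Ind π (phi h μ θ j) := by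
    funext y
    simp only [Finset.sum_apply, Pi.smul_apply, smul_eq_mul]
  rw [e2, Core.classInner_sum_left] at e1
  have hhalf : 2 ^ (n - 1) < 2 ^ n := by
    have := g.three_le
    exact Nat.pow_lt_pow_right (by norm_num) (by omega)
  have h0 : (0 : ℕ) ≠ 2 ^ (n - 1) := (by positivity : (0 : ℕ) < 2 ^ (n - 1)).ne
  have hval : ∀ j ∈ Finset.range (2 ^ n), classInner (Ind π (phi h μ θ j)) X =
      xθ + (if j = 0 then -(xθ : ℂ) else 0) + (if j = 2 ^ (n - 1) then (xs : ℂ) - xθ else 0) := by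
    intro j hj
    rw [Finset.mem_range] at hj
    by_cases hj0 : j = 0
    · subst hj0
      rw [g.phi_eq_zero ((g.pow_eq_one_iff 0).2 (dvd_zero _)), if_pos rfl, if_neg h0]
      have : Ind π (0 : C → ℂ) = 0 := by
        have := Ind_sum (π := π) (∅ : Finset ℕ) (fun _ => 1) (fun _ => (0 : C → ℂ))
        simp only [Finset.sum_empty] at this
        exact this
      rw [this, Core.classInner_zero_left]
      ring
    by_cases hj1 : j = 2 ^ (n - 1)
    · rw [hj1, if_neg h0.symm, if_pos rfl, h2]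
      ring
    rw [if_neg hj0, if_neg hj1, add_zero, add_zero]
    refine h1 _ (g.phi_mem_Fam ?_)
    rintro ⟨c, hc⟩
    have h3 := g.half_add
    have h4 : (0 : ℕ) < 2 ^ (n - 1) := by positivity
    have h5 : c < 2 := by
      by_contra h6
      have : 2 ^ (n - 1) * 2 ≤ 2 ^ (n - 1) * c := Nat.mul_le_mul_left _ (by omega)
      omega
    interval_cases c
    · exact hj0 (by rw [hc, mul_zero])
    · exact hj1 (by rw [hc, mul_one])
  have hlh : (l⁻¹) ^ 2 ^ (n - 1) = l ^ 2 ^ (n - 1) := by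
    have h3 : l ^ 2 ^ (n - 1) * l ^ 2 ^ (n - 1) = 1 := by
      rw [← pow_add, g.half_add, hl, g.lin_pow hx]
    rw [inv_pow]
    exact inv_eq_of_mul_eq_one_left h3
  have e3 : ∑ j ∈ Finset.range (2 ^ n), classInner ((-(l⁻¹) ^ j) • Ind π (phi h μ θ j)) X =
      xθ - l ^ 2 ^ (n - 1) * (xs - xθ) := by
    have e4 : ∀ j ∈ Finset.range (2 ^ n), classInner ((-(l⁻¹) ^ j) • Ind π (phi h μ θ j)) X =
        (-(xθ : ℂ)) * (l⁻¹) ^ j + (if j = 0 then (xθ : ℂ) else 0) +
          (if j = 2 ^ (n - 1) then -(l ^ 2 ^ (n - 1) * ((xs : ℂ) - xθ)) else 0) := by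
      intro j hj
      rw [Core.classInner_smul_left, hval j hj]
      by_cases hj0 : j = 0
      · subst hj0
        rw [if_pos rfl, if_pos rfl, if_neg h0, if_neg h0]
        ring
      by_cases hj1 : j = 2 ^ (n - 1)
      · rw [if_neg hj0, if_neg hj0, if_pos hj1, if_pos hj1, hj1, hlh]
        ring
      rw [if_neg hj0, if_neg hj0, if_neg hj1, if_neg hj1]
      ring
    rw [Finset.sum_congr rfl e4, Finset.sum_add_distrib, Finset.sum_add_distrib, ← Finset.mul_sum,
      hl, g.sum_inv hx hx1, ← hl, Finset.sum_ite_eq', Finset.sum_ite_eq',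
      if_pos (Finset.mem_range.2 (by positivity)), if_pos (Finset.mem_range.2 hhalf)]
    ring
  rw [e3] at e1
  have hlr : conj (l ^ 2 ^ (n - 1)) = l ^ 2 ^ (n - 1) := by
    have h3 : l ^ 2 ^ (n - 1) * l ^ 2 ^ (n - 1) = 1 := by
      rw [← pow_add, g.half_add, hl, g.lin_pow hx]
    rcases mul_self_eq_one_iff.1 h3 with h4 | h4 <;> rw [h4] <;> simp
  have e5 := congrArg conj e1
  rw [Complex.conj_conj, map_sub, map_mul, map_sub, hlr, map_intCast, map_intCast] at e5
  exact e5.symm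

/-- `X x = β (π x) (a R_T(1) (π x) + b R_{T'}(1) (π x)) / 2` for all `x : C(t)` such that `z` is a
power of `π x`. -/
def ValD (h : CHyp z q ε Z T T' U s s' u) (μ : U →* ℂˣ)
    (π : (Subgroup.centralizer ({t} : Set G)) →* C) (β : C → ℂ) (X : G → ℂ) (a b : ℂ) : Prop :=
  ∀ x : Subgroup.centralizer ({t} : Set G), z ∈ Subgroup.zpowers (π x) →
    X x = β (π x) * ((a * Torus.R T h.base μ (fun _ => 1) (π x) +
      b * Torus.R T' h.base μ (fun _ => 1) (π x)) / 2)

/-- From `Val` to `ValD`. -/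
theorem Val.valD (H : RTwo.General.Hyp t z π) (g : Gen h b θ n) (c : Chi h b χ)
    (hμ : ∃ v : U, μ v ≠ 1) {X : G → ℂ} (hX : IsClassFunction G X) {β : C → ℂ}
    (hβc : IsClassFunction C β) (hβ : ∀ x, Odd (orderOf (z * x)) → β x = 1) {a₀ b₀ : ℂ}
    (hV : Val h μ π X a₀ b₀)
    (hT' : ∀ x : Subgroup.centralizer ({t} : Set G), π x ∈ T' → lin θ (π x) ≠ 1 →
      lin θ (π x) ≠ -1 → X x = β (π x) * b₀) : ValD h μ π β X a₀ b₀ := by
  intro x hx
  obtain ⟨d, hd⟩ := h.exhaust (π x)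
  obtain ⟨w, rfl⟩ := H.surj d
  have e : π (w * x * w⁻¹) = π w * π x * (π w)⁻¹ := by rw [map_mul, map_mul, map_inv]
  rw [← hX (x : G) (w : G), ← hβc (π x) (π w), ← Torus.R_isClassFunction h.base _ (π x) (π w),
    ← Torus.R_isClassFunction h.base _ (π x) (π w)]
  have e' : (w : G) * (x : G) * (w : G)⁻¹ =
    ((w * x * w⁻¹ : Subgroup.centralizer ({t} : Set G)) : G) := by push_cast; rfl
  have hx' : z ∈ Subgroup.zpowers (π w * π x * (π w)⁻¹) := by
    apply h.zpowers_conj (π w * π x * (π w)⁻¹) (π w)⁻¹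
    have e1 : (π w)⁻¹ * (π w * π x * (π w)⁻¹) * (π w)⁻¹⁻¹ = π x := by group
    rwa [e1]
  rw [e', ← e]
  rw [← e] at hd hx'
  generalize w * x * w⁻¹ = y at hd hx'
  have key : Odd (orderOf (z * π y)) → X y = β (π y) * ((a₀ * Torus.R T h.base μ (fun _ => 1) (π y) +
      b₀ * Torus.R T' h.base μ (fun _ => 1) (π y)) / 2) := by
    intro ho
    rw [hV y (z * π y) (by rw [← mul_assoc, h.tt, one_mul]) ho, hβ _ ho, one_mul,
      h.torus.R_one_mul h.torus' rfl h.base hμ h.exhaust h.t_mem,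
      h.torus'.R_one_mul h.torus (by ring) h.base hμ h.exh' h.t_mem]
  rcases hd with hy | hy | ⟨a, ha, v, hv, hy⟩
  · exact key (odd_of_T c hy hx')
  · by_cases ho : Odd (orderOf (z * π y))
    · exact key ho
    have hzT := h.Z_le_T' h.t_mem
    have l1 : lin θ (π y) ≠ 1 := by
      intro h1
      have h2 := (g.lin_eq_one_iff hy).1 h1
      have h3 : orderOf z ∣ orderOf (π y) := orderOf_dvd_of_mem_zpowers hx'
      rw [h.orderOf_t] at h3
      exact (Nat.not_even_iff_odd.2 h2) (even_iff_two_dvd.2 h3)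
    have l2 : lin θ (π y) ≠ -1 := by
      intro h1
      refine ho ((g.lin_eq_one_iff (mul_mem hzT hy)).1 ?_)
      rw [lin_mul _ hzT hy, g.lin_t, h1]
      ring
    have hyZ : π y ∉ Z := by
      intro h1
      rcases g.lin_Z h1 with h2 | h2
      · exact l1 h2
      · exact l2 h2
    have hne : ε ≠ -ε := by rcases h.eps with h1 | h1 <;> rw [h1] <;> norm_num
    rw [hT' y hy l1 l2, h.torus.R_T' h.torus' hne.symm h.base _ hy hyZ,
      h.torus'.R_T h.base _ hy hyZ]
    ring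
  · refine key ?_
    rw [hy]
    refine h.odd_ZU a ha v hv (odd_of_T c (h.Z_le_T ha) ?_)
    rw [hy] at hx'
    obtain ⟨k, hk⟩ := Subgroup.mem_zpowers_iff.1 hx'
    have hcom : Commute a v := (h.Z_central a ha v).symm
    rw [hcom.mul_zpow] at hk
    have h2 : v ^ k = 1 := by
      refine h.base.eq_one_of_mem ?_ (zpow_mem hv _)
      have h3 : v ^ k = (a ^ k)⁻¹ * z := by rw [← hk, inv_mul_cancel_left]
      rw [h3]
      exact mul_mem (inv_mem (zpow_mem ha _)) h.t_mem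
    rw [h2, mul_one] at hk
    exact Subgroup.mem_zpowers_iff.2 ⟨k, hk⟩

/-- The characters of `G` in the semidihedral case, with their values on `{x | t ∈ zpowers x}` and
all the relations between them. -/
structure SDFull (M : Ideal AlgInt) (h : CHyp z q ε Z T T' U s s' u) (b : C →* ℂˣ)
    (θ : T' →* ℂˣ) (n : ℕ) (χ : T →* ℂˣ) (μ : U →* ℂˣ)
    (π : (Subgroup.centralizer ({t} : Set G)) →* C) (X₂ X₃ X₄ X₅ : G → ℂ) (L : ℕ → G → ℂ)
    (f x : ℤ) : Prop extends SDRes M h μ π X₂ X₃ X₄ X₅ (L 1) f x where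
  inL' : ∀ j, ¬ 2 ^ (n - 1) ∣ j → InB (principalBlock M G) (L j)
  /-- the relations -/
  eqΦ : ∀ j, ¬ 2 ^ (n - 1) ∣ j → Ind π (phi h μ θ j) = 1 - X₂ + L j
  eqS : Ind π (phi h μ θ (2 ^ (n - 1))) = 1 - X₂ + X₄ - X₅
  eqP : Ind π (psi h μ θ n χ) = 1 + X₃ + X₄
  /-- orthogonality -/
  orth₂ : classInner X₂ 1 = 0
  orth₃ : classInner X₃ 1 = 0
  orth₄ : classInner X₄ 1 = 0
  orth₅ : classInner X₅ 1 = 0
  orthL : ∀ j, ¬ 2 ^ (n - 1) ∣ j → classInner (L j) 1 = 0
  x₂₃ : classInner X₂ X₃ = 0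
  x₂₄ : classInner X₂ X₄ = 0
  x₂₅ : classInner X₂ X₅ = 0
  x₃₄ : classInner X₃ X₄ = 0
  x₃₅ : classInner X₃ X₅ = 0
  x₄₅ : classInner X₄ X₅ = 0
  L₂ : ∀ j, ¬ 2 ^ (n - 1) ∣ j → classInner (L j) X₂ = 0
  L₃ : ∀ j, ¬ 2 ^ (n - 1) ∣ j → classInner (L j) X₃ = 0
  L₄ : ∀ j, ¬ 2 ^ (n - 1) ∣ j → classInner (L j) X₄ = 0
  L₅ : ∀ j, ¬ 2 ^ (n - 1) ∣ j → classInner (L j) X₅ = 0
  /-- inner products with the induced functions -/
  Φ₂ : ∀ j, ¬ 2 ^ (n - 1) ∣ j → classInner (Ind π (phi h μ θ j)) X₂ = -1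
  Φ₃ : ∀ j, ¬ 2 ^ (n - 1) ∣ j → classInner (Ind π (phi h μ θ j)) X₃ = 0
  S₂ : classInner (Ind π (phi h μ θ (2 ^ (n - 1)))) X₂ = -1
  P₂ : classInner (Ind π (psi h μ θ n χ)) X₂ = 0
  P₃ : classInner (Ind π (psi h μ θ n χ)) X₃ = 1
  /-- the values -/
  valD₂ : ∀ y : Subgroup.centralizer ({t} : Set G), z ∈ Subgroup.zpowers (π y) →
    X₂ y = (Torus.R T h.base μ (fun _ => 1) (π y) - Torus.R T' h.base μ (fun _ => 1) (π y)) / 2
  valD₃ : ∀ y : Subgroup.centralizer ({t} : Set G), z ∈ Subgroup.zpowers (π y) →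
    X₃ y = Torus.R T h.base μ (fun _ => 1) (π y)
  valD₄ : ∀ y : Subgroup.centralizer ({t} : Set G), z ∈ Subgroup.zpowers (π y) →
    X₄ y = ((b (π y) : ℂˣ) : ℂ) *
      ((Torus.R T h.base μ (fun _ => 1) (π y) - Torus.R T' h.base μ (fun _ => 1) (π y)) / 2)
  valD₅ : ∀ y : Subgroup.centralizer ({t} : Set G), z ∈ Subgroup.zpowers (π y) →
    X₅ y = ((b (π y) : ℂˣ) : ℂ)
  /-- the degrees -/
  oneL : ∀ j, ¬ 2 ^ (n - 1) ∣ j → L j 1 = f - 1
  one₃ : X₃ 1 = -1 - x
  one₅ : X₅ 1 = 1 - f + x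

/-- **The characters of `G` in the semidihedral case**, for given `μ`, `θ`, `χ`. -/
theorem exists_sdFull (H : RTwo.General.Hyp t z π) (g : Gen h b θ n) (c : Chi h b χ)
    (hD : DetHyp q ε T T' U s s' u 2 b) (hμ : ∃ v : U, μ v ≠ 1) {M : Ideal AlgInt}
    (hM : IsPModular 2 M) (hlin : ∀ X : G → ℂ, SignedIrr X → X 1 = 1 → X = 1) :
    ∃ (X₂ X₃ X₄ X₅ : G → ℂ) (L : ℕ → G → ℂ) (f x : ℤ),
      SDFull M h b θ n χ μ π X₂ X₃ X₄ X₅ L f x := by
  classical
  let _ : Fintype (g.Fam μ) := g.Fam_finite.fintype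
  have hcard : 3 ≤ Fintype.card (g.Fam μ) := by
    obtain ⟨f₁, h1, f₂, h2, f₃, h3, h12, h13, h23⟩ := g.exists_three hμ
    have : 2 < Fintype.card (g.Fam μ) := Fintype.two_lt_card_iff.2
      ⟨⟨f₁, h1⟩, ⟨f₂, h2⟩, ⟨f₃, h3⟩, fun e => h12 (congrArg Subtype.val e),
        fun e => h13 (congrArg Subtype.val e), fun e => h23 (congrArg Subtype.val e)⟩
    omega
  obtain ⟨X₂, X₃, X₄, X₅, L, S⟩ := exists_sdSplit hcard (sdHyp H g c hD hμ)
  -- supports
  have hj1 : ¬ 2 ^ (n - 1) ∣ 1 := by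
    intro h1
    have h2 := Nat.le_of_dvd one_pos h1
    have h3 : 1 < 2 ^ (n - 1) := Nat.one_lt_two_pow (by have := g.three_le; omega)
    omega
  let i₁ : g.Fam μ := ⟨phi h μ θ 1, g.phi_mem_Fam hj1⟩
  let L' : ℕ → G → ℂ := fun j =>
    if hj : ¬ 2 ^ (n - 1) ∣ j then L ⟨phi h μ θ j, g.phi_mem_Fam hj⟩ else 0
  have hL' : ∀ j, (hj : ¬ 2 ^ (n - 1) ∣ j) → L' j = L ⟨phi h μ θ j, g.phi_mem_Fam hj⟩ :=
    fun j hj => dif_pos hj
  have s1 : ∀ x, phi h μ θ 1 x ≠ 0 → z ∈ Subgroup.zpowers x := fun x hx => g.phi_supp hμ _ hx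
  have ss : ∀ x, phi h μ θ (2 ^ (n - 1)) x ≠ 0 → z ∈ Subgroup.zpowers x :=
    fun x hx => g.phi_supp hμ _ hx
  have sp : ∀ x, psi h μ θ n χ x ≠ 0 → z ∈ Subgroup.zpowers x :=
    fun x hx => psi_supp g c hD hμ hx
  have sF : ∀ i : g.Fam μ, ∀ x, (i : C → ℂ) x ≠ 0 → z ∈ Subgroup.zpowers x := by
    rintro ⟨f, j, hj, rfl⟩ x hx
    exact g.phi_supp hμ j hx
  have oddLi : ∀ i : g.Fam μ, ∀ g, Odd (orderOf g) → 1 - X₂ g + L i g = 0 := by
    intro i g hg
    have h1 := congrFun (S.eqΦ i) g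
    rw [Ind_odd H (sF i) hg] at h1
    exact h1.symm
  have oddL : ∀ g, Odd (orderOf g) → 1 - X₂ g + L i₁ g = 0 := oddLi i₁
  have oddS : ∀ g, Odd (orderOf g) → 1 - X₂ g + X₄ g - X₅ g = 0 := by
    intro g hg
    have h1 := congrFun S.eqS g
    rw [Ind_odd H ss hg] at h1
    exact h1.symm
  have oddP : ∀ g, Odd (orderOf g) → 1 + X₃ g + X₄ g = 0 := by
    intro g hg
    have h1 := congrFun S.eqP g
    rw [Ind_odd H sp hg] at h1
    exact h1.symm
  -- blocks
  have inLi : ∀ i : g.Fam μ, InB (principalBlock M G) (-X₂) ∧ InB (principalBlock M G) (L i) :=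
    fun i => inB_of_three hM (signed_neg S.s₂) (S.sL i) (fun g hg => by
      have := oddLi i g hg
      simp only [Pi.add_apply, Pi.one_apply, Pi.neg_apply]
      linear_combination this)
  have in2' := (inLi i₁).1
  have in2 : InB (principalBlock M G) X₂ := by
    have := InB.neg in2'
    rwa [neg_neg] at this
  obtain ⟨in3, in4⟩ := inB_of_three hM S.s₃ S.s₄ (fun g hg => oddP g hg)
  have in5 : InB (principalBlock M G) X₅ := by
    have h1 := inB_of_four hM in2' in4 (signed_neg S.s₅) (fun g hg => by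
      have := oddS g hg
      simp only [Pi.add_apply, Pi.one_apply, Pi.neg_apply]
      linear_combination this)
    have := InB.neg h1
    rwa [neg_neg] at this
  -- inner products
  have e22 := signed_self S.s₂
  have e33 := signed_self S.s₃
  have e44 := signed_self S.s₄
  have e55 := signed_self S.s₅
  have y12 := inner_symm_zero S.one₂
  have y13 := inner_symm_zero S.one₃
  have y14 := inner_symm_zero S.one₄
  have y15 := inner_symm_zero S.one₅
  have y32 := inner_symm_zero S.x₂₃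
  have y42 := inner_symm_zero S.x₂₄
  have y52 := inner_symm_zero S.x₂₅
  have y43 := inner_symm_zero S.x₃₄
  have y53 := inner_symm_zero S.x₃₅
  have y54 := inner_symm_zero S.x₄₅
  have F2 : ∀ f ∈ g.Fam μ, classInner (Ind π f) X₂ = ((-1 : ℤ) : ℂ) := by
    intro f hf
    have h1 := S.eqΦ ⟨f, hf⟩
    simp only at h1
    rw [h1, Core.classInner_add_left, Core.classInner_sub_left, y12, e22, S.L₂]
    norm_num
  have F3 : ∀ f ∈ g.Fam μ, classInner (Ind π f) X₃ = ((0 : ℤ) : ℂ) := by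
    intro f hf
    have h1 := S.eqΦ ⟨f, hf⟩
    simp only at h1
    rw [h1, Core.classInner_add_left, Core.classInner_sub_left, y13, S.x₂₃, S.L₃]
    norm_num
  have F4 : ∀ f ∈ g.Fam μ, classInner (Ind π f) X₄ = ((0 : ℤ) : ℂ) := by
    intro f hf
    have h1 := S.eqΦ ⟨f, hf⟩
    simp only at h1
    rw [h1, Core.classInner_add_left, Core.classInner_sub_left, y14, S.x₂₄, S.L₄]
    norm_num
  have F5 : ∀ f ∈ g.Fam μ, classInner (Ind π f) X₅ = ((0 : ℤ) : ℂ) := by
    intro f hf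
    have h1 := S.eqΦ ⟨f, hf⟩
    simp only at h1
    rw [h1, Core.classInner_add_left, Core.classInner_sub_left, y15, S.x₂₅, S.L₅]
    norm_num
  have S2 : classInner (Ind π (phi h μ θ (2 ^ (n - 1)))) X₂ = ((-1 : ℤ) : ℂ) := by
    rw [S.eqS, Core.classInner_sub_left, Core.classInner_add_left, Core.classInner_sub_left,
      y12, e22, y42, y52]
    norm_num
  have S3 : classInner (Ind π (phi h μ θ (2 ^ (n - 1)))) X₃ = ((0 : ℤ) : ℂ) := by
    rw [S.eqS, Core.classInner_sub_left, Core.classInner_add_left, Core.classInner_sub_left,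
      y13, S.x₂₃, y43, y53]
    norm_num
  have S4 : classInner (Ind π (phi h μ θ (2 ^ (n - 1)))) X₄ = ((1 : ℤ) : ℂ) := by
    rw [S.eqS, Core.classInner_sub_left, Core.classInner_add_left, Core.classInner_sub_left,
      y14, S.x₂₄, e44, y54]
    norm_num
  have S5 : classInner (Ind π (phi h μ θ (2 ^ (n - 1)))) X₅ = ((-1 : ℤ) : ℂ) := by
    rw [S.eqS, Core.classInner_sub_left, Core.classInner_add_left, Core.classInner_sub_left,
      y15, S.x₂₅, S.x₄₅, e55]
    norm_num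
  have P2 : classInner (Ind π (psi h μ θ n χ)) X₂ = ((0 : ℤ) : ℂ) := by
    rw [S.eqP, Core.classInner_add_left, Core.classInner_add_left, y12, y32, y42]
    norm_num
  have P3 : classInner (Ind π (psi h μ θ n χ)) X₃ = ((1 : ℤ) : ℂ) := by
    rw [S.eqP, Core.classInner_add_left, Core.classInner_add_left, y13, e33, y43]
    norm_num
  have P4 : classInner (Ind π (psi h μ θ n χ)) X₄ = ((1 : ℤ) : ℂ) := by
    rw [S.eqP, Core.classInner_add_left, Core.classInner_add_left, y14, S.x₃₄, e44]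
    norm_num
  have P5 : classInner (Ind π (psi h μ θ n χ)) X₅ = ((0 : ℤ) : ℂ) := by
    rw [S.eqP, Core.classInner_add_left, Core.classInner_add_left, y15, S.x₃₅, S.x₄₅]
    norm_num
  -- values
  have V2 : Val h μ π X₂ 1 (-1) := by
    obtain ⟨a₀, b₀, hV⟩ := blockEval H h hM in2 hμ
    have hb := val_b H g hμ (isClassFunction_signed S.s₂) hV F2 S2
    have ha := val_a H g c hD hμ (isClassFunction_signed S.s₂) hV P2 S2
    have e1 : a₀ = 1 := by rw [ha]; norm_num
    have e2 : b₀ = -1 := by rw [hb]; norm_num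
    subst e1 e2
    exact hV
  have V3 : Val h μ π X₃ 2 0 := by
    obtain ⟨a₀, b₀, hV⟩ := blockEval H h hM in3 hμ
    have hb := val_b H g hμ (isClassFunction_signed S.s₃) hV F3 S3
    have ha := val_a H g c hD hμ (isClassFunction_signed S.s₃) hV P3 S3
    have e1 : a₀ = 2 := by rw [ha]; norm_num
    have e2 : b₀ = 0 := by rw [hb]; norm_num
    subst e1 e2
    exact hV
  have V4 : Val h μ π X₄ 1 (-1) := by
    obtain ⟨a₀, b₀, hV⟩ := blockEval H h hM in4 hμ
    have hb := val_b H g hμ (isClassFunction_signed S.s₄) hV F4 S4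
    have ha := val_a H g c hD hμ (isClassFunction_signed S.s₄) hV P4 S4
    have e1 : a₀ = 1 := by rw [ha]; norm_num
    have e2 : b₀ = -1 := by rw [hb]; norm_num
    subst e1 e2
    exact hV
  have V5 : Val h μ π X₅ 1 1 := by
    obtain ⟨a₀, b₀, hV⟩ := blockEval H h hM in5 hμ
    have hb := val_b H g hμ (isClassFunction_signed S.s₅) hV F5 S5
    have ha := val_a H g c hD hμ (isClassFunction_signed S.s₅) hV P5 S5
    have e1 : a₀ = 1 := by rw [ha]; norm_num
    have e2 : b₀ = 1 := by rw [hb]; norm_num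
    subst e1 e2
    exact hV
  have VL : Val h μ π (L i₁) 0 2 := by
    have h1 : Val h μ π (Ind π (phi h μ θ 1)) 0 4 := by
      intro x y hx hy
      have h2 : z ∈ Subgroup.zpowers (π x) := by
        refine h.zpowers_of_odd ?_
        rw [hx, ← mul_assoc, h.tt, one_mul]
        exact hy
      rw [Ind_apply H (g.phi_class 1) s1 h2, hx, g.phi_section hμ 1 hy]
      ring
    have h2 : L i₁ = Ind π (phi h μ θ 1) - 1 + X₂ := by
      have h3 := S.eqΦ i₁
      have h4 : Ind π (phi h μ θ 1) = 1 - X₂ + L i₁ := h3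
      rw [h4]
      abel
    rw [h2]
    have h3 := (h1.sub (Val.one (h := h) (π := π) hμ)).add V2
    have e1 : (0 : ℂ) - 1 + 1 = 0 := by norm_num
    have e2 : (4 : ℂ) - 1 + -1 = 2 := by norm_num
    rw [e1, e2] at h3
    exact h3
  -- values at `t`
  have t2 : X₂ t = ε * q := by rw [V2.apply_t H]; ring
  have t3 : X₃ t = 1 + ε * q := by rw [V3.apply_t H]; ring
  have t4 : X₄ t = ε * q := by rw [V4.apply_t H]; ring
  have t5 : X₅ t = 1 := by rw [V5.apply_t H]; ring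
  have tL : L i₁ t = 1 - ε * q := by rw [VL.apply_t H]; ring
  -- degrees
  obtain ⟨f, hf0, hf⟩ := InvCent.WreathedGram.signed_degree S.s₂
  obtain ⟨x, hx0, hx⟩ := InvCent.WreathedGram.signed_degree S.s₄
  have ho : Odd (orderOf (1 : G)) := by rw [orderOf_one]; exact odd_one
  have dLi : ∀ i : g.Fam μ, L i 1 = f - 1 := by
    intro i
    have := oddLi i 1 ho
    rw [hf] at this
    linear_combination this
  have dL : L i₁ 1 = f - 1 := dLi i₁
  have d3 : X₃ 1 = -1 - x := by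
    have := oddP 1 ho
    rw [hx] at this
    linear_combination this
  have d5 : X₅ 1 = 1 - f + x := by
    have := oddS 1 ho
    rw [hf, hx] at this
    linear_combination -this
  have hf1 : f ≠ 1 := by
    rintro rfl
    exact (S.sL i₁).apply_one_ne_zero (by rw [dL]; norm_num)
  have hx1 : x ≠ -1 := by
    rintro rfl
    exact S.s₃.apply_one_ne_zero (by rw [d3]; norm_num)
  have hfx : f ≠ x := by
    rintro rfl
    have h1 : X₅ = 1 := hlin X₅ S.s₅ (by rw [d5]; ring)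
    have h2 := S.one₅
    rw [h1, InvCent.WreathedGram.one_one] at h2
    exact one_ne_zero h2
  have cf0 : (f : ℂ) ≠ 0 := by exact_mod_cast hf0
  have cx0 : (x : ℂ) ≠ 0 := by exact_mod_cast hx0
  have cf1 : (f : ℂ) - 1 ≠ 0 := by
    intro h1
    exact hf1 (by exact_mod_cast sub_eq_zero.1 h1)
  have c5 : (1 : ℂ) - f + x ≠ 0 := by
    rw [← d5]
    exact S.s₅.apply_one_ne_zero
  have hε : (ε : ℂ) * ε = 1 := by exact_mod_cast h.torus.sq_sign
  have hn0 : ((Subgroup.centralizer ({t} : Set G)).index : ℂ) ≠ 0 := by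
    have : (Subgroup.centralizer ({t} : Set G)).index ≠ 0 := Subgroup.index_ne_zero_of_finite
    exact_mod_cast this
  -- all values
  have c1 : IsClassFunction C (fun _ => (1 : ℂ)) := fun _ _ => rfl
  have cb : IsClassFunction C (fun y => ((b y : ℂˣ) : ℂ)) := by
    intro y w
    show ((b (w * y * w⁻¹) : ℂˣ) : ℂ) = ((b y : ℂˣ) : ℂ)
    rw [map_mul, map_mul, map_inv, mul_inv_cancel_comm]
  have ob : ∀ y, Odd (orderOf (z * y)) → (fun y => ((b y : ℂˣ) : ℂ)) y = 1 := by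
    intro y hy
    have hbz : b z = 1 := by
      refine hD.b_T₀ z (h.Z_le_T h.t_mem) ?_
      rw [h.Z_central z h.t_mem s, mul_inv_cancel_right, h.tt]
    have h1 : b (z * y) = b y := by rw [map_mul, hbz, one_mul]
    have h2 : orderOf (b (z * y)) ∣ orderOf (z * y) := orderOf_map_dvd b _
    have h3 : orderOf (b (z * y)) ∣ 2 := orderOf_dvd_of_pow_eq_one (hD.pow_eq_one _)
    have h4 : orderOf (b (z * y)) = 1 :=
      Nat.eq_one_of_dvd_coprimes (Nat.coprime_two_left.2 hy) h3 h2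
    rw [orderOf_eq_one_iff, h1] at h4
    simp only [h4, Units.val_one]
  have D2 : ValD h μ π (fun _ => 1) X₂ 1 (-1) := by
    refine V2.valD H g c hμ (isClassFunction_signed S.s₂) c1 (fun _ _ => rfl) ?_
    intro y hy h1 h2
    rw [val_T' H g hμ hM in2 F2 S2 hy h1 h2]
    push_cast
    ring
  have D3 : ValD h μ π (fun _ => 1) X₃ 2 0 := by
    refine V3.valD H g c hμ (isClassFunction_signed S.s₃) c1 (fun _ _ => rfl) ?_
    intro y hy h1 h2
    rw [val_T' H g hμ hM in3 F3 S3 hy h1 h2]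
    push_cast
    ring
  have D4 : ValD h μ π (fun y => ((b y : ℂˣ) : ℂ)) X₄ 1 (-1) := by
    refine V4.valD H g c hμ (isClassFunction_signed S.s₄) cb ob ?_
    intro y hy h1 h2
    rw [val_T' H g hμ hM in4 F4 S4 hy h1 h2, ← lin_pow_hom _ _ hy, g.lin_half hy]
    push_cast
    ring
  have D5 : ValD h μ π (fun y => ((b y : ℂˣ) : ℂ)) X₅ 1 1 := by
    refine V5.valD H g c hμ (isClassFunction_signed S.s₅) cb ob ?_
    intro y hy h1 h2
    rw [val_T' H g hμ hM in5 F5 S5 hy h1 h2, ← lin_pow_hom _ _ hy, g.lin_half hy]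
    push_cast
    ring
  refine ⟨X₂, X₃, X₄, X₅, L', f, x,
    { in₂ := in2, in₃ := in3, in₄ := in4, in₅ := in5, inL := by rw [hL' 1 hj1]; exact (inLi i₁).2,
      val₂ := V2, val₃ := V3, val₄ := V4, val₅ := V5, valL := by rw [hL' 1 hj1]; exact VL,
      odd_L := by rw [hL' 1 hj1]; exact oddL
      odd_S := oddS, odd_P := oddP,
      one₂ := hf, one₄ := hx, t₂ := t2, t₃ := t3, t₄ := t4, t₅ := t5
      tL := by rw [hL' 1 hj1]; exact tL
      f_ne_zero := hf0, f_ne_one := hf1, x_ne_zero := hx0, x_ne := hx1, f_ne_x := hfx,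
      eqA := ?_, eqB := ?_
      inL' := fun j hj => by rw [hL' j hj]; exact (inLi _).2
      eqΦ := fun j hj => by rw [hL' j hj]; exact S.eqΦ ⟨_, g.phi_mem_Fam hj⟩
      eqS := S.eqS, eqP := S.eqP
      orth₂ := S.one₂, orth₃ := S.one₃, orth₄ := S.one₄, orth₅ := S.one₅
      orthL := fun j hj => by rw [hL' j hj]; exact S.oneL _
      x₂₃ := S.x₂₃, x₂₄ := S.x₂₄, x₂₅ := S.x₂₅, x₃₄ := S.x₃₄, x₃₅ := S.x₃₅, x₄₅ := S.x₄₅
      L₂ := fun j hj => by rw [hL' j hj]; exact S.L₂ _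
      L₃ := fun j hj => by rw [hL' j hj]; exact S.L₃ _
      L₄ := fun j hj => by rw [hL' j hj]; exact S.L₄ _
      L₅ := fun j hj => by rw [hL' j hj]; exact S.L₅ _
      Φ₂ := fun j hj => by rw [F2 _ (g.phi_mem_Fam hj)]; norm_num
      Φ₃ := fun j hj => by rw [F3 _ (g.phi_mem_Fam hj)]; norm_num
      S₂ := by rw [S2]; norm_num
      P₂ := by rw [P2]; norm_num
      P₃ := by rw [P3]; norm_num
      valD₂ := fun y hy => by rw [D2 y hy]; ring
      valD₃ := fun y hy => by rw [D3 y hy]; ring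
      valD₄ := fun y hy => by rw [D4 y hy]; ring
      valD₅ := fun y hy => by rw [D5 y hy, one_mul, one_mul, ← h.two_one hμ, mul_one]
      oneL := fun j hj => by rw [hL' j hj]; exact dLi _
      one₃ := d3, one₅ := d5 }⟩
  · have h1 : Ind π (phi h μ θ 1) = 1 + -X₂ + L i₁ := by
      rw [← sub_eq_add_neg]
      exact S.eqΦ i₁
    have h2 := cf_three H h s1 (signed_neg S.s₂) (S.sL i₁) h1
    rw [g.pairSum_phi hμ hj1, Pi.neg_apply, Pi.neg_apply, t2, tL, hf, dL] at h2
    have h3 : (((Subgroup.centralizer ({t} : Set G)).index : ℤ) * (f - ε * q) ^ 2 : ℤ) =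
      (((kap π u : ℤ) ^ 2 * ((ε * q) * (ε * q - 1) * (ε * q + 1) ^ 2 * f * (f - 1)) : ℤ) : ℂ) := by
      push_cast
      field_simp at h2
      linear_combination h2 - (kap π u : ℂ) ^ 2 * f * (f - 1) *
        (((ε : ℂ) ^ 2 + 1) * q ^ 4 + ε * q ^ 3 - q ^ 2) * hε
    exact_mod_cast h3
  · have h1 : Ind π (phi h μ θ (2 ^ (n - 1))) = 1 + -X₂ + X₄ + -X₅ := by
      rw [← sub_eq_add_neg, ← sub_eq_add_neg]
      exact S.eqS
    have h2 := cf_four H h ss (signed_neg S.s₂) S.s₄ (signed_neg S.s₅) h1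
    rw [g.pairSum_phis hD hμ, mul_zero] at h2
    have h3 := (mul_eq_zero.1 h2).resolve_left hn0
    simp only [Pi.neg_apply] at h3
    rw [t2, t4, t5, hf, hx, d5] at h3
    have h4 : ((x : ℂ) - f) * (f * x - (ε * q) ^ 2 * (1 - f + x)) = 0 := by
      field_simp at h3
      linear_combination h3
    have h5 : (x : ℂ) - f ≠ 0 := by
      intro h6
      apply hfx
      have : (x : ℂ) = f := sub_eq_zero.1 h6
      exact_mod_cast this.symm
    have h6 := (mul_eq_zero.1 h4).resolve_left h5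
    have h7 : ((x * (f - (ε * q) ^ 2) : ℤ) : ℂ) = ((-(ε * q) ^ 2 * (f - 1) : ℤ) : ℂ) := by
      push_cast
      linear_combination h6
    exact_mod_cast h7

end Gside

end Cfsg.Agent.Classification.InvCent
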