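import Mathlib

/-!
# Number theory for S0484: the three possibilities for the `p`-part

`n = (q^2-1+k)(q^2+q+k) = |G:C|`, `k` odd, `k ∣ q (q^2-1)`, `q+1-k ∣ q (q+1)^2`.
-/

set_option autoImplicit false

namespace Cfsg.Agent.Classification.InvCent.NumCases

theorem ev_cases {j : ℤ} (hj : Even j) (h0 : j ≠ 0) : 2 ≤ j ∨ j ≤ -2 := by
  obtain ⟨a, ha⟩ := hj; omega

theorem od_cases {l : ℤ} (hl : Odd l) : l = 1 ∨ 3 ≤ l ∨ l = -1 ∨ l ≤ -3 := by
  obtain ⟨a, ha⟩ := hl; omega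

/-- `j + l + q j l = q + 2`. -/
theorem solve_one {q j l : ℤ} (hq : 3 ≤ q) (hj : Even j) (hl : Odd l) (h : j + l + q * (j * l) = q + 2) :
    j = 0 ∨ (q = 5 ∧ j = -2) := by
  by_cases h0 : j = 0
  · exact Or.inl h0
  right
  rcases ev_cases hj h0 with h1 | h1 <;> rcases od_cases hl with h2 | h2 | h2 | h2
  · subst h2; nlinarith
  · nlinarith [mul_le_mul h1 h2 (by norm_num) (by omega), mul_nonneg (by omega : (0:ℤ) ≤ q) (by nlinarith : (0:ℤ) ≤ j * l - 6)]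
  · subst h2; nlinarith
  · exfalso
    nlinarith [mul_nonneg (by omega : (0:ℤ) ≤ j - 2) (by omega : (0:ℤ) ≤ -3 - l),
      mul_nonneg (by omega : (0:ℤ) ≤ q - 3) (by nlinarith : (0:ℤ) ≤ -(j * l) - 6)]
  · subst h2; nlinarith
  · exfalso
    nlinarith [mul_nonneg (by omega : (0:ℤ) ≤ -2 - j) (by omega : (0:ℤ) ≤ l - 3),
      mul_nonneg (by omega : (0:ℤ) ≤ q - 3) (by nlinarith : (0:ℤ) ≤ -(j * l) - 6)]
  · subst h2
    -- `q (j' - 1) = j' + 3`
    obtain ⟨a, ha⟩ := hj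
    have hj3 : -3 ≤ j := by nlinarith
    have : j = -2 := by omega
    subst this
    exact ⟨by omega, rfl⟩
  · exfalso
    nlinarith [mul_nonneg (by omega : (0:ℤ) ≤ -2 - j) (by omega : (0:ℤ) ≤ -3 - l),
      mul_nonneg (by omega : (0:ℤ) ≤ q - 3) (by nlinarith : (0:ℤ) ≤ j * l - 6)]

/-- `i - j + q i j = q`. -/
theorem solve_two {q i j : ℤ} (hq : 3 ≤ q) (hj : Even j) (hi : Odd i) (h : i - j + q * (i * j) = q) : j = 0 := by
  by_contra h0
  rcases ev_cases hj h0 with h1 | h1 <;> rcases od_cases hi with h2 | h2 | h2 | h2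
  · subst h2; nlinarith
  · nlinarith [mul_nonneg (by omega : (0:ℤ) ≤ j - 2) (by omega : (0:ℤ) ≤ i - 3),
      mul_nonneg (by omega : (0:ℤ) ≤ q - 3) (by nlinarith : (0:ℤ) ≤ i * j - 6)]
  · subst h2; nlinarith
  · nlinarith [mul_nonneg (by omega : (0:ℤ) ≤ j - 2) (by omega : (0:ℤ) ≤ -3 - i),
      mul_nonneg (by omega : (0:ℤ) ≤ q - 3) (by nlinarith : (0:ℤ) ≤ -(i * j) - 6)]
  · subst h2; nlinarith
  · nlinarith [mul_nonneg (by omega : (0:ℤ) ≤ -2 - j) (by omega : (0:ℤ) ≤ i - 3),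
      mul_nonneg (by omega : (0:ℤ) ≤ q - 3) (by nlinarith : (0:ℤ) ≤ -(i * j) - 6)]
  · subst h2; nlinarith
  · nlinarith [mul_nonneg (by omega : (0:ℤ) ≤ -2 - j) (by omega : (0:ℤ) ≤ -3 - i),
      mul_nonneg (by omega : (0:ℤ) ≤ q - 3) (by nlinarith : (0:ℤ) ≤ i * j - 6)]

section

variable {p a : ℕ} {q k : ℤ}

theorem coprime_of_not_dvd (hp : p.Prime) (hq : q = (p : ℤ) ^ a) {x : ℤ} (hx : ¬ (p : ℤ) ∣ x) : IsCoprime q x := by
  rw [hq]
  exact ((Nat.prime_iff_prime_int.1 hp).coprime_iff_not_dvd.2 hx).pow_left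

theorem dvd_q (ha : 1 ≤ a) (hq : q = (p : ℤ) ^ a) : (p : ℤ) ∣ q := by
  rw [hq]; exact dvd_pow_self _ (by omega)

theorem not_dvd_one (hp : p.Prime) : ¬ (p : ℤ) ∣ 1 := fun h =>
  (Nat.prime_iff_prime_int.1 hp).not_isUnit (isUnit_of_dvd_one h)

theorem odd_q (hp : p.Prime) (hp2 : p ≠ 2) (hq : q = (p : ℤ) ^ a) : Odd q := by
  rw [hq]
  exact_mod_cast (hp.odd_of_ne_two hp2).pow

theorem three_le_q (hp : p.Prime) (hp2 : p ≠ 2) (ha : 1 ≤ a) (hq : q = (p : ℤ) ^ a) : 3 ≤ q := by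
  have h3 : 3 ≤ p := by
    have := hp.two_le; omega
  have : 3 ≤ p ^ a := h3.trans (Nat.le_self_pow (by omega) p)
  rw [hq]; exact_mod_cast this

/-- If `p` divides `k` and `q ∣ n` then `q ∣ k`. -/
theorem q_dvd_k (hp : p.Prime) (ha : 1 ≤ a) (hq : q = (p : ℤ) ^ a)
    (hn : q ∣ (q ^ 2 - 1 + k) * (q ^ 2 + q + k)) (hpk : (p : ℤ) ∣ k) : q ∣ k := by
  have hpq := dvd_q ha hq
  have h1 : ¬ (p : ℤ) ∣ q ^ 2 - 1 + k := by
    intro h
    apply not_dvd_one hp
    have e : (1 : ℤ) = q * q + k - (q ^ 2 - 1 + k) := by ring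
    rw [e]
    exact dvd_sub (dvd_add (hpq.mul_right _) hpk) h
  have h2 := (coprime_of_not_dvd hp hq h1).dvd_of_dvd_mul_left hn
  have e : k = (q ^ 2 + q + k) - q * (q + 1) := by ring
  rw [e]
  exact dvd_sub h2 (dvd_mul_right _ _)

/-- If `p ∤ k`: then `q + q^2 + k` is prime to `p`. -/
theorem coprime_second (_hp : p.Prime) (ha : 1 ≤ a) (hq : q = (p : ℤ) ^ a) (hpk : ¬ (p : ℤ) ∣ k) :
    ¬ (p : ℤ) ∣ q ^ 2 + q + k := by
  intro h
  apply hpk
  have e : k = (q ^ 2 + q + k) - q * (q + 1) := by ring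
  rw [e]
  exact dvd_sub h ((dvd_q ha hq).mul_right _)

/-- Case (a): `p ∤ n`. -/
theorem case_one (hp : p.Prime) (ha : 1 ≤ a) (hq : q = (p : ℤ) ^ a)
    (h1 : k ∣ q * (q ^ 2 - 1)) (h2 : q + 1 - k ∣ q * (q + 1) ^ 2)
    (hn : ¬ (p : ℤ) ∣ (q ^ 2 - 1 + k) * (q ^ 2 + q + k)) :
    k ∣ q ^ 2 - 1 ∧ q + 1 - k ∣ (q + 1) ^ 2 := by
  have hpq := dvd_q ha hq
  have hpk : ¬ (p : ℤ) ∣ k := by
    intro h
    apply hn
    refine Dvd.dvd.mul_left ?_ _
    have e : q ^ 2 + q + k = q * (q + 1) + k := by ring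
    rw [e]
    exact dvd_add (hpq.mul_right _) h
  refine ⟨(coprime_of_not_dvd hp hq hpk).symm.dvd_of_dvd_mul_left h1, ?_⟩
  have hpk' : ¬ (p : ℤ) ∣ q + 1 - k := by
    intro h
    apply hn
    refine Dvd.dvd.mul_right ?_ _
    have e : q ^ 2 - 1 + k = q * (q + 1) - (q + 1 - k) := by ring
    rw [e]
    exact dvd_sub (hpq.mul_right _) h
  exact (coprime_of_not_dvd hp hq hpk').symm.dvd_of_dvd_mul_left h2

/-- Case (c): the `p`-part of `n` is exactly `q`. -/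
theorem case_two (hp : p.Prime) (hp2 : p ≠ 2) (ha : 1 ≤ a) (hq : q = (p : ℤ) ^ a) (hk : Odd k)
    (h1 : k ∣ q * (q ^ 2 - 1)) (h2 : q + 1 - k ∣ q * (q + 1) ^ 2)
    (hn : q ∣ (q ^ 2 - 1 + k) * (q ^ 2 + q + k))
    (hn' : ¬ (p * q : ℤ) ∣ (q ^ 2 - 1 + k) * (q ^ 2 + q + k)) : k = q ∨ (q = 5 ∧ k = 15) := by
  have hpq := dvd_q ha hq
  have hqo := odd_q hp hp2 hq
  have hq3 := three_le_q hp hp2 ha hq
  have hq0 : q ≠ 0 := by omega
  obtain ⟨b, hb⟩ := hqo
  obtain ⟨c, hc⟩ := hk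
  by_cases hpk : (p : ℤ) ∣ k
  · obtain ⟨e, he⟩ := q_dvd_k hp ha hq hn hpk
    have hcop : IsCoprime (q + 1 - k) q := ⟨1, e - 1, by rw [he]; ring⟩
    obtain ⟨m, hm⟩ := hcop.dvd_of_dvd_mul_left h2
    have heo : Odd e := by
      by_contra hcon
      rw [Int.not_odd_iff_even] at hcon
      obtain ⟨d, hd⟩ := hcon
      rw [hd] at he
      have : k = 2 * (q * d) := by rw [he]; ring
      omega
    obtain ⟨d, hd⟩ := heo
    -- `j = 1 - e`, `l = q + 2 - j m`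
    have hl : m = 1 + q * (q + 2 - (1 - e) * m) := by
      rw [he] at hm
      linear_combination -hm
    have key : (1 - e) + (q + 2 - (1 - e) * m) + q * ((1 - e) * (q + 2 - (1 - e) * m)) = q + 2 := by
      have e1 : (1 - e) * m = (1 - e) * (1 + q * (q + 2 - (1 - e) * m)) := by rw [← hl]
      linear_combination -e1
    rcases solve_one hq3 (j := 1 - e) (l := q + 2 - (1 - e) * m) ⟨-d, by omega⟩
      ⟨b + 1 + d * m, by rw [hb, hd]; ring⟩ key with h | ⟨h, h'⟩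
    · left
      have : e = 1 := by omega
      rw [he, this, mul_one]
    · right
      refine ⟨h, ?_⟩
      have : e = 3 := by omega
      rw [he, this, h]; norm_num
  · exfalso
    have hk1 : k ∣ q ^ 2 - 1 := (coprime_of_not_dvd hp hq hpk).symm.dvd_of_dvd_mul_left h1
    have h3 := (coprime_of_not_dvd hp hq (coprime_second hp ha hq hpk)).dvd_of_dvd_mul_right hn
    obtain ⟨m, hm⟩ := hk1
    obtain ⟨j, hj⟩ : q ∣ k - 1 := by
      have e : k - 1 = (q ^ 2 - 1 + k) - q * q := by ring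
      rw [e]; exact dvd_sub h3 (dvd_mul_right _ _)
    -- `m = -1 + q i` with `i = q - j m`
    have hi : m = -1 + q * (q - j * m) := by
      linear_combination -hm - m * hj
    have key : (q - j * m) - j + q * ((q - j * m) * j) = q := by
      have e1 : j * m = j * (-1 + q * (q - j * m)) := by rw [← hi]
      linear_combination -e1
    have hje : Even j := by
      by_contra hcon
      rw [Int.not_even_iff_odd] at hcon
      obtain ⟨d, hd⟩ := hcon
      have : k - 1 = 2 * (2 * b * d + b + d) + 1 := by rw [hj, hb, hd]; ring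
      omega
    obtain ⟨d, hd⟩ := hje
    have hj0 := solve_two hq3 (i := q - j * m) (j := j) ⟨d, hd⟩ ⟨b - d * m, by rw [hb, hd]; ring⟩ key
    have hk1 : k = 1 := by rw [hj0] at hj; omega
    apply hn'
    obtain ⟨x, hx⟩ := hpq
    refine ⟨x * (q ^ 2 + q + 1), ?_⟩
    rw [hk1]
    linear_combination q * (q ^ 2 + q + 1) * hx

/-- Case (b),(d): `q^2 ∣ n`. -/
theorem case_three (hp : p.Prime) (hp2 : p ≠ 2) (ha : 1 ≤ a) (hq : q = (p : ℤ) ^ a) (hk : Odd k)
    (h1 : k ∣ q * (q ^ 2 - 1)) (h2 : q + 1 - k ∣ q * (q + 1) ^ 2)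
    (hn : q ^ 2 ∣ (q ^ 2 - 1 + k) * (q ^ 2 + q + k)) : k = 1 := by
  have hpq := dvd_q ha hq
  have hqo := odd_q hp hp2 hq
  have hq3 := three_le_q hp hp2 ha hq
  have hq0 : q ≠ 0 := by omega
  have hq2 : q ^ 2 = (p : ℤ) ^ (a * 2) := by rw [hq, pow_mul]
  obtain ⟨b, hb⟩ := hqo
  obtain ⟨c, hc⟩ := hk
  by_cases hpk : (p : ℤ) ∣ k
  · exfalso
    obtain ⟨e, he⟩ := q_dvd_k hp ha hq ((dvd_pow_self q two_ne_zero).trans hn) hpk
    have h3 : ¬ (p : ℤ) ∣ q ^ 2 - 1 + k := by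
      intro h
      apply not_dvd_one hp
      have e : (1 : ℤ) = q * q + k - (q ^ 2 - 1 + k) := by ring
      rw [e]
      exact dvd_sub (dvd_add (hpq.mul_right _) hpk) h
    have h4 : q ^ 2 ∣ q ^ 2 + q + k := (coprime_of_not_dvd hp hq2 h3).dvd_of_dvd_mul_left hn
    obtain ⟨j, hj⟩ : q ∣ e + 1 := by
      obtain ⟨x, hx⟩ := h4
      refine ⟨x - 1, ?_⟩
      have : q * (e + 1) = q * (q * (x - 1)) := by rw [he] at hx; linear_combination hx
      exact mul_left_cancel₀ hq0 this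
    have he1 : e ∣ q ^ 2 - 1 := by
      rw [he] at h1
      exact (mul_dvd_mul_iff_left hq0).1 h1
    obtain ⟨m, hm⟩ := he1
    -- `m = 1 + q l` with `l = j m - q`
    have hl : m = 1 + q * (j * m - q) := by linear_combination m * hj + hm
    have heo : Odd e := by
      by_contra hcon
      rw [Int.not_odd_iff_even] at hcon
      obtain ⟨d, hd⟩ := hcon
      rw [hd] at he
      have : k = 2 * (q * d) := by rw [he]; ring
      omega
    have hje : Even j := by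
      by_contra hcon
      rw [Int.not_even_iff_odd] at hcon
      obtain ⟨d, hd⟩ := hcon
      obtain ⟨g, hg⟩ := heo
      have : e + 1 = 2 * (2 * b * d + b + d) + 1 := by rw [hj, hb, hd]; ring
      omega
    -- `-l + j + q j l = q`, i.e. `i - j' + q i j' = q` with `i = -l`, `j' = -j`
    have key : -(j * m - q) - (-j) + q * (-(j * m - q) * (-j)) = q := by
      have e1 : j * m = j * (1 + q * (j * m - q)) := by rw [← hl]
      linear_combination -e1
    obtain ⟨d, hd⟩ := hje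
    have hj0 := solve_two hq3 (i := -(j * m - q)) (j := -j) ⟨-d, by rw [hd]; ring⟩
      ⟨b - d * m, by rw [hb, hd]; ring⟩ key
    have hj0' : j = 0 := by omega
    have he' : e = -1 := by rw [hj0'] at hj; omega
    have hcop : IsCoprime (q + 1 - k) q := ⟨1, e - 1, by rw [he]; ring⟩
    have h5 := hcop.dvd_of_dvd_mul_left h2
    rw [he, he'] at h5
    have h6 : 2 * q + 1 ∣ 1 := by
      obtain ⟨x, hx⟩ := h5
      refine ⟨4 * x - (2 * q + 3), ?_⟩
      linear_combination 4 * hx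
    have := Int.le_of_dvd one_pos h6
    omega
  · have hk1 : k ∣ q ^ 2 - 1 := (coprime_of_not_dvd hp hq hpk).symm.dvd_of_dvd_mul_left h1
    have h3 := (coprime_of_not_dvd hp hq2 (coprime_second hp ha hq hpk)).dvd_of_dvd_mul_right hn
    obtain ⟨j, hj⟩ : q ^ 2 ∣ k - 1 := by
      have e : k - 1 = (q ^ 2 - 1 + k) - q ^ 2 := by ring
      rw [e]; exact dvd_sub h3 dvd_rfl
    have hpos : 0 < q ^ 2 - 1 := by nlinarith
    have h5 := Int.le_of_dvd hpos hk1
    have h6 : -k ≤ q ^ 2 - 1 := Int.le_of_dvd hpos ((neg_dvd).2 hk1)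
    have h7 : j < 1 := by nlinarith
    have h8 : -2 < j := by nlinarith
    have h9 : j = 0 ∨ j = -1 := by omega
    rcases h9 with h9 | h9
    · rw [h9] at hj; omega
    · exfalso
      rw [h9] at hj
      have : k = 2 * (-(2 * b ^ 2 + 2 * b)) := by rw [hb] at hj; linear_combination hj
      omega

end

end Cfsg.Agent.Classification.InvCent.NumCases
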