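import Mathlib

/-!
# Number theory for S0484 (quasi-dihedral case)

`k` is the parameter of the order formula `|G:C| = (q^2-1+k)(q^2+q+k)`.  If `|G|_p = q`, Sylow's theorem and the
integrality conditions leave only the family `q = w^2 - w - 1`, `k = w (w - 2)`.
-/

set_option autoImplicit false

namespace Cfsg.Agent.Classification.InvCent.NumL3

/-- The bounded part of the argument. -/
theorem eq_of_mul_eq {q P R : ℤ} (hq : 3 ≤ q) (hP : Even P) (hP0 : P ≠ 0) (hR : Odd R)
    (h : q * ((R - P + 1) * (P * R + 2) + 1) = (R - P + 1) * (R + P) + P * R + 2 * P - 1) : R = P - 1 := by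
  by_contra hne
  set s := R - P + 1 with hs
  have hs0 : s ≠ 0 := fun h0 => hne (by omega)
  have hse : Even s := by
    obtain ⟨a, ha⟩ := hP; obtain ⟨b, hb⟩ := hR
    exact ⟨b - a + 1, by omega⟩
  have hs2 : 2 ≤ |s| := by
    obtain ⟨a, ha⟩ := hse
    rcases abs_cases s with ⟨h1, h2⟩ | ⟨h1, h2⟩ <;> omega
  have hp2 : 2 ≤ |P| := by
    obtain ⟨a, ha⟩ := hP
    rcases abs_cases P with ⟨h1, h2⟩ | ⟨h1, h2⟩ <;> omega
  have hr1 : 1 ≤ |R| := by
    obtain ⟨a, ha⟩ := hR
    rcases abs_cases R with ⟨h1, h2⟩ | ⟨h1, h2⟩ <;> omega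
  -- `|Y| = q |X| ≥ 3 |X|`
  have hXY : 3 * |s * (P * R + 2) + 1| ≤ |s * (R + P) + P * R + 2 * P - 1| := by
    rw [← h, abs_mul, abs_of_pos (by omega : (0 : ℤ) < q)]
    exact mul_le_mul_of_nonneg_right hq (abs_nonneg _)
  rcases eq_or_ne (|R|) 1 with hR1 | hR1
  · rcases abs_eq (by norm_num : (0 : ℤ) ≤ 1) |>.1 hR1 with hR1 | hR1
    · -- `R = 1`
      subst hR1
      have hs' : s = 2 - P := by rw [hs]; ring
      rw [hs'] at h
      have h' : q * (5 - P ^ 2) = 4 * P + 1 - P ^ 2 := by linear_combination h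
      have hP2 : P ≠ 2 := fun h2 => hne (by omega)
      obtain ⟨a, ha⟩ := hP
      rcases lt_trichotomy a 0 with ha0 | ha0 | ha0
      · rcases eq_or_ne a (-1) with h1 | h1
        · subst h1; rw [ha] at h'; omega
        · have : a ≤ -2 := by omega
          rw [ha] at h'
          nlinarith [mul_nonneg (by omega : (0 : ℤ) ≤ q - 3) (by nlinarith : (0 : ℤ) ≤ (a + a) ^ 2 - 5)]
      · exact hP0 (by omega)
      · have : 2 ≤ a := by omega
        rw [ha] at h'
        nlinarith [mul_nonneg (by omega : (0 : ℤ) ≤ q - 3) (by nlinarith : (0 : ℤ) ≤ (a + a) ^ 2 - 5)]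
    · -- `R = -1`
      subst hR1
      have hs' : s = - P := by rw [hs]; ring
      rw [hs'] at h
      have h' : (q + 1) * (P - 1) ^ 2 = 0 := by linear_combination h
      rcases mul_eq_zero.1 h' with h1 | h1
      · omega
      · have : P - 1 = 0 := by simpa using h1
        obtain ⟨a, ha⟩ := hP
        omega
  · have hr3 : 3 ≤ |R| := by
      obtain ⟨a, ha⟩ := hR
      rcases abs_cases R with ⟨h1, h2⟩ | ⟨h1, h2⟩ <;> omega
    have hX : |s| * (|P| * |R| - 2) - 1 ≤ |s * (P * R + 2) + 1| := by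
      have h1 : |s * (P * R + 2)| - |(-1 : ℤ)| ≤ |s * (P * R + 2) - (-1)| := abs_sub_abs_le_abs_sub _ _
      have h2 : |P * R| - |(-2 : ℤ)| ≤ |P * R - (-2)| := abs_sub_abs_le_abs_sub _ _
      rw [abs_mul] at h1 h2
      simp only [abs_neg, abs_one, sub_neg_eq_add] at h1 h2
      norm_num at h2
      nlinarith [mul_le_mul_of_nonneg_left h2 (abs_nonneg s)]
    have hY : |s * (R + P) + P * R + 2 * P - 1| ≤ |s| * (|R| + |P|) + |P| * |R| + 2 * |P| + 1 := by
      have h1 : |s * (R + P) + P * R + 2 * P - 1| ≤ |s * (R + P)| + |P * R| + |2 * P| + |(1 : ℤ)| := by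
        have e : s * (R + P) + P * R + 2 * P - 1 = (s * (R + P) + P * R + 2 * P) + (-1) := by ring
        rw [e]
        refine (abs_add_le _ _).trans ?_
        rw [abs_neg]
        have := abs_add_three (s * (R + P)) (P * R) (2 * P)
        linarith
      rw [abs_mul, abs_mul P R, abs_mul 2 P] at h1
      have h2 : |R + P| ≤ |R| + |P| := abs_add_le _ _
      have h3 : |s| * |R + P| ≤ |s| * (|R| + |P|) := mul_le_mul_of_nonneg_left h2 (abs_nonneg s)
      norm_num at h1
      linarith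
    generalize hp : |P| = p at *
    generalize hr : |R| = r at *
    generalize hsg : |s| = σ at *
    have key : σ * (3 * (p * r) - 6 - r - p) ≤ p * r + 2 * p + 4 := by nlinarith
    have hpr : 5 * (p * r) ≤ 2 * r + 4 * p + 16 := by
      have h0 : 0 ≤ 3 * (p * r) - 6 - r - p := by nlinarith
      nlinarith [mul_le_mul_of_nonneg_right hs2 h0]
    have hp3 : p ≤ 2 := by
      by_contra hcon
      nlinarith
    have hp' : p = 2 := le_antisymm hp3 hp2
    have hr3' : r ≤ 3 := by
      subst hp'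
      by_contra hcon
      nlinarith
    have hr' : r = 3 := le_antisymm hr3' hr3
    subst hp' hr'
    rcases (abs_eq (by norm_num : (0 : ℤ) ≤ 2)).1 hp with h1 | h1 <;>
      rcases (abs_eq (by norm_num : (0 : ℤ) ≤ 3)).1 hr with h2 | h2 <;>
      subst h1 <;> subst h2 <;> simp only [hs] at h <;> omega

/-- The number-theoretic classification of the open family (case `|G|_p = q`). -/
theorem family {q k : ℤ} (hq : 3 ≤ q) (hqo : Odd q) (hk : Odd k) (h1 : k ∣ q ^ 2 - 1)
    (h2 : q + 1 - k ∣ (q + 1) ^ 2) (h3 : q ∣ k ^ 2 - k - 1) :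
    ∃ w : ℤ, Odd w ∧ q = w ^ 2 - w - 1 ∧ k = w * (w - 2) := by
  obtain ⟨n, hn⟩ := h2
  obtain ⟨m, hm⟩ := h1
  obtain ⟨j, hj⟩ := h3
  have hcop : IsCoprime q (q + 1 - k) := ⟨-(q + 2), n, by linear_combination -hn⟩
  have hdvd : q ∣ (q + 1 - k) * (n + k) := by
    refine ⟨q + 2 + k - j, ?_⟩
    linear_combination -hn - hj
  obtain ⟨l, hl⟩ := hcop.dvd_of_dvd_mul_left hdvd
  have hnl : n = q * l - k := by linarith
  rw [hnl] at hn
  have hk0 : k ≠ 0 := by rintro rfl; simp at hk
  have hkl : k ∣ (q + 1) * (l - 2) := by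
    refine ⟨-(m * (l - 1)) + (q + 1) + (q * l) - k, ?_⟩
    linear_combination (-(l - 1)) * hm - hn
  obtain ⟨h, hh⟩ := hkl
  obtain ⟨a, ha⟩ := hqo
  obtain ⟨b, hb⟩ := hk
  have hlo : Odd l := by
    by_contra hcon
    rw [Int.not_odd_iff_even] at hcon
    obtain ⟨c, hc⟩ := hcon
    rw [ha, hb, hc] at hn
    have : (2 : ℤ) ∣ 1 := by
      refine ⟨2 * (a + 1) ^ 2 - (2 * (a - b) * ((2 * a + 1) * c - b - 1) + (a - b) +
        ((2 * a + 1) * c - b - 1)), ?_⟩
      linear_combination -hn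
    omega
  obtain ⟨c, hc⟩ := hlo
  have hhe : Even h := by
    by_contra hcon
    rw [Int.not_even_iff_odd] at hcon
    obtain ⟨d, hd⟩ := hcon
    rw [ha, hb, hd] at hh
    have : (2 : ℤ) ∣ 1 := by
      refine ⟨(a + 1) * (l - 2) - (2 * b * d + b + d), ?_⟩
      linear_combination -hh
    omega
  have hq1 : q + 1 ≠ 0 := by omega
  have key : (h - (l - 2)) * (q * l * h - (q + 1) * (l - 2)) = (q + 1) * h ^ 2 := by
    have e : (q + 1) * ((h - (l - 2)) * (q * l * h - (q + 1) * (l - 2))) = (q + 1) * ((q + 1) * h ^ 2) := by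
      linear_combination (-h ^ 2) * hn + (-(q * l * h - (q + 1) * (l - 2)) - h * (q + 1 - k)) * hh
    exact mul_left_cancel₀ hq1 e
  have hP0 : l - 1 ≠ 0 := by
    intro h0
    have hl1 : l = 1 := by omega
    subst hl1
    -- `h k = -(q+1)`, `(h+1)(q h + q + 1) = (q+1) h^2`
    have key' : q * (2 * h + 1) = h ^ 2 - h - 1 := by linear_combination key
    have h4 : (2 * h + 1) * (4 * q - 2 * h + 3) = -1 := by linear_combination 4 * key'
    have h5 : 2 * h + 1 ∣ 1 := ⟨-(4 * q - 2 * h + 3), by linear_combination h4⟩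
    rcases Int.isUnit_iff.1 (isUnit_of_dvd_one h5) with h6 | h6
    · have : h = 0 := by omega
      subst this; omega
    · have : h = -1 := by omega
      obtain ⟨d, hd⟩ := hhe
      omega
  have hR : h - 1 = (l - 1) - 1 := by
    refine eq_of_mul_eq hq ⟨c, by omega⟩ hP0 ?_ ?_
    · obtain ⟨d, hd⟩ := hhe
      exact ⟨d - 1, by omega⟩
    · linear_combination key
  have hhl : h = l - 1 := by omega
  subst hhl
  refine ⟨l, ⟨c, hc⟩, ?_, ?_⟩
  · linear_combination key
  · have hqe : q = l ^ 2 - l - 1 := by linear_combination key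
    have : (l - 1) * k = (l - 1) * (l * (l - 2)) := by
      rw [hqe] at hh
      linear_combination -hh
    exact mul_left_cancel₀ hP0 this

end Cfsg.Agent.Classification.InvCent.NumL3
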