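import Mathlib

/-!
# Number theory for S0484/S0485 (wreathed case)

The three equations `(g)`, `(b)`, `(a)` for the signed degrees `f = X2(1)`, `y = -X4(1)` force `f = q^3`.
(For the unitary case replace `q` by `-q`.)
-/

set_option autoImplicit false

namespace Cfsg.Agent.Classification.InvCent.NumWreathed

variable {K : Type*} [Field K]

/-- The resultant. -/
theorem resultant {R : Type*} [CommRing R] [IsDomain R] {q f y : R} (hy : y ≠ 0)
    (h1 : (q + 1) * f * (f - 1) * (y - q - 2) ^ 2 = (q - 1) * y * (y - 1) * (f - q) ^ 2)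
    (h2 : f * y * (f + y - 1) - q ^ 2 * y * (f + y - 1) - (q + 2) ^ 2 * f * (f + y - 1)
      + (2 * q + 1) ^ 2 * f * y = 0) :
    8 * ((q + 1) * (q + 2) ^ 2 * f ^ 2 * (f - 1) * (f - q) ^ 4 * (f - q ^ 3)) = 0 := by
  set A := (q + 1) * f * (f - 1) - (q - 1) * (f - q) ^ 2 with hA
  set B := -2 * (q + 2) * (q + 1) * f * (f - 1) + (q - 1) * (f - q) ^ 2 with hB
  set C := (q + 1) * (q + 2) ^ 2 * f * (f - 1) with hC
  set a := f - q ^ 2 with ha
  set b := (f - q ^ 2) * (f - 1) + 3 * (q ^ 2 - 1) * f with hb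
  set c := -(q + 2) ^ 2 * f * (f - 1) with hc
  have P1 : A * y ^ 2 + B * y + C = 0 := by rw [hA, hB, hC]; linear_combination h1
  have P2 : a * y ^ 2 + b * y + c = 0 := by rw [ha, hb, hc]; linear_combination h2
  have e1 : (A * b - B * a) * y + (A * c - C * a) = 0 := by linear_combination A * P2 - a * P1
  have e2 : (A * c - C * a) * y + (B * c - C * b) = 0 := by
    have : y * ((A * c - C * a) * y + (B * c - C * b)) = 0 := by linear_combination c * P1 - C * P2
    exact (mul_eq_zero.1 this).resolve_left hy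
  have e3 : (A * c - C * a) ^ 2 - (A * b - B * a) * (B * c - C * b) = 0 := by
    linear_combination (A * c - C * a) * e1 - (A * b - B * a) * e2
  rw [← e3, hA, hB, hC, ha, hb, hc]
  ring

/-- In characteristic zero the only possibility is `f = q^3`. -/
theorem eq_cube [CharZero K] {q f y : K} (hy : y ≠ 0) (hf0 : f ≠ 0) (hf1 : f ≠ 1) (hfq : f ≠ q)
    (hq1 : q ≠ -1) (hq2 : q ≠ -2)
    (h1 : (q + 1) * f * (f - 1) * (y - q - 2) ^ 2 = (q - 1) * y * (y - 1) * (f - q) ^ 2)
    (h2 : f * y * (f + y - 1) - q ^ 2 * y * (f + y - 1) - (q + 2) ^ 2 * f * (f + y - 1)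
      + (2 * q + 1) ^ 2 * f * y = 0) : f = q ^ 3 := by
  have h := resultant hy h1 h2
  have h8 : (8 : K) ≠ 0 := by norm_num
  have hq1' : q + 1 ≠ 0 := fun h => hq1 (by linear_combination h)
  have hq2' : q + 2 ≠ 0 := fun h => hq2 (by linear_combination h)
  have hf1' : f - 1 ≠ 0 := sub_ne_zero.2 hf1
  have hfq' : f - q ≠ 0 := sub_ne_zero.2 hfq
  have : f - q ^ 3 = 0 := by
    rcases mul_eq_zero.1 h with h | h
    · exact absurd h h8
    · rcases mul_eq_zero.1 h with h | h
      · exfalso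
        exact mul_ne_zero (mul_ne_zero (mul_ne_zero (mul_ne_zero hq1' (pow_ne_zero _ hq2')) (pow_ne_zero _ hf0)) hf1')
          (pow_ne_zero _ hfq') h
      · exact h
  exact sub_eq_zero.1 this

end Cfsg.Agent.Classification.InvCent.NumWreathed
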