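import Mathlib
import Cfsg.Agent.Classification.InvCent.SDMain

/-!
# The characters of `G`, semidihedral case, for given `μ`, `θ`, `χ`

* `exists_split_sdRes`: `exists_sdRes` for given data, with all decompositions (`SDSplit`);
* `exists_sdRes_of`: with `Ind π (phi 1) = 1 - X₂ + L`.
-/

set_option autoImplicit false
set_option linter.unusedSectionVars false

open Cfsg
open scoped ComplexConjugate

namespace Cfsg.Agent.Classification.InvCent

open Cfsg.Agent.Characters Cfsg.Agent.Classification.BGIsometry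
  Cfsg.Agent.Classification.BGOrder Cfsg.Agent.Classification.BGSplit
  Cfsg.Agent.Classification.BGBlockB0 SDGram GPair

universe w v

section

variable {G : Type w} [Group G] [Fintype G] {C : Type v} [Group C] [Fintype C] {t : G} {z : C}
  {π : (Subgroup.centralizer ({t} : Set G)) →* C}
  {q : ℕ} {ε : ℤ} {Z T T' U : Subgroup C} {s s' u : C}
  {h : CHyp z q ε Z T T' U s s' u} {b : C →* ℂˣ} {θ : T' →* ℂˣ} {n : ℕ} {μ : U →* ℂˣ}
  {χ : T →* ℂˣ}

theorem exists_split_sdRes (H : RTwo.General.Hyp t z π) (hD : DetHyp q ε T T' U s s' u 2 b)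
    {M : Ideal AlgInt} (hM : IsPModular 2 M) (hlin : ∀ X : G → ℂ, SignedIrr X → X 1 = 1 → X = 1)
    (hμ : ∃ v : U, μ v ≠ 1) (g : Gen h b θ n) (c : Chi h b χ) :
    ∃ (X₂ X₃ X₄ X₅ : G → ℂ) (L : g.Fam μ → G → ℂ) (f x : ℤ),
      SDSplit (fun f : g.Fam μ => Ind π f.1) (Ind π (phi h μ θ (2 ^ (n - 1))))
        (Ind π (psi h μ θ n χ)) X₂ X₃ X₄ X₅ L ∧
      ∀ i : g.Fam μ, i.1 = phi h μ θ 1 → SDRes M h μ π X₂ X₃ X₄ X₅ (L i) f x := by
  classical
  let _ : Fintype (g.Fam μ) := g.Fam_finite.fintype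
  have hcard : 3 ≤ Fintype.card (g.Fam μ) := by
    obtain ⟨f₁, h1, f₂, h2, f₃, h3, h12, h13, h23⟩ := g.exists_three hμ
    have : 2 < Fintype.card (g.Fam μ) := Fintype.two_lt_card_iff.2
      ⟨⟨f₁, h1⟩, ⟨f₂, h2⟩, ⟨f₃, h3⟩, fun e => h12 (congrArg Subtype.val e),
        fun e => h13 (congrArg Subtype.val e), fun e => h23 (congrArg Subtype.val e)⟩
    omega
  obtain ⟨X₂, X₃, X₄, X₅, L, S⟩ := exists_sdSplit hcard (sdHyp H g c hD hμ)
  -- supports
  have hj1 : ¬ 2 ^ (n - 1) ∣ 1 := by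
    intro h1
    have h2 := Nat.le_of_dvd one_pos h1
    have h3 : 1 < 2 ^ (n - 1) := Nat.one_lt_two_pow (by have := g.three_le; omega)
    omega
  let i₁ : g.Fam μ := ⟨phi h μ θ 1, g.phi_mem_Fam hj1⟩
  have s1 : ∀ x, phi h μ θ 1 x ≠ 0 → z ∈ Subgroup.zpowers x := fun x hx => g.phi_supp hμ _ hx
  have ss : ∀ x, phi h μ θ (2 ^ (n - 1)) x ≠ 0 → z ∈ Subgroup.zpowers x :=
    fun x hx => g.phi_supp hμ _ hx
  have sp : ∀ x, psi h μ θ n χ x ≠ 0 → z ∈ Subgroup.zpowers x :=
    fun x hx => psi_supp g c hD hμ hx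
  have oddL : ∀ g, Odd (orderOf g) → 1 - X₂ g + L i₁ g = 0 := by
    intro g hg
    have h1 := congrFun (S.eqΦ i₁) g
    rw [Ind_odd H s1 hg] at h1
    exact h1.symm
  have oddS : ∀ g, Odd (orderOf g) → 1 - X₂ g + X₄ g - X₅ g = 0 := by
    intro g hg
    have h1 := congrFun S.eqS g
    rw [Ind_odd H ss hg] at h1
    exact h1.symm
  have oddP : ∀ g, Odd (orderOf g) → 1 + X₃ g + X₄ g = 0 := by
    intro g hg
    have h1 := congrFun S.eqP g
    rw [Ind_odd H sp hg] at h1
    exact h1.symm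
  -- blocks
  obtain ⟨in2', inL⟩ := inB_of_three hM (signed_neg S.s₂) (S.sL i₁) (fun g hg => by
    have := oddL g hg
    simp only [Pi.add_apply, Pi.one_apply, Pi.neg_apply]
    linear_combination this)
  have in2 : InB (principalBlock M G) X₂ := by
    have := InB.neg in2'
    rwa [neg_neg] at this
  obtain ⟨in3, in4⟩ := inB_of_three hM S.s₃ S.s₄ (fun g hg => oddP g hg)
  have in5 : InB (principalBlock M G) X₅ := by
    have h1 := inB_of_four hM in2' in4 (signed_neg S.s₅) (fun g hg => by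
      have := oddS g hg
      simp only [Pi.add_apply, Pi.one_apply, Pi.neg_apply]
      linear_combination this)
    have := InB.neg h1
    rwa [neg_neg] at this
  -- inner products
  have e22 := signed_self S.s₂
  have e33 := signed_self S.s₃
  have e44 := signed_self S.s₄
  have e55 := signed_self S.s₅
  have y12 := inner_symm_zero S.one₂
  have y13 := inner_symm_zero S.one₃
  have y14 := inner_symm_zero S.one₄
  have y15 := inner_symm_zero S.one₅
  have y32 := inner_symm_zero S.x₂₃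
  have y42 := inner_symm_zero S.x₂₄
  have y52 := inner_symm_zero S.x₂₅
  have y43 := inner_symm_zero S.x₃₄
  have y53 := inner_symm_zero S.x₃₅
  have y54 := inner_symm_zero S.x₄₅
  have F2 : ∀ f ∈ g.Fam μ, classInner (Ind π f) X₂ = ((-1 : ℤ) : ℂ) := by
    intro f hf
    have h1 := S.eqΦ ⟨f, hf⟩
    simp only at h1
    rw [h1, Core.classInner_add_left, Core.classInner_sub_left, y12, e22, S.L₂]
    norm_num
  have F3 : ∀ f ∈ g.Fam μ, classInner (Ind π f) X₃ = ((0 : ℤ) : ℂ) := by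
    intro f hf
    have h1 := S.eqΦ ⟨f, hf⟩
    simp only at h1
    rw [h1, Core.classInner_add_left, Core.classInner_sub_left, y13, S.x₂₃, S.L₃]
    norm_num
  have F4 : ∀ f ∈ g.Fam μ, classInner (Ind π f) X₄ = ((0 : ℤ) : ℂ) := by
    intro f hf
    have h1 := S.eqΦ ⟨f, hf⟩
    simp only at h1
    rw [h1, Core.classInner_add_left, Core.classInner_sub_left, y14, S.x₂₄, S.L₄]
    norm_num
  have F5 : ∀ f ∈ g.Fam μ, classInner (Ind π f) X₅ = ((0 : ℤ) : ℂ) := by
    intro f hf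
    have h1 := S.eqΦ ⟨f, hf⟩
    simp only at h1
    rw [h1, Core.classInner_add_left, Core.classInner_sub_left, y15, S.x₂₅, S.L₅]
    norm_num
  have S2 : classInner (Ind π (phi h μ θ (2 ^ (n - 1)))) X₂ = ((-1 : ℤ) : ℂ) := by
    rw [S.eqS, Core.classInner_sub_left, Core.classInner_add_left, Core.classInner_sub_left,
      y12, e22, y42, y52]
    norm_num
  have S3 : classInner (Ind π (phi h μ θ (2 ^ (n - 1)))) X₃ = ((0 : ℤ) : ℂ) := by
    rw [S.eqS, Core.classInner_sub_left, Core.classInner_add_left, Core.classInner_sub_left,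
      y13, S.x₂₃, y43, y53]
    norm_num
  have S4 : classInner (Ind π (phi h μ θ (2 ^ (n - 1)))) X₄ = ((1 : ℤ) : ℂ) := by
    rw [S.eqS, Core.classInner_sub_left, Core.classInner_add_left, Core.classInner_sub_left,
      y14, S.x₂₄, e44, y54]
    norm_num
  have S5 : classInner (Ind π (phi h μ θ (2 ^ (n - 1)))) X₅ = ((-1 : ℤ) : ℂ) := by
    rw [S.eqS, Core.classInner_sub_left, Core.classInner_add_left, Core.classInner_sub_left,
      y15, S.x₂₅, S.x₄₅, e55]
    norm_num
  have P2 : classInner (Ind π (psi h μ θ n χ)) X₂ = ((0 : ℤ) : ℂ) := by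
    rw [S.eqP, Core.classInner_add_left, Core.classInner_add_left, y12, y32, y42]
    norm_num
  have P3 : classInner (Ind π (psi h μ θ n χ)) X₃ = ((1 : ℤ) : ℂ) := by
    rw [S.eqP, Core.classInner_add_left, Core.classInner_add_left, y13, e33, y43]
    norm_num
  have P4 : classInner (Ind π (psi h μ θ n χ)) X₄ = ((1 : ℤ) : ℂ) := by
    rw [S.eqP, Core.classInner_add_left, Core.classInner_add_left, y14, S.x₃₄, e44]
    norm_num
  have P5 : classInner (Ind π (psi h μ θ n χ)) X₅ = ((0 : ℤ) : ℂ) := by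
    rw [S.eqP, Core.classInner_add_left, Core.classInner_add_left, y15, S.x₃₅, S.x₄₅]
    norm_num
  -- values
  have V2 : Val h μ π X₂ 1 (-1) := by
    obtain ⟨a₀, b₀, hV⟩ := blockEval H h hM in2 hμ
    have hb := val_b H g hμ (isClassFunction_signed S.s₂) hV F2 S2
    have ha := val_a H g c hD hμ (isClassFunction_signed S.s₂) hV P2 S2
    have e1 : a₀ = 1 := by rw [ha]; norm_num
    have e2 : b₀ = -1 := by rw [hb]; norm_num
    subst e1 e2
    exact hV
  have V3 : Val h μ π X₃ 2 0 := by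
    obtain ⟨a₀, b₀, hV⟩ := blockEval H h hM in3 hμ
    have hb := val_b H g hμ (isClassFunction_signed S.s₃) hV F3 S3
    have ha := val_a H g c hD hμ (isClassFunction_signed S.s₃) hV P3 S3
    have e1 : a₀ = 2 := by rw [ha]; norm_num
    have e2 : b₀ = 0 := by rw [hb]; norm_num
    subst e1 e2
    exact hV
  have V4 : Val h μ π X₄ 1 (-1) := by
    obtain ⟨a₀, b₀, hV⟩ := blockEval H h hM in4 hμ
    have hb := val_b H g hμ (isClassFunction_signed S.s₄) hV F4 S4
    have ha := val_a H g c hD hμ (isClassFunction_signed S.s₄) hV P4 S4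
    have e1 : a₀ = 1 := by rw [ha]; norm_num
    have e2 : b₀ = -1 := by rw [hb]; norm_num
    subst e1 e2
    exact hV
  have V5 : Val h μ π X₅ 1 1 := by
    obtain ⟨a₀, b₀, hV⟩ := blockEval H h hM in5 hμ
    have hb := val_b H g hμ (isClassFunction_signed S.s₅) hV F5 S5
    have ha := val_a H g c hD hμ (isClassFunction_signed S.s₅) hV P5 S5
    have e1 : a₀ = 1 := by rw [ha]; norm_num
    have e2 : b₀ = 1 := by rw [hb]; norm_num
    subst e1 e2
    exact hV
  have VL : Val h μ π (L i₁) 0 2 := by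
    have h1 : Val h μ π (Ind π (phi h μ θ 1)) 0 4 := by
      intro x y hx hy
      have h2 : z ∈ Subgroup.zpowers (π x) := by
        refine h.zpowers_of_odd ?_
        rw [hx, ← mul_assoc, h.tt, one_mul]
        exact hy
      rw [Ind_apply H (g.phi_class 1) s1 h2, hx, g.phi_section hμ 1 hy]
      ring
    have h2 : L i₁ = Ind π (phi h μ θ 1) - 1 + X₂ := by
      have h3 := S.eqΦ i₁
      have h4 : Ind π (phi h μ θ 1) = 1 - X₂ + L i₁ := h3
      rw [h4]
      abel
    rw [h2]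
    have h3 := (h1.sub (Val.one (h := h) (π := π) hμ)).add V2
    have e1 : (0 : ℂ) - 1 + 1 = 0 := by norm_num
    have e2 : (4 : ℂ) - 1 + -1 = 2 := by norm_num
    rw [e1, e2] at h3
    exact h3
  -- values at `t`
  have t2 : X₂ t = ε * q := by rw [V2.apply_t H]; ring
  have t3 : X₃ t = 1 + ε * q := by rw [V3.apply_t H]; ring
  have t4 : X₄ t = ε * q := by rw [V4.apply_t H]; ring
  have t5 : X₅ t = 1 := by rw [V5.apply_t H]; ring
  have tL : L i₁ t = 1 - ε * q := by rw [VL.apply_t H]; ring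
  -- degrees
  obtain ⟨f, hf0, hf⟩ := InvCent.WreathedGram.signed_degree S.s₂
  obtain ⟨x, hx0, hx⟩ := InvCent.WreathedGram.signed_degree S.s₄
  have ho : Odd (orderOf (1 : G)) := by rw [orderOf_one]; exact odd_one
  have dL : L i₁ 1 = f - 1 := by
    have := oddL 1 ho
    rw [hf] at this
    linear_combination this
  have d3 : X₃ 1 = -1 - x := by
    have := oddP 1 ho
    rw [hx] at this
    linear_combination this
  have d5 : X₅ 1 = 1 - f + x := by
    have := oddS 1 ho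
    rw [hf, hx] at this
    linear_combination -this
  have hf1 : f ≠ 1 := by
    rintro rfl
    exact (S.sL i₁).apply_one_ne_zero (by rw [dL]; norm_num)
  have hx1 : x ≠ -1 := by
    rintro rfl
    exact S.s₃.apply_one_ne_zero (by rw [d3]; norm_num)
  have hfx : f ≠ x := by
    rintro rfl
    have h1 : X₅ = 1 := hlin X₅ S.s₅ (by rw [d5]; ring)
    have h2 := S.one₅
    rw [h1, InvCent.WreathedGram.one_one] at h2
    exact one_ne_zero h2
  have cf0 : (f : ℂ) ≠ 0 := by exact_mod_cast hf0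
  have cx0 : (x : ℂ) ≠ 0 := by exact_mod_cast hx0
  have cf1 : (f : ℂ) - 1 ≠ 0 := by
    intro h1
    exact hf1 (by exact_mod_cast sub_eq_zero.1 h1)
  have c5 : (1 : ℂ) - f + x ≠ 0 := by
    rw [← d5]
    exact S.s₅.apply_one_ne_zero
  have hε : (ε : ℂ) * ε = 1 := by exact_mod_cast h.torus.sq_sign
  have hn0 : ((Subgroup.centralizer ({t} : Set G)).index : ℂ) ≠ 0 := by
    have : (Subgroup.centralizer ({t} : Set G)).index ≠ 0 := Subgroup.index_ne_zero_of_finite
    exact_mod_cast this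
  refine ⟨X₂, X₃, X₄, X₅, L, f, x, S, fun i hi => ?_⟩
  obtain rfl : i = i₁ := Subtype.ext hi
  refine
    { in₂ := in2, in₃ := in3, in₄ := in4, in₅ := in5, inL := inL, val₂ := V2, val₃ := V3,
      val₄ := V4, val₅ := V5, valL := VL, odd_L := oddL, odd_S := oddS, odd_P := oddP,
      one₂ := hf, one₄ := hx, t₂ := t2, t₃ := t3, t₄ := t4, t₅ := t5, tL := tL,
      f_ne_zero := hf0, f_ne_one := hf1, x_ne_zero := hx0, x_ne := hx1, f_ne_x := hfx,
      eqA := ?_, eqB := ?_ }
  · have h1 : Ind π (phi h μ θ 1) = 1 + -X₂ + L i₁ := by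
      rw [← sub_eq_add_neg]
      exact S.eqΦ i₁
    have h2 := cf_three H h s1 (signed_neg S.s₂) (S.sL i₁) h1
    rw [g.pairSum_phi hμ hj1, Pi.neg_apply, Pi.neg_apply, t2, tL, hf, dL] at h2
    have h3 : (((Subgroup.centralizer ({t} : Set G)).index : ℤ) * (f - ε * q) ^ 2 : ℤ) =
      (((kap π u : ℤ) ^ 2 * ((ε * q) * (ε * q - 1) * (ε * q + 1) ^ 2 * f * (f - 1)) : ℤ) : ℂ) := by
      push_cast
      field_simp at h2
      linear_combination h2 - (kap π u : ℂ) ^ 2 * f * (f - 1) *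
        (((ε : ℂ) ^ 2 + 1) * q ^ 4 + ε * q ^ 3 - q ^ 2) * hε
    exact_mod_cast h3
  · have h1 : Ind π (phi h μ θ (2 ^ (n - 1))) = 1 + -X₂ + X₄ + -X₅ := by
      rw [← sub_eq_add_neg, ← sub_eq_add_neg]
      exact S.eqS
    have h2 := cf_four H h ss (signed_neg S.s₂) S.s₄ (signed_neg S.s₅) h1
    rw [g.pairSum_phis hD hμ, mul_zero] at h2
    have h3 := (mul_eq_zero.1 h2).resolve_left hn0
    simp only [Pi.neg_apply] at h3
    rw [t2, t4, t5, hf, hx, d5] at h3
    have h4 : ((x : ℂ) - f) * (f * x - (ε * q) ^ 2 * (1 - f + x)) = 0 := by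
      field_simp at h3
      linear_combination h3
    have h5 : (x : ℂ) - f ≠ 0 := by
      intro h6
      apply hfx
      have : (x : ℂ) = f := sub_eq_zero.1 h6
      exact_mod_cast this.symm
    have h6 := (mul_eq_zero.1 h4).resolve_left h5
    have h7 : ((x * (f - (ε * q) ^ 2) : ℤ) : ℂ) = ((-(ε * q) ^ 2 * (f - 1) : ℤ) : ℂ) := by
      push_cast
      linear_combination h6
    exact_mod_cast h7

theorem not_dvd_one (g : Gen h b θ n) : ¬ 2 ^ (n - 1) ∣ 1 := by
  intro h1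
  have h2 := Nat.le_of_dvd one_pos h1
  have h3 : 1 < 2 ^ (n - 1) := Nat.one_lt_two_pow (by have := g.three_le; omega)
  omega

/-- `exists_sdRes` for given `μ`, `θ`, `χ`, with the identities of the induced functions. -/
theorem exists_sdRes_of (H : RTwo.General.Hyp t z π) (hD : DetHyp q ε T T' U s s' u 2 b)
    {M : Ideal AlgInt} (hM : IsPModular 2 M) (hlin : ∀ X : G → ℂ, SignedIrr X → X 1 = 1 → X = 1)
    (hμ : ∃ v : U, μ v ≠ 1) (g : Gen h b θ n) (c : Chi h b χ) :
    ∃ (X₂ X₃ X₄ X₅ L : G → ℂ) (f x : ℤ), SDRes M h μ π X₂ X₃ X₄ X₅ L f x ∧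
      Ind π (phi h μ θ 1) = 1 - X₂ + L ∧
      Ind π (phi h μ θ (2 ^ (n - 1))) = 1 - X₂ + X₄ - X₅ ∧
      Ind π (psi h μ θ n χ) = 1 + X₃ + X₄ := by
  obtain ⟨X₂, X₃, X₄, X₅, L, f, x, S, hR⟩ := exists_split_sdRes H hD hM hlin hμ g c
  let i₁ : g.Fam μ := ⟨phi h μ θ 1, g.phi_mem_Fam (not_dvd_one g)⟩
  exact ⟨X₂, X₃, X₄, X₅, L i₁, f, x, hR i₁ rfl, S.eqΦ i₁, S.eqS, S.eqP⟩

end

end Cfsg.Agent.Classification.InvCent
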